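import Cfsg.Agent.S1707
import Cfsg.Agent.S1708
import Cfsg.Agent.Lib.Helper2.HNQuot
import Cfsg.Agent.Lib.Helper6.Simp4

set_option autoImplicit false
set_option maxRecDepth 100000

namespace Cfsg.Agent.Lib.Helper2.HNS

open Cfsg.Spor Cfsg.Agent.Lib.Helper6.TC Cfsg.Agent.Lib.Helper6.TCP Cfsg.Agent.Lib.Helper2.HNDce
open Cfsg.Agent.Lib.Helper6.DC Cfsg.Agent.Lib.Helper6 Cfsg.Agent.Lib.Helper6.Simp
open Cfsg.Agent.Lib.Helper1.HSG Cfsg.Agent.Lib.Helper1.HSM Cfsg.Agent.Lib.Helper1.HSI
open Cfsg.Agent.S1708 (iota iota_word hrange cards eN dhypN xW)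

/-! # The presented Harada–Norton group is simple of order 273030912000000 -/

/-- the subgroup generated by x, y, z -/
abbrev GH : Subgroup HNG := subH HN.Rels Cfsg.Agent.S1708.S

theorem iota_ev (w : List ℕ) (hw : ∀ c ∈ w, c < 5) : iota (evP w) = ev7 w := iota_word w hw

theorem cardW_le : Nat.card HNP2W.G ≤ 177408000 := cards.1.le

theorem index_GH : GH.index = 1539000 := Cfsg.Agent.S1707.main

theorem finite_GH : Finite GH := Cfsg.Agent.S1708.finN

theorem finite_HNG : Finite HNG := by
  have hfi : GH.FiniteIndex := ⟨by rw [index_GH]; norm_num⟩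
  exact (Subgroup.finite_iff_finite_and_finiteIndex GH).mpr ⟨finite_GH, hfi⟩

theorem card_GH : Nat.card GH = 177408000 := by
  rw [← Nat.card_congr eN.toEquiv]
  exact cards.1

theorem card_HNG : Nat.card HNG = 273030912000000 := by
  rw [← Subgroup.card_mul_index GH, index_GH, card_GH]

/-- the sizes of the nontrivial orbits of the subgroup on its cosets -/
def sz8 : Fin 8 → ℕ := fun i => bnds.getD (i.val + 1) 0

theorem hdvd8 : ∀ T : Finset (Fin 8), (1 + ∑ i ∈ T, sz8 i) ∣ 1539000 →
    T = ∅ ∨ T = Finset.univ := by decide +kernel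

theorem hs8 : ∀ i, 1 < sz8 i := by decide +kernel

theorem hsum8 : 1 + ∑ i, sz8 i = 1539000 := by decide +kernel

/-- the subgroup is maximal -/
theorem maximal_GH : ∀ M : Subgroup HNG, GH ≤ M → M = GH ∨ M = ⊤ := by
  have hfin : Finite HNP2W.G := Cfsg.Agent.S1708.finW
  obtain ⟨h1, h2⟩ := orbits7' iota iota_ev cardW_le GH hrange (by rw [index_GH])
  exact coatom_of_orbits GH index_GH (fun i : Fin 8 => (((wR i.succ)⁻¹ : HNG) : HNG ⧸ GH)) sz8
    (fun i => h1 i.succ)
    (fun i j hij => h2 i.succ j.succ (fun h => hij (Fin.succ_injective _ h)))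
    hs8 hsum8 hdvd8

set_option Elab.async false in
theorem x2_moves : wapp HNBig.px [0, 0] 1 ≠ 1 := by decide +kernel

/-- the subgroup contains no nontrivial normal subgroup -/
theorem core_GH : ∀ N : Subgroup HNG, N.Normal → N ≤ GH → N = ⊥ := by
  intro N hN hle
  obtain ⟨φ, hw, hfixH, htrans⟩ := HNBig.rep_exists
  have hx2 : ev7 [0, 0] ∉ N := by
    intro hmem
    have hfixall : ∀ p : Fin HNBig.N, φ (ev7 [0, 0]) p = p := by
      intro p
      obtain ⟨g, hg⟩ := htrans p
      have h1 : g⁻¹ * ev7 [0, 0] * g ∈ N := by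
        have := hN.conj_mem _ hmem g⁻¹
        simpa using this
      have h2 := hfixH _ (hle h1)
      rw [map_mul, map_mul, map_inv, Equiv.Perm.mul_apply, Equiv.Perm.mul_apply, hg,
        Equiv.Perm.inv_eq_iff_eq, hg] at h2
      exact h2
    have h3 := hw [0, 0] (by decide) ⟨1, by rw [HNBig.N_eq]; norm_num⟩
    have h4 : (φ (ev7 [0, 0]))⁻¹ ⟨1, by rw [HNBig.N_eq]; norm_num⟩ =
        ⟨1, by rw [HNBig.N_eq]; norm_num⟩ := by
      rw [Equiv.Perm.inv_eq_iff_eq]
      exact (hfixall _).symm
    unfold ev7 at h4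
    rw [h4] at h3
    exact x2_moves h3.symm
  have hKn : (N.subgroupOf GH).Normal := hN.subgroupOf GH
  have hM : eN xW * eN xW ∉ N.subgroupOf GH := by
    intro h
    rw [Subgroup.mem_subgroupOf] at h
    apply hx2
    have e : ((eN xW * eN xW : GH) : HNG) = ev7 [0, 0] := by
      show iota xW * iota xW = _
      rw [← map_mul, Cfsg.Agent.S1708.xx_eq]
      exact iota_word [0, 0] (by decide)
    rwa [e] at h
  have hfinGH := finite_GH
  rcases dhypN.normal_trivial (N.subgroupOf GH) hM with h | ⟨m, hm, hm1⟩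
  · rw [eq_bot_iff]
    intro n hn
    have h1 : (⟨n, hle hn⟩ : GH) ∈ N.subgroupOf GH := Subgroup.mem_subgroupOf.mpr hn
    rw [h, Subgroup.mem_bot] at h1
    rw [Subgroup.mem_bot]
    exact congrArg Subtype.val h1
  · exfalso
    apply hm1
    show HSRep.gbar (eN.symm m) = 1
    rw [← HSRep.phi_ker]
    apply HSRep.cent_trivial
    intro g
    rw [← map_mul, ← map_mul]
    congr 1
    apply eN.injective
    rw [map_mul, map_mul, MulEquiv.apply_symm_apply]
    exact (Subgroup.mem_center_iff.mp hm (eN g)).symm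

/-- the centre of the automorphism group of the Higman–Sims graph is trivial -/
theorem cent_GA : ∀ a : GA S22, (∀ b, a * b = b * a) → a = 1 := by
  intro a ha
  apply φ0_injective
  rw [map_one]
  apply HSRep.cent_trivial
  intro g
  show φ0 a * φ0 (HSRep.gbar g) = φ0 (HSRep.gbar g) * φ0 a
  rw [← map_mul, ← map_mul, ha]

/-- the presented Harada–Norton group is simple -/
theorem simple_HNG : IsSimpleGroup HNG := by
  have hfinG := finite_HNG
  have hnt : Nontrivial HNG := by
    rw [← Finite.one_lt_card_iff_nontrivial, card_HNG]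
    norm_num
  refine ⟨?_⟩
  intro N hN
  by_cases hbot : N = ⊥
  · exact Or.inl hbot
  right
  have hnle : ¬ N ≤ GH := fun h => hbot (core_GH N hN h)
  have hsup : GH ⊔ N = ⊤ := by
    rcases maximal_GH (GH ⊔ N) le_sup_left with h | h
    · exact absurd (h ▸ le_sup_right) hnle
    · exact h
  have hK : (N.subgroupOf GH).Normal := hN.subgroupOf GH
  have hfinGH := finite_GH
  have hKtop : N.subgroupOf GH = ⊤ := by
    apply HNQuot.eq_top_of_perfect_quotient dhypN cent_GA (N.subgroupOf GH)
    intro f hf h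
    -- the surjection onto the quotient
    let π : GH →* HNG ⧸ N := (QuotientGroup.mk' N).comp GH.subtype
    have hπ : Function.Surjective π := by
      intro q
      induction q using QuotientGroup.induction_on with
      | H g =>
        have hg : g ∈ GH ⊔ N := by rw [hsup]; exact Subgroup.mem_top g
        rw [← SetLike.mem_coe, Subgroup.mul_normal] at hg
        obtain ⟨a, ha, n, hn, rfl⟩ := Set.mem_mul.mp hg
        refine ⟨⟨a, ha⟩, ?_⟩
        show ((a : HNG) : HNG ⧸ N) = ((a * n : HNG) : HNG ⧸ N)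
        rw [QuotientGroup.eq]
        simpa using hn
    have hker : π.ker ≤ f.ker := by
      intro k hk
      apply hf
      rw [Subgroup.mem_subgroupOf]
      have h1 : ((k : HNG) : HNG ⧸ N) = 1 := hk
      exact (QuotientGroup.eq_one_iff _).mp h1
    let ft : HNG ⧸ N →* ℤˣ := π.liftOfSurjective hπ ⟨f, hker⟩
    have hft : ft (π h) = f h :=
      MonoidHom.liftOfRightInverse_comp_apply π _ _ ⟨f, hker⟩ h
    have hF := hom_trivial (ft.comp (QuotientGroup.mk' N)) h.val
    rw [← hft]
    exact hF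
  have hle : GH ≤ N := Subgroup.subgroupOf_eq_top.mp hKtop
  rw [eq_top_iff, ← hsup]
  exact sup_le hle le_rfl

end Cfsg.Agent.Lib.Helper2.HNS
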