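import Cfsg.Agent.Lib.Helper2.HNDce3b
import Cfsg.Agent.Lib.Helper2.HNS.Tab
set_option autoImplicit false
set_option maxRecDepth 1000000
set_option Elab.async false
open Cfsg.Agent.Lib.Helper2.HNDce
namespace Cfsg.Agent.Lib.Helper2.HNS

/-! # A chain of stabilisers for the subgroup of the row 0 -/

/-- the words generating the subgroup of the row 0 -/
def mg0 : List (List Nat) := [[0], [2], [4]]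

/-- the chain of the row 0 -/
def ch0 : List (Nat × List (Nat × List Nat)) := [
  (0, [(1, [0]), (2, [1]), (3, [4]), (4, [0, 0]), (5, [0, 4]), (6, [1, 4]), (7, [4, 2]), (8, [4, 3]), (9, [0, 0, 4]), (10, [0, 4, 2]), (11, [0, 4, 3]), (12, [1, 4, 2]), (13, [1, 4, 3]), (14, [4, 2, 0]), (15, [4, 2, 1]), (16, [4, 2, 2]), (17, [4, 2, 4]), (18, [4, 3, 0]), (19, [4, 3, 1]), (20, [4, 3, 3]), (21, [4, 3, 4]), (22, [0, 0, 4, 2]), (23, [0, 0, 4, 3]), (24, [0, 4, 2, 0]), (25, [0, 4, 2, 1]), (26, [0, 4, 2, 2]), (27, [0, 4, 2, 4]), (28, [0, 4, 3, 0]), (29, [0, 4, 3, 1]), (30, [0, 4, 3, 3]), (31, [0, 4, 3, 4]), (32, [1, 4, 2, 2]), (33, [1, 4, 2, 4]), (34, [1, 4, 3, 3]), (35, [1, 4, 3, 4]), (36, [4, 2, 0, 2]), (37,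 [4, 2, 0, 4]), (38, [4, 2, 1, 2]), (39, [4, 2, 1, 4]), (40, [4, 2, 2, 0]), (41, [4, 2, 2, 1]), (42, [4, 2, 2, 2]), (43, [4, 2, 2, 4]), (44, [4, 2, 4, 2]), (45, [4, 2, 4, 3]), (46, [4, 3, 0, 4]), (47, [4, 3, 1, 4]), (48, [4, 3, 3, 0]), (49, [4, 3, 3, 1]), (50, [4, 3, 3, 4]), (51, [4, 3, 4, 2]), (52, [4, 3, 4, 3]), (53, [0, 0, 4, 2, 2]), (54, [0, 0, 4, 2, 4]), (55, [0, 0, 4, 3, 3]), (56, [0, 0, 4, 3, 4]), (57, [0, 4, 2, 0, 2]), (58, [0, 4, 2, 0, 4]), (59, [0, 4, 2, 1, 2]), (60, [0, 4, 2, 1, 4]), (61, [0, 4, 2, 2, 0]), (62, [0, 4, 2, 2, 1]), (63, [0, 4, 2, 2, 2]), (64, [0, 4, 2, 2, 4]), (65, [0, 4, 2, 4, 2]), (66, [0, 4, 2, 4, 3]), (67, [0, 4, 3, 0, 4]), (68, [0, 4, 3, 1, 4]), (69, [0, 4, 3, 3, 0]), (70,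 [0, 4, 3, 3, 1]), (71, [0, 4, 3, 3, 4]), (72, [0, 4, 3, 4, 2]), (73, [0, 4, 3, 4, 3]), (74, [1, 4, 2, 2, 2]), (75, [1, 4, 2, 2, 4]), (76, [1, 4, 2, 4, 2]), (77, [1, 4, 2, 4, 3]), (78, [1, 4, 3, 3, 4]), (79, [1, 4, 3, 4, 2]), (80, [1, 4, 3, 4, 3]), (81, [4, 2, 0, 2, 4]), (82, [4, 2, 0, 4, 2]), (83, [4, 2, 1, 2, 4]), (84, [4, 2, 1, 4, 2]), (85, [4, 2, 2, 0, 2]), (86, [4, 2, 2, 0, 3]), (87, [4, 2, 2, 0, 4]), (88, [4, 2, 2, 1, 2]), (89, [4, 2, 2, 1, 3]), (90, [4, 2, 2, 1, 4]), (91, [4, 2, 2, 2, 0]), (92, [4, 2, 2, 2, 1]), (93, [4, 2, 2, 2, 4]), (94, [4, 2, 2, 4, 2]), (95, [4, 2, 2, 4, 3]), (96, [4, 2, 4, 2, 0]), (97, [4, 2, 4, 2, 1]), (98, [4, 2, 4, 2, 2]), (99, [4, 2, 4, 2, 4]), (100, [4, 2, 4, 3, 3]),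 (101, [4, 2, 4, 3, 4]), (102, [4, 3, 0, 4, 3]), (103, [4, 3, 1, 4, 3]), (104, [4, 3, 3, 0, 3]), (105, [4, 3, 3, 0, 4]), (106, [4, 3, 3, 1, 3]), (107, [4, 3, 3, 1, 4]), (108, [4, 3, 3, 4, 2]), (109, [4, 3, 4, 2, 2]), (110, [4, 3, 4, 2, 4]), (111, [4, 3, 4, 3, 0]), (112, [4, 3, 4, 3, 1]), (113, [4, 3, 4, 3, 3]), (114, [4, 3, 4, 3, 4]), (115, [0, 0, 4, 2, 2, 2]), (116, [0, 0, 4, 2, 2, 4]), (117, [0, 0, 4, 2, 4, 2]), (118, [0, 0, 4, 2, 4, 3]), (119, [0, 0, 4, 3, 3, 4]), (120, [0, 0, 4, 3, 4, 2]), (121, [0, 0, 4, 3, 4, 3]), (122, [0, 4, 2, 0, 2, 4]), (123, [0, 4, 2, 0, 4, 2]), (124, [0, 4, 2, 1, 2, 4]), (125, [0, 4, 2, 1, 4, 2]), (126, [0, 4, 2, 2, 0, 2]), (127, [0, 4, 2, 2, 0, 3]), (128, [0, 4, 2, 2, 0,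 4]), (129, [0, 4, 2, 2, 1, 2]), (130, [0, 4, 2, 2, 1, 3]), (131, [0, 4, 2, 2, 1, 4]), (132, [0, 4, 2, 2, 2, 0]), (133, [0, 4, 2, 2, 2, 1]), (134, [0, 4, 2, 2, 2, 4]), (135, [0, 4, 2, 2, 4, 2]), (136, [0, 4, 2, 2, 4, 3]), (137, [0, 4, 2, 4, 2, 0]), (138, [0, 4, 2, 4, 2, 1]), (139, [0, 4, 2, 4, 2, 2]), (140, [0, 4, 2, 4, 2, 4]), (141, [0, 4, 2, 4, 3, 3]), (142, [0, 4, 2, 4, 3, 4]), (143, [0, 4, 3, 0, 4, 3]), (144, [0, 4, 3, 1, 4, 3]), (145, [0, 4, 3, 3, 0, 3]), (146, [0, 4, 3, 3, 0, 4]), (147, [0, 4, 3, 3, 1, 3]), (148, [0, 4, 3, 3, 1, 4]), (149, [0, 4, 3, 3, 4, 2]), (150, [0, 4, 3, 4, 2, 2]), (151, [0, 4, 3, 4, 2, 4]), (152, [0, 4, 3, 4, 3, 0]), (153, [0, 4, 3, 4, 3, 1]), (154, [0, 4, 3, 4, 3, 3]), (155,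 [0, 4, 3, 4, 3, 4]), (156, [1, 4, 2, 2, 2, 4]), (157, [1, 4, 2, 2, 4, 2]), (158, [1, 4, 2, 2, 4, 3]), (159, [1, 4, 2, 4, 2, 2]), (160, [1, 4, 2, 4, 2, 4]), (161, [1, 4, 2, 4, 3, 3]), (162, [1, 4, 2, 4, 3, 4]), (163, [1, 4, 3, 3, 4, 2]), (164, [1, 4, 3, 4, 2, 2]), (165, [1, 4, 3, 4, 2, 4]), (166, [1, 4, 3, 4, 3, 3]), (167, [1, 4, 3, 4, 3, 4]), (168, [4, 2, 0, 2, 4, 2]), (169, [4, 2, 0, 2, 4, 3]), (170, [4, 2, 0, 4, 2, 0]), (171, [4, 2, 0, 4, 2, 1]), (172, [4, 2, 0, 4, 2, 2]), (173, [4, 2, 0, 4, 2, 4]), (174, [4, 2, 1, 2, 4, 2]), (175, [4, 2, 1, 2, 4, 3]), (176, [4, 2, 1, 4, 2, 2]), (177, [4, 2, 1, 4, 2, 4]), (178, [4, 2, 2, 0, 2, 0]), (179, [4, 2, 2, 0, 2, 1]), (180, [4, 2, 2, 0, 2, 2]), (181, [4, 2,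 2, 0, 2, 4]), (182, [4, 2, 2, 0, 3, 4]), (183, [4, 2, 2, 0, 4, 2]), (184, [4, 2, 2, 0, 4, 3]), (185, [4, 2, 2, 1, 2, 2]), (186, [4, 2, 2, 1, 2, 4]), (187, [4, 2, 2, 1, 3, 4]), (188, [4, 2, 2, 1, 4, 2]), (189, [4, 2, 2, 1, 4, 3]), (190, [4, 2, 2, 2, 0, 2]), (191, [4, 2, 2, 2, 0, 3]), (192, [4, 2, 2, 2, 0, 4]), (193, [4, 2, 2, 2, 1, 2]), (194, [4, 2, 2, 2, 1, 3]), (195, [4, 2, 2, 2, 1, 4]), (196, [4, 2, 2, 2, 4, 2]), (197, [4, 2, 2, 2, 4, 3]), (198, [4, 2, 2, 4, 2, 0]), (199, [4, 2, 2, 4, 2, 1]), (200, [4, 2, 2, 4, 2, 4]), (201, [4, 2, 2, 4, 3, 0]), (202, [4, 2, 2, 4, 3, 1]), (203, [4, 2, 2, 4, 3, 3]), (204, [4, 2, 2, 4, 3, 4]), (205, [4, 2, 4, 2, 0, 2]), (206, [4, 2, 4, 2, 0, 3]), (207, [4, 2, 4, 2,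 0, 4]), (208, [4, 2, 4, 2, 1, 2]), (209, [4, 2, 4, 2, 1, 3]), (210, [4, 2, 4, 2, 1, 4]), (211, [4, 2, 4, 2, 2, 0]), (212, [4, 2, 4, 2, 2, 1]), (213, [4, 2, 4, 2, 2, 2]), (214, [4, 2, 4, 2, 2, 4]), (215, [4, 2, 4, 2, 4, 2]), (216, [4, 2, 4, 2, 4, 3]), (217, [4, 2, 4, 3, 3, 0]), (218, [4, 2, 4, 3, 3, 1]), (219, [4, 2, 4, 3, 3, 4]), (220, [4, 2, 4, 3, 4, 3]), (221, [4, 3, 0, 4, 3, 0]), (222, [4, 3, 0, 4, 3, 1]), (223, [4, 3, 0, 4, 3, 3]), (224, [4, 3, 1, 4, 3, 3]), (225, [4, 3, 1, 4, 3, 4]), (226, [4, 3, 3, 0, 3, 0]), (227, [4, 3, 3, 0, 3, 1]), (228, [4, 3, 3, 0, 3, 4]), (229, [4, 3, 3, 0, 4, 3]), (230, [4, 3, 3, 1, 3, 4]), (231, [4, 3, 3, 1, 4, 3]), (232, [4, 3, 3, 4, 2, 0]), (233, [4, 3, 3, 4, 2, 1]),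 (234, [4, 3, 3, 4, 2, 4]), (235, [4, 3, 4, 2, 2, 0]), (236, [4, 3, 4, 2, 2, 1]), (237, [4, 3, 4, 2, 2, 2]), (238, [4, 3, 4, 2, 2, 4]), (239, [4, 3, 4, 3, 0, 3]), (240, [4, 3, 4, 3, 0, 4]), (241, [4, 3, 4, 3, 1, 3]), (242, [4, 3, 4, 3, 1, 4]), (243, [4, 3, 4, 3, 3, 0]), (244, [4, 3, 4, 3, 3, 1]), (245, [4, 3, 4, 3, 3, 4]), (246, [4, 3, 4, 3, 4, 2]), (247, [4, 3, 4, 3, 4, 3]), (248, [0, 0, 4, 2, 2, 2, 4]), (249, [0, 0, 4, 2, 2, 4, 2]), (250, [0, 0, 4, 2, 2, 4, 3]), (251, [0, 0, 4, 2, 4, 2, 2]), (252, [0, 0, 4, 2, 4, 2, 4]), (253, [0, 0, 4, 2, 4, 3, 3]), (254, [0, 0, 4, 2, 4, 3, 4]), (255, [0, 0, 4, 3, 3, 4, 2]), (256, [0, 0, 4, 3, 4, 2, 2]), (257, [0, 0, 4, 3, 4, 2, 4]), (258, [0, 0, 4, 3, 4, 3, 3]),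 (259, [0, 0, 4, 3, 4, 3, 4]), (260, [0, 4, 2, 0, 2, 4, 2]), (261, [0, 4, 2, 0, 2, 4, 3]), (262, [0, 4, 2, 0, 4, 2, 0]), (263, [0, 4, 2, 0, 4, 2, 1]), (264, [0, 4, 2, 0, 4, 2, 2]), (265, [0, 4, 2, 0, 4, 2, 4]), (266, [0, 4, 2, 1, 2, 4, 2]), (267, [0, 4, 2, 1, 2, 4, 3]), (268, [0, 4, 2, 1, 4, 2, 2]), (269, [0, 4, 2, 1, 4, 2, 4]), (270, [0, 4, 2, 2, 0, 2, 0]), (271, [0, 4, 2, 2, 0, 2, 1]), (272, [0, 4, 2, 2, 0, 2, 2]), (273, [0, 4, 2, 2, 0, 2, 4]), (274, [0, 4, 2, 2, 0, 3, 4]), (275, [0, 4, 2, 2, 0, 4, 2]), (276, [0, 4, 2, 2, 0, 4, 3]), (277, [0, 4, 2, 2, 1, 2, 2]), (278, [0, 4, 2, 2, 1, 2, 4]), (279, [0, 4, 2, 2, 1, 3, 4]), (280, [0, 4, 2, 2, 1, 4, 2]), (281, [0, 4, 2, 2, 1, 4, 3]), (282, [0, 4, 2, 2,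 2, 0, 2]), (283, [0, 4, 2, 2, 2, 0, 3]), (284, [0, 4, 2, 2, 2, 0, 4]), (285, [0, 4, 2, 2, 2, 1, 2]), (286, [0, 4, 2, 2, 2, 1, 3]), (287, [0, 4, 2, 2, 2, 1, 4]), (288, [0, 4, 2, 2, 2, 4, 2]), (289, [0, 4, 2, 2, 2, 4, 3]), (290, [0, 4, 2, 2, 4, 2, 0]), (291, [0, 4, 2, 2, 4, 2, 1]), (292, [0, 4, 2, 2, 4, 2, 4]), (293, [0, 4, 2, 2, 4, 3, 0]), (294, [0, 4, 2, 2, 4, 3, 1]), (295, [0, 4, 2, 2, 4, 3, 3]), (296, [0, 4, 2, 2, 4, 3, 4]), (297, [0, 4, 2, 4, 2, 0, 2]), (298, [0, 4, 2, 4, 2, 0, 3]), (299, [0, 4, 2, 4, 2, 0, 4]), (300, [0, 4, 2, 4, 2, 1, 2]), (301, [0, 4, 2, 4, 2, 1, 3]), (302, [0, 4, 2, 4, 2, 1, 4]), (303, [0, 4, 2, 4, 2, 2, 0]), (304, [0, 4, 2, 4, 2, 2, 1]), (305, [0, 4, 2, 4, 2, 2, 2]), (306, [0,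 4, 2, 4, 2, 2, 4]), (307, [0, 4, 2, 4, 2, 4, 2]), (308, [0, 4, 2, 4, 2, 4, 3]), (309, [0, 4, 2, 4, 3, 3, 0]), (310, [0, 4, 2, 4, 3, 3, 1]), (311, [0, 4, 2, 4, 3, 3, 4]), (312, [0, 4, 2, 4, 3, 4, 3]), (313, [0, 4, 3, 0, 4, 3, 0]), (314, [0, 4, 3, 0, 4, 3, 1]), (315, [0, 4, 3, 0, 4, 3, 3]), (316, [0, 4, 3, 1, 4, 3, 3]), (317, [0, 4, 3, 1, 4, 3, 4]), (318, [0, 4, 3, 3, 0, 3, 0]), (319, [0, 4, 3, 3, 0, 3, 1]), (320, [0, 4, 3, 3, 0, 3, 4]), (321, [0, 4, 3, 3, 0, 4, 3]), (322, [0, 4, 3, 3, 1, 3, 4]), (323, [0, 4, 3, 3, 1, 4, 3]), (324, [0, 4, 3, 3, 4, 2, 0]), (325, [0, 4, 3, 3, 4, 2, 1]), (326, [0, 4, 3, 3, 4, 2, 4]), (327, [0, 4, 3, 4, 2, 2, 0]), (328, [0, 4, 3, 4, 2, 2, 1]), (329, [0, 4, 3, 4, 2, 2, 2]),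 (330, [0, 4, 3, 4, 2, 2, 4]), (331, [0, 4, 3, 4, 3, 0, 3]), (332, [0, 4, 3, 4, 3, 0, 4]), (333, [0, 4, 3, 4, 3, 1, 3]), (334, [0, 4, 3, 4, 3, 1, 4]), (335, [0, 4, 3, 4, 3, 3, 0]), (336, [0, 4, 3, 4, 3, 3, 1]), (337, [0, 4, 3, 4, 3, 3, 4]), (338, [0, 4, 3, 4, 3, 4, 2]), (339, [0, 4, 3, 4, 3, 4, 3]), (340, [1, 4, 2, 2, 2, 4, 2]), (341, [1, 4, 2, 2, 2, 4, 3]), (342, [1, 4, 2, 2, 4, 2, 4]), (343, [1, 4, 2, 2, 4, 3, 3]), (344, [1, 4, 2, 2, 4, 3, 4]), (345, [1, 4, 2, 4, 2, 2, 2]), (346, [1, 4, 2, 4, 2, 2, 4]), (347, [1, 4, 2, 4, 2, 4, 2]), (348, [1, 4, 2, 4, 2, 4, 3]), (349, [1, 4, 2, 4, 3, 3, 4]), (350, [1, 4, 3, 3, 4, 2, 4]), (351, [1, 4, 3, 4, 2, 2, 2]), (352, [1, 4, 3, 4, 2, 2, 4]), (353, [1, 4, 3, 4,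 3, 3, 4]), (354, [1, 4, 3, 4, 3, 4, 2]), (355, [1, 4, 3, 4, 3, 4, 3]), (356, [4, 2, 0, 2, 4, 2, 2]), (357, [4, 2, 0, 2, 4, 2, 4]), (358, [4, 2, 0, 2, 4, 3, 3]), (359, [4, 2, 0, 2, 4, 3, 4]), (360, [4, 2, 0, 4, 2, 0, 4]), (361, [4, 2, 0, 4, 2, 1, 4]), (362, [4, 2, 0, 4, 2, 2, 0]), (363, [4, 2, 0, 4, 2, 2, 1]), (364, [4, 2, 0, 4, 2, 2, 4]), (365, [4, 2, 0, 4, 2, 4, 2]), (366, [4, 2, 1, 2, 4, 2, 4]), (367, [4, 2, 1, 2, 4, 3, 4]), (368, [4, 2, 1, 4, 2, 2, 4]), (369, [4, 2, 1, 4, 2, 4, 2]), (370, [4, 2, 2, 0, 2, 0, 2]), (371, [4, 2, 2, 0, 2, 0, 3]), (372, [4, 2, 2, 0, 2, 0, 4]), (373, [4, 2, 2, 0, 2, 1, 2]), (374, [4, 2, 2, 0, 2, 1, 3]), (375, [4, 2, 2, 0, 2, 1, 4]), (376, [4, 2, 2, 0, 2, 2, 0]), (377, [4,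 2, 2, 0, 2, 2, 1]), (378, [4, 2, 2, 0, 2, 2, 4]), (379, [4, 2, 2, 0, 2, 4, 2]), (380, [4, 2, 2, 0, 2, 4, 3]), (381, [4, 2, 2, 0, 3, 4, 2]), (382, [4, 2, 2, 0, 3, 4, 3]), (383, [4, 2, 2, 0, 4, 2, 0]), (384, [4, 2, 2, 0, 4, 2, 1]), (385, [4, 2, 2, 0, 4, 2, 4]), (386, [4, 2, 2, 0, 4, 3, 4]), (387, [4, 2, 2, 1, 2, 2, 4]), (388, [4, 2, 2, 1, 2, 4, 2]), (389, [4, 2, 2, 1, 2, 4, 3]), (390, [4, 2, 2, 1, 3, 4, 2]), (391, [4, 2, 2, 1, 3, 4, 3]), (392, [4, 2, 2, 1, 4, 2, 4]), (393, [4, 2, 2, 1, 4, 3, 4]), (394, [4, 2, 2, 2, 0, 2, 0]), (395, [4, 2, 2, 2, 0, 2, 1]), (396, [4, 2, 2, 2, 0, 2, 4]), (397, [4, 2, 2, 2, 0, 3, 0]), (398, [4, 2, 2, 2, 0, 3, 1]), (399, [4, 2, 2, 2, 0, 3, 4]), (400, [4, 2, 2, 2, 0, 4, 2]),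 (401, [4, 2, 2, 2, 0, 4, 3]), (402, [4, 2, 2, 2, 1, 2, 4]), (403, [4, 2, 2, 2, 1, 3, 4]), (404, [4, 2, 2, 2, 1, 4, 2]), (405, [4, 2, 2, 2, 1, 4, 3]), (406, [4, 2, 2, 2, 4, 2, 0]), (407, [4, 2, 2, 2, 4, 2, 1]), (408, [4, 2, 2, 2, 4, 2, 4]), (409, [4, 2, 2, 2, 4, 3, 0]), (410, [4, 2, 2, 2, 4, 3, 1]), (411, [4, 2, 2, 2, 4, 3, 4]), (412, [4, 2, 2, 4, 2, 0, 2]), (413, [4, 2, 2, 4, 2, 0, 3]), (414, [4, 2, 2, 4, 2, 0, 4]), (415, [4, 2, 2, 4, 2, 1, 2]), (416, [4, 2, 2, 4, 2, 1, 3]), (417, [4, 2, 2, 4, 2, 1, 4]), (418, [4, 2, 2, 4, 2, 4, 2]), (419, [4, 2, 2, 4, 2, 4, 3]), (420, [4, 2, 2, 4, 3, 1, 4]), (421, [4, 2, 2, 4, 3, 3, 4]), (422, [4, 2, 2, 4, 3, 4, 2]), (423, [4, 2, 2, 4, 3, 4, 3]), (424, [4, 2, 4, 2,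 0, 2, 0]), (425, [4, 2, 4, 2, 0, 2, 1]), (426, [4, 2, 4, 2, 0, 2, 2]), (427, [4, 2, 4, 2, 0, 2, 4]), (428, [4, 2, 4, 2, 0, 3, 4]), (429, [4, 2, 4, 2, 0, 4, 2]), (430, [4, 2, 4, 2, 1, 2, 2]), (431, [4, 2, 4, 2, 1, 2, 4]), (432, [4, 2, 4, 2, 1, 3, 4]), (433, [4, 2, 4, 2, 1, 4, 2]), (434, [4, 2, 4, 2, 2, 0, 3]), (435, [4, 2, 4, 2, 2, 0, 4]), (436, [4, 2, 4, 2, 2, 1, 3]), (437, [4, 2, 4, 2, 2, 1, 4]), (438, [4, 2, 4, 2, 2, 2, 0]), (439, [4, 2, 4, 2, 2, 2, 1]), (440, [4, 2, 4, 2, 2, 2, 4]), (441, [4, 2, 4, 2, 2, 4, 2]), (442, [4, 2, 4, 2, 2, 4, 3]), (443, [4, 2, 4, 2, 4, 2, 0]), (444, [4, 2, 4, 2, 4, 2, 1]), (445, [4, 2, 4, 2, 4, 2, 2]), (446, [4, 2, 4, 2, 4, 2, 4]), (447, [4, 2, 4, 2, 4, 3, 1]), (448, [4,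 2, 4, 2, 4, 3, 3]), (449, [4, 2, 4, 3, 3, 0, 4]), (450, [4, 2, 4, 3, 3, 1, 4]), (451, [4, 2, 4, 3, 3, 4, 3]), (452, [4, 2, 4, 3, 4, 3, 0]), (453, [4, 2, 4, 3, 4, 3, 1]), (454, [4, 2, 4, 3, 4, 3, 3]), (455, [4, 3, 0, 4, 3, 3, 0]), (456, [4, 3, 0, 4, 3, 3, 1]), (457, [4, 3, 0, 4, 3, 3, 4]), (458, [4, 3, 1, 4, 3, 3, 4]), (459, [4, 3, 1, 4, 3, 4, 3]), (460, [4, 3, 3, 0, 3, 0, 2]), (461, [4, 3, 3, 0, 3, 0, 3]), (462, [4, 3, 3, 0, 3, 0, 4]), (463, [4, 3, 3, 0, 3, 1, 2]), (464, [4, 3, 3, 0, 3, 1, 3]), (465, [4, 3, 3, 0, 3, 1, 4]), (466, [4, 3, 3, 0, 3, 4, 3]), (467, [4, 3, 3, 0, 4, 3, 0]), (468, [4, 3, 3, 0, 4, 3, 1]), (469, [4, 3, 3, 0, 4, 3, 4]), (470, [4, 3, 3, 1, 3, 4, 3]), (471, [4, 3, 3, 1, 4, 3, 4]),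 (472, [4, 3, 3, 4, 2, 1, 4]), (473, [4, 3, 3, 4, 2, 4, 2]), (474, [4, 3, 4, 2, 2, 1, 4]), (475, [4, 3, 4, 2, 2, 2, 4]), (476, [4, 3, 4, 2, 2, 4, 2]), (477, [4, 3, 4, 3, 0, 3, 0]), (478, [4, 3, 4, 3, 0, 3, 1]), (479, [4, 3, 4, 3, 0, 3, 4]), (480, [4, 3, 4, 3, 0, 4, 3]), (481, [4, 3, 4, 3, 1, 3, 4]), (482, [4, 3, 4, 3, 1, 4, 3]), (483, [4, 3, 4, 3, 3, 0, 2]), (484, [4, 3, 4, 3, 3, 0, 4]), (485, [4, 3, 4, 3, 3, 1, 2]), (486, [4, 3, 4, 3, 3, 1, 4]), (487, [4, 3, 4, 3, 3, 4, 2]), (488, [4, 3, 4, 3, 3, 4, 3]), (489, [4, 3, 4, 3, 4, 2, 1]), (490, [4, 3, 4, 3, 4, 2, 2]), (491, [4, 3, 4, 3, 4, 3, 0]), (492, [4, 3, 4, 3, 4, 3, 1]), (493, [4, 3, 4, 3, 4, 3, 3]), (494, [4, 3, 4, 3, 4, 3, 4]), (495, [0, 0, 4, 2,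 2, 4, 2, 4]), (496, [0, 0, 4, 2, 2, 4, 3, 3]), (497, [0, 0, 4, 2, 4, 2, 2, 2]), (498, [0, 0, 4, 2, 4, 2, 2, 4]), (499, [0, 0, 4, 2, 4, 2, 4, 2]), (500, [0, 0, 4, 2, 4, 3, 3, 4]), (501, [0, 0, 4, 3, 4, 2, 2, 2]), (502, [0, 0, 4, 3, 4, 2, 2, 4]), (503, [0, 0, 4, 3, 4, 3, 3, 4]), (504, [0, 0, 4, 3, 4, 3, 4, 3]), (505, [0, 4, 2, 0, 2, 4, 2, 4]), (506, [0, 4, 2, 0, 2, 4, 3, 4]), (507, [0, 4, 2, 0, 4, 2, 0, 4]), (508, [0, 4, 2, 0, 4, 2, 1, 4]), (509, [0, 4, 2, 0, 4, 2, 2, 0]), (510, [0, 4, 2, 0, 4, 2, 2, 1]), (511, [0, 4, 2, 0, 4, 2, 2, 4]), (512, [0, 4, 2, 0, 4, 2, 4, 2]), (513, [0, 4, 2, 1, 2, 4, 2, 4]), (514, [0, 4, 2, 1, 2, 4, 3, 4]), (515, [0, 4, 2, 1, 4, 2, 2, 4]), (516, [0, 4, 2, 1, 4, 2, 4, 2]), (517,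 [0, 4, 2, 2, 0, 2, 0, 2]), (518, [0, 4, 2, 2, 0, 2, 0, 3]), (519, [0, 4, 2, 2, 0, 2, 0, 4]), (520, [0, 4, 2, 2, 0, 2, 1, 2]), (521, [0, 4, 2, 2, 0, 2, 1, 3]), (522, [0, 4, 2, 2, 0, 2, 1, 4]), (523, [0, 4, 2, 2, 0, 2, 2, 0]), (524, [0, 4, 2, 2, 0, 2, 2, 1]), (525, [0, 4, 2, 2, 0, 2, 2, 4]), (526, [0, 4, 2, 2, 0, 2, 4, 2]), (527, [0, 4, 2, 2, 0, 2, 4, 3]), (528, [0, 4, 2, 2, 0, 4, 2, 0]), (529, [0, 4, 2, 2, 0, 4, 2, 1]), (530, [0, 4, 2, 2, 0, 4, 2, 4]), (531, [0, 4, 2, 2, 0, 4, 3, 4]), (532, [0, 4, 2, 2, 1, 2, 2, 4]), (533, [0, 4, 2, 2, 1, 2, 4, 2]), (534, [0, 4, 2, 2, 1, 2, 4, 3]), (535, [0, 4, 2, 2, 1, 4, 2, 4]), (536, [0, 4, 2, 2, 1, 4, 3, 4]), (537, [0, 4, 2, 2, 2, 0, 2, 0]), (538, [0, 4, 2, 2, 2,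 0, 2, 1]), (539, [0, 4, 2, 2, 2, 0, 2, 4]), (540, [0, 4, 2, 2, 2, 0, 3, 0]), (541, [0, 4, 2, 2, 2, 0, 3, 1]), (542, [0, 4, 2, 2, 2, 0, 3, 4]), (543, [0, 4, 2, 2, 2, 0, 4, 2]), (544, [0, 4, 2, 2, 2, 0, 4, 3]), (545, [0, 4, 2, 2, 2, 1, 2, 4]), (546, [0, 4, 2, 2, 2, 1, 3, 4]), (547, [0, 4, 2, 2, 2, 1, 4, 2]), (548, [0, 4, 2, 2, 2, 1, 4, 3]), (549, [0, 4, 2, 2, 2, 4, 2, 4]), (550, [0, 4, 2, 2, 2, 4, 3, 4]), (551, [0, 4, 2, 2, 4, 2, 0, 2]), (552, [0, 4, 2, 2, 4, 2, 0, 3]), (553, [0, 4, 2, 2, 4, 2, 0, 4]), (554, [0, 4, 2, 2, 4, 2, 1, 2]), (555, [0, 4, 2, 2, 4, 2, 1, 3]), (556, [0, 4, 2, 2, 4, 2, 1, 4]), (557, [0, 4, 2, 2, 4, 2, 4, 2]), (558, [0, 4, 2, 2, 4, 2, 4, 3]), (559, [0, 4, 2, 2, 4, 3, 3, 4]), (560,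 [0, 4, 2, 2, 4, 3, 4, 2]), (561, [0, 4, 2, 2, 4, 3, 4, 3]), (562, [0, 4, 2, 4, 2, 0, 2, 0]), (563, [0, 4, 2, 4, 2, 0, 2, 1]), (564, [0, 4, 2, 4, 2, 0, 2, 2]), (565, [0, 4, 2, 4, 2, 0, 2, 4]), (566, [0, 4, 2, 4, 2, 0, 3, 4]), (567, [0, 4, 2, 4, 2, 0, 4, 2]), (568, [0, 4, 2, 4, 2, 1, 2, 2]), (569, [0, 4, 2, 4, 2, 1, 2, 4]), (570, [0, 4, 2, 4, 2, 1, 3, 4]), (571, [0, 4, 2, 4, 2, 1, 4, 2]), (572, [0, 4, 2, 4, 2, 2, 0, 3]), (573, [0, 4, 2, 4, 2, 2, 0, 4]), (574, [0, 4, 2, 4, 2, 2, 1, 3]), (575, [0, 4, 2, 4, 2, 2, 1, 4]), (576, [0, 4, 2, 4, 2, 2, 2, 0]), (577, [0, 4, 2, 4, 2, 2, 2, 1]), (578, [0, 4, 2, 4, 2, 2, 2, 4]), (579, [0, 4, 2, 4, 2, 2, 4, 2]), (580, [0, 4, 2, 4, 2, 2, 4, 3]), (581, [0, 4, 2, 4, 2,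 4, 2, 0]), (582, [0, 4, 2, 4, 2, 4, 2, 1]), (583, [0, 4, 2, 4, 2, 4, 2, 2]), (584, [0, 4, 2, 4, 2, 4, 2, 4]), (585, [0, 4, 2, 4, 2, 4, 3, 3]), (586, [0, 4, 2, 4, 3, 3, 0, 4]), (587, [0, 4, 2, 4, 3, 3, 1, 4]), (588, [0, 4, 2, 4, 3, 3, 4, 3]), (589, [0, 4, 2, 4, 3, 4, 3, 0]), (590, [0, 4, 2, 4, 3, 4, 3, 1]), (591, [0, 4, 2, 4, 3, 4, 3, 3]), (592, [0, 4, 3, 0, 4, 3, 3, 0]), (593, [0, 4, 3, 0, 4, 3, 3, 1]), (594, [0, 4, 3, 0, 4, 3, 3, 4]), (595, [0, 4, 3, 1, 4, 3, 3, 4]), (596, [0, 4, 3, 1, 4, 3, 4, 3]), (597, [0, 4, 3, 3, 0, 3, 0, 2]), (598, [0, 4, 3, 3, 0, 3, 0, 3]), (599, [0, 4, 3, 3, 0, 3, 0, 4]), (600, [0, 4, 3, 3, 0, 3, 1, 2]), (601, [0, 4, 3, 3, 0, 3, 1, 3]), (602, [0, 4, 3, 3, 0, 3, 1, 4]), (603,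 [0, 4, 3, 3, 0, 3, 4, 3]), (604, [0, 4, 3, 3, 0, 4, 3, 0]), (605, [0, 4, 3, 3, 0, 4, 3, 1]), (606, [0, 4, 3, 3, 0, 4, 3, 4]), (607, [0, 4, 3, 3, 1, 3, 4, 3]), (608, [0, 4, 3, 3, 1, 4, 3, 4]), (609, [0, 4, 3, 3, 4, 2, 4, 2]), (610, [0, 4, 3, 4, 2, 2, 1, 4]), (611, [0, 4, 3, 4, 2, 2, 2, 4]), (612, [0, 4, 3, 4, 2, 2, 4, 2]), (613, [0, 4, 3, 4, 3, 0, 3, 0]), (614, [0, 4, 3, 4, 3, 0, 3, 1]), (615, [0, 4, 3, 4, 3, 0, 3, 4]), (616, [0, 4, 3, 4, 3, 0, 4, 3]), (617, [0, 4, 3, 4, 3, 1, 3, 4]), (618, [0, 4, 3, 4, 3, 1, 4, 3]), (619, [0, 4, 3, 4, 3, 3, 0, 2]), (620, [0, 4, 3, 4, 3, 3, 0, 4]), (621, [0, 4, 3, 4, 3, 3, 1, 2]), (622, [0, 4, 3, 4, 3, 3, 1, 4]), (623, [0, 4, 3, 4, 3, 3, 4, 2]), (624, [0, 4, 3, 4, 3,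 3, 4, 3]), (625, [0, 4, 3, 4, 3, 4, 2, 2]), (626, [0, 4, 3, 4, 3, 4, 3, 0]), (627, [0, 4, 3, 4, 3, 4, 3, 1]), (628, [0, 4, 3, 4, 3, 4, 3, 3]), (629, [0, 4, 3, 4, 3, 4, 3, 4]), (630, [1, 4, 2, 2, 4, 2, 4, 2]), (631, [1, 4, 2, 2, 4, 2, 4, 3]), (632, [1, 4, 2, 2, 4, 3, 3, 4]), (633, [1, 4, 2, 2, 4, 3, 4, 3]), (634, [1, 4, 2, 4, 2, 2, 2, 4]), (635, [1, 4, 2, 4, 2, 2, 4, 2]), (636, [1, 4, 2, 4, 2, 2, 4, 3]), (637, [1, 4, 2, 4, 2, 4, 2, 2]), (638, [1, 4, 2, 4, 2, 4, 2, 4]), (639, [1, 4, 2, 4, 3, 3, 4, 3]), (640, [1, 4, 3, 3, 4, 2, 4, 2]), (641, [1, 4, 3, 4, 2, 2, 2, 4]), (642, [1, 4, 3, 4, 2, 2, 4, 2]), (643, [1, 4, 3, 4, 3, 3, 4, 2]), (644, [1, 4, 3, 4, 3, 3, 4, 3]), (645, [1, 4, 3, 4, 3, 4, 3, 3]), (646,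 [1, 4, 3, 4, 3, 4, 3, 4]), (647, [4, 2, 0, 4, 2, 2, 0, 2]), (648, [4, 2, 0, 4, 2, 2, 0, 3]), (649, [4, 2, 0, 4, 2, 2, 0, 4]), (650, [4, 2, 0, 4, 2, 2, 1, 2]), (651, [4, 2, 0, 4, 2, 2, 1, 3]), (652, [4, 2, 0, 4, 2, 2, 1, 4]), (653, [4, 2, 0, 4, 2, 2, 4, 2]), (654, [4, 2, 0, 4, 2, 2, 4, 3]), (655, [4, 2, 0, 4, 2, 4, 2, 0]), (656, [4, 2, 0, 4, 2, 4, 2, 1]), (657, [4, 2, 0, 4, 2, 4, 2, 4]), (658, [4, 2, 1, 4, 2, 2, 4, 2]), (659, [4, 2, 1, 4, 2, 2, 4, 3]), (660, [4, 2, 1, 4, 2, 4, 2, 4]), (661, [4, 2, 2, 0, 2, 0, 2, 0]), (662, [4, 2, 2, 0, 2, 0, 2, 1]), (663, [4, 2, 2, 0, 2, 0, 2, 4]), (664, [4, 2, 2, 0, 2, 0, 3, 0]), (665, [4, 2, 2, 0, 2, 0, 3, 1]), (666, [4, 2, 2, 0, 2, 0, 3, 4]), (667, [4, 2, 2, 0, 2,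 0, 4, 2]), (668, [4, 2, 2, 0, 2, 0, 4, 3]), (669, [4, 2, 2, 0, 2, 1, 2, 4]), (670, [4, 2, 2, 0, 2, 1, 3, 4]), (671, [4, 2, 2, 0, 2, 1, 4, 2]), (672, [4, 2, 2, 0, 2, 1, 4, 3]), (673, [4, 2, 2, 0, 2, 2, 0, 4]), (674, [4, 2, 2, 0, 2, 2, 1, 4]), (675, [4, 2, 2, 0, 2, 4, 2, 0]), (676, [4, 2, 2, 0, 2, 4, 2, 1]), (677, [4, 2, 2, 0, 2, 4, 2, 2]), (678, [4, 2, 2, 0, 2, 4, 3, 3]), (679, [4, 2, 2, 0, 2, 4, 3, 4]), (680, [4, 2, 2, 0, 3, 4, 2, 2]), (681, [4, 2, 2, 0, 3, 4, 3, 3]), (682, [4, 2, 2, 0, 4, 2, 0, 2]), (683, [4, 2, 2, 0, 4, 2, 0, 3]), (684, [4, 2, 2, 0, 4, 2, 0, 4]), (685, [4, 2, 2, 0, 4, 2, 1, 2]), (686, [4, 2, 2, 0, 4, 2, 1, 3]), (687, [4, 2, 2, 0, 4, 2, 1, 4]), (688, [4, 2, 2, 0, 4, 2, 4, 2]), (689,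 [4, 2, 2, 0, 4, 2, 4, 3]), (690, [4, 2, 2, 1, 2, 4, 2, 2]), (691, [4, 2, 2, 1, 2, 4, 3, 3]), (692, [4, 2, 2, 1, 2, 4, 3, 4]), (693, [4, 2, 2, 1, 3, 4, 2, 2]), (694, [4, 2, 2, 1, 3, 4, 2, 4]), (695, [4, 2, 2, 1, 3, 4, 3, 3]), (696, [4, 2, 2, 1, 3, 4, 3, 4]), (697, [4, 2, 2, 1, 4, 2, 4, 2]), (698, [4, 2, 2, 1, 4, 2, 4, 3]), (699, [4, 2, 2, 1, 4, 3, 4, 2]), (700, [4, 2, 2, 2, 0, 2, 0, 2]), (701, [4, 2, 2, 2, 0, 2, 0, 3]), (702, [4, 2, 2, 2, 0, 2, 0, 4]), (703, [4, 2, 2, 2, 0, 2, 1, 2]), (704, [4, 2, 2, 2, 0, 2, 1, 3]), (705, [4, 2, 2, 2, 0, 2, 1, 4]), (706, [4, 2, 2, 2, 0, 2, 4, 2]), (707, [4, 2, 2, 2, 0, 3, 0, 2]), (708, [4, 2, 2, 2, 0, 3, 0, 3]), (709, [4, 2, 2, 2, 0, 3, 0, 4]), (710, [4, 2, 2, 2, 0,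 3, 1, 2]), (711, [4, 2, 2, 2, 0, 3, 1, 3]), (712, [4, 2, 2, 2, 0, 3, 1, 4]), (713, [4, 2, 2, 2, 0, 3, 4, 3]), (714, [4, 2, 2, 2, 0, 4, 2, 0]), (715, [4, 2, 2, 2, 0, 4, 2, 1]), (716, [4, 2, 2, 2, 0, 4, 2, 4]), (717, [4, 2, 2, 2, 0, 4, 3, 0]), (718, [4, 2, 2, 2, 0, 4, 3, 1]), (719, [4, 2, 2, 2, 0, 4, 3, 4]), (720, [4, 2, 2, 2, 1, 2, 4, 2]), (721, [4, 2, 2, 2, 1, 3, 4, 3]), (722, [4, 2, 2, 2, 1, 4, 2, 4]), (723, [4, 2, 2, 2, 1, 4, 3, 4]), (724, [4, 2, 2, 2, 4, 2, 0, 3]), (725, [4, 2, 2, 2, 4, 2, 1, 3]), (726, [4, 2, 2, 2, 4, 2, 4, 3]), (727, [4, 2, 2, 2, 4, 3, 0, 2]), (728, [4, 2, 2, 2, 4, 3, 1, 2]), (729, [4, 2, 2, 2, 4, 3, 4, 2]), (730, [4, 2, 2, 4, 2, 0, 2, 0]), (731, [4, 2, 2, 4, 2, 0, 2, 1]), (732,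 [4, 2, 2, 4, 2, 0, 2, 4]), (733, [4, 2, 2, 4, 2, 0, 3, 0]), (734, [4, 2, 2, 4, 2, 0, 3, 1]), (735, [4, 2, 2, 4, 2, 0, 3, 4]), (736, [4, 2, 2, 4, 2, 0, 4, 2]), (737, [4, 2, 2, 4, 2, 0, 4, 3]), (738, [4, 2, 2, 4, 2, 1, 2, 4]), (739, [4, 2, 2, 4, 2, 1, 3, 4]), (740, [4, 2, 2, 4, 2, 1, 4, 2]), (741, [4, 2, 2, 4, 2, 1, 4, 3]), (742, [4, 2, 2, 4, 2, 4, 2, 4]), (743, [4, 2, 2, 4, 2, 4, 3, 4]), (744, [4, 2, 2, 4, 3, 4, 2, 2]), (745, [4, 2, 2, 4, 3, 4, 3, 3]), (746, [4, 2, 4, 2, 0, 2, 0, 3]), (747, [4, 2, 4, 2, 0, 2, 0, 4]), (748, [4, 2, 4, 2, 0, 2, 1, 3]), (749, [4, 2, 4, 2, 0, 2, 1, 4]), (750, [4, 2, 4, 2, 0, 2, 2, 0]), (751, [4, 2, 4, 2, 0, 2, 2, 1]), (752, [4, 2, 4, 2, 0, 2, 2, 4]), (753, [4, 2, 4, 2, 0,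 2, 4, 3]), (754, [4, 2, 4, 2, 0, 4, 2, 0]), (755, [4, 2, 4, 2, 0, 4, 2, 1]), (756, [4, 2, 4, 2, 0, 4, 2, 2]), (757, [4, 2, 4, 2, 1, 2, 2, 4]), (758, [4, 2, 4, 2, 1, 2, 4, 3]), (759, [4, 2, 4, 2, 1, 4, 2, 2]), (760, [4, 2, 4, 2, 2, 0, 3, 0]), (761, [4, 2, 4, 2, 2, 0, 3, 1]), (762, [4, 2, 4, 2, 2, 0, 3, 3]), (763, [4, 2, 4, 2, 2, 0, 4, 3]), (764, [4, 2, 4, 2, 2, 1, 3, 3]), (765, [4, 2, 4, 2, 2, 1, 4, 3]), (766, [4, 2, 4, 2, 2, 2, 0, 2]), (767, [4, 2, 4, 2, 2, 2, 0, 4]), (768, [4, 2, 4, 2, 2, 2, 1, 2]), (769, [4, 2, 4, 2, 2, 2, 1, 4]), (770, [4, 2, 4, 2, 2, 2, 4, 3]), (771, [4, 2, 4, 2, 2, 4, 2, 0]), (772, [4, 2, 4, 2, 2, 4, 2, 1]), (773, [4, 2, 4, 2, 2, 4, 2, 2]), (774, [4, 2, 4, 2, 2, 4, 2, 4]), (775,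 [4, 2, 4, 2, 2, 4, 3, 3]), (776, [4, 2, 4, 2, 4, 2, 0, 3]), (777, [4, 2, 4, 2, 4, 2, 1, 3]), (778, [4, 2, 4, 2, 4, 2, 2, 0]), (779, [4, 2, 4, 2, 4, 2, 2, 1]), (780, [4, 2, 4, 2, 4, 2, 2, 2]), (781, [4, 2, 4, 2, 4, 2, 2, 4]), (782, [4, 2, 4, 2, 4, 2, 4, 2]), (783, [4, 2, 4, 2, 4, 2, 4, 3]), (784, [4, 2, 4, 3, 3, 0, 4, 3]), (785, [4, 2, 4, 3, 3, 1, 4, 3]), (786, [4, 2, 4, 3, 3, 4, 3, 0]), (787, [4, 2, 4, 3, 3, 4, 3, 1]), (788, [4, 2, 4, 3, 3, 4, 3, 4]), (789, [4, 2, 4, 3, 4, 3, 3, 0]), (790, [4, 2, 4, 3, 4, 3, 3, 1]), (791, [4, 2, 4, 3, 4, 3, 3, 4]), (792, [4, 3, 0, 4, 3, 3, 0, 2]), (793, [4, 3, 0, 4, 3, 3, 0, 3]), (794, [4, 3, 0, 4, 3, 3, 0, 4]), (795, [4, 3, 0, 4, 3, 3, 1, 2]), (796, [4, 3, 0, 4, 3,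 3, 1, 3]), (797, [4, 3, 0, 4, 3, 3, 1, 4]), (798, [4, 3, 0, 4, 3, 3, 4, 2]), (799, [4, 3, 0, 4, 3, 3, 4, 3]), (800, [4, 3, 1, 4, 3, 3, 4, 2]), (801, [4, 3, 1, 4, 3, 3, 4, 3]), (802, [4, 3, 1, 4, 3, 4, 3, 4]), (803, [4, 3, 3, 0, 3, 0, 2, 0]), (804, [4, 3, 3, 0, 3, 0, 2, 1]), (805, [4, 3, 3, 0, 3, 0, 3, 0]), (806, [4, 3, 3, 0, 3, 0, 3, 1]), (807, [4, 3, 3, 0, 3, 0, 3, 4]), (808, [4, 3, 3, 0, 3, 0, 4, 3]), (809, [4, 3, 3, 0, 3, 1, 2, 4]), (810, [4, 3, 3, 0, 3, 1, 3, 4]), (811, [4, 3, 3, 0, 3, 1, 4, 3]), (812, [4, 3, 3, 0, 3, 4, 3, 0]), (813, [4, 3, 3, 0, 3, 4, 3, 1]), (814, [4, 3, 3, 0, 3, 4, 3, 3]), (815, [4, 3, 3, 0, 4, 3, 0, 3]), (816, [4, 3, 3, 0, 4, 3, 0, 4]), (817, [4, 3, 3, 0, 4, 3, 1, 2]), (818,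 [4, 3, 3, 0, 4, 3, 1, 3]), (819, [4, 3, 3, 0, 4, 3, 1, 4]), (820, [4, 3, 3, 0, 4, 3, 4, 3]), (821, [4, 3, 3, 1, 4, 3, 4, 3]), (822, [4, 3, 3, 4, 2, 4, 2, 2]), (823, [4, 3, 4, 2, 2, 1, 4, 2]), (824, [4, 3, 4, 2, 2, 2, 4, 2]), (825, [4, 3, 4, 2, 2, 4, 2, 2]), (826, [4, 3, 4, 3, 0, 3, 0, 4]), (827, [4, 3, 4, 3, 0, 3, 1, 2]), (828, [4, 3, 4, 3, 0, 3, 1, 4]), (829, [4, 3, 4, 3, 0, 4, 3, 0]), (830, [4, 3, 4, 3, 0, 4, 3, 1]), (831, [4, 3, 4, 3, 1, 4, 3, 3]), (832, [4, 3, 4, 3, 3, 0, 2, 2]), (833, [4, 3, 4, 3, 3, 1, 2, 2]), (834, [4, 3, 4, 3, 3, 4, 2, 2]), (835, [4, 3, 4, 3, 3, 4, 3, 0]), (836, [4, 3, 4, 3, 3, 4, 3, 1]), (837, [4, 3, 4, 3, 3, 4, 3, 3]), (838, [4, 3, 4, 3, 4, 2, 2, 2]), (839, [4, 3, 4, 3, 4,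 3, 0, 2]), (840, [4, 3, 4, 3, 4, 3, 1, 2]), (841, [4, 3, 4, 3, 4, 3, 4, 2]), (842, [0, 0, 4, 2, 2, 4, 2, 4, 2]), (843, [0, 0, 4, 2, 2, 4, 2, 4, 3]), (844, [0, 0, 4, 2, 4, 2, 2, 2, 4]), (845, [0, 0, 4, 2, 4, 2, 2, 4, 2]), (846, [0, 0, 4, 2, 4, 2, 2, 4, 3]), (847, [0, 0, 4, 2, 4, 2, 4, 2, 2]), (848, [0, 0, 4, 2, 4, 2, 4, 2, 4]), (849, [0, 0, 4, 2, 4, 3, 3, 4, 3]), (850, [0, 0, 4, 3, 4, 2, 2, 2, 4]), (851, [0, 0, 4, 3, 4, 2, 2, 4, 2]), (852, [0, 0, 4, 3, 4, 3, 3, 4, 2]), (853, [0, 0, 4, 3, 4, 3, 3, 4, 3]), (854, [0, 0, 4, 3, 4, 3, 4, 3, 3]), (855, [0, 0, 4, 3, 4, 3, 4, 3, 4]), (856, [0, 4, 2, 0, 4, 2, 2, 0, 2]), (857, [0, 4, 2, 0, 4, 2, 2, 0, 3]), (858, [0, 4, 2, 0, 4, 2, 2, 0, 4]), (859, [0, 4, 2, 0,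 4, 2, 2, 1, 2]), (860, [0, 4, 2, 0, 4, 2, 2, 1, 3]), (861, [0, 4, 2, 0, 4, 2, 2, 1, 4]), (862, [0, 4, 2, 0, 4, 2, 2, 4, 2]), (863, [0, 4, 2, 0, 4, 2, 4, 2, 0]), (864, [0, 4, 2, 0, 4, 2, 4, 2, 1]), (865, [0, 4, 2, 0, 4, 2, 4, 2, 4]), (866, [0, 4, 2, 1, 4, 2, 2, 4, 2]), (867, [0, 4, 2, 1, 4, 2, 4, 2, 4]), (868, [0, 4, 2, 2, 0, 2, 0, 2, 0]), (869, [0, 4, 2, 2, 0, 2, 0, 2, 1]), (870, [0, 4, 2, 2, 0, 2, 0, 2, 4]), (871, [0, 4, 2, 2, 0, 2, 0, 3, 0]), (872, [0, 4, 2, 2, 0, 2, 0, 3, 1]), (873, [0, 4, 2, 2, 0, 2, 0, 3, 4]), (874, [0, 4, 2, 2, 0, 2, 0, 4, 2]), (875, [0, 4, 2, 2, 0, 2, 0, 4, 3]), (876, [0, 4, 2, 2, 0, 2, 1, 2, 4]), (877, [0, 4, 2, 2, 0, 2, 1, 3, 4]), (878, [0, 4, 2, 2, 0, 2, 1, 4, 2]), (879, [0,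 4, 2, 2, 0, 2, 1, 4, 3]), (880, [0, 4, 2, 2, 0, 2, 2, 0, 4]), (881, [0, 4, 2, 2, 0, 2, 2, 1, 4]), (882, [0, 4, 2, 2, 0, 2, 4, 2, 0]), (883, [0, 4, 2, 2, 0, 2, 4, 2, 1]), (884, [0, 4, 2, 2, 0, 2, 4, 2, 2]), (885, [0, 4, 2, 2, 0, 2, 4, 3, 3]), (886, [0, 4, 2, 2, 0, 2, 4, 3, 4]), (887, [0, 4, 2, 2, 0, 4, 2, 0, 2]), (888, [0, 4, 2, 2, 0, 4, 2, 0, 3]), (889, [0, 4, 2, 2, 0, 4, 2, 0, 4]), (890, [0, 4, 2, 2, 0, 4, 2, 1, 2]), (891, [0, 4, 2, 2, 0, 4, 2, 1, 3]), (892, [0, 4, 2, 2, 0, 4, 2, 1, 4]), (893, [0, 4, 2, 2, 0, 4, 2, 4, 2]), (894, [0, 4, 2, 2, 0, 4, 2, 4, 3]), (895, [0, 4, 2, 2, 1, 2, 4, 2, 2]), (896, [0, 4, 2, 2, 1, 2, 4, 3, 3]), (897, [0, 4, 2, 2, 1, 2, 4, 3, 4]), (898, [0, 4, 2, 2, 1, 4, 2, 4, 2]),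 (899, [0, 4, 2, 2, 1, 4, 2, 4, 3]), (900, [0, 4, 2, 2, 2, 0, 2, 0, 2]), (901, [0, 4, 2, 2, 2, 0, 2, 0, 3]), (902, [0, 4, 2, 2, 2, 0, 2, 0, 4]), (903, [0, 4, 2, 2, 2, 0, 2, 1, 2]), (904, [0, 4, 2, 2, 2, 0, 2, 1, 3]), (905, [0, 4, 2, 2, 2, 0, 2, 1, 4]), (906, [0, 4, 2, 2, 2, 0, 2, 4, 2]), (907, [0, 4, 2, 2, 2, 0, 3, 0, 2]), (908, [0, 4, 2, 2, 2, 0, 3, 0, 3]), (909, [0, 4, 2, 2, 2, 0, 3, 0, 4]), (910, [0, 4, 2, 2, 2, 0, 3, 1, 2]), (911, [0, 4, 2, 2, 2, 0, 3, 1, 3]), (912, [0, 4, 2, 2, 2, 0, 3, 1, 4]), (913, [0, 4, 2, 2, 2, 0, 3, 4, 3]), (914, [0, 4, 2, 2, 2, 0, 4, 2, 0]), (915, [0, 4, 2, 2, 2, 0, 4, 2, 1]), (916, [0, 4, 2, 2, 2, 0, 4, 2, 4]), (917, [0, 4, 2, 2, 2, 0, 4, 3, 0]), (918, [0, 4, 2, 2, 2, 0,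 4, 3, 1]), (919, [0, 4, 2, 2, 2, 0, 4, 3, 4]), (920, [0, 4, 2, 2, 2, 1, 2, 4, 2]), (921, [0, 4, 2, 2, 2, 1, 3, 4, 3]), (922, [0, 4, 2, 2, 2, 1, 4, 2, 4]), (923, [0, 4, 2, 2, 2, 1, 4, 3, 4]), (924, [0, 4, 2, 2, 2, 4, 2, 4, 3]), (925, [0, 4, 2, 2, 2, 4, 3, 4, 2]), (926, [0, 4, 2, 2, 4, 2, 0, 2, 0]), (927, [0, 4, 2, 2, 4, 2, 0, 2, 1]), (928, [0, 4, 2, 2, 4, 2, 0, 2, 4]), (929, [0, 4, 2, 2, 4, 2, 0, 3, 0]), (930, [0, 4, 2, 2, 4, 2, 0, 3, 1]), (931, [0, 4, 2, 2, 4, 2, 0, 3, 4]), (932, [0, 4, 2, 2, 4, 2, 0, 4, 2]), (933, [0, 4, 2, 2, 4, 2, 0, 4, 3]), (934, [0, 4, 2, 2, 4, 2, 1, 2, 4]), (935, [0, 4, 2, 2, 4, 2, 1, 3, 4]), (936, [0, 4, 2, 2, 4, 2, 1, 4, 2]), (937, [0, 4, 2, 2, 4, 2, 1, 4, 3]), (938, [0, 4,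 2, 2, 4, 2, 4, 2, 4]), (939, [0, 4, 2, 2, 4, 2, 4, 3, 4]), (940, [0, 4, 2, 2, 4, 3, 4, 2, 2]), (941, [0, 4, 2, 2, 4, 3, 4, 3, 3]), (942, [0, 4, 2, 4, 2, 0, 2, 0, 3]), (943, [0, 4, 2, 4, 2, 0, 2, 0, 4]), (944, [0, 4, 2, 4, 2, 0, 2, 1, 3]), (945, [0, 4, 2, 4, 2, 0, 2, 1, 4]), (946, [0, 4, 2, 4, 2, 0, 2, 2, 0]), (947, [0, 4, 2, 4, 2, 0, 2, 2, 1]), (948, [0, 4, 2, 4, 2, 0, 2, 2, 4]), (949, [0, 4, 2, 4, 2, 0, 2, 4, 3]), (950, [0, 4, 2, 4, 2, 0, 4, 2, 0]), (951, [0, 4, 2, 4, 2, 0, 4, 2, 1]), (952, [0, 4, 2, 4, 2, 0, 4, 2, 2]), (953, [0, 4, 2, 4, 2, 1, 2, 2, 4]), (954, [0, 4, 2, 4, 2, 1, 2, 4, 3]), (955, [0, 4, 2, 4, 2, 1, 4, 2, 2]), (956, [0, 4, 2, 4, 2, 2, 0, 3, 0]), (957, [0, 4, 2, 4, 2, 2, 0, 3, 1]), (958,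 [0, 4, 2, 4, 2, 2, 0, 3, 3]), (959, [0, 4, 2, 4, 2, 2, 0, 4, 3]), (960, [0, 4, 2, 4, 2, 2, 1, 3, 3]), (961, [0, 4, 2, 4, 2, 2, 1, 4, 3]), (962, [0, 4, 2, 4, 2, 2, 2, 0, 2]), (963, [0, 4, 2, 4, 2, 2, 2, 0, 4]), (964, [0, 4, 2, 4, 2, 2, 2, 1, 2]), (965, [0, 4, 2, 4, 2, 2, 2, 1, 4]), (966, [0, 4, 2, 4, 2, 2, 2, 4, 3]), (967, [0, 4, 2, 4, 2, 2, 4, 2, 0]), (968, [0, 4, 2, 4, 2, 2, 4, 2, 1]), (969, [0, 4, 2, 4, 2, 2, 4, 2, 2]), (970, [0, 4, 2, 4, 2, 2, 4, 2, 4]), (971, [0, 4, 2, 4, 2, 2, 4, 3, 3]), (972, [0, 4, 2, 4, 2, 4, 2, 2, 0]), (973, [0, 4, 2, 4, 2, 4, 2, 2, 1]), (974, [0, 4, 2, 4, 2, 4, 2, 2, 2]), (975, [0, 4, 2, 4, 2, 4, 2, 2, 4]), (976, [0, 4, 2, 4, 2, 4, 2, 4, 2]), (977, [0, 4, 2, 4, 2, 4, 2, 4,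 3]), (978, [0, 4, 2, 4, 3, 3, 0, 4, 3]), (979, [0, 4, 2, 4, 3, 3, 1, 4, 3]), (980, [0, 4, 2, 4, 3, 3, 4, 3, 0]), (981, [0, 4, 2, 4, 3, 3, 4, 3, 1]), (982, [0, 4, 2, 4, 3, 3, 4, 3, 4]), (983, [0, 4, 2, 4, 3, 4, 3, 3, 0]), (984, [0, 4, 2, 4, 3, 4, 3, 3, 1]), (985, [0, 4, 2, 4, 3, 4, 3, 3, 4]), (986, [0, 4, 3, 0, 4, 3, 3, 0, 2]), (987, [0, 4, 3, 0, 4, 3, 3, 0, 3]), (988, [0, 4, 3, 0, 4, 3, 3, 0, 4]), (989, [0, 4, 3, 0, 4, 3, 3, 1, 2]), (990, [0, 4, 3, 0, 4, 3, 3, 1, 3]), (991, [0, 4, 3, 0, 4, 3, 3, 1, 4]), (992, [0, 4, 3, 0, 4, 3, 3, 4, 3]), (993, [0, 4, 3, 1, 4, 3, 3, 4, 3]), (994, [0, 4, 3, 1, 4, 3, 4, 3, 4]), (995, [0, 4, 3, 3, 0, 3, 0, 2, 0]), (996, [0, 4, 3, 3, 0, 3, 0, 2, 1]), (997, [0, 4, 3, 3,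 0, 3, 0, 3, 0]), (998, [0, 4, 3, 3, 0, 3, 0, 3, 1]), (999, [0, 4, 3, 3, 0, 3, 0, 3, 4]), (1000, [0, 4, 3, 3, 0, 3, 0, 4, 3]), (1001, [0, 4, 3, 3, 0, 3, 1, 2, 4]), (1002, [0, 4, 3, 3, 0, 3, 1, 3, 4]), (1003, [0, 4, 3, 3, 0, 3, 1, 4, 3]), (1004, [0, 4, 3, 3, 0, 3, 4, 3, 0]), (1005, [0, 4, 3, 3, 0, 3, 4, 3, 1]), (1006, [0, 4, 3, 3, 0, 3, 4, 3, 3]), (1007, [0, 4, 3, 3, 0, 4, 3, 0, 3]), (1008, [0, 4, 3, 3, 0, 4, 3, 0, 4]), (1009, [0, 4, 3, 3, 0, 4, 3, 1, 2]), (1010, [0, 4, 3, 3, 0, 4, 3, 1, 3]), (1011, [0, 4, 3, 3, 0, 4, 3, 1, 4]), (1012, [0, 4, 3, 3, 0, 4, 3, 4, 3]), (1013, [0, 4, 3, 3, 1, 4, 3, 4, 3]), (1014, [0, 4, 3, 3, 4, 2, 4, 2, 2]), (1015, [0, 4, 3, 4, 2, 2, 1, 4, 2]), (1016, [0, 4, 3, 4, 2, 2, 2,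 4, 2]), (1017, [0, 4, 3, 4, 2, 2, 4, 2, 2]), (1018, [0, 4, 3, 4, 3, 0, 3, 0, 4]), (1019, [0, 4, 3, 4, 3, 0, 3, 1, 2]), (1020, [0, 4, 3, 4, 3, 0, 3, 1, 4]), (1021, [0, 4, 3, 4, 3, 0, 4, 3, 0]), (1022, [0, 4, 3, 4, 3, 0, 4, 3, 1]), (1023, [0, 4, 3, 4, 3, 1, 4, 3, 3]), (1024, [0, 4, 3, 4, 3, 3, 0, 2, 2]), (1025, [0, 4, 3, 4, 3, 3, 1, 2, 2]), (1026, [0, 4, 3, 4, 3, 3, 4, 2, 2]), (1027, [0, 4, 3, 4, 3, 3, 4, 3, 0]), (1028, [0, 4, 3, 4, 3, 3, 4, 3, 1]), (1029, [0, 4, 3, 4, 3, 3, 4, 3, 3]), (1030, [0, 4, 3, 4, 3, 4, 2, 2, 2]), (1031, [0, 4, 3, 4, 3, 4, 3, 4, 2]), (1032, [1, 4, 2, 2, 4, 2, 4, 2, 4]), (1033, [1, 4, 2, 2, 4, 2, 4, 3, 4]), (1034, [1, 4, 2, 2, 4, 3, 4, 3, 3]), (1035, [1, 4, 2, 4, 2, 2, 2, 4, 3]),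 (1036, [1, 4, 2, 4, 2, 2, 4, 2, 2]), (1037, [1, 4, 2, 4, 2, 2, 4, 3, 3]), (1038, [1, 4, 2, 4, 2, 4, 2, 4, 3]), (1039, [1, 4, 3, 3, 4, 2, 4, 2, 2]), (1040, [1, 4, 3, 4, 2, 2, 2, 4, 2]), (1041, [1, 4, 3, 4, 3, 3, 4, 2, 2]), (1042, [1, 4, 3, 4, 3, 3, 4, 3, 3]), (1043, [1, 4, 3, 4, 3, 4, 3, 4, 2]), (1044, [4, 2, 0, 4, 2, 2, 0, 3, 0]), (1045, [4, 2, 0, 4, 2, 2, 0, 3, 1]), (1046, [4, 2, 0, 4, 2, 2, 0, 3, 3]), (1047, [4, 2, 0, 4, 2, 2, 0, 3, 4]), (1048, [4, 2, 0, 4, 2, 2, 0, 4, 2]), (1049, [4, 2, 0, 4, 2, 2, 1, 3, 3]), (1050, [4, 2, 0, 4, 2, 2, 1, 3, 4]), (1051, [4, 2, 0, 4, 2, 2, 1, 4, 2]), (1052, [4, 2, 0, 4, 2, 2, 4, 3, 0]), (1053, [4, 2, 0, 4, 2, 2, 4, 3, 1]), (1054, [4, 2, 0, 4, 2, 2, 4, 3, 4]), (1055,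 [4, 2, 0, 4, 2, 4, 2, 0, 4]), (1056, [4, 2, 0, 4, 2, 4, 2, 1, 4]), (1057, [4, 2, 0, 4, 2, 4, 2, 4, 2]), (1058, [4, 2, 1, 4, 2, 2, 4, 3, 4]), (1059, [4, 2, 1, 4, 2, 4, 2, 4, 2]), (1060, [4, 2, 2, 0, 2, 0, 2, 0, 4]), (1061, [4, 2, 2, 0, 2, 0, 2, 1, 4]), (1062, [4, 2, 2, 0, 2, 0, 3, 0, 2]), (1063, [4, 2, 2, 0, 2, 0, 3, 1, 2]), (1064, [4, 2, 2, 0, 2, 0, 3, 4, 3]), (1065, [4, 2, 2, 0, 2, 0, 4, 2, 0]), (1066, [4, 2, 2, 0, 2, 0, 4, 2, 1]), (1067, [4, 2, 2, 0, 2, 0, 4, 2, 2]), (1068, [4, 2, 2, 0, 2, 0, 4, 3, 3]), (1069, [4, 2, 2, 0, 2, 1, 3, 4, 3]), (1070, [4, 2, 2, 0, 2, 1, 4, 2, 2]), (1071, [4, 2, 2, 0, 2, 1, 4, 3, 3]), (1072, [4, 2, 2, 0, 2, 4, 2, 0, 2]), (1073, [4, 2, 2, 0, 2, 4, 2, 1, 2]), (1074, [4, 2,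 2, 0, 2, 4, 2, 2, 0]), (1075, [4, 2, 2, 0, 2, 4, 2, 2, 1]), (1076, [4, 2, 2, 0, 2, 4, 2, 2, 2]), (1077, [4, 2, 2, 0, 2, 4, 3, 4, 2]), (1078, [4, 2, 2, 0, 2, 4, 3, 4, 3]), (1079, [4, 2, 2, 0, 3, 4, 2, 2, 2]), (1080, [4, 2, 2, 0, 4, 2, 0, 2, 0]), (1081, [4, 2, 2, 0, 4, 2, 0, 2, 1]), (1082, [4, 2, 2, 0, 4, 2, 0, 2, 4]), (1083, [4, 2, 2, 0, 4, 2, 0, 3, 0]), (1084, [4, 2, 2, 0, 4, 2, 0, 3, 1]), (1085, [4, 2, 2, 0, 4, 2, 1, 2, 4]), (1086, [4, 2, 2, 0, 4, 2, 4, 2, 0]), (1087, [4, 2, 2, 0, 4, 2, 4, 2, 1]), (1088, [4, 2, 2, 0, 4, 2, 4, 2, 2]), (1089, [4, 2, 2, 1, 2, 4, 2, 2, 2]), (1090, [4, 2, 2, 1, 2, 4, 3, 4, 2]), (1091, [4, 2, 2, 1, 2, 4, 3, 4, 3]), (1092, [4, 2, 2, 1, 3, 4, 2, 2, 2]), (1093, [4, 2, 2, 1,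 3, 4, 2, 4, 2]), (1094, [4, 2, 2, 1, 3, 4, 3, 4, 3]), (1095, [4, 2, 2, 1, 4, 2, 4, 2, 2]), (1096, [4, 2, 2, 2, 0, 2, 0, 3, 0]), (1097, [4, 2, 2, 2, 0, 2, 0, 3, 1]), (1098, [4, 2, 2, 2, 0, 2, 0, 3, 3]), (1099, [4, 2, 2, 2, 0, 2, 0, 3, 4]), (1100, [4, 2, 2, 2, 0, 2, 0, 4, 2]), (1101, [4, 2, 2, 2, 0, 2, 0, 4, 3]), (1102, [4, 2, 2, 2, 0, 2, 1, 3, 3]), (1103, [4, 2, 2, 2, 0, 2, 1, 3, 4]), (1104, [4, 2, 2, 2, 0, 2, 1, 4, 2]), (1105, [4, 2, 2, 2, 0, 2, 1, 4, 3]), (1106, [4, 2, 2, 2, 0, 2, 4, 2, 2]), (1107, [4, 2, 2, 2, 0, 3, 0, 2, 2]), (1108, [4, 2, 2, 2, 0, 3, 0, 2, 4]), (1109, [4, 2, 2, 2, 0, 3, 0, 4, 2]), (1110, [4, 2, 2, 2, 0, 3, 1, 2, 2]), (1111, [4, 2, 2, 2, 0, 3, 1, 2, 4]), (1112, [4, 2, 2, 2, 0, 3,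 1, 4, 2]), (1113, [4, 2, 2, 2, 0, 3, 4, 3, 3]), (1114, [4, 2, 2, 2, 0, 4, 2, 0, 3]), (1115, [4, 2, 2, 2, 0, 4, 2, 0, 4]), (1116, [4, 2, 2, 2, 0, 4, 2, 1, 3]), (1117, [4, 2, 2, 2, 0, 4, 2, 1, 4]), (1118, [4, 2, 2, 2, 0, 4, 2, 4, 2]), (1119, [4, 2, 2, 2, 0, 4, 2, 4, 3]), (1120, [4, 2, 2, 2, 0, 4, 3, 0, 2]), (1121, [4, 2, 2, 2, 0, 4, 3, 1, 2]), (1122, [4, 2, 2, 2, 0, 4, 3, 4, 2]), (1123, [4, 2, 2, 2, 0, 4, 3, 4, 3]), (1124, [4, 2, 2, 2, 1, 2, 4, 2, 2]), (1125, [4, 2, 2, 2, 1, 3, 4, 3, 3]), (1126, [4, 2, 2, 2, 1, 4, 2, 4, 2]), (1127, [4, 2, 2, 2, 1, 4, 2, 4, 3]), (1128, [4, 2, 2, 2, 1, 4, 3, 4, 2]), (1129, [4, 2, 2, 2, 1, 4, 3, 4, 3]), (1130, [4, 2, 2, 2, 4, 2, 0, 3, 3]), (1131, [4, 2, 2, 2, 4, 2, 1, 3,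 3]), (1132, [4, 2, 2, 2, 4, 2, 4, 3, 0]), (1133, [4, 2, 2, 2, 4, 2, 4, 3, 1]), (1134, [4, 2, 2, 2, 4, 2, 4, 3, 4]), (1135, [4, 2, 2, 2, 4, 3, 4, 2, 4]), (1136, [4, 2, 2, 4, 2, 0, 2, 0, 4]), (1137, [4, 2, 2, 4, 2, 0, 2, 1, 4]), (1138, [4, 2, 2, 4, 2, 0, 2, 4, 2]), (1139, [4, 2, 2, 4, 2, 0, 3, 0, 4]), (1140, [4, 2, 2, 4, 2, 0, 3, 1, 4]), (1141, [4, 2, 2, 4, 2, 0, 3, 4, 3]), (1142, [4, 2, 2, 4, 2, 0, 4, 2, 2]), (1143, [4, 2, 2, 4, 2, 0, 4, 3, 3]), (1144, [4, 2, 2, 4, 2, 1, 2, 4, 2]), (1145, [4, 2, 2, 4, 2, 1, 3, 4, 3]), (1146, [4, 2, 2, 4, 2, 1, 4, 2, 2]), (1147, [4, 2, 2, 4, 2, 1, 4, 3, 3]), (1148, [4, 2, 2, 4, 2, 4, 2, 4, 2]), (1149, [4, 2, 2, 4, 2, 4, 3, 4, 3]), (1150, [4, 2, 2, 4, 3, 4, 2, 2, 2]),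 (1151, [4, 2, 2, 4, 3, 4, 2, 2, 4]), (1152, [4, 2, 2, 4, 3, 4, 3, 3, 0]), (1153, [4, 2, 2, 4, 3, 4, 3, 3, 1]), (1154, [4, 2, 4, 2, 0, 2, 0, 3, 0]), (1155, [4, 2, 4, 2, 0, 2, 0, 3, 1]), (1156, [4, 2, 4, 2, 0, 2, 0, 4, 3]), (1157, [4, 2, 4, 2, 0, 2, 1, 4, 3]), (1158, [4, 2, 4, 2, 0, 2, 2, 0, 4]), (1159, [4, 2, 4, 2, 0, 2, 2, 1, 4]), (1160, [4, 2, 4, 2, 0, 2, 2, 4, 2]), (1161, [4, 2, 4, 2, 0, 2, 4, 3, 3]), (1162, [4, 2, 4, 2, 1, 2, 2, 4, 2]), (1163, [4, 2, 4, 2, 1, 2, 4, 3, 3]), (1164, [4, 2, 4, 2, 2, 0, 3, 0, 2]), (1165, [4, 2, 4, 2, 2, 0, 3, 1, 2]), (1166, [4, 2, 4, 2, 2, 2, 0, 2, 2]), (1167, [4, 2, 4, 2, 2, 2, 0, 4, 2]), (1168, [4, 2, 4, 2, 2, 2, 1, 2, 2]), (1169, [4, 2, 4, 2, 2, 2, 1, 4, 2]), (1170,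 [4, 2, 4, 2, 2, 2, 4, 3, 1]), (1171, [4, 2, 4, 2, 2, 4, 2, 0, 4]), (1172, [4, 2, 4, 2, 2, 4, 2, 1, 3]), (1173, [4, 2, 4, 2, 2, 4, 2, 1, 4]), (1174, [4, 2, 4, 2, 2, 4, 2, 2, 2]), (1175, [4, 2, 4, 2, 2, 4, 2, 2, 4]), (1176, [4, 2, 4, 2, 4, 2, 0, 3, 4]), (1177, [4, 2, 4, 2, 4, 2, 1, 3, 4]), (1178, [4, 2, 4, 2, 4, 2, 2, 0, 4]), (1179, [4, 2, 4, 2, 4, 2, 2, 1, 4]), (1180, [4, 2, 4, 2, 4, 2, 2, 2, 4]), (1181, [4, 2, 4, 2, 4, 2, 4, 2, 2]), (1182, [4, 2, 4, 2, 4, 2, 4, 3, 3]), (1183, [4, 2, 4, 3, 3, 0, 4, 3, 3]), (1184, [4, 2, 4, 3, 3, 0, 4, 3, 4]), (1185, [4, 2, 4, 3, 3, 1, 4, 3, 3]), (1186, [4, 2, 4, 3, 3, 1, 4, 3, 4]), (1187, [4, 2, 4, 3, 3, 4, 3, 0, 2]), (1188, [4, 2, 4, 3, 3, 4, 3, 0, 4]), (1189, [4, 2,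 4, 3, 3, 4, 3, 1, 2]), (1190, [4, 2, 4, 3, 3, 4, 3, 1, 4]), (1191, [4, 2, 4, 3, 4, 3, 3, 4, 3]), (1192, [4, 3, 0, 4, 3, 3, 0, 2, 0]), (1193, [4, 3, 0, 4, 3, 3, 0, 2, 1]), (1194, [4, 3, 0, 4, 3, 3, 0, 2, 2]), (1195, [4, 3, 0, 4, 3, 3, 0, 2, 4]), (1196, [4, 3, 0, 4, 3, 3, 1, 2, 2]), (1197, [4, 3, 0, 4, 3, 3, 1, 2, 4]), (1198, [4, 3, 0, 4, 3, 3, 4, 2, 0]), (1199, [4, 3, 0, 4, 3, 3, 4, 2, 1]), (1200, [4, 3, 0, 4, 3, 3, 4, 2, 4]), (1201, [4, 3, 1, 4, 3, 3, 4, 2, 4]), (1202, [4, 3, 1, 4, 3, 4, 3, 4, 3]), (1203, [4, 3, 3, 0, 3, 0, 3, 0, 4]), (1204, [4, 3, 3, 0, 3, 0, 3, 1, 4]), (1205, [4, 3, 3, 0, 3, 0, 4, 3, 0]), (1206, [4, 3, 3, 0, 3, 0, 4, 3, 1]), (1207, [4, 3, 3, 0, 3, 0, 4, 3, 3]), (1208, [4, 3, 3, 0,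 3, 1, 2, 4, 2]), (1209, [4, 3, 3, 0, 3, 1, 4, 3, 3]), (1210, [4, 3, 3, 0, 4, 3, 0, 3, 0]), (1211, [4, 3, 3, 0, 4, 3, 0, 3, 1]), (1212, [4, 3, 3, 0, 4, 3, 0, 3, 4]), (1213, [4, 3, 3, 0, 4, 3, 1, 3, 4]), (1214, [4, 3, 3, 0, 4, 3, 4, 3, 3]), (1215, [4, 3, 3, 1, 4, 3, 4, 3, 3]), (1216, [4, 3, 3, 4, 2, 4, 2, 2, 0]), (1217, [4, 3, 3, 4, 2, 4, 2, 2, 1]), (1218, [4, 3, 4, 2, 2, 1, 4, 2, 2]), (1219, [4, 3, 4, 2, 2, 1, 4, 2, 4]), (1220, [4, 3, 4, 2, 2, 2, 4, 2, 1]), (1221, [4, 3, 4, 3, 3, 4, 2, 2, 0]), (1222, [4, 3, 4, 3, 3, 4, 2, 2, 2]), (1223, [4, 3, 4, 3, 3, 4, 3, 3, 4]), (1224, [4, 3, 4, 3, 4, 2, 2, 2, 4]), (1225, [4, 3, 4, 3, 4, 3, 0, 2, 4]), (1226, [4, 3, 4, 3, 4, 3, 1, 2, 4]), (1227, [4, 3, 4, 3, 4, 3,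 4, 2, 2]), (1228, [0, 0, 4, 2, 2, 4, 2, 4, 2, 4]), (1229, [0, 0, 4, 2, 2, 4, 2, 4, 3, 4]), (1230, [0, 0, 4, 2, 4, 2, 2, 4, 2, 2]), (1231, [0, 0, 4, 2, 4, 2, 4, 2, 4, 3]), (1232, [0, 0, 4, 3, 4, 3, 3, 4, 3, 3]), (1233, [0, 0, 4, 3, 4, 3, 4, 3, 4, 2]), (1234, [0, 4, 2, 0, 4, 2, 2, 0, 3, 3]), (1235, [0, 4, 2, 0, 4, 2, 2, 0, 4, 2]), (1236, [0, 4, 2, 0, 4, 2, 2, 1, 3, 3]), (1237, [0, 4, 2, 0, 4, 2, 2, 1, 4, 2]), (1238, [0, 4, 2, 0, 4, 2, 4, 2, 0, 4]), (1239, [0, 4, 2, 0, 4, 2, 4, 2, 1, 4]), (1240, [0, 4, 2, 0, 4, 2, 4, 2, 4, 2]), (1241, [0, 4, 2, 1, 4, 2, 4, 2, 4, 2]), (1242, [0, 4, 2, 2, 0, 2, 0, 2, 0, 4]), (1243, [0, 4, 2, 2, 0, 2, 0, 2, 1, 4]), (1244, [0, 4, 2, 2, 0, 2, 0, 4, 2, 0]), (1245, [0, 4, 2,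 2, 0, 2, 0, 4, 2, 1]), (1246, [0, 4, 2, 2, 0, 2, 0, 4, 2, 2]), (1247, [0, 4, 2, 2, 0, 2, 0, 4, 3, 3]), (1248, [0, 4, 2, 2, 0, 2, 1, 4, 2, 2]), (1249, [0, 4, 2, 2, 0, 2, 1, 4, 3, 3]), (1250, [0, 4, 2, 2, 0, 2, 4, 2, 0, 2]), (1251, [0, 4, 2, 2, 0, 2, 4, 2, 1, 2]), (1252, [0, 4, 2, 2, 0, 2, 4, 2, 2, 0]), (1253, [0, 4, 2, 2, 0, 2, 4, 2, 2, 1]), (1254, [0, 4, 2, 2, 0, 2, 4, 2, 2, 2]), (1255, [0, 4, 2, 2, 0, 2, 4, 3, 4, 2]), (1256, [0, 4, 2, 2, 0, 4, 2, 0, 2, 0]), (1257, [0, 4, 2, 2, 0, 4, 2, 0, 2, 1]), (1258, [0, 4, 2, 2, 0, 4, 2, 0, 2, 4]), (1259, [0, 4, 2, 2, 0, 4, 2, 0, 3, 0]), (1260, [0, 4, 2, 2, 0, 4, 2, 0, 3, 1]), (1261, [0, 4, 2, 2, 0, 4, 2, 1, 2, 4]), (1262, [0, 4, 2, 2, 0, 4, 2, 4, 2, 0]), (1263,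 [0, 4, 2, 2, 0, 4, 2, 4, 2, 1]), (1264, [0, 4, 2, 2, 0, 4, 2, 4, 2, 2]), (1265, [0, 4, 2, 2, 1, 2, 4, 2, 2, 2]), (1266, [0, 4, 2, 2, 1, 2, 4, 3, 4, 2]), (1267, [0, 4, 2, 2, 1, 4, 2, 4, 2, 2]), (1268, [0, 4, 2, 2, 2, 0, 2, 0, 3, 4]), (1269, [0, 4, 2, 2, 2, 0, 2, 0, 4, 2]), (1270, [0, 4, 2, 2, 2, 0, 2, 1, 3, 4]), (1271, [0, 4, 2, 2, 2, 0, 2, 1, 4, 2]), (1272, [0, 4, 2, 2, 2, 0, 2, 1, 4, 3]), (1273, [0, 4, 2, 2, 2, 0, 2, 4, 2, 2]), (1274, [0, 4, 2, 2, 2, 0, 3, 0, 2, 4]), (1275, [0, 4, 2, 2, 2, 0, 3, 1, 2, 4]), (1276, [0, 4, 2, 2, 2, 0, 3, 1, 4, 2]), (1277, [0, 4, 2, 2, 2, 0, 3, 4, 3, 3]), (1278, [0, 4, 2, 2, 2, 0, 4, 2, 0, 3]), (1279, [0, 4, 2, 2, 2, 0, 4, 2, 0, 4]), (1280, [0, 4, 2, 2, 2, 0, 4, 2, 1,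 3]), (1281, [0, 4, 2, 2, 2, 0, 4, 2, 1, 4]), (1282, [0, 4, 2, 2, 2, 0, 4, 2, 4, 2]), (1283, [0, 4, 2, 2, 2, 0, 4, 3, 0, 2]), (1284, [0, 4, 2, 2, 2, 0, 4, 3, 1, 2]), (1285, [0, 4, 2, 2, 2, 0, 4, 3, 4, 3]), (1286, [0, 4, 2, 2, 2, 1, 2, 4, 2, 2]), (1287, [0, 4, 2, 2, 2, 1, 3, 4, 3, 3]), (1288, [0, 4, 2, 2, 2, 1, 4, 2, 4, 2]), (1289, [0, 4, 2, 2, 2, 1, 4, 3, 4, 3]), (1290, [0, 4, 2, 2, 2, 4, 2, 4, 3, 0]), (1291, [0, 4, 2, 2, 2, 4, 2, 4, 3, 1]), (1292, [0, 4, 2, 2, 2, 4, 2, 4, 3, 4]), (1293, [0, 4, 2, 2, 2, 4, 3, 4, 2, 4]), (1294, [0, 4, 2, 2, 4, 2, 0, 4, 2, 2]), (1295, [0, 4, 2, 2, 4, 2, 0, 4, 3, 3]), (1296, [0, 4, 2, 2, 4, 2, 1, 4, 2, 2]), (1297, [0, 4, 2, 2, 4, 2, 1, 4, 3, 3]), (1298, [0, 4, 2, 2, 4,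 3, 4, 2, 2, 4]), (1299, [0, 4, 2, 4, 2, 0, 2, 0, 3, 0]), (1300, [0, 4, 2, 4, 2, 0, 2, 0, 3, 1]), (1301, [0, 4, 2, 4, 2, 0, 2, 0, 4, 3]), (1302, [0, 4, 2, 4, 2, 0, 2, 1, 4, 3]), (1303, [0, 4, 2, 4, 2, 0, 2, 2, 0, 4]), (1304, [0, 4, 2, 4, 2, 0, 2, 2, 1, 4]), (1305, [0, 4, 2, 4, 2, 0, 2, 2, 4, 2]), (1306, [0, 4, 2, 4, 2, 0, 2, 4, 3, 3]), (1307, [0, 4, 2, 4, 2, 1, 2, 2, 4, 2]), (1308, [0, 4, 2, 4, 2, 1, 2, 4, 3, 3]), (1309, [0, 4, 2, 4, 2, 2, 0, 3, 0, 2]), (1310, [0, 4, 2, 4, 2, 2, 0, 3, 1, 2]), (1311, [0, 4, 2, 4, 2, 2, 2, 0, 2, 2]), (1312, [0, 4, 2, 4, 2, 2, 2, 1, 2, 2]), (1313, [0, 4, 2, 4, 2, 2, 4, 2, 0, 4]), (1314, [0, 4, 2, 4, 2, 2, 4, 2, 1, 4]), (1315, [0, 4, 2, 4, 2, 2, 4, 2, 2, 2]), (1316, [0,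 4, 2, 4, 2, 2, 4, 2, 2, 4]), (1317, [0, 4, 2, 4, 2, 4, 2, 2, 0, 4]), (1318, [0, 4, 2, 4, 2, 4, 2, 2, 1, 4]), (1319, [0, 4, 2, 4, 2, 4, 2, 2, 2, 4]), (1320, [0, 4, 2, 4, 2, 4, 2, 4, 3, 3]), (1321, [0, 4, 2, 4, 3, 3, 0, 4, 3, 4]), (1322, [0, 4, 2, 4, 3, 3, 1, 4, 3, 4]), (1323, [0, 4, 2, 4, 3, 3, 4, 3, 0, 2]), (1324, [0, 4, 2, 4, 3, 3, 4, 3, 0, 4]), (1325, [0, 4, 2, 4, 3, 3, 4, 3, 1, 2]), (1326, [0, 4, 2, 4, 3, 3, 4, 3, 1, 4]), (1327, [0, 4, 2, 4, 3, 4, 3, 3, 4, 3]), (1328, [0, 4, 3, 0, 4, 3, 3, 0, 2, 2]), (1329, [0, 4, 3, 0, 4, 3, 3, 1, 2, 2]), (1330, [0, 4, 3, 1, 4, 3, 4, 3, 4, 3]), (1331, [0, 4, 3, 3, 0, 3, 0, 3, 0, 4]), (1332, [0, 4, 3, 3, 0, 3, 0, 3, 1, 4]), (1333, [0, 4, 3, 3, 0, 3, 0, 4, 3, 0]),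 (1334, [0, 4, 3, 3, 0, 3, 0, 4, 3, 1]), (1335, [0, 4, 3, 3, 0, 3, 0, 4, 3, 3]), (1336, [0, 4, 3, 3, 0, 3, 1, 4, 3, 3]), (1337, [0, 4, 3, 3, 0, 4, 3, 0, 3, 0]), (1338, [0, 4, 3, 3, 0, 4, 3, 0, 3, 1]), (1339, [0, 4, 3, 3, 0, 4, 3, 0, 3, 4]), (1340, [0, 4, 3, 3, 0, 4, 3, 1, 3, 4]), (1341, [0, 4, 3, 3, 0, 4, 3, 4, 3, 3]), (1342, [0, 4, 3, 3, 1, 4, 3, 4, 3, 3]), (1343, [0, 4, 3, 4, 2, 2, 1, 4, 2, 4]), (1344, [0, 4, 3, 4, 3, 3, 4, 2, 2, 2]), (1345, [0, 4, 3, 4, 3, 3, 4, 3, 3, 4]), (1346, [0, 4, 3, 4, 3, 4, 2, 2, 2, 4]), (1347, [0, 4, 3, 4, 3, 4, 3, 4, 2, 2]), (1348, [1, 4, 2, 4, 2, 2, 4, 2, 2, 2]), (1349, [1, 4, 2, 4, 2, 2, 4, 2, 2, 4]), (1350, [1, 4, 2, 4, 2, 4, 2, 4, 3, 3]), (1351, [1, 4, 3, 4, 3, 3, 4,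 2, 2, 2]), (1352, [1, 4, 3, 4, 3, 3, 4, 3, 3, 4]), (1353, [1, 4, 3, 4, 3, 4, 3, 4, 2, 2]), (1354, [4, 2, 0, 4, 2, 2, 0, 3, 0, 4]), (1355, [4, 2, 0, 4, 2, 2, 0, 3, 1, 4]), (1356, [4, 2, 0, 4, 2, 2, 0, 3, 3, 4]), (1357, [4, 2, 0, 4, 2, 2, 4, 3, 4, 3]), (1358, [4, 2, 1, 4, 2, 2, 4, 3, 4, 3]), (1359, [4, 2, 2, 0, 2, 0, 3, 0, 2, 4]), (1360, [4, 2, 2, 0, 2, 0, 3, 1, 2, 4]), (1361, [4, 2, 2, 0, 2, 0, 3, 4, 3, 3]), (1362, [4, 2, 2, 0, 2, 0, 3, 4, 3, 4]), (1363, [4, 2, 2, 0, 2, 0, 4, 2, 2, 0]), (1364, [4, 2, 2, 0, 2, 0, 4, 2, 2, 1]), (1365, [4, 2, 2, 0, 2, 1, 3, 4, 3, 4]), (1366, [4, 2, 2, 2, 0, 2, 0, 3, 0, 4]), (1367, [4, 2, 2, 2, 0, 2, 0, 3, 1, 4]), (1368, [4, 2, 2, 2, 0, 2, 0, 3, 3, 4]), (1369, [4, 2, 2,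 2, 0, 2, 1, 3, 3, 4]), (1370, [4, 2, 2, 2, 0, 2, 4, 2, 2, 4]), (1371, [4, 2, 2, 2, 0, 3, 0, 2, 2, 4]), (1372, [4, 2, 2, 2, 0, 3, 1, 2, 2, 4]), (1373, [4, 2, 2, 2, 0, 3, 4, 3, 3, 4]), (1374, [4, 2, 2, 2, 0, 4, 2, 4, 2, 2]), (1375, [4, 2, 2, 2, 0, 4, 3, 4, 3, 3]), (1376, [4, 2, 2, 2, 1, 2, 4, 2, 2, 4]), (1377, [4, 2, 2, 2, 1, 3, 4, 3, 3, 4]), (1378, [4, 2, 2, 2, 1, 4, 2, 4, 2, 2]), (1379, [4, 2, 2, 2, 1, 4, 3, 4, 3, 3]), (1380, [4, 2, 2, 4, 2, 0, 2, 4, 2, 0]), (1381, [4, 2, 2, 4, 2, 0, 2, 4, 2, 1]), (1382, [4, 2, 2, 4, 2, 0, 4, 2, 2, 4]), (1383, [4, 2, 2, 4, 2, 1, 4, 2, 2, 4]), (1384, [4, 2, 2, 4, 3, 4, 3, 3, 0, 2]), (1385, [4, 2, 2, 4, 3, 4, 3, 3, 1, 2]), (1386, [4, 2, 4, 2, 0, 2, 4, 3, 3, 0]), (1387,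 [4, 2, 4, 2, 0, 2, 4, 3, 3, 1]), (1388, [4, 2, 4, 2, 1, 2, 4, 3, 3, 4]), (1389, [4, 2, 4, 2, 2, 4, 2, 2, 4, 3]), (1390, [4, 2, 4, 2, 4, 2, 4, 2, 2, 2]), (1391, [4, 2, 4, 2, 4, 2, 4, 3, 3, 0]), (1392, [4, 2, 4, 2, 4, 2, 4, 3, 3, 1]), (1393, [4, 2, 4, 3, 3, 4, 3, 0, 2, 0]), (1394, [4, 2, 4, 3, 3, 4, 3, 0, 2, 1]), (1395, [4, 3, 0, 4, 3, 3, 0, 2, 0, 4]), (1396, [4, 3, 0, 4, 3, 3, 0, 2, 1, 4]), (1397, [4, 3, 0, 4, 3, 3, 0, 2, 2, 4]), (1398, [4, 3, 0, 4, 3, 3, 4, 2, 4, 2]), (1399, [4, 3, 1, 4, 3, 3, 4, 2, 4, 2]), (1400, [4, 3, 3, 4, 2, 4, 2, 2, 0, 3]), (1401, [4, 3, 3, 4, 2, 4, 2, 2, 1, 3]), (1402, [4, 3, 4, 3, 4, 3, 4, 2, 2, 0]), (1403, [4, 3, 4, 3, 4, 3, 4, 2, 2, 1]), (1404, [0, 4, 2, 4, 2, 4, 2, 4, 3,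 3, 0]), (1405, [0, 4, 2, 4, 2, 4, 2, 4, 3, 3, 1]), (1406, [0, 4, 3, 4, 3, 4, 3, 4, 2, 2, 0]), (1407, [0, 4, 3, 4, 3, 4, 3, 4, 2, 2, 1])]),
  (3, [(7, [2]), (8, [3]), (16, [2, 2]), (20, [3, 3]), (24, [1, 2, 0]), (28, [1, 3, 0]), (42, [2, 2, 2]), (57, [2, 1, 2, 0]), (61, [1, 2, 0, 1, 2, 0]), (69, [1, 3, 0, 1, 3, 0]), (126, [1, 2, 0, 1, 2, 0, 2]), (127, [2, 2, 1, 3, 0]), (132, [1, 2, 0, 1, 2, 0, 1, 2, 0]), (145, [1, 3, 0, 1, 3, 0, 3]), (162, [2, 2, 1, 2, 0, 3, 1, 3, 0, 2, 2]), (165, [3, 3, 1, 3, 0, 2, 1, 2, 0, 3, 3]), (179, [2, 2, 1, 2, 0]), (227, [3, 3, 1, 3, 0]), (269, [3, 3, 1, 3, 0, 2, 1, 2, 0, 3]), (272, [1, 2, 0, 1, 2, 0, 2, 2]), (282, [1, 2, 0, 1, 2, 0, 1, 2, 0, 2]), (283, [1, 2, 0, 1, 2, 0, 1,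 2, 0, 3]), (317, [2, 2, 1, 2, 0, 3, 1, 3, 0, 2]), (361, [1, 3, 0, 1, 3, 0, 3, 1, 2, 0, 2, 1, 3, 0]), (373, [2, 2, 1, 2, 0, 2]), (374, [2, 2, 1, 2, 0, 3]), (377, [2, 2, 1, 2, 0, 1, 2, 0]), (395, [2, 2, 2, 1, 2, 0]), (398, [2, 2, 2, 1, 3, 0]), (452, [1, 2, 0, 1, 2, 0, 2, 1, 3, 0, 3, 1, 2, 0]), (463, [3, 3, 1, 3, 0, 2]), (464, [3, 3, 1, 3, 0, 3]), (516, [3, 3, 1, 3, 0, 2, 1, 2, 0]), (536, [2, 2, 1, 2, 0, 3, 1, 3, 0, 2, 1, 2, 0]), (566, [1, 2, 0, 1, 2, 0, 2, 1, 3, 0, 3, 1, 2, 0, 2]), (596, [2, 2, 1, 2, 0, 3, 1, 3, 0]), (632, [2, 2, 1, 2, 0, 3, 1, 3, 0, 2, 1, 2, 0, 2]), (655, [1, 3, 0, 1, 3, 0, 3, 1, 2, 0, 2]), (703, [2, 2, 2, 1, 2, 0, 2]), (704, [2, 2, 2, 1, 2, 0, 3]), (710, [2, 2, 2, 1, 3, 0, 2]), (711,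 [2, 2, 2, 1, 3, 0, 3]), (789, [1, 2, 0, 1, 2, 0, 2, 1, 3, 0, 3]), (869, [1, 2, 0, 1, 2, 0, 2, 1, 2, 0]), (872, [1, 2, 0, 1, 2, 0, 2, 1, 3, 0]), (996, [1, 3, 0, 1, 3, 0, 3, 1, 2, 0]), (998, [1, 3, 0, 1, 3, 0, 3, 1, 3, 0]), (1102, [1, 2, 0, 1, 2, 0, 2, 1, 3, 0, 2]), (1110, [1, 2, 0, 1, 2, 0, 1, 2, 0, 2, 1, 3, 0])]),
  (7, [(8, [2, 1, 2, 0, 2, 2, 2, 1, 2, 0, 2]), (16, [2, 1, 2, 0, 2, 1, 3, 0, 2, 1, 2, 0, 3, 3]), (20, [3, 1, 2, 0, 1, 2, 0, 3, 1, 3, 0]), (24, [2, 2, 1, 3, 0, 2, 1, 2, 0, 1, 2, 0, 2, 2, 1, 3, 0, 1, 3, 0]), (28, [3, 1, 2, 0, 3]), (42, [2, 2, 1, 3, 0, 3, 1, 2, 0, 1, 2, 0, 2, 1, 3, 0, 2]), (61, [2, 1, 3, 0, 2]), (69, [2, 1, 2, 0, 2, 2, 2, 1, 2, 0, 1, 2, 0, 3]), (126, [3, 1, 3, 0, 1, 3, 0, 3,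 3, 1, 2, 0, 3]), (132, [2, 2, 1, 2, 0, 1, 2, 0, 2, 1, 2, 0, 1, 2, 0, 2, 2]), (145, [3, 1, 3, 0, 1, 3, 0, 3]), (179, [1, 3, 0, 2, 2, 2, 1, 2, 0]), (227, [2, 2, 1, 3, 0, 3, 1, 2, 0, 3, 1, 3, 0, 3]), (269, [2, 2, 1, 3, 0, 3, 1, 2, 0, 2, 1, 3, 0]), (272, [3, 1, 2, 0, 1, 2, 0, 2, 2, 1, 3, 0]), (282, [3, 1, 2, 0, 1, 2, 0, 1, 2, 0, 2]), (283, [1, 2, 0, 1, 2, 0, 3, 3, 1, 2, 0, 3, 3, 1, 3, 0]), (317, [2, 1, 2, 0, 3, 1, 3, 0, 2, 1, 2, 0, 2, 2, 1, 3, 0]), (361, [2, 2, 1, 3, 0, 3, 1, 2, 0, 2, 2, 2, 1, 2, 0]), (373, [2, 1, 2, 0, 2, 2, 1, 3, 0]), (374, [2, 2, 1, 3, 0, 3, 1, 2, 0, 1, 2, 0]), (377, [2, 1, 2, 0, 1, 2, 0, 2]), (395, [2, 1, 2, 0, 3, 1, 3, 0, 3, 1, 2, 0, 3]), (398, [1, 3, 0, 3, 3, 1, 3, 0]), (452, [1,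 2, 0, 1, 2, 0, 3, 1, 3, 0, 2, 1, 2, 0, 1, 2, 0, 2, 1, 2, 0]), (463, [1, 3, 0, 3, 3, 1, 2, 0, 3, 3, 1, 2, 0, 1, 2, 0]), (464, [2, 1, 2, 0, 2, 1, 2, 0]), (516, [2, 1, 2, 0, 3, 3, 1, 2, 0]), (536, [2, 2, 1, 3, 0, 3, 1, 2, 0, 3, 3, 1, 3, 0]), (566, [2, 1, 2, 0, 3, 1, 3, 0, 2, 1, 2, 0, 2, 1, 2, 0]), (596, [2, 1, 2, 0, 3, 1, 3, 0]), (655, [3, 1, 2, 0, 3, 1, 3, 0, 3, 1, 2, 0, 2]), (704, [2, 1, 2, 0, 1, 2, 0, 2, 1, 3, 0, 3, 3, 1, 3, 0]), (710, [2, 1, 3, 0, 2, 1, 2, 0, 2, 1, 3, 0, 3]), (789, [2, 2, 1, 3, 0, 1, 3, 0, 2, 2]), (869, [3, 1, 2, 0, 1, 2, 0, 2, 1, 2, 0]), (872, [2, 1, 2, 0, 3, 1, 3, 0, 1, 3, 0, 3, 1, 2, 0, 2]), (996, [3, 1, 3, 0, 1, 3, 0, 3, 3, 1, 3, 0, 2, 1, 2, 0]), (998, [2, 1, 3, 0, 2, 2, 1, 2,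 0, 3, 3, 1, 2, 0]), (1102, [2, 1, 3, 0, 2, 2, 1, 3, 0, 2]), (1110, [2, 1, 2, 0, 1, 2, 0, 2, 1, 3, 0, 3, 1, 2, 0, 2])]),
  (8, [(16, [2, 1, 3, 0, 1, 3, 0, 2, 1, 2, 0]), (20, [3, 1, 3, 0, 3, 3, 1, 2, 0, 3, 1, 3, 0, 2, 1, 2, 0]), (42, [1, 2, 0, 2, 2, 2, 1, 3, 0, 1, 3, 0, 3, 1, 2, 0, 1, 2, 0, 3]), (69, [1, 2, 0, 3, 1, 3, 0, 3, 1, 3, 0, 1, 3, 0, 3, 1, 2, 0, 2, 1, 2, 0, 1, 2, 0]), (126, [1, 2, 0, 3, 1, 3, 0, 1, 3, 0, 2, 2, 2, 1, 2, 0, 1, 2, 0, 2, 1, 3, 0]), (132, [1, 3, 0, 2, 2, 1, 2, 0, 2, 2, 1, 3, 0, 1, 3, 0, 2, 2, 1, 3, 0]), (145, [3, 1, 2, 0, 3, 3, 1, 3, 0, 3, 3, 1, 2, 0]), (179, [3, 1, 3, 0, 3, 1, 3, 0, 1, 3, 0, 3, 1, 2, 0, 1, 2, 0, 3]), (227, [1, 2, 0, 2, 2, 2, 1, 3, 0]), (272, [1, 3, 0, 2, 2, 1, 2,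 0, 1, 2, 0, 1, 2, 0, 3, 3, 1, 2, 0]), (282, [1, 3, 0, 2, 2, 1, 2, 0, 1, 2, 0, 2, 1, 3, 0, 3, 1, 2, 0, 1, 2, 0]), (283, [1, 3, 0, 3, 1, 2, 0, 1, 2, 0, 3]), (317, [3, 3, 1, 2, 0, 1, 2, 0, 3, 1, 3, 0, 1, 3, 0, 2, 2, 2, 1, 2, 0, 2]), (361, [3, 3, 1, 2, 0, 1, 2, 0, 3, 1, 3, 0, 1, 3, 0, 2, 2, 1, 3, 0]), (373, [3, 1, 3, 0, 3, 1, 3, 0]), (374, [3, 3, 1, 2, 0, 1, 2, 0, 3, 1, 3, 0, 1, 3, 0, 3, 1, 3, 0]), (377, [3, 1, 3, 0, 2, 2, 2, 1, 2, 0, 2]), (395, [1, 3, 0, 1, 3, 0, 3, 1, 3, 0, 2, 1, 2, 0, 3, 1, 3, 0, 3, 1, 3, 0, 1, 3, 0]), (452, [1, 3, 0, 1, 3, 0, 2, 2, 1, 3, 0, 2, 1, 2, 0, 2, 2, 1, 3, 0, 2]), (463, [1, 2, 0, 2, 2, 1, 2, 0, 3, 1, 3, 0, 2, 1, 2, 0]), (516, [1, 3, 0, 3, 1, 2, 0, 2, 1, 3, 0, 3, 3, 1, 3, 0]),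 (566, [3, 1, 3, 0, 2, 1, 2, 0, 3, 1, 3, 0, 2, 1, 2, 0]), (596, [3, 1, 3, 0, 2, 2, 1, 3, 0]), (655, [2, 1, 2, 0, 3, 1, 3, 0, 1, 3, 0, 3, 3, 1, 3, 0, 2, 1, 2, 0, 3, 1, 3, 0]), (710, [3, 1, 3, 0, 3, 3, 1, 3, 0, 2, 1, 2, 0, 3, 1, 3, 0, 2]), (869, [2, 1, 3, 0, 2, 1, 2, 0, 2, 2, 2, 1, 3, 0, 3, 1, 2, 0, 3]), (872, [1, 3, 0, 2, 2, 1, 2, 0, 2, 2, 1, 3, 0, 1, 3, 0, 3, 1, 3, 0]), (996, [3, 1, 2, 0, 3, 3, 1, 3, 0, 3, 1, 2, 0, 3, 3, 1, 2, 0, 1, 2, 0]), (1102, [3, 3, 1, 2, 0, 3, 1, 3, 0, 2, 2, 2, 1, 2, 0, 1, 2, 0, 2, 1, 3, 0])]),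
  (16, [(361, [2, 1, 3, 0, 3, 1, 2, 0, 2, 1, 3, 0, 3, 1, 2, 0])])]

/-- the first level of the chain of the row 0 -/
def ch0a : List (Nat × List (Nat × List Nat)) := [ch0.headD (0, [])]

theorem chk_ch0a : chkChain px 1408 mg0 [] ch0a = true := by decide +kernel

theorem sizes_ch0a : sizes ch0a = 1408 := by decide +kernel

theorem allBase_ch0a : allBase [] ch0a = [0] := by decide +kernel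

theorem allBase_ch0 : allBase [] ch0 = [16, 8, 7, 3, 0] := by decide +kernel

theorem chk_ch0 : chkChain px 1408 mg0 [] ch0 = true := by decide +kernel

theorem sizes_ch0 : sizes ch0 = 177408000 := by decide +kernel

theorem mg0_lt : ∀ w ∈ mg0, ∀ c ∈ w, c < 5 := by decide +kernel

end Cfsg.Agent.Lib.Helper2.HNS
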