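import Cfsg.Agent.Lib.Helper2.HNDce3b
import Cfsg.Agent.Lib.Helper2.HNS.Tab
set_option autoImplicit false
set_option maxRecDepth 1000000
set_option Elab.async false
open Cfsg.Agent.Lib.Helper2.HNDce
namespace Cfsg.Agent.Lib.Helper2.HNS

/-! # A chain of stabilisers for the subgroup of the row 1 -/

/-- the words generating the subgroup of the row 1 -/
def mg1 : List (List Nat) := [[2], [1, 2, 0]]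

/-- the chain of the row 1 -/
def ch1 : List (Nat × List (Nat × List Nat)) := [
  (0, []),
  (3, [(7, [0]), (8, [1]), (16, [0, 0]), (20, [1, 1]), (24, [2]), (28, [3]), (42, [0, 0, 0]), (57, [0, 2]), (61, [2, 2]), (69, [3, 3]), (126, [2, 2, 0]), (127, [0, 0, 3]), (132, [2, 2, 2]), (145, [3, 3, 1]), (162, [0, 0, 2, 1, 3, 0, 0]), (165, [1, 1, 3, 0, 2, 1, 1]), (179, [0, 0, 2]), (227, [1, 1, 3]), (269, [1, 1, 3, 0, 2, 1]), (272, [2, 2, 0, 0]), (282, [2, 2, 2, 0]), (283, [2, 2, 2, 1]), (317, [0, 0, 2, 1, 3, 0]), (361, [3, 3, 1, 2, 0, 3]), (373, [0, 0, 2, 0]), (374, [0, 0, 2, 1]), (377, [0, 0, 2, 2]), (395, [0, 0, 0, 2]), (398, [0, 0, 0, 3]), (452, [2, 2, 0, 3, 1, 2]), (463, [1, 1, 3, 0]), (464, [1, 1, 3, 1]), (516, [1, 1, 3, 0, 2]), (536, [0, 0, 2, 1, 3, 0, 2]), (566,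 [2, 2, 0, 3, 1, 2, 0]), (596, [0, 0, 2, 1, 3]), (632, [0, 0, 2, 1, 3, 0, 2, 0]), (655, [3, 3, 1, 2, 0]), (703, [0, 0, 0, 2, 0]), (704, [0, 0, 0, 2, 1]), (710, [0, 0, 0, 3, 0]), (711, [0, 0, 0, 3, 1]), (789, [2, 2, 0, 3, 1]), (869, [2, 2, 0, 2]), (872, [2, 2, 0, 3]), (996, [3, 3, 1, 2]), (998, [3, 3, 1, 3]), (1102, [2, 2, 0, 3, 0]), (1110, [2, 2, 2, 0, 3])]),
  (7, [(8, [0, 2, 0, 0, 0, 2, 0]), (16, [0, 2, 0, 3, 0, 2, 1, 1]), (20, [1, 2, 2, 1, 3]), (24, [0, 0, 3, 0, 2, 2, 0, 0, 3, 3]), (28, [1, 2, 1]), (42, [0, 0, 3, 1, 2, 2, 0, 3, 0]), (61, [0, 3, 0]), (69, [0, 2, 0, 0, 0, 2, 2, 1]), (126, [1, 3, 3, 1, 1, 2, 1]), (132, [0, 0, 2, 2, 0, 2, 2, 0, 0]), (145, [1, 3, 3, 1]), (179, [3, 0, 0, 0, 2]), (227, [0, 0, 3, 1, 2, 1, 3, 1]), (269, [0, 0, 3, 1, 2, 0, 3]), (272,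 [1, 2, 2, 0, 0, 3]), (282, [1, 2, 2, 2, 0]), (283, [2, 2, 1, 1, 2, 1, 1, 3]), (317, [0, 2, 1, 3, 0, 2, 0, 0, 3]), (361, [0, 0, 3, 1, 2, 0, 0, 0, 2]), (373, [0, 2, 0, 0, 3]), (374, [0, 0, 3, 1, 2, 2]), (377, [0, 2, 2, 0]), (395, [0, 2, 1, 3, 1, 2, 1]), (398, [3, 1, 1, 3]), (452, [2, 2, 1, 3, 0, 2, 2, 0, 2]), (463, [3, 1, 1, 2, 1, 1, 2, 2]), (464, [0, 2, 0, 2]), (516, [0, 2, 1, 1, 2]), (536, [0, 0, 3, 1, 2, 1, 1, 3]), (566, [0, 2, 1, 3, 0, 2, 0, 2]), (596, [0, 2, 1, 3]), (655, [1, 2, 1, 3, 1, 2, 0]), (704, [0, 2, 2, 0, 3, 1, 1, 3]), (710, [0, 3, 0, 2, 0, 3, 1]), (789, [0, 0, 3, 3, 0, 0]), (869, [1, 2, 2, 0, 2]), (872, [0, 2, 1, 3, 3, 1, 2, 0]), (996, [1, 3, 3, 1, 1, 3, 0, 2]), (998, [0, 3, 0, 0, 2, 1, 1, 2]), (1102, [0, 3, 0, 0, 3, 0]), (1110, [0, 2, 2, 0, 3, 1,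 2, 0])]),
  (8, [(16, [0, 3, 3, 0, 2]), (20, [1, 3, 1, 1, 2, 1, 3, 0, 2]), (42, [2, 0, 0, 0, 3, 3, 1, 2, 2, 1]), (69, [2, 1, 3, 1, 3, 3, 1, 2, 0, 2, 2]), (126, [2, 1, 3, 3, 0, 0, 0, 2, 2, 0, 3]), (132, [3, 0, 0, 2, 0, 0, 3, 3, 0, 0, 3]), (145, [1, 2, 1, 1, 3, 1, 1, 2]), (179, [1, 3, 1, 3, 3, 1, 2, 2, 1]), (227, [2, 0, 0, 0, 3]), (272, [3, 0, 0, 2, 2, 2, 1, 1, 2]), (282, [3, 0, 0, 2, 2, 0, 3, 1, 2, 2]), (283, [3, 1, 2, 2, 1]), (317, [1, 1, 2, 2, 1, 3, 3, 0, 0, 0, 2, 0]), (361, [1, 1, 2, 2, 1, 3, 3, 0, 0, 3]), (373, [1, 3, 1, 3]), (374, [1, 1, 2, 2, 1, 3, 3, 1, 3]), (377, [1, 3, 0, 0, 0, 2, 0]), (395, [3, 3, 1, 3, 0, 2, 1, 3, 1, 3, 3]), (452, [3, 3, 0, 0, 3, 0, 2, 0, 0, 3, 0]), (463, [2, 0, 0, 2, 1, 3, 0, 2]), (516, [3, 1, 2, 0, 3, 1, 1, 3]), (566, [1, 3, 0, 2,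 1, 3, 0, 2]), (596, [1, 3, 0, 0, 3]), (655, [0, 2, 1, 3, 3, 1, 1, 3, 0, 2, 1, 3]), (710, [1, 3, 1, 1, 3, 0, 2, 1, 3, 0]), (869, [0, 3, 0, 2, 0, 0, 0, 3, 1, 2, 1]), (872, [3, 0, 0, 2, 0, 0, 3, 3, 1, 3]), (996, [1, 2, 1, 1, 3, 1, 2, 1, 1, 2, 2]), (1102, [1, 1, 2, 1, 3, 0, 0, 0, 2, 2, 0, 3])]),
  (16, [(361, [0, 3, 1, 2, 0, 3, 1, 2])])]

theorem chk_ch1 : chkChain px 1408 mg1 [] ch1 = true := by decide +kernel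

theorem sizes_ch1 : sizes ch1 = 126000 := by decide +kernel

theorem mg1_lt : ∀ w ∈ mg1, ∀ c ∈ w, c < 5 := by decide +kernel

end Cfsg.Agent.Lib.Helper2.HNS
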