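import Cfsg.Agent.Lib.Helper2.HNDce3b
import Cfsg.Agent.Lib.Helper2.HNS.Tab
set_option autoImplicit false
set_option maxRecDepth 1000000
set_option Elab.async false
open Cfsg.Agent.Lib.Helper2.HNDce
namespace Cfsg.Agent.Lib.Helper2.HNS

/-! # A chain of stabilisers for the subgroup of the row 2 -/

/-- the words generating the subgroup of the row 2 -/
def mg2 : List (List Nat) := [[2, 1, 3, 0, 2], [3, 1, 3, 0, 1, 3, 0, 3], [1, 2, 0, 2, 1, 3, 0, 3], [1, 4, 1, 1]]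

/-- the chain of the row 2 -/
def ch2 : List (Nat × List (Nat × List Nat)) := [
  (0, [(5, [6])]),
  (3, []),
  (7, [(8, [3, 3]), (16, [0, 0, 4]), (20, [1, 1]), (24, [3, 3, 0]), (28, [1]), (42, [2, 4, 0, 5]), (61, [0]), (69, [3, 0, 2]), (126, [2, 1]), (132, [1, 3, 5, 1]), (145, [2]), (179, [0, 2, 2]), (227, [3, 0, 3]), (269, [2, 4, 0]), (272, [0, 0, 2]), (282, [1, 3]), (283, [2, 1, 1]), (317, [2, 4, 1]), (361, [2, 1, 5, 1]), (373, [3, 0]), (374, [0, 2, 2, 4]), (377, [3]), (395, [5, 1]), (398, [0, 2, 5]), (452, [1, 3, 5, 0]), (463, [5, 1, 4]), (464, [0, 2]), (516, [5, 0]), (536, [1, 3, 0, 4]), (566, [2, 4]), (596, [5]), (655, [0, 3, 3]), (704, [0, 0, 0]), (710, [0, 4]), (789, [1, 3, 0]), (869, [0, 3]), (872, [2, 1, 5]), (996, [1, 3, 5]), (998, [0, 3, 0]), (1102, [0, 0]), (1110, [0, 4, 0])]),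
  (8, [(16, [1, 4, 0, 0]), (20, [1, 1, 4, 2, 4, 0]), (42, [0, 0, 0, 3, 5, 0]), (69, [4, 6, 3, 5, 6]), (126, [1, 2, 4, 0]), (132, [1, 2, 5, 1, 4, 0]), (145, [1, 2, 5, 0]), (179, [0, 0, 2, 4, 2, 1]), (227, [0, 6, 2, 6]), (272, [0, 0, 3, 4]), (282, [2, 5, 1, 2, 4, 0]), (283, [1, 1, 5, 0]), (317, [1, 2, 1, 3, 5, 0]), (361, [0, 5, 1, 4, 2, 1]), (373, [2, 5]), (374, [1, 1, 5, 0, 2, 5]), (377, [0, 3, 4, 1]), (395, [0, 0, 0, 4, 2, 4]), (452, [3, 5, 1, 2]), (463, [1, 3, 3, 0, 4]), (516, [0, 2, 1, 4, 2]), (566, [4, 0, 3, 0, 4]), (596, [1, 1, 4, 0]), (655, [5, 6, 2, 4, 6]), (710, [4, 1, 3, 5]), (869, [1, 1, 3, 0]), (872, [0, 4, 1, 5, 1, 1]), (996, [3, 0, 4, 2]), (1102, [4, 1, 3, 3])]),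
  (16, [(361, [1, 4, 4, 0])])]

theorem chk_ch2 : chkChain px 1408 mg2 [] ch2 = true := by decide +kernel

theorem sizes_ch2 : sizes ch2 = 5040 := by decide +kernel

theorem mg2_lt : ∀ w ∈ mg2, ∀ c ∈ w, c < 5 := by decide +kernel

end Cfsg.Agent.Lib.Helper2.HNS
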