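import Cfsg.Agent.Lib.Helper2.HNDce3b
import Cfsg.Agent.Lib.Helper2.HNS.Tab
set_option autoImplicit false
set_option maxRecDepth 1000000
set_option Elab.async false
open Cfsg.Agent.Lib.Helper2.HNDce
namespace Cfsg.Agent.Lib.Helper2.HNS

/-! # A chain of stabilisers for the subgroup of the row 4 -/

/-- the words generating the subgroup of the row 4 -/
def mg4 : List (List Nat) := [[1, 2, 0, 2, 1, 2, 0, 2], [2, 1, 3, 0, 1, 3, 0, 2, 1, 2, 0], [3, 1, 2, 0, 2, 1, 2, 0, 2, 2], [3, 1, 3, 0, 2, 2, 1, 3, 0], [4, 3, 4, 2, 1, 4, 3, 1, 2, 0], [2, 2, 1, 2, 2, 1, 2, 1, 3, 3, 3, 0, 0, 4, 0, 1, 2, 0, 2, 1, 3, 0, 3, 0, 0, 4, 0, 3, 4, 2, 1, 4, 1, 2, 0, 2, 1, 3, 0, 3, 3, 1, 3, 0, 3, 3]]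

/-- the chain of the row 4 -/
def ch4 : List (Nat × List (Nat × List Nat)) := [
  (0, [(12, [8, 10]), (17, [10]), (165, [8])]),
  (3, [(24, [4, 11, 11]), (464, [4]), (704, [4, 6]), (998, [4, 6, 3]), (1110, [4, 7])]),
  (7, []),
  (8, [(16, [2]), (20, [0, 2]), (42, [0, 6, 3]), (69, [2, 11, 4, 10]), (126, [3, 0, 7, 2]), (132, [3, 0, 2]), (145, [8, 0, 8]), (179, [0, 3]), (227, [0, 6]), (272, [10, 6, 11]), (282, [0, 2, 0]), (283, [3]), (317, [3, 0, 7]), (361, [3, 6]), (373, [0]), (374, [3, 0]), (377, [0, 7]), (395, [0, 7, 2]), (452, [0, 3, 6]), (463, [0, 3, 0]), (516, [3, 0, 6]), (566, [3, 7]), (596, [6]), (655, [0, 2, 7]), (710, [0, 2, 6]), (869, [10, 4, 11]), (872, [0, 2, 7, 2]), (996, [10, 3, 11]), (1102, [0, 2, 0, 7])]),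
  (16, [(361, [2, 6])])]

theorem chk_ch4 : chkChain px 1408 mg4 [] ch4 = true := by decide +kernel

theorem sizes_ch4 : sizes ch4 = 1440 := by decide +kernel

theorem mg4_lt : ∀ w ∈ mg4, ∀ c ∈ w, c < 5 := by decide +kernel

end Cfsg.Agent.Lib.Helper2.HNS
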