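import Cfsg.Agent.Lib.Helper2.HNDce3b
import Cfsg.Agent.Lib.Helper2.HNS.Tab
set_option autoImplicit false
set_option maxRecDepth 1000000
set_option Elab.async false
open Cfsg.Agent.Lib.Helper2.HNDce
namespace Cfsg.Agent.Lib.Helper2.HNS

/-! # A chain of stabilisers for the subgroup of the row 5 -/

/-- the words generating the subgroup of the row 5 -/
def mg5 : List (List Nat) := [[1, 3, 0, 1, 3, 0, 3, 1, 3, 0, 3, 1, 2, 0], [2, 2, 1, 2, 0, 1, 2, 0, 3, 3, 1, 3, 0], [2, 1, 3, 0, 2, 2, 2, 1, 2, 0, 3], [4, 3, 1, 3, 1, 3, 1, 3, 3, 1, 3, 1, 3, 3, 3, 2, 1, 2, 0, 3, 1, 3, 0, 2, 1, 2, 0, 1, 2, 0, 2, 0, 0, 4, 0, 3, 1, 3, 0, 1, 3, 0, 3, 0, 3, 1, 3, 3, 4, 1, 2, 1]]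

/-- the chain of the row 5 -/
def ch5 : List (Nat × List (Nat × List Nat)) := [
  (0, [(99, [6])]),
  (3, [(8, [2, 0, 2]), (16, [2, 2]), (28, [0, 4, 3]), (57, [0, 4]), (145, [2, 4, 2]), (179, [2]), (269, [3, 3]), (282, [3]), (283, [2, 6, 6]), (373, [0, 3]), (374, [4]), (398, [2, 4]), (463, [3, 0]), (464, [2, 0, 3]), (536, [0, 6, 6]), (566, [3, 0, 4]), (596, [4, 2]), (632, [4, 0]), (655, [7, 7]), (704, [3, 6, 6]), (789, [0, 3, 3]), (998, [0]), (1102, [2, 0]), (1110, [6, 6])]),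
  (7, [(227, [0, 2, 4]), (395, [6, 0, 7]), (869, [3, 7, 4, 6]), (996, [7, 4, 3, 7])]),
  (8, [(566, [0, 4, 2, 7, 7])]),
  (16, [])]

theorem chk_ch5 : chkChain px 1408 mg5 [] ch5 = true := by decide +kernel

theorem sizes_ch5 : sizes ch5 = 500 := by decide +kernel

theorem mg5_lt : ∀ w ∈ mg5, ∀ c ∈ w, c < 5 := by decide +kernel

end Cfsg.Agent.Lib.Helper2.HNS
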