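import Cfsg.Agent.Lib.Helper2.HNDce3b
import Cfsg.Agent.Lib.Helper2.HNS.Tab
set_option autoImplicit false
set_option maxRecDepth 1000000
set_option Elab.async false
open Cfsg.Agent.Lib.Helper2.HNDce
namespace Cfsg.Agent.Lib.Helper2.HNS

/-! # A chain of stabilisers for the subgroup of the row 6 -/

/-- the words generating the subgroup of the row 6 -/
def mg6 : List (List Nat) := [[1, 2, 0, 2, 1, 3, 0, 3, 2, 1, 2, 0, 1, 2, 0, 2], [2, 1, 3, 0, 2, 2, 1, 2, 0, 3, 1, 3, 0, 3, 1, 3, 0, 1, 3, 0, 3, 3, 1, 2, 0, 3], [3, 1, 2, 0, 3, 3, 1, 3, 0, 1, 3, 0, 3, 2, 1, 3, 0, 2, 2, 1, 3, 0, 2], [3, 4, 2, 1, 1], [0, 3, 4, 2, 4, 3, 0, 0, 4, 0, 3, 1, 3, 0, 1, 3, 0, 3, 3, 1, 3, 0, 1, 3, 0, 3]]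

/-- the chain of the row 6 -/
def ch6 : List (Nat × List (Nat × List Nat)) := [
  (0, [(17, [6, 8]), (22, [6]), (257, [8])]),
  (3, []),
  (7, []),
  (8, [(16, [0, 2]), (20, [0, 4, 2]), (42, [0, 2, 4, 2]), (69, [4, 2]), (126, [4, 2, 0]), (132, [2, 4, 2]), (145, [0, 2, 4]), (179, [4, 2, 4]), (227, [0, 2, 0]), (272, [8, 4, 9]), (282, [8, 8]), (283, [0, 9, 9, 0]), (317, [2, 9, 9]), (361, [2, 4, 8, 8]), (373, [0]), (374, [0, 9, 9]), (377, [2]), (395, [2, 4]), (452, [4, 2, 4, 2]), (463, [9, 9]), (516, [2, 8, 8]), (566, [8, 2, 9]), (596, [2, 0]), (655, [2, 0, 4]), (710, [0, 4, 0]), (869, [4]), (872, [4, 9, 9]), (996, [2, 4, 0]), (1102, [0, 4])]),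
  (16, [(361, [4, 0, 4])])]

theorem chk_ch6 : chkChain px 1408 mg6 [] ch6 = true := by decide +kernel

theorem sizes_ch6 : sizes ch6 = 240 := by decide +kernel

theorem mg6_lt : ∀ w ∈ mg6, ∀ c ∈ w, c < 5 := by decide +kernel

end Cfsg.Agent.Lib.Helper2.HNS
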