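import Cfsg.Agent.Lib.Helper2.HNDce3b
import Cfsg.Agent.Lib.Helper2.HNS.Tab
set_option autoImplicit false
set_option maxRecDepth 1000000
set_option Elab.async false
open Cfsg.Agent.Lib.Helper2.HNDce
namespace Cfsg.Agent.Lib.Helper2.HNS

/-! # A chain of stabilisers for the subgroup of the row 7 -/

/-- the words generating the subgroup of the row 7 -/
def mg7 : List (List Nat) := [[1, 2, 0, 3, 3, 1, 2, 0, 2, 1, 3, 0, 3, 1, 2, 0, 1, 2, 0, 3], [2, 1, 3, 0, 1, 3, 0, 2, 1, 2, 0, 2, 2, 1, 2, 0, 2, 2, 1, 2, 0, 3, 1, 3, 0, 4, 0, 3, 4, 2, 1, 4, 1, 1, 2, 1, 2, 0, 3, 1, 3, 0, 1, 4, 1, 1, 2, 2, 2, 0, 3, 0, 3, 3, 0, 3, 3, 4, 3, 4, 2, 1, 4, 3, 1, 2, 0, 3, 3, 1, 3, 0, 3, 1, 3, 0, 2, 1, 3, 0, 2, 4, 0, 3, 4, 2, 4, 3, 1, 3, 0, 3, 1, 3, 0], [4, 2, 4, 3, 4, 1, 1], [3, 1, 2, 1, 2, 1, 2,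 2, 1, 3, 3, 4, 3, 2, 2, 1, 2, 2, 1, 2, 1, 3, 3, 3, 0, 0, 4, 0, 1, 2, 0, 2, 1, 3, 0, 3, 0, 0, 4, 0, 3, 4, 2, 1, 4, 1, 2, 0, 2, 1, 3, 0, 3, 3, 1, 3, 0, 3, 3, 1, 2, 0, 3, 3, 1, 2, 0, 2, 3, 1, 3, 0, 3, 1, 3, 0]]

/-- the chain of the row 7 -/
def ch7 : List (Nat × List (Nat × List Nat)) := [
  (0, [(4, [6, 6, 4, 6, 6, 6]), (7, [2, 6, 6, 4, 7, 7]), (16, [2, 6, 4, 6]), (17, [2]), (18, [6, 6, 2, 4, 7, 7]), (19, [7, 0, 4, 6]), (22, [6, 0, 4, 7]), (40, [7, 4, 6, 0]), (41, [2, 6, 4, 7, 0]), (44, [2, 7, 7, 4, 7]), (46, [2, 6, 2, 7]), (47, [6, 0, 7, 7, 2, 6]), (53, [6, 0, 6, 4]), (54, [7, 0, 6, 6, 0, 7]), (71, [2, 6, 0, 6]), (73, [2, 7, 7]), (78, [7, 0, 6, 6, 6]), (80, [2, 6, 6, 6, 4]), (91, [7, 2]), (92, [7, 7, 0, 6]), (93, [7, 4, 7, 2, 6]), (95, [6, 6, 2, 7, 7]), (99, [7, 4,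 7, 0]), (101, [7, 4, 7, 2, 6, 6]), (109, [7, 0, 6, 0]), (110, [6, 6, 4, 7, 7]), (111, [6, 6, 6, 2, 4]), (112, [2, 7, 7, 0]), (117, [2, 6, 6]), (137, [4, 6, 4, 6]), (138, [2, 6, 6, 0]), (154, [7, 7, 7, 0, 7]), (155, [4, 6, 6, 6, 0, 7]), (166, [6, 0, 7, 4, 6]), (167, [7, 0, 7, 7]), (168, [2, 6, 6, 2, 7, 7]), (169, [6, 2, 7]), (173, [2, 6, 4, 7]), (174, [6, 6, 6, 4, 6, 6]), (175, [6, 0, 6, 0, 7, 7]), (177, [7, 4, 6]), (180, [7, 0, 2]), (182, [7, 0, 2, 6]), (185, [4, 7, 7, 4, 6]), (187, [4, 6, 6, 4, 7, 7]), (198, [7, 4, 7, 0, 6]), (199, [2, 6, 2, 6, 6, 6]), (200, [2, 7, 2]), (204, [6, 4, 6, 0, 7, 7]), (216, [6, 6, 0, 7, 4, 7]), (223, [2, 6, 6, 0, 2]), (224, [6, 0, 2, 6]), (232, [6, 2, 7, 2]), (233, [7, 2, 6, 6, 0, 7]), (235, [7, 2, 7]), (236, [7, 7, 0]), (239, [2, 4, 7,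 7, 0, 6]), (240, [4, 6, 6, 2]), (241, [7, 4, 6, 0, 7]), (242, [2, 4, 7, 7, 7, 4]), (243, [6, 6, 6, 6, 0]), (244, [6, 4, 7, 7]), (248, [4, 7]), (250, [6, 0, 7, 7, 0, 6]), (252, [2, 6, 2, 6, 6]), (254, [4]), (256, [6, 0, 7, 2]), (257, [6, 2, 7, 4]), (270, [2, 6]), (271, [7, 0, 6, 6, 0]), (273, [2, 6, 6, 4, 7]), (278, [6, 0, 4]), (283, [7, 4, 7, 2]), (286, [4, 7, 7]), (289, [7, 7]), (299, [7, 4, 7]), (302, [4, 7, 7, 2]), (313, [2, 4, 7, 7, 7]), (314, [2, 6, 0, 6, 0]), (318, [2, 6, 0]), (319, [7, 0, 6, 6]), (320, [7, 4, 6, 2, 6]), (322, [6, 4]), (337, [4, 6, 6, 2, 7, 4]), (339, [2, 6, 2]), (341, [6, 6, 4, 6]), (353, [6, 6, 0, 7]), (355, [2, 4, 6, 6, 4, 7]), (360, [2, 4, 6, 6, 2]), (361, [6, 2, 6, 4]), (370, [6, 0, 7, 0, 7]), (371, [6, 6, 0, 4]), (373, [2, 7, 0]), (374,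 [7, 7, 7, 0]), (379, [6, 0, 7, 7, 4]), (381, [2, 6, 0, 7]), (386, [6, 0, 7, 7, 4, 6]), (388, [6, 6, 6, 6]), (390, [7, 0, 6]), (393, [4, 6, 2, 7]), (396, [4, 6, 6, 6, 2]), (401, [7, 7, 4, 7]), (402, [4, 6, 6, 0, 6]), (405, [2, 6, 6, 2]), (408, [6, 6, 6, 2]), (426, [4, 6, 0, 7, 7]), (428, [6, 2, 6, 4, 7, 7]), (430, [6, 2, 7, 7, 4]), (432, [6, 2, 6, 6, 6, 6]), (448, [6, 6, 0, 6]), (451, [6, 2, 4, 7]), (455, [6, 0, 7, 0]), (456, [2, 7, 0, 6]), (460, [4, 7, 0, 7]), (463, [6, 6, 6, 0]), (472, [4, 6, 6, 2, 7, 7]), (479, [6, 6, 6, 6, 4]), (480, [7]), (481, [6, 0, 7, 7]), (482, [6, 6, 4, 6, 6]), (484, [2, 6, 0, 7, 7]), (486, [7, 0]), (488, [6, 0, 7, 4]), (489, [2, 4]), (491, [7, 7, 0, 2, 6]), (492, [6, 0, 7, 7, 0]), (495, [7, 7, 2, 6]), (511, [6, 2, 4, 6]), (515, [2, 7, 7,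 7, 0]), (528, [4, 6, 6, 0, 7]), (529, [6, 6, 2, 7, 4]), (530, [6, 0]), (535, [6, 2, 6, 0, 7]), (540, [6, 4, 7]), (541, [7, 4, 6, 2]), (557, [2, 6, 6, 2, 4]), (558, [2, 6, 6, 2, 6]), (583, [7, 2, 7, 7]), (586, [2, 6, 6, 6]), (587, [2, 7, 7, 4]), (591, [4, 7, 7, 0]), (596, [2, 7, 4, 7]), (604, [6, 6, 4, 7]), (605, [7, 7, 7, 7]), (606, [6]), (608, [7, 7, 7, 4, 7]), (613, [7, 0, 6, 4, 6]), (614, [7, 7, 0, 7, 7]), (623, [7, 0, 7, 4]), (629, [6, 6, 0, 7, 4]), (630, [4, 6, 2, 6]), (631, [7, 7, 4]), (637, [7, 7, 0, 7]), (643, [4, 6, 6, 6, 0, 4]), (646, [4, 6, 6, 2, 7]), (653, [2, 4, 6, 6]), (657, [7, 0, 7, 2]), (658, [6, 4, 6, 0]), (660, [2, 4, 6, 6, 6]), (663, [2, 7, 0, 4]), (667, [2, 4, 7, 0]), (669, [7, 7, 4, 6]), (671, [6, 0, 7, 4, 7]), (673, [4, 7, 0]), (674, [6, 2, 4,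 7, 7]), (677, [6, 6, 0]), (678, [7, 0, 7, 0]), (690, [6, 6, 6, 2, 7]), (691, [4, 6, 6, 6]), (707, [7, 7, 2, 6, 2]), (710, [2, 7]), (713, [6, 6, 6, 0, 7]), (717, [2, 7, 0, 6, 0]), (718, [6, 0, 7]), (721, [6, 6, 0, 2]), (727, [2, 7, 7, 4, 6]), (728, [2, 6, 6, 6, 6]), (729, [2, 7, 7, 0, 2, 6]), (742, [7, 0, 2, 7]), (743, [6, 0, 6]), (744, [2, 7, 2, 7, 7]), (760, [2, 7, 0, 2, 7]), (761, [2, 7, 0, 7, 0]), (766, [4, 7, 7, 7, 0]), (768, [2, 6, 0, 6, 2]), (784, [7, 7, 0, 4]), (785, [7, 2, 7, 4]), (786, [4, 6, 6, 6, 4]), (787, [6, 2, 6, 6]), (808, [6, 2, 6, 6, 6]), (811, [6, 4, 7, 7, 2]), (823, [4, 6, 0, 6]), (835, [4, 6, 6, 0]), (836, [4, 6, 6, 6, 2, 7]), (838, [6, 6, 6, 4, 6]), (849, [4, 7, 0, 6]), (853, [2, 4, 7, 0, 6]), (868, [2, 7, 2, 6, 6]), (869, [6, 0, 2]), (871, [4,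 7, 0, 7, 0]), (872, [6, 6, 6]), (873, [4, 6, 6, 6, 0]), (877, [7, 0, 7]), (882, [6, 2, 6, 4, 7]), (883, [7, 7, 7, 7, 2]), (906, [2, 7, 2, 7]), (916, [2, 7, 7, 7]), (920, [7, 7, 2]), (922, [6, 6, 2, 4]), (933, [2, 6, 0, 7, 4]), (937, [7, 0, 6, 4]), (941, [6, 2, 7, 7, 0]), (952, [4, 6, 4, 7, 0, 6]), (955, [7, 2, 6, 6]), (966, [6, 0, 6, 2, 7]), (976, [4, 7, 7, 7]), (983, [2, 7, 4, 6]), (984, [6, 4, 7, 0]), (992, [2, 4, 7, 7, 0]), (993, [4, 6, 6, 6, 2, 4]), (995, [6, 6, 4]), (996, [7, 7, 7]), (1001, [4, 6, 6, 4]), (1014, [2, 6, 2, 7, 7]), (1016, [6, 0, 7, 0, 6]), (1018, [4, 6, 4]), (1020, [2, 6, 6, 0, 7]), (1021, [4, 6, 6, 4, 7]), (1022, [4, 7, 7, 7, 7]), (1031, [7, 7, 7, 4]), (1034, [2, 7, 7, 2, 6]), (1035, [6, 4, 6, 4, 7]), (1039, [6, 0, 7, 7, 2]), (1040, [2, 7, 0, 6,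 6]), (1043, [6, 6]), (1047, [2, 7, 0, 6, 4]), (1050, [4, 6, 0, 7]), (1054, [2, 7, 2, 6]), (1058, [6, 0, 2, 7]), (1074, [7, 2, 6, 2]), (1075, [6, 0, 2, 7, 0]), (1086, [7, 0, 7, 0, 6]), (1087, [6, 2, 7, 7]), (1098, [6, 0, 6, 0, 7]), (1101, [6, 6, 6, 6, 2]), (1102, [6, 2]), (1105, [7, 2, 7, 4, 6]), (1108, [2, 7, 4]), (1109, [2, 4, 7]), (1111, [4, 7, 7, 0, 6]), (1112, [7, 7, 0, 6, 4]), (1118, [6, 4, 6]), (1126, [2, 4, 6, 6, 0]), (1135, [2, 6, 4, 7, 7]), (1143, [6, 2, 7, 7, 2]), (1147, [6, 0, 7, 2, 7]), (1158, [7, 7, 2, 6, 0]), (1159, [2, 7, 0, 2]), (1160, [7, 2, 6, 2, 7]), (1162, [2, 7, 7, 0, 6]), (1167, [6, 0, 4, 6]), (1169, [2, 6, 6, 4]), (1181, [2, 4, 6, 6, 4]), (1182, [4, 6, 4, 7, 0]), (1191, [6, 6, 2]), (1202, [2, 7, 7, 7, 4]), (1208, [2, 6, 2, 6]), (1222, [2, 7,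 2, 7, 4]), (1224, [7, 4]), (1228, [4, 7, 7, 4]), (1229, [6, 2, 6, 0]), (1240, [7, 7, 0, 2]), (1241, [7, 2, 7, 2]), (1242, [2, 4, 6]), (1243, [6, 4, 6, 0, 7]), (1246, [4, 6]), (1247, [7, 4, 6, 6, 2]), (1248, [2, 6, 6, 0, 7, 4]), (1249, [4, 6, 0]), (1254, [2, 7, 7, 7, 7]), (1255, [6, 2, 7, 2, 6]), (1256, [2, 6, 4]), (1257, [7, 4, 6, 6]), (1258, [2, 6, 6, 2, 7]), (1261, [7, 7, 4, 7, 7]), (1265, [6, 6, 2, 4, 7]), (1266, [7, 2, 6, 6, 0]), (1273, [4, 6, 4, 7]), (1285, [2, 4, 6, 6, 6, 4]), (1286, [7, 2, 6, 0]), (1289, [2, 4, 7, 7]), (1298, [6, 4, 6, 6]), (1299, [7, 4, 7, 4]), (1300, [2, 7, 0, 7]), (1311, [7, 0, 6, 6, 4]), (1312, [4, 6, 2]), (1313, [6, 4, 6, 4]), (1314, [6, 0, 6, 2]), (1321, [6, 0, 6, 0]), (1322, [6, 2, 6]), (1328, [6, 6, 6, 4]), (1329, [2, 7, 7, 0, 2]), (1337,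 [6, 4, 7, 0, 6]), (1338, [2, 7, 4, 6, 6]), (1339, [6, 6, 2, 7]), (1340, [2, 7, 7, 7, 4, 7]), (1343, [4, 7, 7, 0, 4]), (1354, [4, 6, 6]), (1355, [4, 7, 7, 7, 4]), (1356, [7, 7, 2, 4]), (1363, [7, 0, 4]), (1364, [2, 6, 0, 7, 7, 4]), (1368, [6, 2, 4]), (1369, [4, 7, 0, 6, 6]), (1375, [7, 7, 0, 2, 4]), (1379, [6, 6, 2, 6]), (1388, [7, 2, 6]), (1391, [6, 6, 6, 0, 4]), (1392, [2, 7, 7, 2])]),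
  (3, []),
  (7, []),
  (8, []),
  (16, [(361, [0])])]

theorem chk_ch7 : chkChain px 1408 mg7 [] ch7 = true := by decide +kernel

theorem sizes_ch7 : sizes ch7 = 640 := by decide +kernel

theorem mg7_lt : ∀ w ∈ mg7, ∀ c ∈ w, c < 5 := by decide +kernel

end Cfsg.Agent.Lib.Helper2.HNS
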