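import Cfsg.Agent.Lib.Helper2.HNDce3b
import Cfsg.Agent.Lib.Helper2.HNS.Tab
set_option autoImplicit false
set_option maxRecDepth 1000000
set_option Elab.async false
open Cfsg.Agent.Lib.Helper2.HNDce
namespace Cfsg.Agent.Lib.Helper2.HNS

/-! # A chain of stabilisers for the subgroup of the row 8 -/

/-- the words generating the subgroup of the row 8 -/
def mg8 : List (List Nat) := [[2, 1, 3, 0, 2, 2, 1, 2, 0, 3, 1, 3, 0, 3, 1, 3, 0, 1, 3, 0, 3, 3, 1, 2, 0, 3, 3, 1, 3, 0, 1, 3, 0, 3, 2, 1, 2, 0, 3, 1, 3, 0], [1, 2, 0, 2, 1, 3, 0, 3, 2, 1, 2, 0, 1, 2, 0, 2, 2, 1, 2, 0, 1, 2, 0, 2, 2, 1, 2, 0, 1, 2, 0, 2, 1, 4, 1, 1, 2, 4, 3, 4, 2, 1, 2, 1, 2, 0, 1, 2, 0, 2, 2, 1, 2, 0, 1, 2, 0, 2, 1, 4, 1, 1, 2, 4, 3, 4, 2, 1, 3, 1, 3,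 0, 1, 3, 0, 3, 2, 1, 2, 0, 3, 1, 3, 0], [3, 1, 2, 0, 3, 3, 1, 3, 0, 1, 3, 0, 3, 2, 1, 3, 0, 2, 2, 1, 3, 0, 2, 3, 4, 2, 1, 1, 2, 1, 2, 0, 1, 2, 0, 2, 2, 1, 2, 0, 1, 2, 0, 2, 1, 4, 1, 1, 2, 4, 3, 4, 2, 1, 3, 1, 3, 0, 1, 3, 0, 3, 2, 1, 2, 0, 3, 1, 3, 0], [2, 2, 0, 3, 1, 3, 4, 1, 2, 1, 2, 1, 3, 4, 3, 0, 0, 3, 4, 2]]

/-- the chain of the row 8 -/
def ch8 : List (Nat × List (Nat × List Nat)) := [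
  (0, [(1, [6, 0, 4, 6, 6, 0, 7, 0, 6, 6]), (2, [6, 0, 4, 6, 6, 0, 6, 1, 6, 6]), (3, [4, 6, 0, 6, 1, 6, 0, 6, 6, 6, 1, 6]), (4, [4, 6, 6, 6, 6]), (5, [6, 0, 6, 0, 6, 6, 6, 0, 7, 0, 7]), (6, [4, 6, 0, 6, 0, 7, 0, 7, 0, 7]), (7, [4, 6, 0, 6, 0, 6, 0, 7, 0, 7]), (8, [6, 0, 6, 6, 1, 7, 3, 6]), (9, [6, 0, 6, 1, 6, 0, 7, 1, 6]), (10, [6, 0, 6, 1, 7, 0, 6, 1, 6]), (11, [6, 4, 6, 6]), (12, [4, 6, 0, 6, 1, 6, 6, 6, 0, 6, 1, 6]), (13, [4, 7, 4]), (14, [6, 0, 6, 0, 7, 0, 7, 0, 7]), (15, [4, 6, 0, 6, 0, 6, 6, 6, 0, 7, 0, 7]), (16, [6, 6, 1, 7, 1, 6, 6]), (17, [4]), (18, [6, 0, 6, 0, 6, 2, 7, 0, 7]), (19, [4, 6, 0, 6, 0, 6, 0, 7, 0, 6]), (20, [4, 6, 0, 6, 0, 6, 2]), (21, [6, 0, 7, 7, 1, 6, 0]), (22, [6, 0, 6, 0, 6, 0, 6, 6, 6,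 0, 7]), (23, [6, 0, 6, 6, 1, 6, 0, 6]), (24, [6, 0, 6, 1, 6, 0, 6, 6, 6, 1, 6]), (25, [4, 6, 0, 6, 1, 6, 0, 7, 1, 6]), (26, [6, 4, 6, 6, 1]), (27, [6, 0, 4, 6, 6, 0, 6, 1, 7, 7]), (28, [4, 6, 0, 6, 1, 7, 0, 6, 1, 7]), (29, [6, 0, 6, 1, 7, 0, 6, 3, 6]), (30, [6, 1, 6, 0, 7, 3]), (31, [4, 6, 4, 6]), (32, [4, 6, 2, 4]), (33, [6, 0, 4, 6, 6, 0, 7, 0, 7, 7]), (34, [4, 6, 1, 6, 0, 6, 6, 6, 3]), (35, [7, 4, 7]), (36, [7, 1]), (37, [6, 0, 6, 6, 1, 6, 0, 7, 7]), (38, [4, 6, 6, 6, 1]), (39, [6, 0, 6, 6, 1, 7, 1, 6, 6]), (40, [6, 0, 6, 0, 7, 0, 6, 0, 7]), (41, [6, 1, 6, 1, 6, 1, 6, 1, 6]), (42, [4, 6, 0, 6, 2, 6, 2]), (43, [6, 0, 7, 7, 1, 6]), (44, [4, 6, 0, 6, 0, 6, 2, 6, 6, 6]), (45, [6, 0, 6, 1, 7, 0, 6, 1]), (46, [6, 0,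 6, 0, 6, 6, 6, 0, 7, 0]), (47, [4, 6, 0, 6, 0, 7, 0, 7, 0]), (48, [6, 0, 4, 6, 6, 6, 3, 6]), (49, [6, 0, 6, 1, 7, 1]), (50, [4, 6, 1, 4, 7, 7, 7, 2]), (51, [6, 4, 6, 6, 6]), (52, [4, 6, 0, 6, 0, 7, 0, 6]), (53, [6, 6, 0, 6, 1, 7, 7]), (54, [6, 6, 6, 6]), (55, [6, 0, 6, 0, 7, 7, 7, 2]), (56, [6, 0, 6, 6, 1, 7, 1]), (57, [6, 4, 6, 1, 7, 1, 6, 6]), (58, [4, 6, 4, 6, 6, 6]), (59, [6, 4, 6, 0, 6, 1, 7, 7]), (60, [6, 4, 7]), (61, [6, 1, 6, 0, 6, 1, 6, 0, 6]), (62, [6, 0, 7, 1, 6, 0, 7, 1, 7]), (63, [7, 1, 6, 0, 6, 1]), (64, [4, 6, 4, 6, 1]), (65, [6, 1, 6, 0, 6, 6, 6, 1, 6]), (66, [6, 0, 6, 0, 6, 0, 7, 0, 6, 6]), (67, [6, 0, 6, 1, 6, 0, 7, 3]), (68, [4, 6, 0, 6, 1, 6, 0, 6, 6, 6, 3]), (69, [4, 6, 1, 7, 3, 7]), (70, [6,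 1, 6, 6, 6, 3, 7]), (71, [6, 0, 6, 2, 6, 6]), (72, [6, 0, 6, 6, 1, 6, 0, 6, 6]), (73, [4, 7, 1, 6, 0, 7, 3, 7]), (74, [4, 6, 6, 6, 1, 6, 0, 6, 1]), (75, [7, 4, 7, 1]), (76, [4, 6, 1, 6, 0, 7, 1, 6]), (77, [4, 6, 0, 6, 0, 6, 2, 7, 0]), (78, [4, 6, 0, 6, 2, 7, 7]), (79, [6, 0, 6, 6, 1, 7, 1, 7, 7]), (80, [7, 1, 6, 0, 7, 1, 6]), (81, [4, 6, 6, 6, 1, 6, 0, 6, 1, 6]), (82, [4, 6, 0, 6, 0, 7, 2, 7]), (83, [7, 1, 6, 0, 6, 1, 6]), (84, [6, 0, 6, 0, 6, 6, 6, 2, 7]), (85, [4, 6, 0, 6, 1, 6, 6, 6, 0]), (86, [7]), (87, [6, 0, 6, 0, 6, 6, 6, 0, 7]), (88, [6, 0, 6, 1, 7, 0]), (89, [4, 6, 6, 6]), (90, [4, 6, 0, 6, 0, 7, 0, 7]), (91, [6, 0, 4, 6, 3, 6, 6, 6]), (92, [6, 0, 6, 3, 6, 1]), (93, [4, 6, 1, 4, 6, 6, 6, 0]), (94, [7, 1,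 7]), (95, [7, 7]), (96, [4, 7, 1, 6, 0, 6, 1, 6]), (97, [6, 6, 6, 1, 6, 0, 6, 1, 6]), (99, [6, 4, 6, 0, 6, 1, 6, 6]), (100, [4, 6, 0, 4, 7, 1]), (101, [4, 7, 7, 7]), (102, [6, 6, 1, 6, 1, 6]), (103, [6, 6, 0, 7, 1, 6]), (104, [4, 6, 0, 6, 1, 6, 6, 6, 2]), (105, [6, 6, 0, 6, 1, 6]), (106, [6, 0, 6, 1, 7, 2]), (107, [6, 6, 1, 7, 3, 6]), (108, [4, 6, 0, 6, 0, 6, 0, 7, 0, 6, 6]), (109, [7, 7, 1]), (110, [6, 0, 6, 0, 6, 0, 7, 0, 7]), (111, [6, 1, 6, 0, 6, 1, 6]), (112, [4, 6, 1, 6, 0, 6, 3, 7]), (113, [6, 1, 4, 6, 6, 6, 3]), (114, [4, 6, 0, 4, 7, 7]), (115, [6, 0, 6, 0, 6, 0, 6, 6]), (116, [6, 1, 6, 6, 2, 7]), (117, [6, 0, 6, 0, 6, 2, 7]), (118, [4, 6, 0, 6, 1, 6, 6, 6, 0, 6, 1]), (119, [6, 1, 4, 6, 2]), (120, [4, 6, 4,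 7]), (121, [6, 0, 6, 2, 7, 2, 7]), (122, [4, 6, 0, 6, 0, 6, 0, 7]), (123, [4, 6, 1, 6, 0, 6, 1, 6, 6, 6]), (124, [6, 0, 6, 0, 6, 0, 6, 6, 6]), (125, [6, 1, 6, 0, 6, 1, 7]), (126, [4, 6, 1, 6, 1, 7, 3]), (127, [6, 0, 4, 6, 6, 0, 7, 0, 6]), (128, [7, 1, 6, 0, 7, 1, 7]), (129, [6, 1, 6, 1, 6, 6, 6, 3]), (130, [6, 0, 4, 6, 6, 0, 6, 1, 6]), (131, [4, 6, 6, 6, 1, 6, 0, 7, 1, 7]), (132, [4, 6, 1, 6, 3, 6]), (133, [6, 1, 6, 3, 7, 7, 7]), (134, [6, 0, 7, 0, 7, 7]), (135, [6, 4, 6, 1, 7, 1, 6]), (136, [6, 0, 4, 6, 6, 0, 7, 0]), (137, [4, 6, 0, 6, 0, 6, 0, 6, 6, 6]), (138, [6, 0, 6, 0, 6, 0, 7]), (140, [6, 6, 6, 1]), (141, [6, 1, 7, 1, 7, 7]), (142, [6, 0, 4, 6, 6, 0, 6, 3, 7]), (143, [6, 0, 4, 7]), (144, [4, 6, 0, 4, 6, 6,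 6]), (145, [4, 6, 1, 6, 3, 6, 1]), (146, [4, 6, 0, 6, 6, 4, 6]), (147, [6, 1, 6, 1, 7, 1, 6, 6]), (148, [6, 2, 4, 7]), (149, [6, 0, 6, 1, 6, 6, 6, 0, 6, 1]), (150, [6, 0, 4, 6, 6, 0, 7]), (151, [4, 6, 0, 6, 1, 7, 0, 6, 1, 6]), (152, [4, 6, 0, 6, 0, 7, 2, 6]), (153, [6, 0, 6, 2, 7, 0, 7]), (154, [6, 0, 6, 3, 7, 7]), (155, [6, 6, 1, 6, 3]), (156, [4, 6, 0, 7, 0, 6, 6]), (157, [6, 4, 6, 0, 6, 3, 6]), (158, [6, 0, 4, 6, 6, 0, 6, 1]), (160, [4, 7, 1]), (161, [4, 6, 1, 7, 1, 6, 6]), (162, [6, 0, 4, 6, 6, 2, 7, 0, 7]), (163, [4, 6, 0, 6, 1, 7, 0, 6, 1]), (164, [6, 1, 4, 6, 6, 1, 6]), (165, [6, 0, 6, 1, 6, 6, 6, 0, 6, 1, 6]), (166, [4, 6, 0, 6, 3, 6, 6]), (167, [6, 6, 0, 7, 3]), (168, [4, 7, 7]), (169, [6, 0, 6, 0, 7, 0,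 7, 0]), (170, [6, 1, 6, 6, 0, 7]), (171, [6, 0, 6, 6, 1, 6]), (172, [6, 4, 6, 0, 7, 0, 7]), (173, [6, 1, 6, 1, 6, 3, 7, 1, 7]), (174, [6, 6]), (175, [4, 6, 0, 6, 0, 6, 6, 6, 0, 7, 0]), (176, [6, 4, 6, 1, 6, 0, 7]), (177, [6, 0, 6, 0, 7, 0, 6, 2, 7]), (178, [6, 0, 6, 0, 7, 7, 7]), (179, [4, 6, 0, 6, 0, 6]), (180, [6, 0, 4, 6, 6, 6, 1, 7]), (181, [4, 6, 1, 7, 3, 6, 6]), (182, [4, 6, 0, 6, 1, 6, 6, 6, 0, 6, 3]), (183, [6, 6, 1, 6, 4, 2, 6]), (184, [4, 6, 0, 6, 0, 7, 2, 7, 0]), (185, [6, 0, 6, 1, 7, 3]), (186, [6, 1, 7, 3, 7, 7]), (187, [6, 0, 6, 1, 7, 0, 6, 3]), (188, [6, 4, 6, 0, 6, 0, 6]), (189, [6, 0, 6, 0, 6, 6, 6, 2, 7, 0]), (190, [4, 6, 0, 6, 1, 7, 0, 7, 7]), (191, [4, 6, 1, 4]), (192, [6, 6, 0, 7, 3, 7]), (193,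 [6, 0, 7, 1, 7, 0]), (194, [6, 4, 6, 6, 2]), (195, [6, 6, 1, 6, 3, 7]), (196, [6, 1, 6]), (197, [4, 6, 0, 6, 0, 6, 6, 6, 0, 7]), (198, [4, 6, 1, 7, 3, 7, 7]), (199, [6, 1, 7, 3, 6, 6]), (200, [6, 0, 6, 0, 6]), (201, [6, 0, 6, 1, 6, 0, 6, 6, 6, 1]), (202, [4, 6, 0, 6, 1, 6, 0, 7, 1]), (203, [6, 1, 6, 0, 7, 1, 6]), (204, [4, 7, 4, 7, 7]), (206, [6, 4, 6]), (207, [4, 6, 1]), (209, [4, 7, 4, 7]), (210, [7, 7, 7, 1]), (211, [6, 1, 6, 1, 7, 1, 6, 1]), (212, [6, 0, 6, 0, 6, 2, 6, 2]), (213, [6, 1, 4, 7, 7, 7, 1]), (214, [6, 1, 6, 6, 0]), (216, [4, 6]), (217, [6, 4, 6, 0, 6, 1, 7]), (218, [6, 4, 6, 1, 7, 3, 7]), (219, [6, 1, 6, 0, 6, 3]), (220, [6, 0, 6, 3, 6, 3]), (221, [6, 1, 4, 6, 0]), (222, [4, 6, 1, 4, 7, 7, 7, 0]),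 (223, [4, 6, 0, 6, 1, 6, 2, 7]), (224, [6, 0, 6, 1, 6, 2, 6, 6, 6]), (225, [6, 0, 4, 6, 1, 7, 7, 7]), (226, [6, 0, 6, 2, 7, 7, 7]), (227, [4, 6, 0, 6, 2, 6]), (228, [4, 6, 1, 6, 1, 6, 6]), (229, [6, 6, 1, 6, 1, 4, 6]), (230, [6, 1, 6, 1, 7, 7]), (231, [6, 4, 6, 0, 6, 2, 6]), (232, [4, 6, 0, 6, 1, 7, 0, 6, 3]), (233, [6, 0, 6, 1, 6, 6, 6, 0, 6, 3]), (234, [6, 0, 4, 6, 6, 0, 6, 3, 6]), (235, [6, 1, 6, 0, 6, 1, 6, 6, 6]), (236, [4, 6, 1, 6, 0, 6, 1, 7]), (237, [4, 6, 0, 4, 6, 2]), (238, [4, 6, 6, 6, 2, 4]), (239, [7, 1, 6, 0, 7, 7]), (240, [6, 6, 0, 6, 3]), (241, [4, 7, 1, 6, 0, 6, 6]), (242, [6, 6, 1, 7, 1]), (243, [6, 1, 4, 6, 2, 7, 7]), (244, [4, 6, 1, 4, 6, 2, 6, 6]), (245, [6, 0, 6, 1, 7, 1, 6, 6]), (246, [6, 0,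 6, 0, 7, 2, 7, 0, 7]), (247, [6, 0, 4, 6, 0, 7, 7, 7]), (248, [6, 1, 4, 7, 0]), (249, [4, 6, 6, 6, 1, 7]), (250, [4, 6, 6]), (252, [6, 4, 6, 1, 7, 1, 7, 7]), (253, [6, 0, 4, 6, 6, 6, 1]), (254, [6]), (255, [6, 0, 6, 0, 6, 2, 7, 0]), (256, [4, 6, 6, 1]), (257, [4, 6, 0, 6, 0, 6, 0, 6, 6, 6, 0, 7]), (258, [4, 6, 1, 4, 7, 3]), (259, [6, 0, 4, 6, 6]), (260, [6, 0, 4, 6, 6, 0, 6, 3]), (261, [6, 0, 6, 1, 6, 0, 6, 6, 6, 3]), (262, [6, 4, 6, 1]), (263, [4, 7, 4, 7, 1]), (264, [4, 6, 2, 7, 7, 7]), (265, [6, 0, 6, 1, 6, 0, 6, 1, 7]), (266, [6, 0, 4, 6, 6, 2, 7, 0]), (267, [4, 6, 0, 6, 1, 6, 0, 7, 3]), (268, [6, 2, 6]), (269, [6, 1, 6, 0, 6, 1, 6, 2, 6]), (270, [6, 1, 4, 6, 0, 6, 6, 6]), (271, [6, 1, 6, 0, 7, 2]), (272, [4,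 6, 1, 7, 1, 6]), (273, [4, 6, 0, 4, 6, 6, 6, 3]), (274, [4, 6, 0, 6, 0, 6, 0, 7, 0]), (275, [6, 0, 7]), (276, [4, 6, 0, 6, 1, 6, 0, 6, 6, 6, 1]), (277, [6, 1, 6, 6, 6, 1, 6]), (278, [6, 0, 4, 7, 3]), (279, [6, 0, 6, 0, 6, 0, 6, 6, 6, 0]), (280, [4, 6, 0, 6, 6, 6]), (281, [6, 0, 6, 1, 6, 0, 7, 1]), (282, [4, 6, 1, 6, 3, 6, 3]), (283, [6, 6, 0, 6, 0, 6, 6]), (284, [4, 6, 0, 4, 7, 7, 7]), (285, [6, 1, 6, 1, 7, 3, 7, 7]), (286, [6, 6, 1, 6, 2, 7, 7]), (287, [6, 0, 4, 6]), (288, [6, 4, 6, 1, 6, 1, 7]), (289, [4, 7, 1, 6, 0, 7, 1, 7]), (290, [4, 6, 0, 4, 7, 3]), (291, [6, 0, 4, 6, 6, 6, 3]), (292, [6, 1, 4, 6, 0, 7]), (293, [4, 6, 0, 6, 0, 6, 6, 6, 2, 7, 0]), (294, [6, 0, 6, 0, 7, 2, 7, 0]), (295, [6, 0, 6, 0, 6, 2, 6,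 6, 6]), (296, [6, 0, 6, 6, 1, 7, 3, 7]), (298, [6, 0, 6, 6, 1, 6, 0]), (299, [6, 4, 6, 0, 7, 1, 6, 6]), (301, [6, 0, 6, 6, 1, 7, 3]), (302, [6, 4, 6, 1, 6, 1, 6, 6]), (303, [6, 1, 6, 0, 7, 1, 7, 2]), (304, [6, 0, 6, 1, 7, 0, 7, 3]), (305, [6, 0, 7, 1, 6, 6]), (306, [6, 4, 6, 1, 6]), (308, [6, 0, 4, 6, 6, 0, 6, 1, 7]), (309, [7, 1, 6]), (310, [4, 6, 6, 6, 1, 6]), (311, [4, 6, 0, 6, 2, 7, 0]), (312, [6, 1, 6, 1, 6, 6, 6]), (313, [4, 6, 0, 6, 0, 7, 7]), (314, [6, 0, 6, 0, 6, 6]), (315, [6, 1, 6, 1, 6, 1, 7]), (316, [4, 6, 1, 6, 1, 6, 1, 6, 6, 6]), (317, [4, 6, 1, 6, 1, 7]), (318, [6, 1, 4, 6, 2, 6, 6, 6]), (319, [6, 1, 6, 0, 7, 0]), (320, [4, 6, 0, 4, 7, 7, 7, 1]), (321, [6, 2, 7]), (322, [6, 0, 4, 6, 1]), (323, [4,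 6, 2, 6, 6, 6]), (324, [4, 6, 0, 6, 0, 6, 0, 6, 6, 6, 0]), (325, [6, 0, 6, 0, 6, 0, 7, 0]), (326, [6, 6, 6]), (327, [4, 6, 0, 6, 0, 6, 6, 6, 2, 7]), (328, [6, 0, 6, 0, 7, 2, 7]), (329, [4, 6, 1, 6, 0, 7, 7]), (330, [6, 6, 1, 6, 1, 6, 6]), (331, [4, 6, 2, 4, 6, 2]), (332, [4, 6, 0, 7, 7, 4]), (333, [6, 0, 6, 6, 4, 6, 0]), (334, [6, 0, 6, 6, 4]), (335, [4, 6, 0, 7, 7, 7, 2]), (336, [6, 0, 6, 2]), (337, [6, 1, 6, 6, 6, 3, 6]), (338, [6, 0, 6, 1, 6, 0, 7, 3, 6]), (339, [6, 1, 6, 2, 6, 6, 6]), (340, [6, 4, 6, 0, 7, 1, 7]), (341, [6, 6, 6, 1, 6, 0, 7, 1, 7]), (342, [6, 1, 6, 0, 6, 6, 6, 2]), (343, [4, 6, 0, 6, 0, 6, 2, 7]), (344, [6, 0, 6, 6, 1, 6, 0, 7]), (345, [4, 6, 0, 7, 1, 7, 7]), (346, [6, 4, 6, 0, 7]), (348, [6,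 0, 4, 6, 6, 0, 7, 0, 7]), (349, [6, 0, 6, 0, 7, 2, 6, 6]), (350, [4, 7]), (351, [6, 1, 6, 0, 6, 6]), (352, [6, 6, 0, 7, 1, 6, 6]), (353, [4, 6, 1, 7, 3, 6]), (354, [4, 6, 0, 6, 1, 6, 0, 7, 1, 7]), (355, [4, 6, 1, 6, 2, 7]), (356, [6, 0, 6, 0, 7, 0, 7]), (357, [7, 4]), (358, [4, 6, 1, 7, 7, 7]), (359, [4, 6, 0, 6, 1, 6, 0, 7, 3, 6]), (360, [6, 6, 0, 7, 1, 7, 7]), (361, [6, 6, 1, 6, 1, 7, 7]), (362, [4, 6, 1, 4, 6, 0]), (363, [6, 1, 4, 7, 7, 7, 0]), (364, [6, 0, 4, 6, 1, 6]), (365, [6, 0, 7, 1, 7, 2]), (366, [4, 6, 4, 6, 6]), (367, [6, 0, 6, 1, 6, 0, 7, 1, 7]), (368, [6, 0, 6, 3, 7, 7, 7, 3]), (369, [4, 6, 0, 6, 1, 7, 2, 7, 7]), (370, [6, 0, 6, 0, 7, 7, 7, 3]), (371, [6, 1, 6, 1, 6, 6, 6, 0]), (372, [6, 1, 4, 6]), (373,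 [6, 0, 4, 6, 2, 6]), (374, [6, 1, 4, 6, 3, 7]), (375, [4, 6, 1, 4, 7, 7, 7]), (376, [6, 0, 6, 0, 6, 2, 6, 6]), (377, [4, 6, 0, 6, 2, 6, 0]), (378, [6, 6, 0, 6, 3, 7]), (379, [4, 6, 1, 4, 6, 0, 6, 6]), (380, [6, 0, 4, 6, 1, 6, 6]), (381, [4, 7, 7, 1]), (382, [6, 0, 4, 7, 7, 7, 3]), (383, [6, 1, 4, 6, 6, 6, 0]), (384, [4, 6, 1, 4, 7, 0]), (385, [6, 0, 6, 3, 7, 7, 7, 1]), (386, [4, 6, 0, 6, 0, 6, 2, 7, 0, 7]), (387, [6, 6, 1, 7, 1, 7]), (388, [6, 1, 4, 6, 0, 7, 7]), (389, [4, 6, 0, 4, 6, 1, 7, 7]), (390, [6, 6, 1]), (391, [4, 6, 0, 4, 6, 3]), (392, [6, 0, 4, 6, 3, 7]), (393, [6, 0, 6, 0, 6, 0, 7, 0, 6]), (394, [6, 0, 6, 6, 6, 2, 7]), (395, [4, 6, 0, 7, 2, 7]), (396, [4, 6, 1, 6, 3, 7, 7]), (397, [6, 1, 6, 0, 6, 1, 6,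 2, 7]), (398, [6, 0, 6, 1, 6, 0, 6, 3, 7]), (399, [6, 4, 6, 0]), (400, [6, 4, 6, 1, 6, 2, 7]), (401, [6, 0, 6, 1, 6, 0, 6, 6, 6]), (402, [6, 1, 6, 3, 6, 6]), (403, [4, 6, 4, 6, 2]), (404, [6, 4, 6, 0, 7, 2, 7]), (405, [4, 6, 0, 6, 1, 6, 0, 7]), (406, [4, 6, 1, 6, 3, 6, 6]), (407, [6, 1, 6, 3, 7, 7]), (408, [6, 0, 7, 2, 7]), (409, [6, 1, 4, 7, 7, 1, 6]), (410, [6, 0, 4, 6, 6, 2, 7]), (411, [6, 0, 6, 1, 7, 0, 7, 1, 7]), (412, [6, 1, 6, 2, 6, 6]), (413, [4, 6, 0, 6, 1, 7, 7]), (414, [6, 0, 6, 0, 6, 6, 6, 2]), (415, [4, 6, 1, 6, 2, 7, 7]), (416, [6, 0, 6, 1, 6, 6]), (417, [4, 6, 0, 6, 0, 7, 2]), (418, [6, 0, 4, 6, 3, 7, 7, 7]), (419, [4, 6, 1, 4, 6, 0, 6]), (420, [4, 6, 0, 6, 0, 7, 0, 7, 0, 6]), (421, [4, 7, 7, 7, 1]),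 (422, [6, 0, 6, 0, 6, 0, 6, 2, 7]), (423, [4, 6, 6, 6, 1, 6, 0, 7, 3]), (424, [6, 0, 6, 1, 7, 0, 7, 1]), (425, [7, 1, 6, 0, 6, 1, 7, 0]), (426, [4, 6, 1, 6, 1, 7, 7]), (427, [6, 4, 6, 2, 6]), (428, [4, 6, 4]), (430, [6, 1, 6, 1, 6, 6]), (431, [6, 4, 6, 1, 7]), (432, [7, 4, 7, 7]), (434, [6, 6, 1, 7, 1, 6]), (436, [6, 6, 0, 6, 3, 6]), (438, [6, 1, 4, 7, 0, 6, 6]), (439, [4, 6, 1, 4, 7, 0, 7, 7]), (440, [6, 0, 6, 3, 6, 1, 7, 7]), (441, [4, 6, 0, 6, 1, 7, 7, 7]), (442, [4, 6, 0, 6, 0, 7, 7, 7, 2]), (443, [6, 4, 6, 0, 6]), (444, [7, 4, 7, 1, 7]), (445, [4, 6, 0, 6, 1, 6]), (446, [6, 0, 7, 1, 7, 0, 6, 1]), (447, [6, 0, 4, 6, 6, 2, 7, 0, 6]), (448, [4, 6, 0, 6, 6, 6, 2, 7]), (449, [6, 1, 6, 2, 6, 6, 6, 0]), (450, [6, 1,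 4, 7, 0, 6]), (452, [4, 6, 0, 6, 0, 6, 0]), (453, [6, 0, 6, 0, 7, 7, 7, 0]), (454, [6, 4, 6, 6, 0]), (455, [6, 6, 2]), (456, [4, 6, 6, 0]), (457, [6, 0, 6, 0, 6, 0, 6, 0, 6]), (458, [6, 1, 6, 1, 7, 1, 6, 3, 6]), (459, [4, 6, 4, 2]), (460, [6, 0, 6, 0, 7, 7, 7, 1]), (462, [6, 4, 2, 6]), (463, [6, 0, 7, 0, 7, 4]), (465, [4, 6, 1, 7, 7, 4, 7]), (466, [6, 0, 6, 0, 6, 2, 6, 0]), (467, [6, 1, 4, 6, 6, 6, 2]), (468, [4, 6, 1, 4, 7, 2]), (469, [6, 0, 6, 1, 6, 6, 6, 3]), (470, [6, 1, 6, 1, 7, 3, 7, 3]), (471, [6, 0, 4, 7, 1, 7]), (472, [7, 7, 7]), (473, [6, 2, 4]), (474, [6, 1, 6, 1, 7, 3, 7, 1, 7]), (475, [6, 1, 4, 6, 2, 6]), (476, [6, 1, 6, 2, 6]), (477, [4, 6, 1, 6, 6, 6, 1]), (478, [6, 1, 7, 1]), (479, [6, 0, 6, 6, 6,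 0, 6]), (480, [6, 0, 6, 1, 6, 6, 6]), (481, [4, 6, 0, 7, 0, 6]), (482, [4, 6, 0, 6, 1, 7]), (483, [4, 6, 0, 6, 2, 6, 0, 7]), (484, [4, 6, 0, 7, 1, 7]), (485, [6, 0, 6, 0, 6, 2, 6]), (486, [6, 0, 6, 6, 6, 1, 7]), (487, [6, 1, 6, 6]), (489, [6, 4]), (490, [6, 1, 6, 0, 7, 1, 7, 2, 6]), (491, [6, 0, 6, 6, 6, 2, 6]), (492, [4, 6, 0, 7, 2, 6]), (494, [4, 6, 1, 7, 7, 7, 3]), (495, [4, 6, 0, 6, 0, 7, 7, 7]), (496, [4, 6, 1, 6, 0, 6, 6, 6, 1, 6]), (497, [4, 6, 1, 4, 6, 1]), (498, [6, 0, 6, 6, 3]), (500, [4, 6, 1, 6, 0, 6, 1, 6, 6]), (501, [6, 0, 4, 6, 6, 6, 0]), (502, [6, 0, 4]), (503, [6, 0, 4, 7, 3, 7]), (504, [6, 0, 7, 0, 7, 1]), (505, [6, 0, 7, 7, 1, 6, 0, 6]), (506, [6, 0, 6, 0, 7, 0, 7, 0, 6]), (507, [4, 6, 0, 4]), (508,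 [6, 6, 6, 2, 4]), (509, [6, 0, 6, 0, 7, 7]), (510, [4, 6, 0, 6, 0, 6, 6]), (511, [4, 6, 1, 6, 1, 6, 6, 6]), (512, [6, 1, 6, 1, 6, 6, 6, 1]), (513, [6, 0, 6, 6, 1, 7, 1, 6]), (514, [4, 6, 0, 6, 0, 7, 2, 7, 0, 7]), (515, [6, 1, 6, 1, 7]), (516, [4, 6, 1, 6, 1, 7, 1]), (517, [4, 6, 1, 6, 0, 6, 6, 6]), (518, [4, 6, 0, 6, 6, 6, 3, 6]), (519, [7, 7, 1, 6, 2, 7]), (520, [6, 1, 6, 0, 7]), (521, [6, 0, 7, 3, 6]), (522, [6, 6, 0, 6, 0, 7]), (523, [4, 6, 1, 6, 0, 6, 6, 6, 1]), (524, [6, 1, 6, 0, 7, 1]), (525, [4, 6, 0, 7, 7, 4, 7]), (526, [6, 0, 6, 0]), (527, [4, 6, 1, 7, 7, 7, 1]), (528, [4, 6, 0, 7, 0, 7, 7]), (529, [6, 0, 7, 0, 6, 6]), (530, [6, 1, 6, 3, 6]), (531, [6, 0, 6, 1, 7, 0, 6, 1, 7]), (532, [6, 2, 4, 6]), (533,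 [4, 6, 0, 7, 7, 7, 0]), (534, [6, 1, 6, 1]), (535, [4, 6, 1, 6, 3, 7, 7, 7]), (536, [4, 6, 0, 6, 1, 7, 0, 6, 3, 6]), (537, [6, 1, 4, 6, 6, 6, 2, 6]), (538, [6, 1, 6, 2, 7, 2]), (539, [4, 6, 0, 4, 7, 7, 7, 3]), (540, [6, 1, 6, 1, 6, 1, 6, 3, 6]), (541, [6, 0, 6, 0, 7, 0, 6, 0, 6]), (542, [6, 1, 6, 6, 0, 6]), (543, [6, 0, 6]), (544, [4, 6, 1, 6, 1, 6, 3, 7, 7, 7]), (545, [6, 0, 4, 6, 3]), (546, [6, 0, 6, 6, 3, 6]), (547, [4, 6, 0, 7, 7, 7]), (548, [6, 1, 6, 1, 6, 3, 6]), (549, [6, 1, 4, 7, 2, 6]), (550, [6, 1, 6, 1, 7, 1, 6, 1, 6]), (551, [4, 6, 0, 4, 6, 0]), (552, [6, 1, 4, 6, 6, 6, 1]), (553, [6, 1, 6, 0, 6, 1]), (554, [6, 0, 4, 6, 6, 6, 2]), (555, [4, 6, 1, 4, 7, 1]), (556, [4, 6, 1, 6, 0, 6, 3, 7, 7]), (557, [4,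 6, 1, 6, 3, 6, 6, 6]), (558, [6, 0, 6, 0, 7]), (559, [6, 4, 6, 0, 7, 1, 7, 7]), (560, [6, 0, 7, 1, 7, 0, 6, 1, 7]), (561, [6, 0, 6, 0, 7, 0, 6, 6]), (562, [6, 1, 6, 1, 7, 1, 6, 3]), (563, [6, 0, 6, 0, 6, 0, 6, 0]), (564, [4, 6, 0, 4, 6, 1]), (565, [7, 1, 6, 6, 2]), (566, [6, 0, 6, 6, 1, 7, 1, 7]), (568, [6, 0, 4, 7, 7, 7, 1]), (569, [6, 0, 6, 6, 1]), (570, [6, 0, 7, 7, 1, 6, 0, 7]), (572, [6, 0, 6, 6, 4, 6]), (574, [4, 6, 2, 4, 7]), (576, [4, 6, 0, 6, 6, 6, 0]), (577, [6, 0, 7, 0]), (578, [6, 1, 6, 3, 6, 6, 6]), (579, [6, 1, 4, 6, 6, 6, 1, 7]), (580, [6, 1, 6, 0, 6, 6, 6, 3]), (581, [7, 1, 6, 6, 0]), (582, [6, 0, 7, 7, 1]), (583, [6, 1, 4, 7, 1, 7]), (584, [6, 1, 6, 1, 7, 3, 7, 1]), (585, [6, 1, 6, 2, 6, 6, 6, 2]),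 (586, [6, 0, 7, 0, 7]), (587, [4, 6, 0, 6, 6, 6, 0, 7]), (589, [7, 1, 6, 0, 6, 3]), (590, [4, 6, 6, 6, 1, 6, 0, 6, 3]), (591, [6, 6, 1, 6, 0, 7, 7]), (592, [6, 1, 4, 6, 6, 3, 6]), (593, [6, 0, 4, 6, 6, 0, 6]), (594, [6, 0, 6, 1, 7, 0, 7, 1, 6]), (595, [6, 1, 6, 0, 7, 1, 7, 0, 7]), (596, [6, 6, 0, 6, 2, 6, 6]), (597, [4, 6, 6, 6, 1, 6, 2, 6]), (599, [7, 7, 1, 6, 0, 7]), (600, [7, 1, 6, 2, 6]), (602, [6, 6, 0, 6, 2, 7]), (603, [6, 0, 7, 1, 7, 0, 6, 3]), (604, [4, 6, 0, 7, 2, 7, 7]), (605, [6, 0, 7, 2, 6, 6]), (606, [6, 1, 7, 1, 6]), (607, [6, 1, 6, 0, 7, 1, 7, 0]), (608, [4, 6, 1, 6, 6, 6, 1, 6]), (609, [6, 6, 0, 6, 1, 6, 6]), (610, [6, 1, 6, 0, 7, 1, 7, 0, 6]), (611, [4, 6, 0, 6, 2, 7]), (612, [4, 6, 0, 4, 6, 0, 7]),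 (613, [4, 6, 0, 4, 7, 1, 6, 6]), (614, [6, 0, 4, 7, 1, 7, 7]), (615, [6, 1, 4, 7, 0, 7]), (616, [6, 1, 7, 1, 6, 2]), (617, [6, 1, 6, 2, 7, 0, 6, 6]), (618, [6, 1, 4, 6, 6, 6, 1, 6]), (619, [6, 1, 6, 0, 7, 1, 7]), (620, [6, 1, 4, 6, 1, 7, 7, 7]), (621, [4, 6, 1, 6, 0, 7, 3, 6]), (622, [6, 1, 7, 1, 6, 0]), (623, [6, 4, 6, 1, 6, 1]), (625, [6, 0, 6, 0, 6, 0, 6, 0, 7]), (626, [6, 1, 4, 7, 2, 7]), (627, [6, 1, 6, 2, 7, 2, 6, 6]), (629, [4, 6, 0, 4, 6, 3, 6, 6]), (630, [6, 1, 6, 3, 7]), (631, [4, 6, 0, 6, 0, 6, 6, 6]), (632, [6, 4, 6, 1, 6, 1, 7, 7]), (633, [4, 6, 0, 6, 2, 7, 2]), (634, [4, 6, 1, 6, 3, 7]), (635, [4, 6, 1, 4, 7, 1, 7]), (636, [4, 6, 1, 6, 0, 7, 3]), (637, [6, 1, 7, 1, 6, 2, 6, 6]), (638, [6, 0, 6, 0, 6,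 0, 6, 2]), (640, [6, 6, 1, 7, 1, 7, 7]), (641, [6, 0, 6, 2, 6, 6, 6]), (642, [6, 0, 4, 6, 0, 6, 6, 6]), (643, [6, 4, 6, 0, 7, 1]), (646, [6, 0, 4, 6, 3, 7, 7]), (647, [6, 0, 6, 1, 7, 0, 6]), (648, [4, 6, 0, 7, 1, 7, 2, 6]), (649, [6, 0, 7, 1, 6, 2]), (650, [4, 6, 0, 6, 1, 6, 6, 6, 0, 6]), (651, [6, 0, 6, 1, 7, 2, 7]), (652, [4, 6, 0, 6, 1, 6, 2, 6, 6]), (653, [6, 4, 6, 0, 6, 0, 7, 7]), (654, [7, 1, 7, 7]), (655, [4, 6, 0, 7, 0, 7]), (656, [6, 0, 6, 6, 6, 0, 7]), (657, [6, 1, 7, 1, 6, 6]), (658, [6, 4, 6, 1, 6, 2, 6, 6]), (659, [4, 7, 1, 6, 6]), (660, [4, 6, 1, 7, 1, 7, 7]), (661, [6, 0, 6, 1, 7]), (662, [4, 6, 0, 6, 1, 6, 6, 6]), (663, [6, 1, 4, 6, 3]), (664, [7, 1, 6, 0, 6]), (665, [4, 6, 6, 6, 1, 6, 0, 6]), (666,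 [6, 0, 4, 6, 2]), (667, [4, 6, 1, 6, 6, 6, 0]), (669, [4, 6, 1, 4, 7, 7, 7, 3]), (670, [4, 6, 0, 4, 6, 6, 6, 0]), (671, [6, 1, 6, 2]), (673, [6, 1, 4, 7, 2]), (674, [4, 6, 1, 4, 6, 6, 6, 2]), (675, [6, 1, 4, 7, 7, 7, 3]), (676, [4, 6, 1, 4, 6, 3]), (677, [6, 0, 6, 2, 6, 0, 7]), (678, [4, 6, 1, 6, 2, 6, 6]), (679, [4, 7, 1, 6, 0, 6]), (680, [6, 0, 6, 6, 4, 6, 2]), (682, [6, 1, 7, 7, 4, 7]), (683, [6, 0, 6, 1, 7, 0, 7]), (684, [4, 6, 0, 6, 1, 7, 7, 7, 0]), (685, [4, 6, 4, 2, 6]), (686, [4, 6, 0, 7, 1, 7, 0, 6]), (687, [6, 0, 6, 1, 6, 0]), (688, [6, 0, 6, 0, 7, 0]), (689, [4, 6, 1, 6, 6]), (690, [4, 6, 0, 6, 0, 6, 2, 6]), (691, [6, 1, 6, 2, 7, 7]), (692, [6, 6, 6, 1, 6, 0, 6]), (693, [4, 6, 2, 4, 6, 0]), (694, [4, 6,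 4, 6, 6, 1]), (696, [7, 1, 6, 0, 7, 3]), (697, [4, 6, 0, 6, 0, 6, 6, 6, 0]), (698, [6, 1, 7, 7]), (699, [6, 1]), (700, [6, 4, 6, 1, 6, 0, 7, 7]), (702, [6, 1, 4, 7]), (703, [6, 4, 6, 0, 6, 2, 6, 6]), (705, [4, 6, 1, 4, 6, 6, 6]), (706, [4, 6, 0, 6, 1, 7, 2, 6]), (707, [6, 0, 6, 6, 6, 0, 7, 1]), (708, [6, 4, 6, 1, 6, 2, 7, 7]), (709, [4, 6, 0, 6, 1, 6, 2, 6, 6, 6]), (710, [6, 0, 4, 6, 0, 6]), (711, [6, 4, 6, 0, 6, 0, 6, 6]), (712, [6, 0, 6, 1, 6, 2, 7]), (713, [6, 0, 6, 1, 6, 2, 6]), (714, [6, 1, 4, 7, 7, 7, 2]), (715, [4, 6, 1, 4, 6, 2]), (716, [6, 0, 6, 1, 6, 6, 6, 1]), (717, [4, 6, 6, 2]), (718, [6, 6, 0]), (719, [6, 1, 6, 1, 7, 1, 6, 1, 7]), (720, [6, 0, 6, 1, 6, 6, 6, 2, 6]), (721, [4, 6, 0, 7, 1, 6, 2, 7]), (722,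 [6, 0, 4, 7, 3, 6]), (723, [6, 0, 6, 0, 6, 0, 6, 2, 6]), (726, [6, 6, 0, 6]), (727, [7, 1, 6, 2, 7, 7]), (728, [4, 7, 1, 6, 2, 6, 6]), (729, [6, 0, 4, 6, 6, 6, 3, 7]), (730, [4, 6, 1, 6, 6, 6, 3]), (731, [6, 1, 7, 3]), (732, [6, 0, 6, 0, 6, 6, 6]), (733, [6, 0, 7, 2]), (734, [4, 6, 0, 6, 6, 6, 2]), (735, [4, 6, 1, 7, 1, 7]), (736, [6, 0, 4, 6, 2, 6, 6, 6]), (738, [4, 6, 0, 6, 0, 7]), (739, [6, 1, 6, 6, 6, 1, 7]), (740, [4, 6, 0, 4, 6, 2, 7]), (742, [4, 6, 1, 7, 3]), (743, [6, 0, 6, 6, 6, 0]), (744, [6, 1, 7, 1, 7]), (745, [6, 1, 4, 6, 3, 6]), (746, [4, 6, 0, 4, 7]), (748, [6, 0, 4, 6, 6, 6]), (750, [4, 6, 1, 6, 6, 6]), (751, [6, 1, 7]), (752, [6, 0, 6, 0, 6, 6, 6, 0]), (753, [4, 7, 1, 6, 0, 6, 3]), (754, [6, 0, 7,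 7, 3]), (755, [6, 1, 6, 6, 2]), (756, [6, 0, 7, 0, 6]), (757, [4, 6, 0, 6, 0, 7, 0]), (758, [6, 6, 6, 1, 6, 0, 6, 3]), (759, [4, 6, 0, 6, 6, 6, 0, 6]), (760, [7, 1, 6, 0]), (761, [4, 6, 6, 6, 1, 6, 0]), (762, [6, 6, 6, 1, 7]), (763, [6, 6, 1, 7, 3]), (764, [4, 7, 1, 7]), (765, [6, 6, 0, 6, 1]), (766, [6, 0, 6, 1, 7, 7]), (767, [4, 6, 0, 6, 3, 6]), (768, [4, 6, 0, 6, 1, 6, 6]), (769, [6, 0, 6, 3, 7, 7, 7]), (770, [6, 0, 6, 0, 7, 1]), (771, [6, 0, 6, 1, 7, 0, 7, 7]), (772, [4, 6, 0, 7, 1, 7, 0]), (773, [6, 1, 7, 7, 4]), (774, [6, 1, 4, 6, 6, 6]), (775, [6, 0, 6, 1, 6, 6, 6, 0]), (776, [6, 1, 6, 0, 6, 1, 6, 6]), (777, [4, 6, 1, 6, 0, 6, 3]), (778, [4, 6, 0, 6, 0, 7, 0, 6, 6]), (779, [6, 0, 6, 2, 7, 2]), (780, [7, 7,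 1, 7]), (781, [6, 1, 7, 7, 7]), (782, [6, 1, 4, 6, 1]), (783, [6, 4, 6, 0, 6, 3, 7]), (784, [4, 6, 0, 6, 2, 6, 6, 6]), (785, [6, 0, 6, 2, 7]), (786, [6, 4, 6, 0, 6, 1]), (787, [6, 4, 6, 1, 7, 3]), (788, [4, 7, 1, 6, 0, 6, 3, 6]), (789, [6, 0, 6, 1, 6, 0, 6, 1, 6]), (790, [6, 1, 6, 0, 6, 1, 6, 0, 7]), (791, [4, 6, 4, 6, 0]), (792, [4, 6, 4, 2, 7]), (793, [6, 0, 6, 1, 7, 2, 6]), (794, [4, 6, 4, 6, 6, 2]), (795, [6, 1, 6, 6, 4, 6]), (796, [4, 6, 0, 6, 1, 6, 6, 6, 2, 6]), (797, [6, 1, 4]), (798, [4, 6, 0, 6, 0, 7, 2, 6, 6]), (799, [6, 1, 4, 6, 6]), (800, [6, 0, 6, 2, 7, 0]), (801, [4, 6, 1, 4, 7, 7]), (802, [6, 4, 6, 2]), (803, [6, 0, 6, 3, 6]), (804, [4, 6, 0, 6, 3, 7, 7, 7]), (808, [6, 1, 4, 6, 1, 7, 7]), (809, [4,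 6, 1, 4, 7, 7, 7, 1]), (811, [6, 1, 7, 1, 6, 0, 6]), (814, [4, 6, 1, 6]), (815, [6, 4, 6, 0, 7, 0, 6]), (816, [4, 6, 0, 6, 1, 7, 7, 7, 2]), (817, [4, 6, 1, 4, 7]), (818, [6, 4, 6, 1, 6, 0, 6]), (819, [6, 0, 6, 1, 6, 2]), (820, [6, 0, 6, 2, 6, 0]), (821, [4, 6, 0, 6, 0, 6, 2, 6, 6]), (822, [4, 6, 6, 6, 1, 6, 0, 7]), (823, [4, 6, 1, 6, 6, 6, 1, 7]), (824, [4, 6, 0, 6, 6, 6, 3, 7]), (825, [6, 1, 4, 7, 7, 3]), (826, [6, 0, 4, 6, 2, 7, 7, 7]), (827, [7, 1, 6, 0, 6, 1, 7]), (828, [6, 0, 6, 0, 6, 3]), (829, [6, 0, 4, 6, 1, 7]), (830, [6, 0, 6, 3, 6, 3, 6, 6]), (831, [6, 0, 4, 6, 6, 2]), (832, [6, 6, 1, 6, 1, 7]), (833, [6, 6, 0, 7, 1, 7]), (834, [4, 6, 0, 6, 1, 6, 0]), (835, [6, 4, 6, 0, 7, 0]), (836, [6, 4, 6, 1, 6, 0]),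 (837, [6, 1, 4, 7, 7]), (838, [4, 6, 0, 4, 7, 3, 7]), (839, [6, 4, 6, 0, 6, 3]), (840, [6, 4, 6, 1, 7, 1]), (841, [4, 7, 1, 6, 0, 6, 1, 7]), (842, [4, 6, 0, 4, 6, 3, 6]), (843, [6, 1, 4, 6, 0, 7, 7, 7]), (844, [6, 0, 4, 6, 3, 6]), (845, [6, 0, 6, 1, 6]), (846, [6, 0, 6, 0, 6, 2]), (847, [6, 0, 6, 1, 7, 7, 7]), (848, [7, 1, 6, 0, 6, 1, 7, 2]), (850, [6, 1, 6, 0, 7, 0, 7, 7]), (851, [4, 6, 1, 6, 2, 7, 7, 7]), (852, [4, 6, 1, 7, 7]), (855, [6, 1, 6, 3]), (856, [6, 1, 6, 1, 6, 6, 6, 3, 6]), (857, [4, 6, 1, 6, 3, 6, 1, 7]), (858, [4, 6, 1, 6, 3, 7, 1]), (859, [4, 6, 1, 6, 1, 7, 3, 6]), (860, [6, 1, 6, 1, 7, 1, 6]), (861, [6, 1, 6, 1, 6, 1, 6, 6]), (862, [4, 6, 0]), (863, [6, 1, 6, 2, 7, 0]), (864, [6, 1, 4, 6, 6, 6, 0,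 6]), (865, [6, 0, 4, 7, 1]), (866, [6, 6, 6, 2]), (867, [4, 6, 0, 4, 6, 6, 6, 1]), (868, [6, 1, 6, 6, 6, 1, 6, 2]), (869, [6, 1, 4, 7, 1, 6]), (870, [6, 0, 7, 3, 6, 6]), (871, [6, 0, 6, 6, 6, 0, 7, 3]), (872, [6, 0, 7, 2, 7, 4]), (873, [6, 1, 6, 0, 7, 7]), (874, [6, 0, 4, 6, 0, 6, 6]), (876, [4, 6, 0, 7, 3, 7, 7]), (877, [4, 6, 1, 6, 0, 6, 6]), (878, [4, 6, 0, 4, 6, 0, 7, 7]), (880, [4, 6, 0, 7, 2, 6, 6]), (881, [6, 0, 7, 2, 7, 7]), (882, [6, 0, 7, 3, 7, 7]), (883, [4, 6, 0, 7, 3, 6, 6]), (884, [4, 6, 1, 6, 0, 7, 1, 7]), (885, [6, 0, 4, 6, 0]), (886, [6, 0, 6, 0, 7, 1, 6, 6]), (887, [6, 6, 1, 6, 0, 7]), (888, [6, 1, 6, 3, 6, 3, 6]), (889, [6, 1, 6, 1, 6, 3, 7, 7]), (890, [6, 6, 0, 7, 0, 7]), (891, [4, 6, 1, 6, 1,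 7, 3, 7]), (892, [4, 6, 1, 6, 3, 7, 3]), (893, [6, 6, 6, 1, 6, 0, 7, 1]), (894, [6, 4, 6, 0, 7, 3]), (895, [6, 1, 6, 0, 7, 3, 6]), (896, [4, 6, 0, 4, 6, 6, 6, 2]), (897, [6, 0, 7, 0, 7, 3]), (898, [4, 7, 1, 6, 0, 7, 1]), (899, [6, 4, 6, 1, 6, 3]), (900, [6, 2]), (902, [6, 6, 1, 6, 2, 6]), (903, [4, 6, 6, 6, 0]), (905, [6, 6, 0, 7, 2, 6]), (906, [4, 6, 1, 6, 1, 6, 6, 6, 1, 7]), (907, [4, 6, 1, 6, 2, 6, 6, 6]), (908, [6, 0]), (909, [6, 1, 6, 1, 6, 1, 6, 6, 6]), (910, [6, 1, 6, 2, 7]), (911, [4, 6, 6, 6, 2]), (912, [4, 6, 1, 6, 1, 6, 1, 7]), (913, [4, 6, 1, 6, 1, 6, 1, 6]), (914, [4, 6, 0, 6, 2, 6, 6]), (915, [6, 0, 6, 2, 7, 7]), (916, [6, 1, 7, 3, 7]), (917, [6, 0, 4, 6, 6, 2, 6]), (918, [6, 1, 4, 6, 6, 1, 7]), (919,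 [6, 1, 6, 0, 7, 1, 7, 2, 7]), (920, [6, 1, 6, 1, 7, 1, 7]), (921, [6, 1, 6, 3, 7, 1, 7]), (922, [4, 6, 1, 6, 6, 6, 3, 7]), (923, [6, 0, 6, 1, 7, 0, 7, 3, 7]), (924, [6, 1, 4, 6, 6, 1]), (925, [4, 6, 1, 6, 6, 6, 3, 6]), (926, [4, 6, 0, 4, 7, 3, 7, 7]), (927, [6, 0, 4, 7, 3, 6, 6]), (928, [6, 1, 4, 6, 0, 6]), (929, [6, 1, 4, 7, 2, 6, 6]), (930, [4, 6, 1, 4, 7, 2, 7, 7]), (931, [6, 0, 6, 1, 7, 3, 7, 7]), (932, [6, 1, 6, 0, 6]), (934, [6, 1, 6, 0, 7, 2, 7, 7]), (935, [6, 0, 4, 7, 1, 6]), (936, [4, 6, 1, 6, 0, 7, 7, 7]), (938, [6, 0, 6, 1, 7, 1, 6]), (939, [6, 1, 4, 7, 0, 7, 7]), (940, [6, 0, 4, 6, 6, 6, 1, 6]), (941, [6, 0, 6, 6, 6, 3, 7]), (942, [6, 6, 1, 6, 3, 6]), (944, [6, 6, 0, 7, 3, 6]), (946, [6, 4, 6, 0, 7, 3,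 6]), (947, [6, 4, 6, 1, 6, 3, 6]), (948, [7, 1, 6, 0, 7, 1]), (949, [4, 6, 0, 6, 0, 7, 7, 7, 0]), (950, [6, 4, 6, 2, 7]), (951, [6, 6, 1, 6, 4]), (952, [6, 1, 4, 6, 6, 6, 0, 7]), (953, [4, 6, 6, 6, 1, 6, 0, 7, 1]), (954, [6, 0, 6, 0, 6, 0]), (955, [4, 6, 1, 4, 7, 0, 7]), (956, [4, 6, 0, 6, 0, 7, 1, 6]), (957, [6, 0, 7, 2, 7, 4, 7]), (958, [6, 4, 6, 1, 7, 3, 6]), (959, [6, 0, 7, 7, 4]), (960, [6, 4, 6, 0, 6, 1, 6]), (961, [4, 6, 0, 6, 6, 4]), (962, [4, 6, 1, 4, 6, 6, 6, 1]), (963, [6, 1, 4, 6, 6, 6, 3, 7]), (964, [6, 1, 4, 7, 1]), (965, [6, 1, 6, 1, 7, 2]), (966, [6, 6, 6, 1, 6, 0, 7]), (967, [6, 1, 6, 3, 6, 3]), (968, [4, 6, 1, 6, 1, 7, 3, 7, 7]), (969, [6, 6, 1, 6, 0]), (970, [7, 7, 1, 6, 2, 6]), (971, [6, 1, 6,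 1, 7, 3]), (972, [4, 7, 1, 6, 0, 7, 3]), (973, [6, 6, 6, 1, 6, 0, 7, 3]), (974, [6, 0, 6, 6, 4, 2]), (975, [6, 4, 6, 1, 6, 3, 7]), (976, [6, 0, 7, 1, 7, 7]), (977, [6, 6, 6, 1, 6]), (978, [4, 6, 1, 4, 6, 2, 6]), (979, [6, 1, 4, 6, 2, 7, 7, 7]), (980, [7, 1, 6, 6]), (981, [4, 7, 1, 7, 7]), (982, [4, 6, 0, 6, 2, 6, 2, 7]), (983, [6, 0, 6, 0, 7, 0, 6, 2, 6]), (984, [6, 1, 6, 1, 6, 1, 6, 1, 7]), (985, [6, 0, 6, 6, 1, 7]), (986, [6, 6, 0, 6, 2, 6]), (987, [6, 1, 6, 1, 6, 6, 6, 1, 7]), (988, [6, 6, 0, 6, 0, 7, 7]), (989, [7, 7, 1, 6, 0, 6]), (990, [4, 6, 1, 6, 1, 7, 1, 7]), (991, [6, 6, 1, 6, 2, 6, 6]), (992, [7, 7, 1, 6, 2]), (993, [6, 6, 0, 6, 0]), (994, [6, 1, 6, 6, 2, 6]), (995, [6, 1, 6, 1, 6, 6, 6, 2]), (996, [6,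 1, 4, 7, 3, 7]), (1000, [6, 0, 6, 6, 6, 1]), (1001, [4, 6, 0, 7, 1, 6, 6]), (1003, [4, 6, 0, 7, 1]), (1006, [6, 4, 6, 0, 7, 3, 7]), (1007, [4, 6, 2, 7]), (1008, [6, 1, 6, 1, 7, 7, 7, 1]), (1009, [6, 6, 0, 6, 0, 6]), (1010, [6, 2, 6, 6, 6]), (1011, [4, 6, 1, 6, 1, 6, 1]), (1012, [4, 6, 1, 6, 0, 7, 1]), (1013, [6, 1, 6, 0, 6, 6, 6, 1]), (1014, [6, 0, 6, 0, 6, 6, 6, 1]), (1015, [4, 6, 0, 4, 7, 1, 6]), (1016, [6, 1, 4, 6, 3, 7, 7, 7]), (1017, [6, 6, 1, 6]), (1018, [6, 1, 6, 0, 6, 6, 6]), (1019, [6, 0, 6, 0, 6, 0, 6]), (1020, [4, 6, 1, 6, 0, 7]), (1021, [4, 6, 1, 6, 1, 6]), (1022, [6, 1, 6, 1, 7, 7, 7]), (1023, [6, 6, 0, 7]), (1024, [6, 0, 4, 7, 7, 7]), (1025, [4, 6, 0, 4, 6]), (1026, [6, 1, 6, 3, 7, 3]), (1027, [4, 6,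 2, 7, 7]), (1028, [6, 2, 6, 6]), (1029, [6, 6, 1, 6, 2]), (1030, [6, 1, 7, 3, 6]), (1031, [4, 6, 0, 6, 0, 6, 0, 6]), (1032, [6, 0, 4, 7, 3, 7, 7]), (1033, [6, 1, 6, 2, 7, 0, 6]), (1034, [4, 6, 0, 7, 3, 7]), (1035, [4, 7, 1, 6, 0, 7]), (1036, [6, 6, 0, 7, 0]), (1037, [4, 6, 1, 6, 1, 6, 6, 6, 3]), (1038, [4, 7, 1, 6]), (1039, [4, 6, 0, 6, 0, 7, 1]), (1040, [4, 6, 1, 4, 6, 3, 6]), (1041, [4, 6, 1, 6, 1, 6, 3, 7, 7]), (1042, [6, 6, 0, 7, 2]), (1043, [6, 0, 6, 2, 6, 2, 7]), (1046, [6, 6, 1, 6, 4, 2, 7]), (1048, [6, 4, 2]), (1049, [6, 4, 6, 0, 6, 0, 7]), (1051, [4, 6, 4, 6, 6, 0]), (1055, [4, 6, 1, 6, 6, 4, 6]), (1056, [6, 4, 2, 7]), (1057, [6, 0, 6, 1, 6, 6, 6, 0, 6]), (1059, [4, 6, 0, 6, 1, 7, 0, 6]), (1060, [4, 7, 1,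 6, 0, 7, 7]), (1061, [7, 1, 6, 0, 6, 6]), (1062, [6, 0, 7, 1, 7]), (1063, [4, 6, 0, 6, 6, 6, 1, 7]), (1065, [6, 6, 1, 7, 3, 7]), (1066, [6, 6, 0, 6, 1, 7]), (1067, [6, 1, 6, 0, 7, 2, 7]), (1068, [6, 1, 4, 6, 2, 6, 6]), (1070, [6, 1, 4, 6, 0, 6, 6]), (1071, [6, 1, 6, 0, 7, 0, 7]), (1072, [4, 6, 0, 6, 2, 7, 2, 7]), (1073, [6, 0, 6, 0, 7, 0, 6]), (1076, [4, 6, 1, 6, 0]), (1077, [6, 0, 7, 2, 6]), (1079, [6, 0, 6, 0, 7, 2, 6]), (1080, [4, 6, 1, 4, 6, 1, 7, 7]), (1081, [6, 1, 4, 6, 1, 6, 6]), (1082, [4, 6, 0, 6, 3, 6, 6, 6]), (1085, [6, 0, 6, 3, 7]), (1086, [4, 6, 0, 6, 3, 7]), (1087, [6, 0, 6, 3, 6, 6, 6]), (1088, [6, 0, 6, 1, 7, 7, 7, 2]), (1089, [6, 1, 6, 6, 6, 2]), (1090, [4, 6, 0, 6, 6, 6, 2, 6]), (1092, [4, 6, 0,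 6, 2, 7, 0, 7]), (1093, [7, 1, 6, 0, 7]), (1094, [6, 1, 6, 1, 7, 0, 7, 7]), (1095, [4, 6, 0, 6, 1, 6, 2]), (1098, [6, 1, 6, 6, 6, 1, 6, 0]), (1100, [6, 0, 6, 1, 6, 0, 7]), (1101, [6, 1, 4, 7, 1, 7, 7]), (1102, [6, 1, 4, 6, 1, 6]), (1104, [4, 6, 0, 6, 1, 6, 0, 6, 6, 6]), (1105, [6, 1, 7, 1, 6, 2, 6]), (1108, [6, 1, 4, 7, 3]), (1109, [4, 6, 1, 6, 6, 6, 2]), (1111, [4, 6, 1, 4, 6, 6, 6, 3]), (1112, [6, 1, 6, 0]), (1113, [4, 7, 1, 6, 0]), (1114, [6, 4, 6, 0, 7, 2, 6]), (1115, [4, 6, 0, 6, 1, 6, 0, 6, 6]), (1116, [6, 4, 6, 1, 6, 2, 6]), (1117, [6, 0, 7, 1, 6, 0]), (1118, [6, 4, 6, 1, 6, 0, 6, 6]), (1119, [6, 0, 6, 2, 6, 2]), (1120, [6, 1, 4, 7, 7, 7]), (1121, [4, 6, 1, 4, 6]), (1122, [6, 0, 6, 0, 7, 2]), (1123, [4, 6,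 1, 7, 7, 4]), (1125, [6, 6, 6, 1, 6, 0]), (1126, [6, 4, 6, 0, 6, 2, 7, 7]), (1127, [4, 6, 0, 6, 0, 6, 0, 6, 6]), (1128, [4, 6, 0, 6, 0, 6, 6, 6, 2]), (1129, [6, 1, 6, 6, 4]), (1130, [6, 1, 6, 0, 6, 3, 7]), (1131, [4, 6, 1, 6, 0, 6, 1, 6]), (1132, [6, 1, 4, 6, 6, 3]), (1133, [6, 0, 4, 6, 6, 0]), (1134, [6, 1, 6, 0, 6, 1, 6, 2]), (1135, [4, 6, 1, 6, 3]), (1136, [6, 0, 6, 6, 4, 6, 2, 7]), (1137, [6, 0, 6, 0, 6, 1]), (1138, [4, 6, 1, 4, 6, 1, 7]), (1139, [6, 1, 6, 1, 7, 0]), (1140, [6, 1, 4, 6, 3, 6, 6, 6]), (1142, [6, 6, 2, 6]), (1143, [6, 0, 4, 6, 1, 6, 6, 6]), (1144, [6, 1, 4, 6, 1, 6, 6, 6]), (1146, [6, 6, 1, 7]), (1147, [4, 6, 0, 4, 6, 1, 7]), (1148, [6, 0, 7, 7, 7, 1]), (1149, [6, 0, 4, 6, 2, 6, 6]), (1150, [4,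 6, 0, 7, 3, 6]), (1151, [6, 0, 4, 6, 1, 7, 7]), (1152, [4, 6, 1, 6, 0, 6, 1]), (1153, [6, 1, 6, 0, 6, 3, 7, 7]), (1154, [6, 0, 7, 0, 7, 4, 7]), (1155, [4, 6, 0, 7, 0, 6, 3, 6]), (1156, [4, 6, 0, 4, 6, 6]), (1157, [6, 0, 4, 7, 7]), (1158, [4, 6, 0, 6, 2, 7, 7, 7]), (1159, [6, 0, 6, 2, 6]), (1160, [6, 0, 6, 6, 4, 6, 2, 6]), (1161, [6, 2, 7, 7]), (1162, [4, 6, 0, 7, 0, 6, 3]), (1163, [4, 6, 2, 6, 6]), (1164, [6, 0, 6, 0, 7, 0, 6, 2]), (1165, [6, 1, 6, 1, 6, 3, 7, 1]), (1166, [6, 1, 4, 7, 1, 6, 6]), (1167, [6, 1, 4, 6, 1, 7]), (1168, [4, 6, 1, 4, 7, 1, 7, 7]), (1169, [6, 1, 7, 1, 6, 0, 6, 6]), (1170, [6, 0, 6, 1, 7, 7, 7, 0]), (1171, [6, 1, 4, 6, 3, 7, 7]), (1172, [6, 0, 7, 3, 7]), (1173, [4, 6, 1, 4, 6, 3, 6, 6]), (1175,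 [6, 1, 6, 3, 7, 3, 6]), (1176, [4, 6, 0, 6, 3]), (1177, [6, 0, 7, 7, 7, 3]), (1178, [6, 1, 4, 6, 3, 6, 6]), (1179, [6, 1, 6, 1, 7, 0, 7]), (1180, [6, 0, 6, 1, 6, 0, 6, 3]), (1181, [4, 6, 0, 7, 7, 7, 3]), (1183, [6, 6, 6, 1, 6, 2, 6]), (1184, [6, 1, 6, 2, 7, 2, 6]), (1185, [4, 7, 1, 6, 2, 6]), (1186, [6, 1, 4, 7, 2, 7, 7]), (1187, [4, 6, 1, 6, 1, 6, 1, 6, 6]), (1189, [6, 1, 6, 3, 7, 1]), (1191, [4, 6, 0, 7, 1, 6, 0, 7]), (1192, [6, 1, 4, 7, 3, 7, 7]), (1193, [4, 6, 1, 4, 7, 3, 6, 6]), (1194, [4, 6, 0, 6, 1, 7, 2, 7]), (1195, [6, 0, 7, 1, 6]), (1196, [6, 0, 7, 1, 7, 2, 6]), (1197, [4, 6, 0, 6, 6, 6, 1, 6]), (1198, [6, 0, 6, 6, 6, 1, 6]), (1199, [4, 6, 0, 7, 1, 6]), (1200, [6, 1, 4, 7, 3, 6, 6]), (1201, [6, 1, 6, 1,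 7, 2, 7]), (1202, [6, 0, 6, 1, 6, 0, 6]), (1205, [6, 1, 6, 6, 6]), (1206, [4, 6, 1, 7]), (1207, [6, 0, 6, 0, 7, 0, 6, 0]), (1208, [6, 0, 6, 3]), (1209, [6, 1, 6, 1, 6, 1, 6, 3]), (1210, [4, 6, 1, 6, 2]), (1211, [6, 1, 6, 6, 6, 0]), (1212, [6, 0, 7, 0, 6, 3]), (1213, [6, 0, 6, 0, 6, 1, 7, 7]), (1214, [4, 6, 0, 6, 1, 7, 2]), (1215, [6, 0, 6, 1, 6, 6, 6, 2]), (1216, [6, 6, 6, 1, 6, 0, 6, 1]), (1217, [4, 7, 1, 6, 0, 6, 1]), (1218, [6, 0, 6, 6, 6, 3, 6]), (1219, [6, 0, 6, 3, 6, 3, 6]), (1220, [4, 6, 0, 6, 1, 7, 0]), (1221, [6, 0, 7, 0, 7, 3, 7, 7]), (1222, [6, 0, 4, 6, 2, 7]), (1223, [6, 1, 6, 1, 6, 1, 6]), (1224, [6, 1, 7, 7, 7, 3]), (1227, [6, 0, 7, 0, 6, 3, 6]), (1228, [6, 1, 6, 6, 6, 3]), (1229, [4, 6, 0, 7, 0]), (1230,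 [4, 6, 1, 6, 6, 4]), (1231, [6, 4, 6, 1, 7, 1, 7]), (1232, [4, 6, 1, 4, 6, 6]), (1233, [7, 1, 6, 0, 6, 3, 6]), (1234, [6, 0, 7, 7, 7]), (1235, [6, 6, 1, 6, 0, 6, 6]), (1236, [4, 6, 0, 6]), (1237, [6, 6, 0, 6, 2, 7, 7]), (1238, [6, 6, 0, 7, 0, 6]), (1239, [6, 6, 1, 6, 0, 6]), (1240, [6, 1, 6, 1, 7, 3, 6]), (1241, [4, 6, 1, 6, 1, 6, 6, 6, 3, 6]), (1242, [6, 2, 4, 6, 2]), (1243, [4, 6, 0, 6, 6, 4, 6, 0]), (1244, [6, 0, 7, 7, 4, 7]), (1245, [4, 6, 2, 4, 6]), (1246, [6, 0, 7, 7, 7, 0]), (1247, [4, 6, 0, 6, 2]), (1248, [4, 6, 0, 6, 0]), (1249, [6, 0, 7, 7, 7, 2]), (1250, [4, 7, 1, 6, 0, 7, 1, 6]), (1251, [7, 1, 6, 0, 7, 3, 7]), (1254, [6, 0, 4, 6, 2, 7, 7]), (1255, [6, 1, 4, 6, 6, 6, 2, 7]), (1256, [4, 6, 0, 6, 6, 6, 1]),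 (1257, [6, 0, 7, 1]), (1258, [6, 1, 4, 6, 6, 6, 3, 6]), (1261, [4, 6, 1, 4, 7, 3, 6]), (1262, [6, 1, 4, 7, 3, 6]), (1263, [6, 1, 6, 1, 7, 2, 7, 7]), (1264, [4, 6, 1, 6, 1, 7, 7, 7, 1]), (1265, [6, 0, 6, 0, 6, 3, 6]), (1266, [4, 6, 1, 4, 7, 2, 7]), (1267, [6, 1, 6, 1, 6, 1]), (1269, [4, 6, 1, 6, 1, 6, 3, 6]), (1271, [6, 1, 6, 1, 6, 3, 7, 7, 7]), (1272, [4, 6, 0, 6, 1]), (1274, [6, 0, 6, 3, 6, 6]), (1275, [4, 6, 0, 6, 3, 7, 7]), (1276, [4, 6, 0, 4, 6, 2, 7, 7]), (1277, [6, 0, 6, 0, 7, 1, 6]), (1278, [4, 6, 0, 7]), (1279, [6, 1, 6, 1, 7, 7, 7, 3]), (1280, [6, 0, 6, 6, 6]), (1281, [4, 6, 1, 6, 1, 6, 3]), (1282, [6, 6, 6, 0]), (1283, [6, 6, 1, 6, 2, 7]), (1284, [6, 6, 0, 7, 2, 7]), (1285, [6, 6, 0, 6, 2]), (1287, [6, 0,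 7, 0, 7, 3, 7]), (1288, [4, 6, 2]), (1289, [7, 7, 1, 6, 0]), (1290, [7, 7, 1, 6]), (1291, [6, 6, 2, 7]), (1292, [6, 1, 6, 1, 6, 3, 7, 3]), (1293, [6, 0, 6, 3, 6, 1, 7]), (1294, [6, 1, 4, 7, 7, 1]), (1295, [4, 6, 1, 6, 1, 7, 7, 7]), (1296, [6, 0, 6, 6, 1, 4]), (1297, [6, 1, 6, 1, 6]), (1298, [4, 6, 1, 6, 1]), (1299, [7, 1, 6, 2]), (1300, [4, 6, 6, 6, 1, 6, 2]), (1301, [6, 6, 1, 6, 1]), (1302, [6, 6, 0, 7, 1]), (1303, [6, 1, 6, 0, 6, 6, 6, 0]), (1304, [6, 1, 4, 6, 2, 7]), (1305, [7, 1, 6, 2, 7]), (1306, [6, 4, 6, 0, 6, 2]), (1307, [4, 6, 6, 6, 1, 6, 2, 7]), (1308, [6, 6, 1, 6, 1, 4]), (1309, [7, 1, 6, 0, 7, 1, 6, 0]), (1310, [6, 0, 6, 1, 6, 0, 6, 1]), (1311, [6, 0, 6, 1]), (1312, [4, 6, 0, 7, 7, 7, 1]), (1313, [6, 0,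 7, 3]), (1314, [4, 6, 0, 6, 6, 6, 3]), (1316, [6, 0, 7, 1, 6, 0, 7]), (1317, [6, 0, 6, 6, 6, 3]), (1318, [4, 6, 0, 7, 3]), (1319, [6, 0, 6, 0, 7, 2, 6, 0]), (1321, [6, 0, 6, 6, 6, 2]), (1322, [4, 6, 0, 7, 2]), (1323, [4, 6, 0, 7, 1, 6, 2]), (1325, [6, 0, 6, 1, 6, 2, 6, 6]), (1327, [6, 1, 6, 1, 6, 3, 7]), (1328, [4, 6, 1, 6, 1, 7, 1, 6]), (1329, [6, 1, 6, 3, 6, 1, 7]), (1330, [4, 6, 1, 6, 3, 7, 3, 6]), (1333, [6, 4, 6, 1, 6, 1, 6]), (1334, [6, 4, 6, 0, 7, 1, 6]), (1335, [7, 1, 6, 0, 7, 1, 6, 2]), (1336, [6, 0, 7, 1, 6, 0, 7, 1]), (1337, [6, 0, 4, 6, 0, 7, 7]), (1338, [6, 0, 7, 0, 7, 1, 6]), (1339, [6, 6, 6, 1, 6, 2, 7]), (1340, [4, 7, 1, 6, 2, 7]), (1341, [4, 6, 1, 6, 1, 7, 1, 6, 6]), (1342, [6, 1, 6, 3, 6, 1]), (1343,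 [6, 1, 7, 7, 7, 1]), (1344, [6, 1, 6, 0, 7, 7, 7]), (1345, [6, 0, 7, 1, 6, 2, 7]), (1346, [6, 0, 4, 6, 3, 6, 6]), (1347, [6, 6, 6, 1, 6, 2]), (1349, [4, 6, 0, 6, 1, 6, 0, 6]), (1351, [4, 6, 1, 6, 0, 6]), (1352, [4, 6, 0, 6, 1, 6, 2, 6]), (1353, [4, 7, 1, 6, 2]), (1354, [6, 4, 6, 0, 7, 2]), (1355, [6, 4, 6, 1, 6, 2]), (1356, [6, 0, 6, 0, 6, 3, 6, 6]), (1357, [6, 0, 6, 1, 7, 3, 7]), (1358, [6, 0, 4, 7, 1, 6, 6]), (1359, [4, 7, 1, 6, 2, 7, 7]), (1360, [7, 1, 6, 2, 6, 6]), (1361, [4, 6, 1, 6, 1, 6, 3, 7]), (1362, [6, 0, 6, 6]), (1363, [6, 1, 6, 6, 6, 1]), (1364, [4, 6, 1, 7, 1]), (1365, [4, 6, 0, 7, 7]), (1368, [6, 2, 4, 6, 0]), (1369, [4, 6, 0, 6, 6, 4, 6, 2]), (1370, [6, 6, 1, 6, 4, 2]), (1373, [6, 0, 6, 1, 6, 0, 6,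 6]), (1375, [6, 0, 7, 0, 7, 1, 6, 6]), (1376, [6, 4, 6, 0, 6, 0]), (1377, [4, 6, 0, 7, 1, 6, 0]), (1379, [6, 0, 4, 6, 0, 7]), (1380, [4, 6, 1, 6, 1, 6, 6, 6, 1]), (1381, [6, 1, 6, 1, 7, 1]), (1382, [6, 1, 6, 0, 6, 1, 6, 0]), (1383, [6, 0, 7, 1, 6, 0, 7, 3]), (1384, [6, 1, 6, 1, 6, 3]), (1385, [4, 6, 1, 6, 1, 7, 7, 7, 3]), (1389, [6, 0, 6, 0, 6, 1, 7]), (1390, [4, 6, 1, 6, 3, 7, 1, 7]), (1391, [4, 6, 1, 6, 3, 6, 3, 6]), (1392, [6, 1, 6, 1, 7, 3, 7]), (1393, [6, 1, 6, 2, 7, 7, 7]), (1394, [4, 6, 1, 6, 2, 6]), (1395, [6, 0, 6, 1, 7, 2, 7, 7]), (1396, [4, 6, 0, 7, 1, 7, 2]), (1398, [6, 1, 6, 1, 6, 1, 6, 1]), (1399, [6, 0, 6, 0, 7, 2, 6, 2]), (1400, [4, 6, 0, 6, 6]), (1401, [6, 0, 7, 7]), (1402, [6, 2, 7, 7, 7]), (1403,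 [4, 6, 2, 6]), (1404, [6, 0, 7, 1, 7, 0, 6]), (1405, [4, 6, 0, 6, 1, 7, 0, 7]), (1406, [6, 4, 6, 0, 6, 2, 7]), (1407, [6, 6, 1, 6, 1, 4, 7])]),
  (3, [(24, [6, 4, 6, 4, 7, 4, 7])]),
  (7, []),
  (8, [(16, [1]), (283, [2]), (361, [0, 2]), (566, [0, 3]), (596, [0])]),
  (16, [(361, [1, 2])])]

theorem chk_ch8 : chkChain px 1408 mg8 [] ch8 = true := by decide +kernel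

theorem sizes_ch8 : sizes ch8 = 30720 := by decide +kernel

theorem mg8_lt : ∀ w ∈ mg8, ∀ c ∈ w, c < 5 := by decide +kernel

end Cfsg.Agent.Lib.Helper2.HNS
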