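import Cfsg.Agent.Lib.Helper2.HNDce3b
import Cfsg.Agent.Lib.Helper2.HNS.Ch1
set_option autoImplicit false
set_option maxRecDepth 1000000
set_option Elab.async false
open Cfsg.Agent.Lib.Helper2.HNDce
namespace Cfsg.Agent.Lib.Helper2.HNS

/-! # The entries of the row 1 and the covering of the 1408 points -/

/-- the entries of the row 1: the word `h`, the row `j`, the word `g₀`, the number of the coset equality -/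
def ent1 : List (List Nat × Nat × List Nat × Nat) := [
  ([], 1, [1], 6),
  ([0, 0], 0, [], 2),
  ([0], 1, [0, 0], 4),
  ([1], 1, [0], 5),
  ([4], 1, [0, 0], 3),
  ([0, 0, 4], 2, [], 7),
  ([0, 4], 3, [], 17),
  ([1, 4], 2, [0, 0], 13),
  ([0, 4, 2, 4], 4, [], 28),
  ([4, 2, 1, 2, 4], 2, [1], 48),
  ([4, 2, 4, 2, 4], 5, [], 54)]

/-- the covering of the points by the row 1: for the point `q`, the entry and the word in the generators of the subgroup -/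
def cov1 : List (Nat × List Nat) := [
  (0, []),
  (2, []),
  (3, []),
  (4, []),
  (1, []),
  (6, []),
  (7, []),
  (4, [0]),
  (4, [1]),
  (5, []),
  (6, [0]),
  (6, [1]),
  (7, [0]),
  (7, [1]),
  (7, [2]),
  (6, [2]),
  (4, [0, 0]),
  (9, [0, 3, 3, 0, 2, 1, 3, 3]),
  (7, [3]),
  (6, [3]),
  (4, [1, 1]),
  (9, [0, 3, 1, 2, 0, 3, 0, 2]),
  (5, [0]),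
  (5, [1]),
  (4, [2]),
  (5, [2]),
  (6, [0, 0]),
  (8, []),
  (4, [3]),
  (5, [3]),
  (6, [1, 1]),
  (8, [3]),
  (7, [0, 0]),
  (8, [0, 0, 0, 3, 0, 2, 1, 1]),
  (7, [1, 1]),
  (8, [0, 0, 0, 3, 0, 2, 1, 1, 3]),
  (7, [0, 2]),
  (8, [0, 0, 2, 0, 0, 2, 1, 3]),
  (6, [0, 2]),
  (8, [1, 2]),
  (7, [2, 2]),
  (6, [2, 2]),
  (4, [0, 0, 0]),
  (9, [3, 0, 2, 1, 3, 0, 2, 0]),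
  (9, [3, 0, 2, 1, 3, 1, 1]),
  (9, [1, 2, 0, 3, 1, 2, 2]),
  (8, [0, 0, 2, 0, 0, 2, 1, 3, 1]),
  (8, [1, 2, 1]),
  (7, [3, 3]),
  (6, [3, 3]),
  (9, [2, 1, 3, 0, 2, 1, 3, 1]),
  (9, [0, 3, 1, 2, 0, 3, 3]),
  (9, [2, 1, 3, 0, 2, 0, 0]),
  (5, [0, 0]),
  (9, [0, 0, 0, 3, 1, 1, 3, 3]),
  (5, [1, 1]),
  (9, [0, 0, 0, 2, 0, 0, 2, 2]),
  (4, [0, 2]),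
  (9, [0, 3, 3, 1, 3, 3, 1, 1]),
  (5, [0, 2]),
  (9, [0, 0, 0, 2, 0, 3, 1, 1]),
  (4, [2, 2]),
  (5, [2, 2]),
  (6, [0, 0, 0]),
  (8, [1, 1, 2, 0]),
  (8, [0]),
  (8, [1]),
  (9, [0, 3, 1, 2, 0, 2, 2, 2]),
  (9, [0, 0, 0, 3, 1, 2, 0, 0]),
  (4, [3, 3]),
  (5, [3, 3]),
  (8, [1, 2, 2, 1, 3]),
  (8, [3, 0]),
  (8, [3, 1]),
  (7, [0, 0, 0]),
  (8, [0, 2, 1, 3, 0, 2, 1]),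
  (8, [0, 0, 0, 3, 0, 2, 1]),
  (8, [0, 0, 3, 1, 2, 0, 0]),
  (8, [0, 2, 1, 3, 0, 2, 0]),
  (8, [3, 1, 1, 2, 0, 3, 1, 1]),
  (8, [2, 2, 1, 1, 3, 1, 2, 0]),
  (9, [0, 2]),
  (8, [0, 0, 3, 1, 2, 0, 3]),
  (9, []),
  (8, [1, 1, 3]),
  (7, [2, 2, 0]),
  (7, [0, 0, 3]),
  (8, [0, 0, 0, 3, 0, 2, 1, 3, 0]),
  (6, [2, 2, 0]),
  (6, [0, 0, 3]),
  (8, [0, 3, 0]),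
  (7, [2, 2, 2]),
  (6, [2, 2, 2]),
  (9, [0, 0, 0]),
  (9, [2, 1, 3, 0, 2, 1, 3, 1, 1]),
  (9, [3, 0, 2, 1, 3, 0, 2]),
  (8, [1, 2, 2]),
  (8, [0, 0, 2, 0, 0, 2, 1]),
  (9, [3, 0, 2, 1, 3, 1]),
  (10, []),
  (9, [3, 0, 2, 1, 3, 0]),
  (6, [0, 0, 2, 1, 3, 0, 0]),
  (8, [0, 0, 2, 2, 0, 3, 3, 0]),
  (8, [1, 2, 1, 1]),
  (7, [3, 3, 1]),
  (8, [0, 0, 2, 0, 3, 1, 3, 0]),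
  (6, [3, 3, 1]),
  (8, [0, 3, 1]),
  (9, [2, 1, 3, 0, 2, 1, 3]),
  (9, [2, 1, 3, 0, 2, 1]),
  (6, [1, 1, 3, 0, 2, 1, 1]),
  (8, [1, 2, 1, 3]),
  (8, [0, 0, 2, 0, 0, 3, 3, 0]),
  (9, [2, 1, 3, 0, 2, 0]),
  (10, [0, 2, 0, 3, 3, 1]),
  (5, [0, 0, 0]),
  (9, [0, 0, 2, 1, 3, 0, 2, 0]),
  (9, [0, 0, 2, 1, 3, 1, 1]),
  (9, [0, 0, 2, 1, 3, 0, 0]),
  (9, [1, 1, 3, 0, 2, 1, 3, 1]),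
  (9, [1, 1, 3, 0, 2, 1, 1]),
  (9, [1, 1, 3, 0, 2, 0, 0]),
  (8, [0, 0, 0, 2, 0, 3, 1, 1]),
  (9, [0, 3, 3, 1, 3, 3, 1]),
  (8, [0, 0, 0, 2, 0, 3, 1, 2]),
  (9, [0, 0, 0, 2, 0, 3, 1]),
  (4, [2, 2, 0]),
  (4, [0, 0, 3]),
  (9, [1, 2, 0, 3, 1, 2, 0, 2]),
  (5, [2, 2, 0]),
  (5, [0, 0, 3]),
  (9, [2, 2, 0, 3, 1, 2, 0, 2]),
  (4, [2, 2, 2]),
  (5, [2, 2, 2]),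
  (8, [0, 0, 2, 1, 3, 0, 0, 3]),
  (8, [1, 1, 2, 0, 0]),
  (8, [1, 1, 2]),
  (9, [2, 2, 0, 3, 1, 3, 3]),
  (9, [1, 2, 0, 3, 1, 3, 3]),
  (8, [0, 0]),
  (10, [0, 2, 0, 0, 2, 2]),
  (8, [1, 1]),
  (5, [0, 0, 2, 1, 3, 0, 0]),
  (9, [0, 3, 3, 0, 2, 2, 0]),
  (9, [0, 0, 0, 3, 1, 2, 0]),
  (4, [3, 3, 1]),
  (9, [0, 3, 1, 2, 0, 3, 1, 3]),
  (5, [3, 3, 1]),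
  (9, [3, 3, 1, 2, 0, 3, 1, 3]),
  (8, [2, 1, 3, 1]),
  (8, [3, 0, 0]),
  (5, [1, 1, 3, 0, 2, 1, 1]),
  (9, [3, 3, 1, 2, 0, 2, 2]),
  (9, [0, 3, 1, 2, 0, 2, 2]),
  (8, [3, 1, 1]),
  (10, [1, 1, 2, 1]),
  (8, [2, 2, 0, 0, 2]),
  (8, [0, 2, 1, 3, 0, 2]),
  (8, [0, 0, 3, 1, 2, 0, 2]),
  (8, [0, 0, 0, 3, 0, 2]),
  (10, [3, 0, 2, 1, 3, 1]),
  (8, [0, 0, 3, 1, 2, 0]),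
  (4, [0, 0, 2, 1, 3, 0, 0]),
  (8, [0, 2, 1, 3, 0, 2, 0, 0]),
  (8, [3, 1, 1, 2, 0, 3, 1]),
  (4, [1, 1, 3, 0, 2, 1, 1]),
  (8, [2, 2, 1, 1, 3, 1, 2]),
  (10, [1, 2, 1, 1]),
  (9, [3]),
  (9, [2]),
  (9, [0, 3, 3, 0, 2, 1, 3]),
  (9, [0, 0, 0, 3, 1, 1, 3]),
  (8, [2, 2, 1, 3, 0, 2]),
  (6, [1, 1, 3, 0, 2, 1]),
  (9, [0]),
  (9, [1]),
  (8, [1, 1, 3, 0]),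
  (7, [1, 1, 3, 0, 2, 1]),
  (5, [0, 0, 2]),
  (4, [0, 0, 2]),
  (7, [2, 2, 0, 0]),
  (8, [1, 2, 1, 3, 3, 0, 2]),
  (9, [0, 0, 3]),
  (8, [0, 0, 2, 0, 3, 1, 2, 2]),
  (8, [0, 0, 0, 3, 0, 2, 1, 3]),
  (6, [2, 2, 0, 0]),
  (8, [3, 0, 2, 2, 0]),
  (9, [0, 3, 0]),
  (8, [0, 3, 0, 0]),
  (8, [0, 3]),
  (7, [2, 2, 2, 0]),
  (7, [2, 2, 2, 1]),
  (8, [2, 2, 0, 3, 1]),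
  (6, [2, 2, 2, 0]),
  (6, [2, 2, 2, 1]),
  (8, [0, 0, 2, 2, 0, 2, 2, 1]),
  (9, [1, 1]),
  (9, [0, 0]),
  (8, [0, 3, 0, 2]),
  (8, [0, 0, 3, 3, 0, 0, 2, 0]),
  (10, [2, 0, 3, 3, 0, 2, 2]),
  (8, [2, 1]),
  (8, [0, 0, 2, 2, 1, 1, 2, 2, 0]),
  (9, [0, 3, 1, 2, 0, 3, 1, 2]),
  (10, [0, 2, 0, 0, 0, 3, 0]),
  (8, [1, 2, 2, 0]),
  (8, [1, 2, 2, 1]),
  (10, [2, 1, 3, 3]),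
  (8, [0, 0, 2, 0, 0, 2]),
  (8, [0, 0, 2, 0, 0, 2, 1, 1]),
  (10, [0, 0, 2, 1]),
  (8, [1, 2, 2, 2]),
  (8, [0, 0, 2, 2, 1, 1]),
  (9, [3, 0, 2, 1, 3]),
  (10, [1, 3, 1, 3, 0, 2]),
  (10, [0]),
  (10, [1]),
  (8, [1, 3]),
  (8, [0, 0, 2, 2, 1, 1, 2, 2]),
  (10, [1, 1, 2, 0, 3, 3]),
  (6, [0, 0, 2, 1, 3, 0]),
  (9, [0, 3, 1, 2, 0, 3, 0]),
  (9, [0, 0, 0, 2, 0, 0, 2]),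
  (8, [0, 0, 2, 2, 0, 3, 3]),
  (8, [2, 2, 0, 2]),
  (7, [0, 0, 2, 1, 3, 0]),
  (5, [1, 1, 3]),
  (4, [1, 1, 3]),
  (8, [1, 2, 2, 2, 1, 3]),
  (8, [0, 0, 2, 0, 3, 1, 3]),
  (8, [1, 3, 3, 1]),
  (8, [0, 3, 1, 1]),
  (8, [3, 3, 0]),
  (8, [0, 0, 2, 0, 3, 1, 3, 0, 2]),
  (10, [0, 0, 2, 1, 3]),
  (8, [3, 0, 2]),
  (8, [0, 0, 2, 1, 3, 1, 1, 2, 1]),
  (9, [2, 1, 3, 0, 2]),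
  (10, [0, 0, 3, 0, 2, 0, 2, 1]),
  (8, [1, 2, 1, 3, 1]),
  (10, [0, 2, 1, 1, 3, 3]),
  (8, [0, 0, 2, 0, 0, 3, 3]),
  (10, [0, 2, 0, 0, 2, 1]),
  (8, [1, 2, 1, 3, 3]),
  (8, [0, 2, 1, 1, 2, 2, 0]),
  (10, [0, 0, 2, 0, 2, 1]),
  (10, [0, 2, 0, 3, 3]),
  (10, [1, 3, 3, 0, 2]),
  (9, [2, 1, 1]),
  (9, [0, 0, 2, 1, 3, 0, 2, 0, 0]),
  (9, [0, 0, 2, 1, 3, 0, 2]),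
  (9, [0, 0, 2, 1, 3, 1]),
  (10, [1, 1, 2, 0, 3, 0]),
  (9, [0, 0, 2, 1, 3, 0]),
  (7, [0, 0, 2, 1, 3, 0, 0]),
  (9, [1, 1, 3, 0, 2, 1, 3]),
  (9, [1, 1, 3, 0, 2, 1]),
  (7, [1, 1, 3, 0, 2, 1, 1]),
  (9, [1, 1, 3, 0, 2, 0]),
  (10, [0, 0, 3, 1, 2, 2, 0, 2]),
  (8, [0, 0, 0, 2, 0, 3, 1]),
  (8, [2, 2, 0, 0, 2, 0, 0]),
  (8, [2]),
  (8, [0, 0, 0, 2, 1, 1, 2, 0, 3]),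
  (9, [0, 3, 3, 1, 3, 3]),
  (5, [1, 1, 3, 0, 2, 1]),
  (8, [2, 2, 0, 3, 1, 2, 2]),
  (8, [1, 3, 3, 0, 2, 1, 3]),
  (9, [0, 0, 0, 2, 0, 3]),
  (4, [1, 1, 3, 0, 2, 1]),
  (7, [0, 0, 2]),
  (6, [0, 0, 2]),
  (4, [2, 2, 0, 0]),
  (9, [0, 3, 1, 2, 0, 0]),
  (8, [0, 0, 0, 2, 0, 3, 1, 3, 0]),
  (9, [3, 3, 1, 3, 0, 2, 1, 3]),
  (9, [2, 1, 3, 0, 2, 0, 0, 2]),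
  (5, [2, 2, 0, 0]),
  (9, [0, 3, 1, 1, 3, 1]),
  (8, [0, 0, 0, 2, 0, 3, 3]),
  (9, [0, 3, 1, 3, 0, 2, 1, 3]),
  (9, [0, 0, 2, 1, 3, 1, 1, 3]),
  (4, [2, 2, 2, 0]),
  (4, [2, 2, 2, 1]),
  (9, [2, 2, 2]),
  (5, [2, 2, 2, 0]),
  (5, [2, 2, 2, 1]),
  (9, [0, 3, 3]),
  (8, [0, 0, 0, 3, 3, 1, 2, 2]),
  (8, [0, 0, 0, 3, 3, 1, 3, 3]),
  (9, [2, 2, 0, 3, 1, 2, 0, 2, 2]),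
  (9, [0, 3, 1, 2, 0, 3, 1, 3, 3]),
  (10, [2, 2, 0, 0, 2, 0]),
  (9, [2, 2, 0, 3, 1, 2, 0]),
  (9, [1, 2, 0, 3, 1, 2, 0]),
  (8, [2, 1, 3]),
  (10, [3, 3, 0, 0, 3]),
  (9, [2, 2, 0, 3, 1, 3, 3, 0]),
  (9, [2, 2, 0, 3, 1, 3, 3, 1]),
  (10, [0, 2, 0, 0, 0, 2]),
  (9, [1, 2, 0, 3, 1, 3, 3, 0]),
  (9, [0, 3, 1, 2, 0, 2, 2, 0]),
  (10, [0, 2, 1, 1, 3, 1, 2, 2]),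
  (9, [2, 2, 0, 3, 1, 3]),
  (9, [1, 2, 0, 3, 1, 3]),
  (8, [0, 0, 0]),
  (10, [2, 2, 0, 0, 3, 3]),
  (10, [0, 2, 0, 0, 2, 2, 0]),
  (10, [0, 2, 0, 0, 2, 2, 1]),
  (9, [2, 2, 0, 3, 1, 2]),
  (9, [1, 2, 0, 3, 1, 2]),
  (10, [2, 1, 3, 0, 2, 2]),
  (5, [0, 0, 2, 1, 3, 0]),
  (8, [3, 3]),
  (8, [0, 0, 2, 1, 3, 1, 1, 2]),
  (9, [0, 3, 3, 0, 2, 2]),
  (9, [0, 0, 0, 3, 1, 2]),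
  (4, [0, 0, 2, 1, 3, 0]),
  (7, [1, 1, 3]),
  (6, [1, 1, 3]),
  (9, [1, 2, 0, 3, 1, 1]),
  (9, [2, 2, 0, 2, 1, 3, 0, 2]),
  (9, [0, 3, 1, 1, 2, 0]),
  (9, [1, 2, 0, 2, 1, 3, 0, 2]),
  (9, [3, 3, 1, 2, 0, 3, 1]),
  (9, [0, 3, 1, 2, 0, 3, 1]),
  (10, [0, 2, 1, 1, 3, 1, 2]),
  (9, [3, 3, 1, 2, 0, 3]),
  (9, [0, 3, 1, 2, 0, 3]),
  (8, [3, 0, 0, 0]),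
  (10, [3, 0]),
  (9, [3, 3, 1, 2, 0, 2, 2, 1]),
  (10, [3, 1]),
  (9, [0, 3, 1, 2, 0, 2, 2, 1]),
  (10, [1, 1, 2, 2, 1, 1]),
  (9, [3, 3, 1, 2, 0, 2]),
  (9, [0, 3, 1, 2, 0, 2]),
  (10, [2, 2, 0, 0, 2, 2]),
  (10, [1, 1, 2]),
  (10, [1, 1, 2, 1, 1]),
  (8, [2, 2, 0, 0, 2, 0]),
  (8, [0, 0, 0, 2, 0, 3]),
  (10, [2, 2, 0, 3, 1, 1]),
  (8, [0, 0, 3, 1, 2, 0, 2, 1]),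
  (10, [3, 1, 2]),
  (8, [0, 0, 3, 1, 2]),
  (10, [2, 2, 0, 3, 1, 3]),
  (10, [3, 0, 2, 1, 3]),
  (10, [0, 2, 0, 2, 2, 2, 0]),
  (10, [0, 0, 0, 3, 0, 0, 2, 2]),
  (10, [0, 2, 0, 0, 0]),
  (8, [3, 1, 1, 2, 0, 3]),
  (10, [1, 1, 2, 2]),
  (10, [3, 0, 0, 2, 1, 3]),
  (10, [1, 2, 1]),
  (10, [1, 2, 0, 0, 0]),
  (9, [3, 0]),
  (10, [1, 2, 1, 1, 2]),
  (9, [2, 1]),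
  (10, [0, 2, 1, 1, 3, 3, 0]),
  (5, [3, 3, 1, 2, 0, 3]),
  (4, [3, 3, 1, 2, 0, 3]),
  (9, [0, 3, 3, 0, 2, 1]),
  (9, [0, 0, 0, 3, 1, 1]),
  (10, [2, 1, 1, 2, 2, 2]),
  (6, [1, 1, 3, 0, 2]),
  (10, [1, 3, 0]),
  (10, [0, 2, 0, 0, 2]),
  (10, [1, 1, 3, 1, 3]),
  (7, [1, 1, 3, 0, 2]),
  (5, [0, 0, 2, 0]),
  (5, [0, 0, 2, 1]),
  (9, [1, 1, 3, 0, 2, 2]),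
  (4, [0, 0, 2, 0]),
  (4, [0, 0, 2, 1]),
  (9, [0, 0, 2, 2, 1, 3]),
  (5, [0, 0, 2, 2]),
  (4, [0, 0, 2, 2]),
  (8, [0, 0, 2, 0, 0, 2, 0, 2]),
  (8, [1, 3, 3, 0, 2, 0, 3]),
  (8, [0, 0, 2, 1, 3, 1, 3, 0]),
  (9, [2, 2]),
  (9, [3, 3]),
  (9, [1, 1, 3, 1, 2, 0, 3, 1]),
  (9, [2, 1, 3, 1, 2, 0, 3, 1]),
  (10, [2, 1, 1, 3]),
  (6, [0, 0, 2, 1, 3, 0, 2]),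
  (8, [0, 3, 0, 0, 0]),
  (8, [1, 3, 3, 1, 1, 2]),
  (8, [3, 0, 2, 2]),
  (9, [1, 2]),
  (9, [0, 3]),
  (10, [1, 1, 3, 1, 2]),
  (7, [0, 0, 2, 1, 3, 0, 2]),
  (5, [0, 0, 0, 2]),
  (4, [0, 0, 0, 2]),
  (8, [0, 0, 2, 2, 1]),
  (5, [0, 0, 0, 3]),
  (4, [0, 0, 0, 3]),
  (8, [0, 2, 1, 1, 2, 2]),
  (8, [2, 2, 0, 3]),
  (8, [2, 2, 0, 3, 0]),
  (8, [1, 2, 2, 2, 0]),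
  (8, [1, 2, 1, 3, 3, 1]),
  (8, [0, 0, 2, 2, 0, 2, 2]),
  (8, [0, 0, 2, 2, 0, 2, 2, 0]),
  (8, [0, 0, 0, 2, 0, 3, 1, 3]),
  (8, [2, 2, 0, 3, 1, 2]),
  (10, [1, 2, 1, 3]),
  (8, [1, 3, 3, 1, 1, 3, 1, 1]),
  (8, [1, 3, 3, 0, 2, 1]),
  (10, [2, 1, 1, 2, 1, 3]),
  (8, [0, 3, 0, 2, 0]),
  (8, [0, 0, 2, 0, 2]),
  (10, [2, 2, 0, 3, 1, 2]),
  (8, [0, 0, 2, 0, 3, 1, 1, 2]),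
  (8, [0, 0, 3, 3, 0, 0, 2]),
  (10, [2, 2, 0, 0]),
  (10, [1, 3, 1, 3, 0, 2, 2]),
  (10, [0, 0, 2, 0, 2, 1, 3]),
  (10, [2, 1, 1, 2, 1, 3, 1]),
  (6, [0, 0, 2, 1, 3, 0, 2, 0]),
  (10, [0, 0, 0, 3, 0, 0, 2, 1]),
  (10, [0, 2, 0, 0, 0, 3]),
  (9, [0, 0, 2, 1, 3, 1, 1, 2]),
  (9, [3, 0, 2, 1, 3, 1, 1, 2]),
  (8, [1, 2, 2, 0, 0]),
  (10, [2, 2, 1, 3, 3]),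
  (7, [2, 2, 0, 3, 1, 2, 0]),
  (10, [2, 0, 3, 3]),
  (8, [0, 0, 2, 0, 0, 2, 0]),
  (10, [2, 0, 0, 0, 2, 1]),
  (6, [2, 2, 0, 3, 1, 2, 0]),
  (10, [0, 0, 2]),
  (8, [1, 2, 2, 2, 1]),
  (10, [2, 2, 0, 0, 0, 2]),
  (8, [1, 3, 3, 1, 2]),
  (10, [2, 2, 0, 0, 2, 1]),
  (8, [1, 3, 3]),
  (8, [0, 0, 2, 2, 1, 1, 2]),
  (10, [2, 1, 3, 1, 3]),
  (10, [0, 2, 1, 3, 1, 1]),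
  (10, [0, 2, 1, 3, 0, 0]),
  (10, [0, 0, 0, 3, 0]),
  (10, [2, 1, 3]),
  (10, [0, 0]),
  (9, [2, 1, 3]),
  (10, [3, 3, 0]),
  (10, [1, 1]),
  (10, [0, 0, 2, 1, 3, 1]),
  (10, [3, 3]),
  (10, [0, 0, 3, 3, 0, 2]),
  (4, [2, 2, 0, 3, 1, 2]),
  (5, [2, 2, 0, 3, 1, 2]),
  (6, [0, 0, 2, 1, 3]),
  (9, [0, 3, 1, 2, 2, 1]),
  (9, [0, 0, 0, 2, 0, 0]),
  (10, [2, 1, 1, 2, 2]),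
  (10, [0, 2, 2, 2, 0]),
  (7, [0, 0, 2, 1, 3]),
  (5, [1, 1, 3, 0]),
  (5, [1, 1, 3, 1]),
  (9, [0, 0, 2, 1, 3, 3]),
  (4, [1, 1, 3, 0]),
  (4, [1, 1, 3, 1]),
  (9, [0, 0, 2, 2, 0, 2]),
  (8, [1, 2, 2, 2, 1, 3, 1]),
  (9, [0, 0, 2, 0, 3, 1, 2, 0]),
  (9, [3, 0, 2, 0, 3, 1, 2, 0]),
  (10, [2, 1, 1]),
  (8, [1, 3, 3, 1, 1]),
  (10, [2, 0, 3, 0, 0]),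
  (10, [1, 1, 2, 0, 3]),
  (10, [3, 1, 2, 2]),
  (10, [0, 2, 1, 1, 3, 0]),
  (10, [2, 1, 3, 1, 3, 0]),
  (10, [0, 0, 3, 0, 2, 0, 2]),
  (9, [1, 1, 3, 0, 2, 0, 0, 3]),
  (9, [2, 1, 3, 0, 2, 0, 0, 3]),
  (10, [2, 2, 2, 1]),
  (10, [2, 2, 1, 3, 0, 2]),
  (10, [2, 0, 0, 0, 2]),
  (10, [0, 0, 3, 1, 3, 3]),
  (8, [1, 2, 1, 3, 3, 0]),
  (10, [2, 2, 0, 3]),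
  (8, [3, 0, 2, 2, 0, 3]),
  (10, [2, 2, 0, 0, 3, 0]),
  (10, [0, 0, 2, 0, 2]),
  (10, [0, 0, 2, 0, 2, 1, 1]),
  (10, [0, 2, 1, 1, 3]),
  (10, [0, 2, 0, 3, 3, 0]),
  (10, [1, 1, 3, 3, 0]),
  (10, [3, 0, 2, 2, 0]),
  (10, [0, 0, 3, 1, 3]),
  (9, [3, 0, 2]),
  (10, [0, 0, 2, 0, 2, 2]),
  (9, [0, 0, 2, 1, 3, 0, 2, 1]),
  (9, [0, 0, 2, 1, 3]),
  (10, [0, 0, 3, 3, 0, 0, 2]),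
  (10, [2, 0, 2, 2, 2, 1]),
  (10, [1, 3]),
  (9, [1, 1, 3, 0, 2]),
  (10, [0, 2, 0, 3]),
  (10, [0, 3, 1, 3, 3, 0]),
  (10, [2, 0, 2, 2, 1, 3, 0]),
  (10, [0, 2, 0, 0, 0, 2, 1]),
  (10, [3]),
  (7, [3, 3, 1, 2, 0, 3]),
  (6, [3, 3, 1, 2, 0, 3]),
  (8, [2, 2]),
  (8, [0, 0, 0, 2, 1, 1, 2, 0]),
  (10, [1, 2, 2, 0, 2, 2]),
  (5, [1, 1, 3, 0, 2]),
  (10, [0, 0, 0, 3, 0, 0, 2, 1, 3]),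
  (10, [1, 1, 2, 2, 1]),
  (10, [0, 0, 0, 3, 1, 2]),
  (4, [1, 1, 3, 0, 2]),
  (7, [0, 0, 2, 0]),
  (7, [0, 0, 2, 1]),
  (8, [3, 1, 1, 2, 0]),
  (6, [0, 0, 2, 0]),
  (6, [0, 0, 2, 1]),
  (8, [3, 0, 0, 0, 2]),
  (7, [0, 0, 2, 2]),
  (6, [0, 0, 2, 2]),
  (9, [2, 2, 0, 2, 1, 3, 0, 2, 1]),
  (9, [2, 2, 0, 0, 3]),
  (9, [0, 3, 1, 2, 0]),
  (8, [0, 2, 2, 0, 3]),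
  (8, [0, 0, 3, 1, 1, 3, 1]),
  (10, [3, 1, 3, 3, 0]),
  (5, [0, 0, 2, 1, 3, 0, 2]),
  (9, [0, 3, 1, 3, 0, 2, 1, 3, 0]),
  (9, [0, 3, 1, 1, 3]),
  (9, [3, 3, 1, 2, 0]),
  (10, [3, 1, 1, 3, 1, 1]),
  (4, [0, 0, 2, 1, 3, 0, 2]),
  (7, [0, 0, 0, 2]),
  (6, [0, 0, 0, 2]),
  (9, [1, 2, 0, 3, 1, 3, 0]),
  (7, [0, 0, 0, 3]),
  (6, [0, 0, 0, 3]),
  (9, [0, 3, 1, 2, 0, 2, 1]),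
  (9, [2, 2, 2, 0]),
  (9, [2, 2, 2, 1]),
  (9, [2, 2, 0, 3, 1, 3, 0]),
  (9, [3, 3, 1, 2, 0, 2, 1]),
  (9, [0, 3, 3, 0]),
  (9, [0, 3, 3, 1]),
  (10, [0, 2, 0, 2, 2, 2]),
  (10, [1, 2]),
  (9, [1, 1, 3, 0, 2, 0, 3, 1, 3]),
  (9, [0, 0, 2, 1, 3, 1, 2, 0, 2]),
  (10, [0, 2, 2, 0, 2, 2, 1]),
  (9, [2, 1, 3, 0, 2, 0, 3, 1, 3]),
  (9, [3, 0, 2, 1, 3, 1, 2, 0, 2]),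
  (10, [1, 2, 0, 3, 0, 2, 1]),
  (10, [2, 2, 0, 0, 3]),
  (10, [2, 2, 0, 0, 2]),
  (5, [0, 0, 2, 1, 3, 0, 2, 0]),
  (10, [1, 2, 1, 1, 2, 2]),
  (10, [0, 0, 2, 1, 3, 3]),
  (8, [0, 0, 0, 3, 0, 0, 3, 0]),
  (8, [0, 2]),
  (9, [2, 2, 0, 3, 1, 3, 3, 0, 0]),
  (10, [1, 3, 0, 2, 2, 0]),
  (4, [2, 2, 0, 3, 1, 2, 0]),
  (10, [0, 2, 0, 0, 0, 2, 0]),
  (9, [0, 3, 1, 2, 0, 2, 2, 1, 1]),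
  (10, [3, 1, 3, 3, 0, 0, 3]),
  (5, [2, 2, 0, 3, 1, 2, 0]),
  (10, [0, 3, 3, 1, 1, 2, 2]),
  (9, [1, 2, 0, 3, 1, 1, 2]),
  (10, [0, 2, 1, 3, 1, 3, 3]),
  (9, [0, 3, 1, 1, 2, 0, 2]),
  (10, [0, 2, 2, 0, 2, 2, 2]),
  (9, [2, 2, 0, 3, 1]),
  (9, [1, 2, 0, 3, 1]),
  (10, [1, 2, 0, 3, 1]),
  (10, [1, 1, 3, 0, 2, 0, 3]),
  (10, [1, 1, 2, 2, 0, 0, 3]),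
  (10, [0, 2, 1, 3, 3, 1, 1]),
  (10, [1, 2, 2, 2, 1]),
  (10, [0, 3, 3, 1, 1, 2]),
  (8, [3, 0, 0, 0, 3, 1]),
  (10, [0, 2, 0, 0, 2, 2, 1, 1]),
  (10, [0, 2, 1, 1, 3, 1, 2, 1]),
  (10, [0, 2, 0, 0]),
  (10, [3, 0, 0, 2, 2, 2]),
  (6, [2, 2, 0, 3, 1, 2]),
  (7, [2, 2, 0, 3, 1, 2]),
  (5, [0, 0, 2, 1, 3]),
  (8, [2, 2, 2]),
  (8, [0, 0, 2, 1, 3, 1, 1]),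
  (10, [1, 2, 2, 0, 2]),
  (10, [0, 0, 0, 3, 1]),
  (4, [0, 0, 2, 1, 3]),
  (7, [1, 1, 3, 0]),
  (7, [1, 1, 3, 1]),
  (8, [0, 0, 3, 1]),
  (6, [1, 1, 3, 0]),
  (6, [1, 1, 3, 1]),
  (8, [0, 0, 0, 3]),
  (9, [2, 2, 0, 0, 2]),
  (8, [0, 2, 0, 3, 0]),
  (8, [0, 0, 3, 1, 1, 2, 2, 0]),
  (10, [1, 2, 2, 0, 3]),
  (9, [0, 3, 1, 1, 2]),
  (10, [0, 0, 0, 3, 1, 3, 3]),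
  (10, [2, 0, 2, 2, 0, 3, 1]),
  (10, [1, 3, 0, 2]),
  (10, [1, 2, 0, 3]),
  (10, [3, 0, 0]),
  (8, [0, 0, 3, 1, 1, 3, 3, 0]),
  (8, [3, 1, 3]),
  (10, [0, 2, 0, 0, 3, 1]),
  (10, [3, 1, 1]),
  (10, [1, 2, 2, 0, 3, 1, 2]),
  (10, [1, 1, 2, 0, 0, 0, 3]),
  (9, [0, 3, 1, 2, 0, 0, 3]),
  (10, [0, 2, 0, 0, 3, 1, 2, 1]),
  (9, [0, 3, 1, 1, 3, 1, 3]),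
  (10, [0, 0, 2, 0, 2, 2, 0, 0]),
  (10, [2, 2, 0, 0, 2, 2, 0]),
  (10, [1, 1, 3, 0, 2, 0]),
  (10, [1, 1, 2, 0]),
  (10, [1, 1, 2, 0, 0, 2, 1]),
  (10, [3, 1, 3]),
  (10, [1, 1, 2, 0, 0, 0]),
  (8, [0, 0, 0, 2, 0]),
  (10, [2, 2, 0, 3, 1]),
  (10, [2, 2, 0, 0, 0, 2, 0]),
  (4, [0, 0, 2, 1, 3, 0, 2, 0]),
  (10, [0, 3, 0, 2]),
  (10, [0, 2, 2, 0, 2, 1, 1]),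
  (10, [2, 2, 0, 3, 1, 3, 0]),
  (10, [3, 0, 0, 0, 3]),
  (10, [3, 0, 2, 1, 3, 0]),
  (8, [0, 0, 0, 3, 3, 1, 2]),
  (10, [1, 1, 2, 2, 0, 2, 2, 2]),
  (10, [0, 2, 1, 1]),
  (10, [0, 2, 2, 0, 2, 1]),
  (10, [1, 1, 2, 2, 0]),
  (10, [2, 2, 0, 0, 2, 0, 3]),
  (10, [2, 2, 0, 2, 2, 2, 0]),
  (10, [1, 2, 0, 0]),
  (8, [0, 0, 0, 3, 3, 1, 3]),
  (9, [0, 3, 3, 0, 2]),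
  (9, [1, 2, 0, 3, 3]),
  (10, [1, 1, 2, 1, 1, 2, 2]),
  (9, [0, 0, 0, 3, 1]),
  (9, [2, 2, 0, 3, 3]),
  (10, [0, 0, 3, 0, 0, 0]),
  (10, [0, 3, 1, 3, 0, 2, 1]),
  (10, [1, 1, 2, 0, 0, 2]),
  (4, [3, 3, 1, 2, 0]),
  (5, [3, 3, 1, 2, 0]),
  (8, [0, 2, 1, 1, 2]),
  (10, [0, 3, 3, 0, 2]),
  (10, [1, 2, 0, 2]),
  (8, [0, 3, 0, 0, 3, 1, 1]),
  (6, [2, 2, 0, 2]),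
  (7, [2, 2, 0, 2]),
  (9, [3, 0, 2, 0, 3, 1, 2, 2]),
  (6, [2, 2, 0, 3]),
  (7, [2, 2, 0, 3]),
  (9, [3, 0, 2, 1]),
  (9, [3, 0, 2, 0, 3, 1]),
  (9, [1, 1, 3, 0, 2, 2, 1]),
  (9, [0, 0, 2, 0, 3, 1, 2, 2]),
  (9, [0, 0, 2, 1]),
  (9, [0, 0, 2, 0, 3, 1]),
  (9, [0, 0, 2, 2, 1, 3, 1]),
  (9, [2, 1, 3, 1, 2, 0, 3, 1, 2]),
  (9, [0, 0, 2, 0, 3, 1, 2, 0, 3]),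
  (9, [0, 0, 2, 2, 1]),
  (9, [2, 1, 3, 3, 1]),
  (8, [0, 0, 2, 2, 0, 2, 1]),
  (8, [0, 0, 2, 1, 3, 1, 3]),
  (10, [0, 3, 1, 2]),
  (9, [2, 2, 0]),
  (9, [3, 3, 1]),
  (9, [1, 1, 3, 1, 2, 0, 3]),
  (9, [1, 1, 3, 1, 2, 0, 3, 1, 1]),
  (10, [2, 0, 2, 2, 1]),
  (9, [2, 1, 3, 1, 2, 0, 3]),
  (9, [2, 1, 3, 1, 2, 0, 3, 1, 1]),
  (10, [0, 0, 3, 1]),
  (10, [2, 1, 1, 3, 0]),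
  (10, [2, 1, 1, 3, 1]),
  (8, [2, 2, 0, 3, 3, 1]),
  (8, [2, 2, 2, 0, 3]),
  (10, [0, 2, 1, 3, 1, 1, 3, 3]),
  (9, [1, 2, 0]),
  (10, [3, 3, 0, 0]),
  (9, [0, 3, 1]),
  (10, [0, 2, 1, 1, 3, 1]),
  (10, [2, 2, 1, 3]),
  (10, [1, 1, 3, 1, 2, 1]),
  (7, [0, 0, 2, 1, 3, 0, 2, 0]),
  (5, [0, 0, 0, 2, 0]),
  (5, [0, 0, 0, 2, 1]),
  (9, [0, 0, 2, 1, 3, 1, 2]),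
  (4, [0, 0, 0, 2, 0]),
  (4, [0, 0, 0, 2, 1]),
  (9, [3, 0, 2, 1, 3, 1, 2]),
  (8, [0, 0, 2, 2]),
  (5, [0, 0, 0, 3, 0]),
  (5, [0, 0, 0, 3, 1]),
  (9, [1, 1, 3, 0, 2, 0, 3]),
  (4, [0, 0, 0, 3, 0]),
  (4, [0, 0, 0, 3, 1]),
  (9, [2, 1, 3, 0, 2, 0, 3]),
  (8, [2, 2, 1, 1, 2]),
  (9, [0, 0, 0, 2]),
  (9, [2, 1, 1, 2]),
  (10, [2, 1, 1, 2]),
  (9, [0, 0, 0, 3]),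
  (9, [2, 1, 1, 3]),
  (10, [2, 1, 1, 3, 3]),
  (8, [0, 0, 2, 1, 3, 3]),
  (8, [0, 0, 0, 2, 1, 3, 0]),
  (10, [0, 2, 2, 2, 0, 3]),
  (10, [1, 1, 3, 1]),
  (8, [1, 3, 3, 1, 1, 3, 0]),
  (8, [2, 2, 2, 0, 3, 3]),
  (10, [1, 2, 1, 3, 1]),
  (8, [1, 3, 3, 1, 1, 3, 1]),
  (8, [1, 3, 3, 0, 2]),
  (10, [2, 0, 2, 2, 1, 3, 1]),
  (9, [3, 3, 1, 2, 0, 2, 1, 3, 1]),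
  (9, [0, 3, 1, 2, 0, 2, 1, 3, 1]),
  (10, [0, 0, 0, 3, 0, 0]),
  (9, [2, 2, 0, 3, 1, 3, 0, 2, 0]),
  (9, [1, 2, 0, 3, 1, 3, 0, 2, 0]),
  (10, [1, 1, 3, 3]),
  (10, [0, 0, 0, 2, 0, 0, 2]),
  (10, [0, 0, 0, 2, 1, 3]),
  (10, [2, 1, 3, 0]),
  (10, [3, 0, 2, 2]),
  (10, [2, 2, 0, 0, 0]),
  (10, [2, 2, 0]),
  (8, [0, 0, 3, 3, 1]),
  (8, [2, 2, 1, 1, 3, 0]),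
  (10, [0, 0, 0, 3, 0, 0, 2]),
  (10, [0, 3, 3, 0, 0, 2]),
  (9, [0, 0, 2, 2, 0, 3, 1, 3]),
  (10, [0, 0, 3, 1, 2, 1]),
  (9, [0, 0, 0, 3, 0, 2, 1, 3]),
  (10, [1, 3, 1, 3, 3]),
  (9, [0, 0, 2, 1, 3, 1, 1, 2, 2]),
  (9, [2, 1, 3, 0, 2, 0, 0, 3, 3]),
  (10, [2, 0, 2, 1]),
  (10, [2, 2, 1, 1, 3]),
  (10, [2]),
  (10, [2, 0, 0, 2, 1]),
  (10, [2, 0, 3, 3, 0]),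
  (10, [0, 0, 3, 3, 1]),
  (10, [2, 0, 0, 0, 2, 1, 1]),
  (10, [0, 0, 2, 0]),
  (9, [0, 0, 2, 1, 3, 1, 3]),
  (9, [0, 0, 2, 1, 3, 3, 0]),
  (8, [0, 0, 2, 2, 1, 3]),
  (10, [2, 2, 0, 3, 0]),
  (8, [0, 0, 2, 2, 0, 0]),
  (10, [2, 0, 0, 0, 2, 2]),
  (8, [1, 3, 3, 0]),
  (10, [0, 0, 0, 3, 0, 2, 2, 0]),
  (8, [0, 0, 0, 2, 1, 1, 2, 2]),
  (10, [0, 3, 1]),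
  (10, [2, 2, 0, 2]),
  (10, [2, 2, 0, 2, 1, 1]),
  (10, [2, 2, 0, 3, 3, 1]),
  (10, [0, 2, 1, 3, 1]),
  (9, [0, 0, 2, 0, 3, 1, 2, 0, 0]),
  (10, [0, 2, 1, 3, 0]),
  (10, [0, 0, 0, 3]),
  (10, [2, 1, 3, 1]),
  (10, [0, 0, 0, 3, 0, 2]),
  (10, [2, 1]),
  (10, [0, 0, 0]),
  (8, [1, 3, 3, 0, 0, 0]),
  (9, [2, 1, 3, 0]),
  (9, [2, 1, 3, 1]),
  (10, [1, 1, 2, 2, 2]),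
  (10, [3, 0, 2]),
  (10, [2, 2, 2]),
  (10, [2, 0, 0, 0, 2, 0]),
  (9, [0, 0, 2, 0, 3, 0, 0, 2]),
  (4, [2, 2, 0, 3, 1]),
  (5, [2, 2, 0, 3, 1]),
  (8, [0, 2, 1, 3]),
  (9, [0, 3, 1, 2, 2]),
  (9, [0, 3, 3, 1, 3]),
  (10, [2, 0, 2, 2, 0, 0]),
  (9, [3, 3, 1, 2, 2]),
  (9, [0, 0, 0, 2, 0]),
  (10, [0, 0, 3, 0, 0]),
  (10, [2, 1, 1, 2, 2, 0]),
  (10, [0, 2, 1, 3, 3, 0]),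
  (10, [0, 2, 2, 2, 0, 0]),
  (10, [0, 2, 2, 2]),
  (8, [1, 2, 2, 2, 0, 2]),
  (6, [3, 3, 1, 2]),
  (7, [3, 3, 1, 2]),
  (6, [3, 3, 1, 3]),
  (7, [3, 3, 1, 3]),
  (9, [2, 1, 3, 1, 2, 0, 3, 3]),
  (9, [2, 1, 3, 1, 2, 0]),
  (9, [1, 1, 3, 0]),
  (9, [1, 1, 3, 1, 2, 0, 3, 3]),
  (9, [1, 1, 3, 1, 2, 0]),
  (9, [0, 0, 2, 2, 0]),
  (9, [2, 1, 3, 3, 0]),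
  (8, [0, 0, 3, 3, 1, 1, 2]),
  (9, [0, 0, 2, 0, 3, 1, 2]),
  (10, [2, 0, 2, 2]),
  (9, [3, 0, 2, 0, 3, 1, 2, 0, 0]),
  (9, [3, 0, 2, 0, 3, 1, 2]),
  (10, [0, 0, 3]),
  (10, [2, 0, 0, 0]),
  (10, [2, 0, 3, 0]),
  (10, [0, 3, 3, 1, 3]),
  (10, [2, 1, 3, 0, 2]),
  (10, [2, 2, 0, 0, 0, 3]),
  (10, [0, 0, 3, 3, 1, 3]),
  (10, [0, 0, 3, 3, 0]),
  (9, [0, 0, 0, 2, 1, 3, 0, 2]),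
  (10, [1, 3, 1, 3]),
  (10, [2, 2, 1, 1, 2]),
  (10, [0, 0, 3, 1, 2, 2, 0]),
  (10, [2, 0, 2, 1, 3]),
  (8, [0, 0, 2, 1, 1, 3]),
  (8, [0, 0, 3, 3, 1, 3]),
  (10, [0, 3, 1, 3]),
  (10, [2, 2, 0, 2, 1]),
  (10, [2, 2, 0, 3, 3]),
  (10, [0, 3, 1, 3, 0, 0]),
  (10, [0, 0, 0, 2, 0, 2]),
  (10, [0, 0, 0, 2, 0, 3]),
  (10, [3, 0, 2, 2, 0, 0]),
  (9, [3, 0, 2, 0]),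
  (10, [0, 0, 2, 0, 2, 2, 0]),
  (10, [0, 0, 2, 0, 2, 2, 1]),
  (10, [0, 0, 0, 2]),
  (10, [0, 2, 1, 3, 0, 2]),
  (10, [0, 0, 3, 3, 1, 3, 3]),
  (10, [2, 0, 2, 2, 2]),
  (9, [1, 1, 3]),
  (10, [1, 3, 1]),
  (10, [0, 0, 0, 2, 0]),
  (10, [0, 2, 0, 3, 0]),
  (10, [2, 0, 3, 3, 0, 2]),
  (10, [0, 3, 1, 3, 3]),
  (10, [2, 0, 2, 2, 1, 3]),
  (9, [0, 0, 2]),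
  (8, [2, 2, 0]),
  (8, [2, 2, 1]),
  (10, [1, 2, 0, 0, 2, 1, 1]),
  (8, [0, 0, 2, 2, 0, 2, 2, 2]),
  (8, [0, 0, 0, 2, 1, 1, 2]),
  (10, [0, 3, 3, 0]),
  (10, [1, 1, 3, 0, 0, 3]),
  (6, [3, 3, 1, 2, 0]),
  (7, [3, 3, 1, 2, 0]),
  (9, [0, 3, 1, 2, 0, 2, 1, 3]),
  (10, [1, 1, 3, 3, 1, 1]),
  (9, [3, 3, 1, 2, 0, 2, 1, 3]),
  (5, [2, 2, 0, 2]),
  (4, [2, 2, 0, 2]),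
  (8, [0, 0, 3, 1, 1, 2, 2, 2]),
  (5, [2, 2, 0, 3]),
  (4, [2, 2, 0, 3]),
  (8, [0, 0, 0, 2]),
  (8, [0, 0, 3, 1, 1, 2]),
  (8, [3, 1, 1, 2]),
  (8, [0, 2, 0]),
  (8, [0, 0, 3, 1, 2, 2]),
  (8, [0, 2, 0, 3, 3]),
  (8, [3, 0, 0, 0, 2, 1]),
  (8, [0, 0, 3, 1, 1, 3, 1, 2]),
  (8, [0, 2, 2, 0]),
  (8, [0, 0, 0, 3, 3, 0]),
  (8, [0, 0, 3, 1, 3, 0]),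
  (9, [0, 3, 1, 2, 1, 1]),
  (9, [0, 3, 1, 2]),
  (10, [3, 1, 2, 2, 2, 1]),
  (8, [0, 2, 0, 0, 2]),
  (8, [0, 2, 2, 0, 3, 1]),
  (10, [1, 2, 0, 0, 2]),
  (8, [0, 0, 3, 1, 1, 3]),
  (8, [0, 2, 1, 3, 0, 0, 3]),
  (10, [0, 3, 3, 0, 0, 0]),
  (10, [3, 1, 3, 3, 0, 0]),
  (10, [3, 1, 3, 3]),
  (9, [0, 3, 1, 1, 3, 0]),
  (9, [3, 3, 1, 2]),
  (10, [3, 3, 0, 0, 2, 1]),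
  (10, [3, 1, 1, 3, 1]),
  (10, [1, 2, 1, 1, 3, 0]),
  (7, [0, 0, 0, 2, 0]),
  (7, [0, 0, 0, 2, 1]),
  (8, [0, 0, 3, 3, 0]),
  (6, [0, 0, 0, 2, 0]),
  (6, [0, 0, 0, 2, 1]),
  (8, [0, 0, 2]),
  (9, [0, 0, 0, 2, 1, 1, 3]),
  (7, [0, 0, 0, 3, 0]),
  (7, [0, 0, 0, 3, 1]),
  (8, [2, 2, 1, 1, 3, 1]),
  (6, [0, 0, 0, 3, 0]),
  (6, [0, 0, 0, 3, 1]),
  (8, [3, 1, 1, 3]),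
  (9, [0, 0, 0, 3, 0, 0, 2]),
  (8, [0, 0, 2, 1, 3, 0, 0]),
  (8, [2, 2, 0, 0, 3]),
  (10, [1, 2, 2, 0]),
  (8, [0, 0, 3, 0, 0, 3, 1]),
  (8, [2, 2, 0, 0]),
  (10, [0, 2, 0, 2, 2, 1]),
  (9, [0, 3, 1, 2, 2, 0, 3]),
  (9, [0, 0, 2, 1, 1, 3, 0]),
  (10, [0, 0, 0, 3, 1, 3]),
  (10, [1, 3, 1, 2, 0, 0]),
  (10, [1, 2, 0, 3, 1, 3]),
  (10, [1, 2, 0]),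
  (8, [0, 2, 1, 1, 2, 1]),
  (8, [1, 1, 2, 0, 0, 2]),
  (10, [0, 2, 1, 3, 3, 1]),
  (8, [0, 2, 1, 3, 0]),
  (8, [1, 1, 2, 0, 0, 3]),
  (10, [0, 3, 1, 3, 0, 2, 0]),
  (10, [0, 2, 2, 0, 2, 2]),
  (10, [0, 2, 2, 0, 2, 2, 1, 1]),
  (10, [1, 2, 2, 2]),
  (10, [0, 2, 0, 2]),
  (10, [1, 2, 0, 3, 0, 2]),
  (10, [0, 2, 0, 0, 3, 3, 0]),
  (9, [0, 0, 0, 2, 1, 1, 2, 1]),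
  (9, [0, 0, 0, 3, 0, 0, 3, 0]),
  (10, [0, 2, 1, 3, 3, 1, 2]),
  (10, [0, 0, 2, 1, 3, 3, 1]),
  (8, [0, 0, 0, 3, 0, 0, 3]),
  (10, [3, 0, 0, 2]),
  (8, [0, 2, 1]),
  (10, [1, 1, 2, 2, 0, 2]),
  (8, [0, 0, 0, 3, 0, 0, 3, 0, 2]),
  (8, [0, 2, 2]),
  (10, [1, 1, 2, 2, 0, 0, 2]),
  (10, [1, 3, 0, 2, 2]),
  (10, [0, 2, 0, 0, 2, 2, 2]),
  (10, [3, 0, 2, 1, 3, 1, 2]),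
  (10, [3, 0, 0, 0, 2, 2]),
  (10, [3, 0, 0, 0, 2]),
  (10, [0, 0, 3, 0, 2, 2, 0]),
  (10, [0, 3, 3, 1, 1, 2, 2, 0]),
  (8, [0, 0, 0, 3, 0]),
  (8, [0, 0, 3]),
  (9, [1, 1, 3, 0, 0, 2, 0]),
  (10, [0, 2, 0, 0, 3, 1, 2]),
  (9, [0, 3, 1, 2, 1, 3, 0]),
  (10, [0, 2, 2, 0, 2, 2, 2, 1]),
  (9, [2, 2, 0, 3]),
  (10, [0, 0, 3, 0, 0, 2, 1]),
  (9, [1, 2, 0, 3]),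
  (10, [3, 1, 2, 2, 2, 1, 3]),
  (10, [1, 2, 0, 3, 1, 1]),
  (10, [0, 2, 2, 0, 3, 3]),
  (10, [0, 2, 1, 3, 1, 3]),
  (10, [0, 3, 3, 1, 3, 3, 1]),
  (8, [0, 0, 2, 0, 3, 3]),
  (10, [0, 3, 3, 1, 3, 3, 0]),
  (10, [0, 0, 0, 3, 1, 3, 3, 0]),
  (10, [1, 2, 2, 0, 3, 0]),
  (10, [0, 3, 3, 1, 1, 2, 0]),
  (9, [0, 3, 1, 1, 2, 1]),
  (8, [3, 0, 0, 0, 3]),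
  (8, [0, 0, 3, 0, 0, 0, 3]),
  (10, [1, 2, 2, 1, 1, 3, 0]),
  (10, [0, 2, 0]),
  (10, [0, 2, 0, 0, 3]),
  (10, [0, 0, 3, 0, 2, 2, 1, 1]),
  (8, [0, 0, 3, 3, 1, 2, 2]),
  (6, [2, 2, 0, 3, 1]),
  (7, [2, 2, 0, 3, 1]),
  (9, [1, 2, 0, 3, 1, 3, 0, 2]),
  (8, [2, 2, 2, 0]),
  (8, [2, 2, 2, 1]),
  (10, [0, 2, 1, 3, 3, 0, 2]),
  (8, [0, 0, 2, 1, 3, 1]),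
  (8, [2, 2, 1, 3, 0, 2, 2]),
  (10, [0, 3, 3]),
  (10, [0, 0, 3, 0, 0, 3]),
  (10, [0, 0, 0, 3, 1, 1]),
  (9, [2, 2, 0, 3, 1, 3, 0, 2]),
  (5, [3, 3, 1, 2]),
  (4, [3, 3, 1, 2]),
  (5, [3, 3, 1, 3]),
  (4, [3, 3, 1, 3]),
  (8, [0, 0, 3, 1, 1, 3, 3]),
  (8, [0, 0, 3, 1, 1]),
  (8, [0, 0, 2, 1, 3, 0, 2]),
  (8, [0, 2, 0, 0]),
  (8, [0, 0, 0, 3, 1]),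
  (8, [0, 0, 0, 3, 3]),
  (8, [0, 0, 3, 1, 3]),
  (9, [0, 3, 3, 1, 2, 0]),
  (8, [0, 2, 0, 3]),
  (10, [1, 2, 0, 0, 2, 0]),
  (8, [0, 3, 1, 1, 2, 0, 3]),
  (8, [0, 0, 3, 1, 1, 2, 2]),
  (10, [0, 3, 3, 1, 1]),
  (10, [1, 2, 2, 0, 3, 1]),
  (10, [0, 2, 0, 0, 3, 1, 3]),
  (10, [2, 0, 2, 2, 0, 3]),
  (10, [1, 3, 3]),
  (10, [1, 2, 0, 3, 0]),
  (10, [3, 0, 0, 0]),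
  (10, [3, 0, 0, 2, 2]),
  (8, [0, 2, 1, 1]),
  (10, [1, 1, 2, 2, 0, 2, 2]),
  (10, [1, 1, 2, 1, 3]),
  (10, [1, 2, 1, 1, 3]),
  (10, [1, 1, 2, 2, 0, 0]),
  (9, [0, 0, 2, 1, 1, 3, 1]),
  (9, [0, 3, 3, 1, 2, 2, 1]),
  (10, [1, 1, 3, 0, 2, 1, 1]),
  (10, [0, 2, 2, 0, 3, 3, 0]),
  (10, [0, 2, 1, 3, 1, 3, 0]),
  (10, [1, 1, 3, 0, 2]),
  (10, [1, 1, 2, 0, 0]),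
  (8, [0, 0, 0, 2, 0, 0]),
  (9, [0, 0, 2, 0, 3, 0, 0, 3]),
  (9, [0, 0, 2, 2, 0, 3, 1, 2]),
  (10, [0, 3, 0, 2, 1]),
  (10, [1, 3, 1, 2, 1, 1, 3]),
  (10, [2, 1, 1, 2, 1, 1, 3]),
  (10, [3, 0, 0, 0, 3, 1]),
  (8, [0, 0, 0, 3, 1, 1, 3]),
  (10, [0, 2, 1]),
  (10, [0, 2, 2, 0, 2]),
  (10, [1, 1, 3, 0, 2, 0, 2]),
  (10, [2, 2, 0, 2, 2, 2]),
  (8, [2, 2, 1, 3, 1, 1]),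
  (8, [0, 0, 0, 2, 1]),
  (8, [2, 2, 1, 3, 0]),
  (9, [1, 2, 0, 3, 3, 1]),
  (10, [0, 2, 0, 2, 1]),
  (10, [1, 3, 1, 2, 0, 2]),
  (9, [0, 0, 0, 3, 0, 0]),
  (10, [0, 3, 1, 3, 0, 2]),
  (10, [0, 0, 3, 1, 1]),
  (10, [1, 2, 0, 0, 0, 2]),
  (10, [1, 1, 2, 1, 1, 2]),
  (9, [1, 2, 0, 2]),
  (9, [1, 1, 3, 0, 2, 0, 3, 1]),
  (9, [2, 1, 3, 0, 2, 0, 3, 1]),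
  (8, [0, 2, 1, 1, 2, 0]),
  (9, [2, 2, 0, 2]),
  (8, [0, 3, 0, 0, 3, 1]),
  (8, [1, 2, 2, 0, 2]),
  (8, [0, 0, 2, 0, 0, 2, 2]),
  (6, [2, 2, 0, 3, 0]),
  (7, [2, 2, 0, 3, 0]),
  (9, [3, 0, 2, 1, 1]),
  (8, [1, 2, 1, 3, 3, 0, 2, 2]),
  (8, [0, 3, 1, 1, 3, 1]),
  (9, [3, 0, 2, 0, 3]),
  (9, [0, 0, 0, 2, 1, 3, 0]),
  (9, [0, 0, 2, 1, 1]),
  (9, [0, 0, 2, 0, 3]),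
  (9, [0, 0, 2, 0, 3, 0, 0]),
  (9, [0, 0, 2, 2]),
  (9, [2, 1, 3, 3]),
  (9, [0, 0, 2, 0, 3, 0]),
  (9, [0, 0, 0, 2, 1, 3]),
  (8, [0, 0, 2, 2, 0, 2]),
  (10, [0, 2, 1, 1, 2]),
  (10, [0, 3, 1, 2, 1]),
  (9, [2, 2, 0, 0]),
  (8, [0, 3, 0, 0, 2]),
  (8, [1, 2, 2, 2, 1, 3, 3, 1]),
  (10, [2, 0, 0, 2]),
  (8, [0, 3, 0, 0, 3]),
  (8, [0, 0, 2, 0, 3, 1, 2]),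
  (10, [2, 0]),
  (10, [0, 0, 3, 1, 2]),
  (10, [2, 0, 2, 1, 1]),
  (10, [2, 1, 1, 3, 0, 0]),
  (8, [2, 2, 0, 3, 3]),
  (10, [1, 1, 3, 1, 2, 1, 3]),
  (10, [1, 1, 3, 1, 2, 1, 3, 0]),
  (9, [0, 3, 1, 1]),
  (10, [3, 0, 2, 1, 1]),
  (10, [0, 2, 1, 1, 3, 1, 1]),
  (10, [2, 2, 1, 3, 0]),
  (6, [2, 2, 2, 0, 3]),
  (7, [2, 2, 2, 0, 3]),
  (5, [2, 2, 0, 3, 0]),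
  (9, [3, 0, 2, 0, 3, 1, 2, 0, 0, 3]),
  (9, [0, 0, 2, 1, 3, 1, 2, 0]),
  (9, [0, 3, 1, 2, 2, 0, 2]),
  (4, [2, 2, 0, 3, 0]),
  (9, [0, 0, 2, 0, 3, 1, 2, 0, 0, 3]),
  (9, [3, 0, 2, 1, 3, 1, 2, 0]),
  (9, [0, 0, 0, 2, 1, 1, 2]),
  (8, [0, 0, 2, 2, 0]),
  (5, [2, 2, 2, 0, 3]),
  (9, [2, 1, 3, 1, 2, 0, 3, 1, 1, 2]),
  (9, [1, 2, 0, 3, 3, 1, 3]),
  (4, [2, 2, 2, 0, 3]),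
  (9, [1, 1, 3, 1, 2, 0, 3, 1, 1, 2]),
  (9, [0, 0, 0, 3, 0, 0, 3]),
  (8, [2, 2, 1, 1, 2, 1]),
  (9, [0, 0, 0, 2, 1]),
  (10, [2, 0, 2, 2, 0]),
  (9, [2, 1, 1, 2, 1]),
  (10, [0, 0, 3, 0]),
  (10, [2, 1, 1, 2, 0]),
  (10, [2, 1, 1, 2, 1]),
  (9, [0, 0, 0, 3, 0]),
  (9, [2, 1, 1, 3, 0]),
  (10, [1, 2, 1, 3, 3]),
  (10, [2, 1, 1, 3, 3, 1]),
  (8, [2, 2, 0, 2, 2, 2]),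
  (8, [0, 0, 0, 2, 1, 3]),
  (10, [0, 3, 3, 1, 2]),
  (10, [0, 0, 0, 3, 0, 0, 3]),
  (10, [1, 1, 3]),
  (10, [1, 1, 3, 1, 1]),
  (8, [1, 3, 3, 1, 1, 3]),
  (8, [1, 3, 3, 0, 2, 0]),
  (10, [0, 3, 0]),
  (10, [0, 0, 0, 3, 0, 2, 2]),
  (8, [0, 0, 3, 3, 1, 1]),
  (8, [1, 2, 1, 3, 1, 2, 1]),
  (10, [0, 2]),
  (10, [1, 2, 2, 1, 1, 3]),
  (10, [0, 0, 0, 3, 0, 0, 0]),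
  (10, [1, 3, 3, 0]),
  (10, [0, 0, 2, 1, 3, 3, 1, 1]),
  (10, [1, 1, 3, 3, 1]),
  (10, [2, 0, 0, 0, 3, 1]),
  (10, [2, 0, 0, 0, 3, 0]),
  (10, [2, 1, 3, 0, 0]),
  (10, [2, 2, 2, 0, 3]),
  (10, [2, 2, 1, 1]),
  (10, [2, 2]),
  (8, [0, 0, 3, 3]),
  (8, [2, 2, 1, 1, 3]),
  (10, [1, 1, 2, 1, 1, 3]),
  (9, [0, 0, 2, 0, 2]),
  (10, [1, 3, 1, 2, 0, 0, 0]),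
  (10, [0, 2, 0, 2, 2]),
  (8, [0, 0, 2, 0, 0]),
  (8, [1, 2, 2, 0, 3]),
  (10, [0, 0, 3, 3, 0, 0]),
  (10, [1, 3, 1, 3, 0]),
  (10, [2, 2, 1]),
  (10, [2, 0, 0, 0, 3]),
  (10, [2, 0, 2]),
  (10, [2, 2, 2, 0, 0]),
  (10, [0, 0, 3, 3]),
  (10, [2, 1, 1, 2, 0, 2]),
  (9, [0, 0, 2, 2, 0, 3, 1]),
  (9, [0, 0, 0, 3, 0, 2, 1]),
  (8, [1, 3, 3, 0, 0]),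
  (10, [2, 0, 2, 2, 2, 1, 3]),
  (8, [2, 2, 1, 1, 2, 1, 3]),
  (10, [0, 3]),
  (10, [0, 2, 0, 2, 1, 3, 1]),
  (8, [0, 0, 2, 0, 3, 1]),
  (10, [0, 0, 0, 2, 0, 0]),
  (8, [0, 3, 1, 1, 2]),
  (10, [0, 2, 1, 3]),
  (9, [0, 0, 2, 0, 0, 0]),
  (8, [1, 3, 3, 1, 3, 3, 1]),
  (8, [2, 2, 1, 3, 3, 0, 2]),
  (9, [0, 0, 2, 2, 0, 3]),
  (9, [0, 0, 0, 3, 0, 2]),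
  (8, [0, 0, 2, 0, 0, 0]),
  (9, [2, 1, 3, 0, 0]),
  (9, [2, 1, 3, 1, 1]),
  (10, [0, 3, 3, 1, 3, 0]),
  (9, [1, 1, 3, 1, 3]),
  (10, [3, 0, 2, 1]),
  (9, [2, 1, 3, 1, 3]),
  (10, [2, 2, 2, 0]),
  (8, [1, 2, 1, 3, 1, 2]),
  (10, [1, 1, 3, 3, 1, 2]),
  (8, [0, 0, 2, 0, 0, 3]),
  (8, [0, 0, 2, 0, 3]),
  (8, [2, 2, 0, 2, 2]),
  (8, [0, 0, 2, 2, 0, 3]),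
  (9, [0, 3, 1, 2, 2, 0]),
  (10, [0, 2, 2, 2, 1]),
  (9, [0, 0, 0, 2, 1, 1]),
  (10, [0, 2, 1, 3, 3]),
  (10, [0, 0, 3, 0, 0, 2]),
  (10, [2, 0, 2, 2, 0, 0, 2]),
  (9, [0, 3, 1, 3]),
  (9, [3, 3, 1, 3]),
  (8, [0, 3, 1, 1, 2, 0]),
  (8, [0, 3, 0, 0, 2, 1]),
  (8, [0, 0, 2, 0, 0, 2, 2, 0]),
  (8, [1, 2, 2, 2, 1, 3, 3]),
  (8, [1, 3, 3, 1, 3]),
  (9, [2, 1, 3, 1, 2]),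
  (9, [1, 1, 3, 0, 0]),
  (9, [1, 1, 3, 1, 2]),
  (8, [0, 3, 1, 1, 3]),
  (8, [0, 0, 2, 0, 0, 2, 2, 1]),
  (10, [0, 0, 3, 1, 2, 2]),
  (10, [2, 0, 2, 1, 1, 2]),
  (10, [2, 0, 0]),
  (10, [2, 0, 3]),
  (10, [0, 2, 2, 0, 0]),
  (10, [1, 2, 2]),
  (10, [1, 1, 3, 0, 0, 2]),
  (9, [3, 0, 2, 0, 2]),
  (10, [0, 2, 1, 3, 1, 1, 3]),
  (10, [0, 0, 0, 2, 1]),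
  (10, [0, 3, 1, 3, 0]),
  (9, [0, 3, 1, 2, 2, 2]),
  (8, [0, 0, 3, 0, 2, 0]),
  (8, [0, 0, 0, 2, 1, 1, 3, 3]),
  (8, [1, 3, 3, 0, 2, 2]),
  (9, [3, 0, 2, 0, 0]),
  (8, [0, 0, 2, 1, 1]),
  (8, [0, 0, 3, 0, 2]),
  (10, [0, 2, 2, 0, 3]),
  (9, [1, 1, 3, 1]),
  (10, [0, 3, 1, 3, 3, 1]),
  (9, [0, 0, 2, 0]),
  (8, [2, 2, 1, 1]),
  (10, [1, 2, 0, 0, 2, 1]),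
  (8, [3, 1, 1, 3, 0, 2]),
  (10, [0, 3, 3, 0, 0]),
  (8, [0, 3, 0, 0, 3, 1, 3]),
  (8, [3, 1, 1, 3, 1]),
  (9, [0, 3, 1, 2, 0, 2, 1, 3, 0]),
  (9, [2, 1, 3, 0, 2, 0, 3, 1, 2]),
  (9, [1, 2, 0, 2, 1, 3, 0, 0]),
  (9, [2, 2, 0, 2, 1, 3, 0, 0]),
  (9, [2, 2, 0, 2, 1, 3]),
  (9, [1, 2, 0, 2, 1, 3]),
  (8, [0, 0, 0, 2, 0, 0, 3]),
  (8, [0, 2, 1, 1, 3]),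
  (8, [0, 2, 0, 3, 3, 0]),
  (8, [0, 0, 3, 3, 1, 2]),
  (8, [0, 0, 0, 3, 3, 1]),
  (8, [0, 0, 0, 2, 0, 2]),
  (8, [0, 0, 0, 3, 3, 0, 2]),
  (8, [0, 2, 1, 1, 3, 1]),
  (9, [0, 3, 1, 2, 1]),
  (10, [3, 1, 2, 2, 2]),
  (9, [0, 3, 1, 3, 0, 2, 1]),
  (9, [3, 3, 1, 3, 0, 2, 1]),
  (10, [0, 3, 3, 1, 1, 3, 3]),
  (9, [0, 3, 1, 3, 0, 2, 1, 3, 3]),
  (9, [3, 3, 1, 3, 0, 2, 1, 3, 3]),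
  (10, [0, 2, 0, 0, 2, 2, 2, 0]),
  (10, [3, 0, 0, 2, 0]),
  (10, [1, 2, 0, 0, 2, 2]),
  (10, [3, 1, 1, 3, 0, 2]),
  (9, [2, 2, 2, 0, 3]),
  (10, [3, 3, 0, 0, 2]),
  (10, [3, 1, 1, 3]),
  (8, [0, 2, 1, 1, 2, 1, 1]),
  (8, [0, 0, 3, 3, 0, 0]),
  (8, [0, 0, 2, 0, 2, 2, 0]),
  (8, [0, 0, 2, 0]),
  (8, [0, 0, 2, 1]),
  (9, [0, 3, 1, 2, 1, 3]),
  (8, [0, 2, 1, 3, 0, 0]),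
  (8, [0, 2, 2, 0, 3, 1, 2]),
  (8, [3, 1, 1, 3, 0]),
  (9, [0, 3, 3, 1, 2, 2]),
  (8, [0, 0, 2, 1, 3, 0]),
  (10, [2, 1, 1, 2, 0, 3]),
  (8, [0, 0, 2, 2, 2, 0]),
  (10, [0, 3, 3, 1]),
  (10, [0, 0, 3, 0, 2]),
  (8, [0, 0, 3, 0, 0, 3]),
  (8, [0, 0, 0, 2, 2]),
  (10, [0, 0, 3, 1, 1, 3]),
  (9, [1, 1, 3, 0, 0, 2]),
  (9, [0, 0, 2, 1, 1, 3]),
  (10, [0, 2, 2, 1, 1]),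
  (10, [1, 3, 1, 2, 0]),
  (10, [0, 2, 0, 0, 0, 3, 3]),
  (10, [0, 0, 3, 0, 0, 2, 0]),
  (9, [0, 3, 3, 1, 2, 0, 3]),
  (9, [0, 3, 1, 2, 1, 1, 2]),
  (10, [1, 2, 1, 1, 3, 3]),
  (10, [1, 2, 1, 1, 3, 3, 0, 0]),
  (10, [1, 1, 2, 1, 3, 3]),
  (10, [0, 2, 0, 0, 3, 3]),
  (8, [2, 2, 1, 3, 1, 1, 2]),
  (9, [0, 3, 1, 1, 2, 1, 3, 1]),
  (9, [0, 3, 3, 1, 2, 0, 3, 1]),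
  (10, [3, 0, 0, 2, 1]),
  (10, [1, 1, 2, 2, 0, 2, 1]),
  (10, [3, 1, 1, 3, 1, 2]),
  (10, [1, 2, 1, 1, 3, 3, 0]),
  (10, [1, 2, 0, 0, 2, 0, 3]),
  (10, [0, 2, 2, 1, 1, 2]),
  (10, [0, 3, 3, 1, 1, 3]),
  (10, [0, 0, 3, 0, 2, 2]),
  (8, [0, 0, 0, 3, 0, 0]),
  (8, [0, 0, 3, 0]),
  (9, [2, 2, 0, 3, 0]),
  (9, [0, 3, 3, 1, 2]),
  (9, [2, 2, 0, 2, 1, 3, 0, 2, 2]),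
  (9, [1, 2, 0, 2, 1, 3, 0, 2, 2]),
  (10, [0, 3, 3, 1, 3, 3]),
  (8, [2, 2, 1, 3]),
  (8, [0, 0, 0, 2, 2, 2]),
  (8, [0, 0, 3, 0, 0]),
  (9, [0, 3, 1, 1, 2, 1, 3]),
  (8, [2, 2, 0, 2, 2, 0, 0]),
  (8, [1, 3, 3, 0, 2, 2, 0]),
  (8, [0, 0, 0, 2, 0, 0, 2, 1]),
  (10, [0, 2, 0, 0, 3, 0]),
  (9, [0, 3, 1, 2, 1, 1, 2, 0]),
  (10, [0, 0, 3, 0, 2, 2, 1]),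
  (9, [0, 3, 1, 1, 3, 0, 2, 0]),
  (9, [0, 0, 2, 1, 3, 1, 2, 0, 3]),
  (8, [0, 0, 2, 2, 2]),
  (8, [0, 0, 2, 1, 3]),
  (9, [2, 2, 0, 3, 1, 3, 0, 2, 1]),
  (9, [0, 3, 1, 3, 0, 2, 1, 1]),
  (9, [3, 3, 1, 3, 0, 2, 1, 1]),
  (9, [3, 3, 1, 3, 0, 2]),
  (9, [0, 3, 1, 3, 0, 2]),
  (8, [0, 0, 3, 0, 0, 0]),
  (8, [0, 0, 0, 3, 1, 1]),
  (9, [1, 2, 0, 2, 1, 3, 0]),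
  (9, [2, 2, 0, 2, 1, 3, 0]),
  (10, [3, 1, 1, 3, 0]),
  (10, [3, 1, 1, 3, 3]),
  (10, [1, 2, 2, 0, 3, 1, 1]),
  (10, [0, 2, 0, 0, 0, 2, 0, 2]),
  (8, [0, 0, 0, 2, 0, 0, 2]),
  (10, [1, 1, 3, 0, 2, 1]),
  (8, [2, 2, 2, 0, 2]),
  (9, [0, 3, 1, 1, 3, 0, 2]),
  (8, [0, 0, 0, 2, 0, 0, 0]),
  (10, [3, 0, 2, 1, 1, 3]),
  (8, [0, 0, 0, 2, 1, 1]),
  (8, [2, 2, 1, 3, 1, 2]),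
  (10, [1, 1, 3, 3, 1, 3]),
  (8, [2, 2, 0, 2, 2, 0]),
  (8, [2, 2, 1, 3, 1]),
  (10, [1, 1, 3, 0, 0]),
  (10, [2, 2, 0, 2, 2, 0]),
  (10, [0, 2, 0, 2, 1, 3]),
  (9, [1, 2, 0, 2, 1]),
  (9, [2, 2, 0, 2, 1]),
  (8, [0, 0, 2, 0, 2, 2]),
  (8, [0, 0, 2, 0, 3, 1, 2, 0]),
  (9, [2, 2, 0, 2, 2, 2]),
  (10, [0, 2, 0, 2, 2, 0, 0]),
  (8, [1, 3, 3, 0, 2, 2, 1]),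
  (8, [0, 3, 1, 1, 3, 1, 2]),
  (10, [1, 3, 1, 2, 1]),
  (8, [0, 3, 0, 2, 0, 3]),
  (8, [0, 0, 2, 0, 3, 1, 1]),
  (9, [0, 0, 2, 1, 3, 1, 2, 0, 2, 2]),
  (9, [3, 0, 2, 1, 3, 1, 2, 0, 2, 2]),
  (10, [2, 1, 1, 2, 1, 1]),
  (9, [1, 1, 3, 0, 2, 0, 3, 1, 3, 3]),
  (9, [2, 1, 3, 0, 2, 0, 3, 1, 3, 3]),
  (10, [2, 2, 0, 2, 2]),
  (10, [1, 1, 2, 2, 0, 3]),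
  (10, [1, 1, 2, 2, 0, 3, 3]),
  (10, [3, 0, 0, 3, 0, 0]),
  (10, [1, 1, 3, 0]),
  (10, [3, 0, 0, 3]),
  (10, [3, 0, 0, 3, 3]),
  (10, [1, 2, 2, 1, 1]),
  (10, [0, 2, 2]),
  (8, [1, 3, 3, 1, 3, 3]),
  (8, [0, 0, 3, 3, 1, 1, 2, 2]),
  (10, [1, 3, 1, 2, 1, 1]),
  (10, [0, 2, 0, 2, 2, 0]),
  (10, [0, 2, 2, 1]),
  (10, [0, 0, 3, 0, 2, 0]),
  (9, [1, 1, 3, 1, 1]),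
  (9, [0, 0, 2, 0, 0]),
  (9, [2, 1, 3, 0, 0, 0]),
  (8, [2, 2, 1, 3, 3, 0]),
  (8, [2, 2, 0, 2, 2, 0, 2]),
  (10, [1, 3, 1, 2]),
  (10, [0, 0, 3, 0, 2, 0, 3]),
  (10, [3, 0, 0, 3, 0]),
  (10, [0, 0, 0, 3, 1, 1, 3]),
  (10, [0, 2, 2, 0, 3, 0]),
  (9, [0, 3, 1, 3, 0]),
  (9, [3, 3, 1, 3, 0]),
  (10, [0, 2, 2, 0]),
  (10, [1, 2, 2, 1]),
  (8, [2, 2, 1, 3, 3]),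
  (8, [0, 0, 0, 2, 1, 1, 3]),
  (9, [3, 3, 1, 3, 3]),
  (9, [0, 3, 1, 3, 3]),
  (9, [2, 2, 0, 2, 2]),
  (9, [1, 2, 0, 2, 2])]

end Cfsg.Agent.Lib.Helper2.HNS
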