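import Cfsg.Agent.Lib.Helper2.HNDce3b
import Cfsg.Agent.Lib.Helper2.HNS.Ch2
set_option autoImplicit false
set_option maxRecDepth 1000000
set_option Elab.async false
open Cfsg.Agent.Lib.Helper2.HNDce
namespace Cfsg.Agent.Lib.Helper2.HNS

/-! # The entries of the row 2 and the covering of the 1408 points -/

/-- the entries of the row 2: the word `h`, the row `j`, the word `g₀`, the number of the coset equality -/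
def ent2 : List (List Nat × Nat × List Nat × Nat) := [
  ([4], 1, [], 11),
  ([0, 0, 4], 3, [], 26),
  ([0, 4], 2, [0, 0], 16),
  ([1, 4], 1, [0, 0], 12),
  ([0, 0, 4, 2], 6, [], 73),
  ([4, 2, 0, 4], 4, [2, 2, 1, 2, 0, 2, 2, 1, 2, 0, 3, 1, 3, 0, 4, 0, 3, 4, 2, 1, 4, 1, 1], 38),
  ([0, 4, 2, 0, 4], 6, [1], 85),
  ([4, 2, 0, 2, 4], 2, [0, 2, 1, 2], 53),
  ([4, 2, 1, 2, 4], 4, [0, 2, 2, 0, 2, 2, 0, 2, 0, 2, 2, 0, 3], 51),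
  ([4, 2, 2, 2, 0], 2, [2, 0, 2, 4, 2, 0, 2], 44),
  ([0, 4, 2, 0, 2, 4], 1, [0], 49),
  ([0, 4, 2, 1, 2, 4], 4, [2, 2, 2, 1, 2, 0, 2, 1, 3, 0, 3, 3, 4, 1, 1, 1, 3, 0, 3, 4, 2, 1, 2, 0, 0, 0, 4], 36),
  ([0, 4, 2, 4, 2, 1], 6, [3, 3, 0, 2, 2, 4], 87),
  ([4, 2, 4, 2, 0, 2, 0, 4], 5, [0, 3, 0, 4, 2, 2, 0, 2, 1], 61)]

/-- the covering of the points by the row 2: for the point `q`, the entry and the word in the generators of the subgroup -/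
def cov2 : List (Nat × List Nat) := [
  (2, [6]),
  (1, [6]),
  (0, [6]),
  (0, []),
  (3, [6]),
  (2, []),
  (3, []),
  (5, [6]),
  (5, [6, 3, 3]),
  (1, []),
  (6, [6]),
  (6, [6, 3, 3]),
  (9, [0, 3, 4, 4]),
  (9, [1, 4, 2]),
  (9, [1, 5, 3]),
  (6, [1, 2, 2, 6]),
  (5, [0, 0, 5, 6]),
  (6, [1, 2, 2]),
  (9, [0, 4, 2]),
  (6, [1, 6]),
  (5, [1, 1, 6]),
  (6, [1]),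
  (4, []),
  (4, [3, 3]),
  (5, [1, 2, 2, 6]),
  (4, [3, 3, 0]),
  (6, [0, 0, 5, 6]),
  (4, [1, 6, 2, 2]),
  (5, [1, 6]),
  (4, [1]),
  (6, [1, 1, 6]),
  (4, [1, 6]),
  (9, [1, 5, 3, 0]),
  (5, [1, 2, 2]),
  (9, [0, 4, 2, 1]),
  (5, [1]),
  (11, [6]),
  (5, []),
  (10, [6]),
  (4, [6]),
  (9, [0, 2, 4, 2, 2]),
  (6, [0, 6]),
  (5, [2, 4, 0, 6]),
  (6, [0]),
  (12, [4, 2]),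
  (8, [0, 4, 2]),
  (5, [4, 1, 2]),
  (4, [3, 3, 6]),
  (9, [0, 5, 3, 0]),
  (6, [6, 3, 0, 2]),
  (6, [0, 5, 0, 0]),
  (8, [0, 4, 4]),
  (12, [0, 0, 3]),
  (4, [0, 0, 4]),
  (9, [1, 5, 3, 6]),
  (4, [1, 1]),
  (9, [0, 4, 2, 6]),
  (7, [6]),
  (6, []),
  (8, [6]),
  (9, [0, 3, 4, 4, 6]),
  (5, [0, 6]),
  (4, [0]),
  (6, [2, 4, 0, 6]),
  (4, [0, 6]),
  (13, [3, 3, 6]),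
  (11, [0, 4, 2]),
  (6, [4, 1, 2]),
  (9, [1, 4, 2, 6]),
  (5, [6, 3, 0, 2]),
  (4, [3, 0, 2]),
  (4, [3, 0, 2, 6]),
  (11, [0, 4, 4]),
  (13, [2, 4, 6, 3]),
  (9, [4]),
  (5, [0]),
  (13, [0, 5, 3, 0, 6]),
  (10, [0, 4, 2]),
  (5, [0, 5, 0, 0]),
  (10, [0, 4, 4]),
  (13, [1, 5, 6, 2, 1]),
  (7, []),
  (4, [2, 1, 5, 1, 6]),
  (8, []),
  (5, [2, 2, 5, 1]),
  (9, [1, 4]),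
  (11, [0, 6]),
  (5, [0, 0, 5]),
  (6, [5, 1, 6]),
  (10, [0, 6]),
  (4, [0, 0, 4, 6]),
  (9, []),
  (6, [1, 6, 3, 5, 1]),
  (6, [2, 1, 5, 1]),
  (12, [2, 2, 4, 0]),
  (12, [1]),
  (13, [0, 6, 3, 0]),
  (13, [0, 5, 1, 4, 6, 3]),
  (12, [2, 2, 4, 1, 5]),
  (13, [1, 5, 0, 2, 4]),
  (12, [1, 2, 1, 2]),
  (10, [0, 4, 2, 6]),
  (4, [1, 3, 5, 0, 6]),
  (5, [2, 1, 5, 0]),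
  (9, [0, 3, 5]),
  (5, [1, 1]),
  (6, [5, 6]),
  (4, [1, 1, 6]),
  (12, [1, 3, 3]),
  (12, [6, 2, 6]),
  (10, [0, 4, 4, 6]),
  (13, [3, 6, 3]),
  (13, [1, 5, 3, 0, 6]),
  (12, [2, 2, 1, 5, 0]),
  (13, [1, 5, 3, 0]),
  (4, [2, 4, 0, 5]),
  (9, [1, 5, 6, 2, 1]),
  (12, [1, 4, 4, 0]),
  (7, [0, 4, 2]),
  (9, [0, 4, 6, 3, 0]),
  (7, [0, 4, 4]),
  (12, [1, 5, 1, 4, 0]),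
  (10, []),
  (9, [5, 6]),
  (11, []),
  (6, [2, 2, 5, 1]),
  (5, [5, 1, 6]),
  (7, [0, 6]),
  (6, [0, 0, 5]),
  (4, [2, 1]),
  (8, [0, 6]),
  (9, [0, 5, 6, 2, 2]),
  (5, [1, 6, 3, 5, 1]),
  (4, [1, 3, 5, 1]),
  (4, [1, 3, 5, 1, 6]),
  (13, [4, 1, 3, 6]),
  (13, [0, 6, 3]),
  (12, [0, 3, 5, 1, 2, 5]),
  (12, []),
  (13, [4, 0, 5, 6, 3]),
  (12, [6]),
  (13, [6, 2]),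
  (8, [0, 4, 2, 6]),
  (9, [0, 0, 6]),
  (6, [2, 1, 5, 0]),
  (5, [5, 6]),
  (6, [1, 1]),
  (4, [2]),
  (9, [0, 4, 2, 1, 6]),
  (13, [0, 6, 2, 2]),
  (13, [6, 3, 3]),
  (8, [0, 4, 4, 6]),
  (12, [1, 4, 0, 5, 0]),
  (12, [4, 0, 0]),
  (13, [4, 0, 5, 6]),
  (12, [4, 0, 0, 6]),
  (5, [2, 1, 5, 1]),
  (13, [3, 6, 2, 4]),
  (13, [1, 4, 6, 2, 4]),
  (13, [2, 6]),
  (12, [0, 2, 5, 6, 3, 5, 0]),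
  (13, [0, 5, 0, 2, 6]),
  (7, [0, 4, 2, 6]),
  (13, [1, 3, 4, 2, 6]),
  (13, [1, 5, 1, 4, 6]),
  (7, [0, 4, 4, 6]),
  (13, [2, 6, 2]),
  (12, [0, 6, 3, 5, 3, 0]),
  (12, [0, 0, 0, 3, 4, 4]),
  (12, [0, 4, 2]),
  (9, [2, 6]),
  (6, [2, 4, 1]),
  (13, [0, 2, 4, 6, 2, 2]),
  (6, [2, 4, 1, 6]),
  (12, [2, 1, 4, 2]),
  (12, [0, 5, 3]),
  (13, [0, 2, 2, 4, 6]),
  (9, [2]),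
  (4, [0, 2, 2]),
  (5, [1, 3, 6]),
  (9, [0, 5, 3, 3]),
  (5, [1, 3]),
  (7, [0]),
  (13, [0, 0, 0, 5, 6]),
  (4, [2, 4, 6]),
  (6, [1, 2, 6]),
  (4, [1, 6, 3]),
  (8, [0]),
  (13, [0, 6, 2]),
  (5, [4, 4]),
  (9, [0, 4]),
  (9, [1, 5]),
  (5, [2, 4, 0]),
  (6, [1, 6, 3]),
  (6, [2, 2, 6]),
  (4, [6, 2, 4, 0]),
  (12, [0, 0, 0, 4, 2]),
  (12, [0, 4, 1, 3]),
  (13, [4, 0, 6]),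
  (13, [4, 6, 2]),
  (13, [4, 1, 2, 1]),
  (13, [1, 6, 3]),
  (13, [0, 5, 3, 6]),
  (8, [0, 4, 2, 1]),
  (13, [0, 5, 3]),
  (13, [6]),
  (5, [2, 4, 2]),
  (12, [4, 2, 6]),
  (13, [1, 5, 1, 6, 2]),
  (4, [6, 2, 4, 2]),
  (12, [1, 4, 4, 0, 6]),
  (13, [4, 1, 5, 6]),
  (13, [1, 1, 6]),
  (12, [0, 0, 0, 3, 4]),
  (13, [1, 1]),
  (13, [1, 4, 4, 0]),
  (12, [1, 3, 3, 6]),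
  (13, [0, 0, 6, 2]),
  (13, [0, 5, 1, 2, 6]),
  (13, [0, 5, 1, 2]),
  (6, [4, 4, 1, 6]),
  (9, [3, 6]),
  (6, [4, 4, 1]),
  (13, [0, 4, 4, 6]),
  (13, [6, 2, 1, 5, 0]),
  (9, [3]),
  (4, [3, 0, 3]),
  (5, [1, 3, 0, 6]),
  (5, [1, 3, 0]),
  (13, [0, 0, 0, 5, 6, 3]),
  (4, [1, 6, 3, 0]),
  (13, [0, 6]),
  (13, [3, 0, 3, 6]),
  (13, [1, 5, 6, 2]),
  (13, [0, 3, 4, 2]),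
  (13, [3, 3, 6, 2]),
  (13, [1, 5, 0, 4, 6]),
  (12, [2, 1, 5]),
  (13, [1, 5, 0, 4]),
  (13, [6, 3]),
  (12, [2, 6, 3]),
  (13, [1, 5, 1, 6]),
  (12, [0, 3, 5, 6, 2, 1]),
  (13, [1, 5, 0, 6]),
  (13, [3, 6, 2]),
  (13, [1, 1, 2]),
  (12, [1, 6]),
  (13, [0, 2, 4, 1, 5, 0]),
  (9, [6]),
  (12, [0, 2, 1, 2, 4]),
  (12, [0, 5, 0, 3, 5]),
  (12, [0, 0, 4]),
  (13, [1, 2, 1]),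
  (12, [1, 4, 4, 1]),
  (11, [0, 4, 2, 6]),
  (12, [0, 4, 2, 4, 4]),
  (12, [0, 3, 5, 3, 0, 2]),
  (11, [0, 4, 4, 6]),
  (12, [0, 0, 4, 2]),
  (13, [0, 0, 3, 3]),
  (13, [1, 4, 0, 3, 6]),
  (13, [0, 2, 4, 2, 6]),
  (5, [2, 4, 1]),
  (4, [2, 4, 0, 6]),
  (12, [0, 0, 0, 5]),
  (4, [2, 4, 0]),
  (13, [0, 3, 5, 0, 2, 6]),
  (13, [1, 2, 4, 6, 3]),
  (12, [0, 2, 5, 0, 2]),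
  (5, [2, 4, 1, 6]),
  (9, [1, 3, 5]),
  (6, [1, 3, 6]),
  (5, [1, 2, 6]),
  (6, [1, 3]),
  (10, [0]),
  (12, [1, 2, 2]),
  (9, [0, 3, 6]),
  (4, [0, 0, 2]),
  (9, [1, 3, 5, 6]),
  (11, [0]),
  (12, [3, 0, 2, 4]),
  (6, [4, 4]),
  (5, [1, 6, 3]),
  (5, [2, 2, 6]),
  (6, [2, 4, 0]),
  (4, [1, 3]),
  (4, [2, 1, 1]),
  (9, [4, 6]),
  (13, [0, 4, 1, 6, 2]),
  (13, [0, 0, 0, 4, 6, 3]),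
  (12, [0, 0, 4, 2, 5]),
  (12, [0, 0, 4, 4, 1]),
  (12, [6, 3, 3, 5, 0]),
  (12, [1, 4, 4]),
  (12, [4, 1, 2]),
  (11, [0, 4, 2, 1]),
  (12, [0, 2, 6, 2]),
  (12, [1, 4, 4, 1, 3]),
  (6, [2, 4, 2]),
  (13, [3, 3]),
  (12, [1, 2, 1]),
  (9, [5, 1, 6]),
  (13, [0, 5, 3, 0]),
  (12, [3, 3]),
  (12, [1, 2, 2, 5, 0]),
  (13, [3, 0, 3, 5, 6]),
  (12, [0, 6, 3, 5, 0, 3]),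
  (12, [6, 2, 1, 4]),
  (13, [0, 0, 3, 0, 3]),
  (12, [0, 5, 0, 3, 5, 1]),
  (12, [1, 1]),
  (12, [1, 1, 6]),
  (4, [2, 4, 1]),
  (5, [4, 4, 1]),
  (4, [2, 4, 1, 6]),
  (12, [2, 1, 3, 4]),
  (12, [1, 2, 4, 4]),
  (5, [4, 4, 1, 6]),
  (9, [5, 1, 4]),
  (6, [1, 3, 0, 6]),
  (6, [1, 3, 0]),
  (12, [1, 2]),
  (9, [5, 1, 4, 6]),
  (12, [2, 1, 3, 5]),
  (12, [3, 3, 0, 4, 2]),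
  (12, [0, 0, 0, 3]),
  (12, [6, 2, 1]),
  (12, [0, 3, 5, 0, 4]),
  (12, [4, 1, 1]),
  (13, [6, 2, 1, 3, 5]),
  (12, [3, 5, 6, 2]),
  (12, [3, 0, 2, 4, 0]),
  (13, [3, 0, 0, 2]),
  (12, [1, 2, 1, 3]),
  (13, [0, 3, 4, 2, 1]),
  (12, [0, 2, 1, 2]),
  (12, [0, 3, 3, 4, 1]),
  (12, [0, 6, 3, 5, 0]),
  (13, [1, 3, 3]),
  (12, [0, 4, 6]),
  (13, [0, 4, 1, 5, 0, 6]),
  (13, [0, 5, 6, 3, 5, 3]),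
  (12, [2, 6, 2, 4]),
  (10, [0, 4, 2, 1]),
  (12, [1, 4, 4, 6]),
  (13, [1, 5, 6, 2, 4]),
  (12, [3, 3, 6]),
  (12, [0, 3, 5, 6, 2, 4]),
  (13, [1, 3, 4, 2]),
  (12, [1, 2, 4, 1, 6, 2]),
  (12, [0, 3, 5, 6, 2]),
  (13, [0, 4, 2, 1, 6]),
  (12, [0, 3, 5, 0, 4, 6]),
  (12, [4, 6, 3]),
  (13, [0, 4, 2, 4, 2]),
  (12, [0, 5, 3, 3, 6]),
  (12, [0, 5, 3, 0]),
  (13, [0, 2, 4, 2]),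
  (12, [1, 5, 1, 2, 2]),
  (13, [1, 4, 0, 3]),
  (4, [2, 1, 5, 1]),
  (5, [2, 2, 5, 1, 6]),
  (12, [0, 4, 1, 1]),
  (12, [0, 4, 2, 4, 0]),
  (12, [0, 3, 3, 5, 6, 2]),
  (6, [2, 1, 6]),
  (13, [1, 2, 4, 6, 3, 6]),
  (13, [0, 3, 5, 0, 2]),
  (12, [0, 4, 1, 1, 6]),
  (9, [0, 5]),
  (4, [3, 0]),
  (4, [0, 2, 2, 4]),
  (9, [1, 4, 6]),
  (5, [6, 3, 0]),
  (5, [2, 4, 6]),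
  (6, [5, 1]),
  (4, [3]),
  (5, [6, 3]),
  (5, [0, 0, 4]),
  (13, [0, 2, 4, 4, 6, 3]),
  (13, [1, 2, 4, 2, 2, 6]),
  (12, [0, 2, 4, 4]),
  (12, [0, 5, 0, 2]),
  (12, [2, 5, 0]),
  (12, [0, 3, 5]),
  (12, [0, 3, 5, 6]),
  (6, [2, 4, 2, 6]),
  (4, [3, 6]),
  (13, [1, 4, 0, 6]),
  (13, [0, 2, 5, 6]),
  (12, [0, 2, 4, 2, 1]),
  (12, [0, 4, 2, 1]),
  (12, [2, 5, 0, 6]),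
  (9, [5, 1]),
  (4, [5, 1]),
  (5, [4, 1, 6]),
  (5, [4, 1]),
  (4, [0, 2, 5]),
  (5, [2, 6]),
  (5, [2]),
  (13, [0, 4, 1, 6]),
  (13, [0, 0, 0, 4, 6]),
  (4, [5, 1, 6]),
  (4, [6, 2]),
  (13, [0, 6, 3, 5, 1, 2]),
  (13, [0, 5, 6, 3, 5]),
  (13, [0, 4, 6, 3, 3, 4]),
  (13, [0, 4, 6, 3, 3]),
  (13, [0, 2, 4, 2, 1]),
  (13, [0, 3, 5, 3, 6]),
  (13, [0, 3, 4, 4, 6, 3]),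
  (13, [1, 4, 0, 3, 0]),
  (13, [0, 0, 6]),
  (13, [3, 5, 6]),
  (12, [2, 2, 4, 0, 6]),
  (13, [0, 5, 0, 3, 6]),
  (13, [4, 0, 6, 3, 5]),
  (12, [4, 6, 3, 5]),
  (12, [0, 4, 4, 2, 6, 2]),
  (12, [2, 1, 4, 4, 6]),
  (12, [0, 2, 5, 6, 3, 5]),
  (10, [0, 4, 2, 1, 6]),
  (12, [6, 2]),
  (13, [0, 4, 1, 5, 0]),
  (12, [1, 2, 4, 1]),
  (12, [2, 2]),
  (13, [3, 0, 6]),
  (12, [2, 2, 6]),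
  (9, [0, 3]),
  (12, [0, 5, 6, 2, 4]),
  (13, [0, 5, 3, 3, 6]),
  (12, [1, 2, 4, 1, 6]),
  (6, [4, 4, 6]),
  (12, [2, 1, 4, 6]),
  (13, [1, 6]),
  (12, [2, 2, 4, 1, 5, 6]),
  (13, [6, 3, 0, 5]),
  (12, [0, 0, 4, 6]),
  (13, [0, 6, 2, 2, 5]),
  (13, [0, 2, 4, 2, 5, 6]),
  (13, [0, 2, 4, 2, 5]),
  (13, [4, 1, 2]),
  (13, [4, 1, 5, 0]),
  (12, [0, 4, 2, 5, 6]),
  (12, [0, 5, 3, 5, 6]),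
  (12, [0, 5, 1, 4, 6]),
  (12, [0, 5, 3, 5]),
  (13, [3, 0, 3]),
  (13, [0, 0, 3, 0, 4, 2]),
  (12, [0, 0, 2, 6, 2]),
  (12, [1, 4, 4, 1, 6]),
  (13, [1, 5, 0, 0]),
  (5, [1, 6, 3, 5, 0]),
  (4, [1, 3, 5, 0]),
  (6, [4, 6]),
  (12, [1, 2, 5]),
  (12, [0, 5, 0, 3, 3]),
  (12, [0, 5, 6, 3, 3]),
  (12, [1, 2, 5, 6]),
  (9, [0, 3, 4]),
  (4, [5, 1, 4]),
  (4, [0, 2]),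
  (9, [0, 3, 5, 6]),
  (5, [2, 4, 6, 3]),
  (5, [0, 6, 2]),
  (6, [5]),
  (13, [1, 2, 4, 2, 6, 2]),
  (12, [2, 1, 3]),
  (12, [1, 2, 4]),
  (12, [1, 2, 4, 6]),
  (13, [0, 2, 4, 6]),
  (12, [2, 1, 3, 6]),
  (12, [1, 6, 2, 4, 2]),
  (13, [0, 0, 0, 4, 2, 5]),
  (12, [0, 3, 5, 1, 6, 3]),
  (13, [1, 2, 4, 2, 2]),
  (13, [3, 5, 0, 4]),
  (12, [0, 3, 5, 0]),
  (12, [1, 3, 0, 3]),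
  (12, [2, 2, 6, 3]),
  (12, [0, 4, 2, 2, 6]),
  (12, [0, 3, 5, 0, 6]),
  (12, [0, 5, 6]),
  (13, [6, 3, 0]),
  (12, [1, 6, 2, 4, 0]),
  (13, [1, 5, 6]),
  (12, [2, 6, 2]),
  (13, [1, 5]),
  (13, [1, 1, 4, 0]),
  (13, [3, 0, 2]),
  (13, [0, 3, 5, 3]),
  (12, [0, 2, 5, 3, 0, 6]),
  (12, [0, 3, 4, 0, 6]),
  (12, [0, 4, 1, 6, 2]),
  (12, [0, 3, 4, 0]),
  (13, [4, 0]),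
  (7, [0, 4, 2, 1]),
  (12, [1, 4, 0, 3, 0]),
  (13, [4, 1, 5]),
  (13, [0, 4, 1, 1]),
  (13, [0, 2, 1, 3]),
  (12, [1, 2, 4, 2, 5]),
  (13, [0, 2, 1, 2]),
  (13, [1, 5, 0]),
  (13, [1, 2, 5]),
  (12, [0, 5, 3, 6]),
  (12, [2, 1, 4, 2, 6]),
  (9, [5]),
  (6, [2, 2, 5, 1, 6]),
  (13, [6, 2, 1, 4]),
  (13, [0, 3, 3, 5, 6, 2]),
  (13, [1, 5, 3, 3, 5]),
  (4, [5, 0]),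
  (12, [0, 4, 2, 6]),
  (12, [6, 2, 1, 4, 4]),
  (13, [0, 0, 0, 4, 1]),
  (5, [2, 1, 6]),
  (9, [5, 1, 4, 2]),
  (9, [1, 3]),
  (5, [5, 1]),
  (6, [6, 3, 0]),
  (6, [2, 4, 6]),
  (4, [2, 1, 6]),
  (9, [1, 4, 2, 2]),
  (6, [6, 3]),
  (6, [0, 0, 4]),
  (12, [4, 1, 3, 4]),
  (12, [1, 2, 5, 0]),
  (13, [0, 2, 6, 3, 3]),
  (13, [0, 3, 4, 6]),
  (13, [0, 3, 4]),
  (4, [1, 3, 0, 4]),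
  (9, [0, 4, 4, 6, 3]),
  (12, [1, 5, 3, 0]),
  (12, [0, 5, 1, 2, 2]),
  (13, [3, 0, 3, 3]),
  (5, [2, 4, 2, 6]),
  (9, [0, 2, 5]),
  (6, [4, 1, 6]),
  (6, [4, 1]),
  (9, [0, 5, 0]),
  (6, [2, 6]),
  (6, [2]),
  (12, [1, 5, 1, 2]),
  (12, [0, 5, 3, 0, 2]),
  (9, [0, 2, 5, 6]),
  (9, [0, 5, 0, 6]),
  (12, [0, 0, 0, 4]),
  (12, [0, 4, 1]),
  (12, [0, 5, 0, 2, 6]),
  (12, [0, 2, 4, 4, 6]),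
  (12, [1, 2, 2, 5, 1]),
  (12, [0, 3, 3, 4, 0]),
  (13, [4, 1, 3]),
  (12, [0, 0, 5]),
  (12, [2, 5, 3]),
  (13, [4, 1, 1]),
  (13, [0, 3, 4, 4, 0, 3]),
  (13, [0, 2, 5, 3]),
  (8, [0, 4, 2, 1, 6]),
  (13, [1, 2, 1, 2]),
  (12, [0, 6, 2, 4, 2]),
  (13, [0, 5, 1, 6]),
  (13, [1, 1, 6, 3]),
  (12, [0, 3, 4, 2, 4]),
  (13, [1, 3, 0]),
  (5, [4, 4, 6]),
  (13, [0, 3, 4, 4, 0]),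
  (12, [0, 2]),
  (13, [0, 5, 1]),
  (4, [2, 4]),
  (13, [0, 2, 4, 4, 2]),
  (12, [1, 4, 4, 2]),
  (13, [4, 1, 2, 4]),
  (12, [3, 3, 0]),
  (13, [2]),
  (12, [0, 4, 2, 4]),
  (12, [0, 4, 4, 2]),
  (12, [0, 4, 4, 2, 6]),
  (12, [0, 0, 4, 4, 6]),
  (12, [0, 6, 3]),
  (13, [0, 2, 4, 2, 2]),
  (13, [0, 0, 3, 0, 3, 5]),
  (13, [0, 4, 1, 3]),
  (13, [0, 6, 2, 2, 4]),
  (12, [0, 4, 2, 1, 6]),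
  (13, [6, 2, 6]),
  (13, [0, 5, 0, 2]),
  (12, [4, 6, 3, 0]),
  (6, [1, 6, 3, 5, 0]),
  (9, [0, 0]),
  (4, [5]),
  (13, [0, 4, 6]),
  (13, [1, 6, 3, 5, 3]),
  (13, [1, 2, 2, 5, 3]),
  (13, [0, 4]),
  (5, [4, 6]),
  (9, [0, 2]),
  (9, [0, 5, 0, 4]),
  (5, [5]),
  (6, [2, 4, 6, 3]),
  (6, [0, 6, 2]),
  (4, [2, 6]),
  (12, [0, 2, 4, 1]),
  (13, [0, 0, 0, 6, 2]),
  (13, [0, 5, 6]),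
  (13, [0, 5]),
  (12, [0, 4, 1, 5, 0]),
  (13, [0, 0, 2, 1]),
  (12, [0, 4, 1, 3, 6]),
  (13, [1, 5, 1, 4]),
  (12, [1, 2, 5, 0, 6]),
  (12, [3, 0, 2, 6]),
  (13, [0, 3, 4, 0, 6]),
  (13, [2, 2, 6, 3]),
  (13, [1, 3, 0, 3]),
  (13, [0, 4, 2, 2]),
  (13, [0, 3, 4, 0]),
  (13, [1, 2, 4]),
  (12, [3, 3, 0, 4]),
  (13, [4, 0, 5]),
  (12, [0, 0, 0, 3, 3]),
  (13, [2, 6, 2, 6]),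
  (12, [3, 6, 3, 0]),
  (12, [6, 3, 3, 5]),
  (12, [1, 5, 6, 2, 4]),
  (13, [1, 4, 0, 3, 3]),
  (13, [0, 3, 5, 0]),
  (13, [0, 0, 0, 4, 2]),
  (13, [0, 3, 5, 0, 6]),
  (13, [0, 2, 4, 4]),
  (13, [1, 2, 4, 2]),
  (7, [0, 4, 2, 1, 6]),
  (12, [0, 5, 1, 2, 6, 2]),
  (12, [0, 4, 2, 4, 6]),
  (12, [2, 2, 4, 1, 6]),
  (12, [1, 4, 4, 2, 6]),
  (13, [1, 2, 2, 5, 0]),
  (13, [0, 2, 4, 2, 2, 6]),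
  (12, [0, 3, 3, 4, 6]),
  (12, [0, 5, 3, 0, 6]),
  (12, [0, 5, 6, 2, 2]),
  (12, [1, 2, 2, 5, 6]),
  (12, [0, 6, 3, 5]),
  (12, [2, 6, 2, 4, 1]),
  (13, [2, 2, 1, 5]),
  (13, [0, 2, 5, 6, 2, 2]),
  (8, [0, 4]),
  (12, [0, 0, 0]),
  (13, [0, 2, 1, 1, 4, 2]),
  (7, [0, 4]),
  (12, [1, 5, 1, 2, 5]),
  (13, [0, 2, 2, 4]),
  (13, [0, 3, 3, 4]),
  (13, [1, 2, 4, 0]),
  (5, [0, 4, 6, 3]),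
  (4, [0, 3, 3]),
  (4, [0, 3, 3, 6]),
  (13, [0, 2, 1, 1, 5]),
  (13, [1, 4, 2]),
  (5, [2, 2, 1]),
  (6, [0, 4, 6]),
  (9, [0, 2, 4, 2]),
  (9, [0, 2, 4, 2, 6]),
  (6, [2, 2, 5, 6]),
  (9, [1]),
  (9, [1, 6]),
  (12, [0, 4, 2, 5, 3]),
  (12, [0, 0, 0, 2, 2]),
  (6, [0, 4]),
  (6, [2, 2, 5]),
  (12, [1, 3, 5]),
  (12, [2, 2, 1, 5]),
  (9, [0, 4, 2, 6, 2]),
  (6, [1, 2]),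
  (12, [0, 5]),
  (12, [0, 4, 2, 2]),
  (13, [3, 0, 4, 6]),
  (4, [5, 1, 4, 6]),
  (12, [0, 4, 4, 6, 3]),
  (12, [0, 5, 3, 3]),
  (12, [1, 5, 1, 2, 1]),
  (12, [1, 3, 0]),
  (12, [2, 2, 4]),
  (13, [0, 0, 0, 5]),
  (12, [0, 3, 5, 0, 2]),
  (12, [0, 0, 4, 4, 0]),
  (13, [3, 5, 0]),
  (13, [1, 2, 4, 0, 3]),
  (13, [0, 5, 3, 3, 4]),
  (13, [0, 3, 5, 6, 2]),
  (5, [4, 1, 5]),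
  (12, [2, 1, 5, 6]),
  (12, [0, 4]),
  (13, [0, 2, 4, 1, 3]),
  (12, [0, 0, 0, 3, 5]),
  (13, [0, 4, 2, 5, 3]),
  (13, [1, 4]),
  (13, [3, 0, 4]),
  (11, [0, 4, 2, 1, 6]),
  (8, [0, 4, 6]),
  (4, [0, 0, 0]),
  (9, [0, 4, 6]),
  (7, [0, 4, 6]),
  (5, [0, 0, 0, 6]),
  (6, [5, 0]),
  (13, [0, 3, 3, 4, 6]),
  (4, [0, 4]),
  (8, [0, 5, 6]),
  (9, [1, 5, 6]),
  (5, [0, 5, 6]),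
  (7, [0, 5, 6]),
  (6, [2, 2]),
  (13, [0, 6, 3, 5, 1]),
  (12, [0, 4, 2, 5, 0]),
  (12, [2, 1, 2, 5]),
  (12, [1, 5, 1, 6, 2]),
  (12, [0, 2, 5, 3]),
  (12, [0, 3, 4]),
  (12, [0, 3, 4, 6]),
  (13, [0, 4, 2, 6, 3]),
  (13, [0, 4, 1, 6, 3]),
  (12, [1, 4, 0, 6, 2]),
  (12, [0, 2, 5, 3, 6]),
  (13, [1, 4, 4, 0, 6]),
  (13, [0, 4, 1, 1, 6]),
  (12, [1, 3, 6, 3]),
  (13, [0, 3, 5, 6, 2, 1]),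
  (13, [1, 2, 5, 6]),
  (12, [6, 3, 0]),
  (12, [1, 2, 4, 0]),
  (12, [0, 0, 2]),
  (12, [0, 0, 2, 6]),
  (12, [0, 3, 5, 1]),
  (12, [2, 5]),
  (12, [2, 5, 6]),
  (12, [2, 6, 2, 1, 5]),
  (12, [1, 6, 2, 4]),
  (12, [1, 2, 4, 0, 6]),
  (12, [0, 3, 5, 1, 6]),
  (12, [1, 6, 2]),
  (12, [2, 6, 2, 1]),
  (13, [1, 2, 4, 2, 6]),
  (13, [0, 2, 4, 4, 6]),
  (13, [1, 2, 4, 4]),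
  (13, [3, 0, 4, 0, 5]),
  (12, [0, 3]),
  (13, []),
  (12, [2, 5, 0, 4]),
  (13, [1, 1, 4, 0, 5]),
  (12, [0, 3, 5, 0, 2, 1]),
  (12, [1, 3]),
  (12, [1, 3, 6]),
  (12, [2, 5, 0, 4, 6]),
  (13, [0, 2, 4]),
  (13, [0, 0, 0, 4, 4, 0]),
  (13, [0, 0, 0, 5, 3]),
  (12, [0, 4, 1, 6, 2, 4]),
  (12, [0, 3, 6]),
  (13, [0, 2, 1, 1]),
  (12, [1, 2, 4, 1, 1]),
  (12, [2, 2, 1]),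
  (13, [0, 2, 2, 4, 6, 3]),
  (12, [0, 3, 5, 3, 0, 6]),
  (13, [0, 2, 4, 6, 2]),
  (12, [4, 6, 2]),
  (5, [2, 4]),
  (12, [6, 2, 1, 5]),
  (4, [6, 2, 4]),
  (12, [0, 2, 4, 6, 3, 3]),
  (13, [1, 4, 6, 3, 6]),
  (12, [4, 6, 3, 5, 0]),
  (12, [3, 3, 5, 6]),
  (13, [3, 0, 2, 4]),
  (12, [3, 3, 5]),
  (12, [1, 3, 5, 6, 2]),
  (12, [0, 5, 0, 0, 6]),
  (12, [0, 2, 4, 6, 3]),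
  (13, [0, 2, 5, 0, 0]),
  (13, [1, 4, 4]),
  (12, [1, 2, 2, 5, 6, 2]),
  (13, [1, 4, 4, 6]),
  (9, [0, 6]),
  (12, [0, 3, 4, 4]),
  (13, [0, 4, 1, 1, 2]),
  (13, [1, 4, 0, 5]),
  (12, [4, 6, 3, 0, 4]),
  (12, [0, 3, 3, 6]),
  (12, [0, 3, 3]),
  (5, [0, 5, 3, 6]),
  (4, [1, 3, 0]),
  (4, [0, 4, 6, 3]),
  (12, [4, 1]),
  (8, [0, 5]),
  (13, [0, 4, 4]),
  (12, [1, 4, 2, 5]),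
  (7, [0, 5]),
  (13, [0, 0, 2, 1, 5]),
  (13, [1, 2, 4, 0, 0]),
  (13, [0, 5, 3, 5, 1]),
  (13, [0, 3, 4, 4]),
  (13, [1, 5, 3, 5]),
  (5, [0, 5, 3]),
  (6, [1, 6, 3, 5]),
  (9, [0]),
  (6, [0, 4, 0, 6]),
  (9, [1, 4, 4]),
  (9, [1, 4, 4, 6]),
  (12, [0, 4, 2, 2, 1]),
  (6, [2, 1, 5]),
  (6, [0, 4, 0]),
  (12, [0, 5, 1]),
  (12, [2, 1, 4]),
  (12, [0, 3, 4, 4, 0]),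
  (13, [6, 3, 0, 4]),
  (12, [2]),
  (13, [0, 0, 2, 1, 4]),
  (12, [1, 2, 1, 5, 1]),
  (12, [0, 3, 5, 1, 4]),
  (13, [0]),
  (13, [0, 5, 3, 3, 5]),
  (13, [1, 4, 1]),
  (13, [0, 4, 2]),
  (13, [0, 4, 2, 2, 4]),
  (13, [0, 2, 5, 0, 2]),
  (13, [0, 0, 2, 1, 4, 2]),
  (13, [6, 3, 6]),
  (12, [0, 3, 5, 1, 1]),
  (13, [1, 5, 1]),
  (13, [1, 4, 0]),
  (13, [0, 2, 4, 1, 5, 3]),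
  (13, [0, 2]),
  (13, [1, 4, 4, 1, 6]),
  (13, [0, 2, 5, 0, 6]),
  (12, [0, 5, 1, 6, 3]),
  (12, [4, 6, 3, 5, 1]),
  (12, [2, 2, 4, 6]),
  (13, [0, 3, 3, 5]),
  (12, [1, 5, 1, 4, 6]),
  (12, [0, 5, 0, 6]),
  (12, [1, 4, 2, 6]),
  (12, [1, 4, 2]),
  (12, [2, 1, 4, 6, 3]),
  (12, [0, 5, 6, 2]),
  (13, [3, 0, 4, 0, 0]),
  (13, [2, 5]),
  (13, [1]),
  (12, [0, 5, 6, 3, 0]),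
  (12, [0, 4, 2, 5]),
  (13, [3, 5, 1]),
  (13, [0, 2, 5]),
  (13, [0, 0, 0]),
  (13, [1, 1, 2, 1]),
  (13, [4]),
  (12, [1, 3, 4, 6]),
  (12, [0, 2, 5, 3, 0]),
  (11, [0, 4]),
  (13, [0, 2, 2, 6]),
  (12, [0, 0, 0, 5, 6]),
  (10, [0, 4]),
  (13, [1, 5, 6, 2, 2]),
  (12, [1, 4, 1, 6, 2]),
  (12, [3, 0, 4, 6]),
  (6, [0, 4, 6, 3]),
  (9, [0, 2, 4]),
  (9, [0, 2, 4, 6]),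
  (12, [0, 3, 4, 6, 2]),
  (6, [2, 2, 1]),
  (4, [0, 3]),
  (5, [0, 4, 6]),
  (5, [0, 4]),
  (4, [2, 1, 5]),
  (5, [2, 2, 5, 6]),
  (5, [2, 2, 5]),
  (13, [0, 6, 2, 4, 2]),
  (13, [2, 6, 2, 1]),
  (4, [0, 3, 6]),
  (4, [2, 1, 5, 6]),
  (13, [0, 6, 3, 3, 5]),
  (13, [1, 3, 4, 6]),
  (5, [1, 2]),
  (4, [1, 6, 2]),
  (13, [1, 2, 4, 6]),
  (13, [0, 4, 2, 2, 6]),
  (12, [0, 3, 4, 2]),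
  (9, [0, 2, 6]),
  (13, [0, 4, 2, 1]),
  (13, [2, 2, 6]),
  (13, [4, 2, 6]),
  (12, [1, 2, 2, 6]),
  (13, [0, 3, 4, 0, 6, 2]),
  (13, [2, 5, 0, 6]),
  (12, [3, 0, 2, 4, 6]),
  (12, [0, 4, 6, 2]),
  (12, [0, 2, 5, 6]),
  (12, [0, 2, 5]),
  (6, [4, 1, 5]),
  (13, [0, 2, 5, 3, 5]),
  (12, [1, 5, 3, 6]),
  (12, [1, 5, 6, 2]),
  (11, [0, 4, 6]),
  (9, [0, 4, 4]),
  (5, [5, 0]),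
  (10, [0, 4, 6]),
  (6, [0, 0, 0, 6]),
  (4, [1, 3, 6]),
  (12, [3, 0, 4]),
  (9, [0, 5, 0, 2]),
  (11, [0, 5, 6]),
  (5, [2, 2]),
  (6, [0, 5, 6]),
  (10, [0, 5, 6]),
  (4, [6, 2, 2]),
  (12, [1, 4, 0]),
  (13, [0, 4, 4, 1, 6]),
  (13, [6, 2, 1, 5]),
  (13, [0, 0, 3, 0, 4]),
  (13, [3, 0, 4, 6, 3]),
  (13, [0, 3, 5, 6]),
  (13, [0, 3, 5]),
  (12, [1, 5, 0, 0]),
  (12, [1, 5, 1]),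
  (13, [0, 4, 4, 1]),
  (13, [0, 5, 0, 0, 5]),
  (13, [3, 3, 0]),
  (13, [2, 2, 1, 2]),
  (13, [0, 5, 0, 6]),
  (13, [0, 0, 2, 6]),
  (13, [0, 0, 2]),
  (13, [0, 3, 4, 1, 6]),
  (13, [3, 5, 3, 6]),
  (13, [3, 5, 3]),
  (13, [0, 5, 1, 1]),
  (13, [1, 3, 4]),
  (13, [0, 5, 0]),
  (13, [0, 3, 4, 1]),
  (13, [1, 3]),
  (13, [0, 5, 1, 1, 4]),
  (12, [2, 1, 4, 4]),
  (12, [4, 1, 3, 4, 2]),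
  (12, [2, 1, 5, 6, 2]),
  (12, [0, 3, 3, 5, 6]),
  (13, [0, 3, 6]),
  (12, [1, 4, 4, 1, 3, 6]),
  (13, [0, 5, 0, 0, 6]),
  (12, [0, 6, 3, 0]),
  (13, [0, 5, 1, 4, 0, 6]),
  (13, [0, 6, 3, 3]),
  (13, [2, 2, 1]),
  (13, [0, 5, 0, 0]),
  (12, [0, 5, 3, 6, 3]),
  (12, [0, 2, 4, 1, 6]),
  (12, [3, 0, 6]),
  (13, [0, 5, 1, 4, 0]),
  (13, [0, 3]),
  (12, [0, 3, 4, 6, 2, 4]),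
  (13, [0, 5, 1, 1, 6]),
  (13, [1, 3, 6]),
  (12, [0, 2, 5, 0]),
  (13, [1, 5, 0, 2, 2]),
  (12, [0, 0, 0, 5, 3]),
  (13, [2, 2, 5]),
  (6, [2, 4]),
  (13, [3, 0, 3, 5]),
  (9, [1, 3, 6]),
  (13, [0, 3, 4, 2, 5]),
  (12, [1, 5, 3, 3, 6]),
  (13, [4, 1]),
  (13, [1, 1, 4]),
  (12, [1, 4, 6]),
  (13, [1, 1, 4, 6]),
  (13, [0, 2, 4, 4, 1]),
  (12, [0, 4, 6, 2, 4]),
  (12, [1, 5, 3, 5, 6]),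
  (13, [0, 5, 0, 4, 1]),
  (12, [1, 5, 3, 5]),
  (5, [2, 1, 5]),
  (13, [0, 3, 4, 4, 6]),
  (12, [6, 2, 1, 5, 3]),
  (12, [6, 2, 1, 4, 2]),
  (13, [3, 5, 1, 4]),
  (13, [3, 5, 0, 2]),
  (13, [0, 3, 6, 3]),
  (6, [0, 5, 3, 6]),
  (9, [0, 4, 0]),
  (9, [0, 4, 0, 6]),
  (13, [1, 6, 3, 3]),
  (11, [0, 5]),
  (12, [2, 1, 3, 4, 6]),
  (13, [0, 5, 3, 6, 3]),
  (10, [0, 5]),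
  (12, [1, 4, 6, 3]),
  (12, [1, 4, 0, 6]),
  (12, [1, 5, 1, 6]),
  (6, [0, 5, 3]),
  (4, [1, 3, 5]),
  (5, [1, 6, 3, 5]),
  (4, [0, 3, 0]),
  (5, [0, 4, 0, 6]),
  (5, [0, 4, 0]),
  (13, [0, 2, 5, 6, 3, 3]),
  (4, [1, 3, 5, 6]),
  (4, [0, 3, 0, 6]),
  (13, [1, 3, 5, 6]),
  (13, [6, 2, 1, 3, 4]),
  (13, [0, 5, 6, 2, 4]),
  (12, [0, 2, 4, 0, 5]),
  (13, [0, 6, 3, 0, 2]),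
  (12, [1, 2, 6]),
  (13, [4, 1, 6]),
  (13, [0, 5, 1, 4, 6]),
  (12, [2, 1, 3, 5, 6]),
  (12, [0, 2, 4, 6]),
  (12, [1, 5, 0, 2, 6]),
  (12, [0, 5, 6, 3]),
  (12, [0, 4, 4, 6]),
  (12, [0, 5, 6, 2, 1]),
  (12, [1, 2, 6, 2]),
  (12, [0, 6, 3, 5, 1]),
  (13, [0, 2, 6, 3, 5]),
  (12, [3, 6, 3]),
  (12, [1, 5, 3, 0, 6]),
  (12, [0, 4, 1, 6, 3]),
  (12, [0, 3, 3, 4, 2, 6]),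
  (12, [4, 1, 5]),
  (12, [1, 4, 2, 4, 4]),
  (13, [0, 4, 1, 5]),
  (13, [2, 5, 0]),
  (13, [4, 2]),
  (12, [1, 4, 1, 6]),
  (13, [1, 5, 0, 0, 3]),
  (13, [1, 4, 2, 6]),
  (12, [0, 5, 6, 2, 6]),
  (12, [2, 1, 5, 3]),
  (12, [1, 4, 0, 3, 6]),
  (12, [0, 2, 4, 0, 3, 6]),
  (12, [0, 2, 6, 2, 4]),
  (13, [0, 2, 2, 4, 2, 4]),
  (13, [0, 2, 6, 3, 3, 5]),
  (12, [1, 2, 5, 6, 2]),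
  (12, [0, 2, 4, 2, 6]),
  (13, [0, 2, 5, 3, 0]),
  (12, [0, 3, 6, 3, 5]),
  (13, [0, 4, 6, 3, 5]),
  (13, [6, 2, 1]),
  (13, [0, 5, 6, 2, 2]),
  (12, [1, 2, 4, 0, 5]),
  (13, [1, 5, 3, 3]),
  (13, [0, 0, 0, 4]),
  (12, [3, 3, 4]),
  (13, [0, 0, 3, 0]),
  (13, [0, 2, 4, 1, 5]),
  (12, [0, 6, 2, 4]),
  (12, [0, 5, 1, 2, 6]),
  (12, [0, 5, 1, 2]),
  (6, [2, 1]),
  (9, [0, 5, 6]),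
  (13, [0, 6, 3, 5]),
  (12, [0, 6, 2, 4, 6]),
  (13, [1, 4, 6, 2]),
  (4, [3, 0, 6]),
  (5, [2, 1, 2]),
  (6, [0, 0, 6]),
  (9, [0, 3, 4, 2]),
  (12, [2, 1, 2]),
  (13, [0, 5, 3, 3, 5, 6]),
  (13, [1, 4, 1, 6]),
  (12, [0, 3, 5, 3]),
  (12, [0, 0, 0, 2]),
  (12, [1, 2, 4, 2, 2]),
  (12, [1, 3, 0, 0]),
  (12, [1, 5, 1, 4]),
  (12, [2, 1, 1]),
  (12, [0, 3, 5, 3, 0]),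
  (12, [0, 5, 3, 0, 5]),
  (12, [1, 3, 4]),
  (13, [0, 2, 4, 4, 0, 6]),
  (13, [1, 5, 3]),
  (13, [1, 2, 2, 4]),
  (12, [3, 5]),
  (13, [1, 1, 6, 2]),
  (13, [1, 5, 1, 2, 6]),
  (13, [1, 5, 1, 2]),
  (13, [4, 6]),
  (13, [4, 0, 6, 3]),
  (13, [3, 0, 0]),
  (12, [0, 2, 5, 6, 3, 3]),
  (12, [0, 5, 1, 6]),
  (12, [2, 6]),
  (13, [1, 4, 6, 3]),
  (13, [0, 0, 3, 0, 2]),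
  (13, [0, 4, 2, 4, 4]),
  (12, [0, 3, 3, 4, 2, 1]),
  (13, [1, 2, 2, 5]),
  (13, [2, 2, 1, 5, 0]),
  (12, [0, 3, 5, 1, 4, 6]),
  (6, [0, 5, 0, 6]),
  (9, [0, 5, 3]),
  (4, [0, 0]),
  (9, [0, 4, 6, 3]),
  (6, [4]),
  (12, [1, 4, 0, 3]),
  (5, [0, 0, 6]),
  (6, [0, 5, 0]),
  (9, [0, 3, 4, 6]),
  (12, [0, 3, 3, 5]),
  (13, [3, 3, 6, 3]),
  (4, [0, 4, 0]),
  (9, [1, 5, 6, 2]),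
  (12, [3, 0, 4, 2]),
  (5, [0, 5, 0, 6]),
  (6, [0, 0]),
  (12, [2, 1, 5, 0]),
  (13, [2, 4, 6]),
  (12, [1, 4, 0, 3, 3]),
  (13, [0, 4, 1]),
  (12, [0, 0, 0, 4, 4]),
  (13, [1, 4, 4, 0, 0]),
  (13, [0, 5, 3, 5]),
  (13, [1, 4, 4, 1]),
  (12, [0, 2, 4, 2, 4]),
  (12, [0, 5, 3, 0, 0]),
  (13, [1, 5, 0, 0, 5]),
  (13, [1, 4, 4, 2]),
  (13, [1, 5, 0, 2, 6]),
  (13, [0, 5, 0, 6, 3]),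
  (13, [3, 0, 2, 5]),
  (13, [0, 2, 5, 0]),
  (13, [3, 0, 4, 0]),
  (13, [3, 0, 2, 5, 0]),
  (13, [0, 2, 1, 6]),
  (13, [0, 5, 0, 4, 6, 3]),
  (13, [0, 4, 2, 2, 5]),
  (13, [1, 2]),
  (13, [1, 2, 6]),
  (13, [3, 0, 6, 2]),
  (13, [0, 0]),
  (13, [0, 5, 0, 3]),
  (12, [0, 6, 2]),
  (13, [3, 5]),
  (13, [0, 0, 0, 5, 1]),
  (12, [2, 1, 2, 6]),
  (12, [2, 1, 6]),
  (12, [0, 3, 6, 3]),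
  (12, [0, 3, 5, 3, 3, 6]),
  (12, [0, 6, 3, 5, 3, 3]),
  (12, [1, 2, 4, 2, 6]),
  (12, [0, 3, 5, 3, 6]),
  (13, [0, 2, 4, 6, 2, 4]),
  (13, [0, 4, 2, 6]),
  (12, [0, 3, 3, 4, 0, 6]),
  (12, [0, 5, 0, 4, 1]),
  (12, [1, 5, 1, 6, 3]),
  (12, [0, 2, 5, 0, 6]),
  (13, [0, 0, 0, 6]),
  (13, [0, 5, 6, 3]),
  (13, [0, 5, 1, 2, 2]),
  (13, [0, 2, 1]),
  (13, [3, 0]),
  (13, [0, 5, 3, 3]),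
  (12, [1, 3, 5, 6]),
  (13, [0, 4, 1, 5, 3]),
  (12, [4, 0, 5, 6, 2]),
  (13, [3, 0, 4, 2]),
  (12, [1, 4, 2, 5, 3]),
  (12, [4, 1, 3]),
  (13, [1, 4, 1, 6, 2]),
  (13, [0, 0, 0, 4, 4]),
  (13, [0, 3, 5, 3, 0, 6]),
  (13, [0, 2, 4, 1]),
  (12, [0, 2, 5, 6, 2, 2]),
  (13, [4, 0, 6, 2]),
  (13, [0, 3, 5, 3, 0]),
  (13, [2, 5, 6]),
  (13, [1, 5, 0, 2]),
  (12, [0, 5, 0, 3]),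
  (13, [0, 6, 2, 4]),
  (13, [0, 0, 0, 4, 4, 6]),
  (12, [0, 5, 1, 4]),
  (12, [1, 5, 0, 3]),
  (13, [0, 4, 2, 2, 5, 6]),
  (12, [0, 6, 2, 6]),
  (12, [1, 3, 4, 2]),
  (12, [1, 2, 2, 5, 1, 6]),
  (12, [0, 4, 4]),
  (12, [0, 0, 5, 6]),
  (12, [0, 4, 2, 2, 5]),
  (13, [1, 4, 2, 5]),
  (13, [0, 3, 4, 6, 2]),
  (13, [0, 2, 5, 0, 4]),
  (13, [0, 2, 6, 3]),
  (13, [0, 6, 3, 5, 0]),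
  (13, [0, 2, 6, 2]),
  (13, [0, 4, 2, 4, 6]),
  (12, [1, 4, 4, 0, 5]),
  (13, [0, 4, 2, 4]),
  (12, [3, 5, 3]),
  (13, [1, 2, 2]),
  (12, [0, 6, 2, 4, 0]),
  (12, [0, 4, 1, 5, 6]),
  (12, [0, 4, 1, 5]),
  (12, [1, 2, 2, 4]),
  (13, [1, 4, 1, 6, 3]),
  (4, [0, 2, 6]),
  (5, [2, 5]),
  (13, [0, 6, 3, 5, 3]),
  (13, [1, 4, 6]),
  (12, [1, 2, 4, 2]),
  (12, [0, 3, 5, 3, 3]),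
  (12, [2, 1]),
  (13, [3, 6]),
  (13, [1, 5, 0, 6, 3]),
  (13, [0, 5, 3, 0, 2]),
  (13, [3]),
  (12, [1, 3, 0, 6]),
  (12, [0, 3, 5, 0, 2, 6]),
  (12, [0, 3, 4, 6, 2, 2]),
  (12, [4, 1, 5, 6]),
  (12, [6, 3, 3]),
  (12, [0, 3, 4, 0, 3]),
  (12, [0, 2, 4, 2, 4, 6]),
  (13, [0, 2, 4, 4, 0]),
  (13, [4, 1, 5, 3]),
  (12, [0, 5, 0, 0, 2]),
  (13, [1, 5, 3, 6]),
  (13, [0, 2, 5, 6, 3]),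
  (13, [1, 3, 5, 6, 2]),
  (12, [1, 5, 0, 3, 3]),
  (13, [0, 2, 4, 6, 3]),
  (13, [1, 4, 0, 6, 2]),
  (13, [0, 4, 4, 2]),
  (12, [0, 5, 0, 0]),
  (13, [0, 2, 1, 1, 4]),
  (12, [0, 5, 0]),
  (13, [0, 5, 0, 4, 6]),
  (12, [1, 3, 4, 6, 3]),
  (13, [2, 6, 3]),
  (12, [0, 4, 1, 6]),
  (4, [5, 0, 6]),
  (5, [2, 1]),
  (12, [1, 4, 0, 0]),
  (12, [1, 5]),
  (9, [0, 5, 6, 2]),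
  (6, [2, 1, 2]),
  (12, [0, 2, 4]),
  (12, [1, 5, 0, 2]),
  (13, [0, 3, 4, 6, 3]),
  (13, [0, 2, 2, 6, 2]),
  (13, [0, 3, 3, 6]),
  (13, [1, 3, 4, 6, 3]),
  (13, [6, 2, 2]),
  (13, [0, 5, 6, 2, 1]),
  (13, [1, 4, 6, 2, 2]),
  (13, [0, 6, 3, 3, 4]),
  (12, [0, 2, 4, 0, 3]),
  (12, [4, 0, 6]),
  (12, [0, 3, 4, 2, 4, 0]),
  (12, [3]),
  (12, [3, 6]),
  (12, [3, 3, 5, 0]),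
  (12, [1, 2, 1, 5]),
  (12, [0, 6, 3, 5, 1, 2]),
  (13, [0, 4, 2, 2, 1]),
  (13, [1, 3, 5]),
  (13, [1, 3, 0, 4]),
  (12, [1, 5, 3, 3]),
  (12, [0, 6, 3, 5, 3]),
  (13, [0, 5, 1, 4]),
  (5, [0, 5, 0]),
  (4, [5, 6]),
  (4, [0, 4, 0, 6]),
  (5, [4]),
  (13, [0, 3, 6, 3, 5]),
  (12, [0, 3, 5, 1, 2]),
  (5, [0, 0]),
  (4, [0, 0, 6]),
  (13, [0, 2, 6, 2, 4]),
  (12, [1, 2, 4, 0, 3]),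
  (13, [0, 2, 4, 6, 3, 0]),
  (12, [1, 5, 1, 2, 6]),
  (13, [0, 4, 1, 5, 6]),
  (12, [0, 0, 0, 4, 6]),
  (12, [0, 2, 5, 6, 3]),
  (13, [0, 4, 2, 6, 2]),
  (13, [0, 2, 4, 4, 1, 6]),
  (12, [4, 0, 5, 6]),
  (12, [4]),
  (12, [0, 0]),
  (12, [1, 5, 6]),
  (12, [1, 5, 0, 6]),
  (12, [0, 6]),
  (12, [0, 4, 2, 2, 4, 6]),
  (12, [0, 4, 2, 2, 4]),
  (12, [1, 4, 0, 5]),
  (13, [2, 2, 5, 0]),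
  (13, [0, 3, 3]),
  (13, [0, 4, 2, 1, 5]),
  (13, [0, 5, 0, 0, 3]),
  (13, [0, 2, 5, 6, 2]),
  (12, [1, 2, 2, 5]),
  (12, [3, 0, 2]),
  (12, [3, 5, 6]),
  (12, [0, 3, 3, 4, 2, 1, 6]),
  (12, [1, 4, 4, 6, 3]),
  (12, [0, 2, 6]),
  (13, [1, 3, 5, 1]),
  (12, [0, 2, 5, 6, 2]),
  (13, [0, 3, 4, 4, 0, 0]),
  (12, [1, 5, 6, 2, 2]),
  (13, [0, 5, 0, 4, 1, 6]),
  (13, [1, 3, 6, 2]),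
  (12, [0, 2, 4, 4, 0]),
  (12, [0, 2, 4, 2]),
  (12, [0, 0, 4, 4]),
  (12, [2, 2, 4, 1]),
  (12, [4, 6]),
  (13, [1, 6, 3, 5]),
  (13, [0, 4, 1, 3, 6]),
  (13, [2, 6, 2, 1, 5]),
  (12, [0]),
  (13, [0, 2, 2, 4, 2, 6]),
  (13, [1, 2, 4, 4, 6]),
  (13, [0, 4, 2, 2, 4, 6]),
  (12, [0, 5, 0, 4, 6]),
  (12, [2, 5, 0, 2]),
  (12, [1, 4, 2, 4, 6]),
  (12, [0, 3, 3, 4]),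
  (12, [4, 0, 5]),
  (13, [4, 0, 5, 6, 2]),
  (13, [2, 6, 2, 2]),
  (12, [1, 5, 0]),
  (9, [0, 3, 4, 6, 3]),
  (6, [2, 5]),
  (12, [0, 2, 4, 0]),
  (12, [1, 5, 3]),
  (13, [0, 5, 6, 2]),
  (13, [6, 2, 1, 3]),
  (12, [0, 3, 3, 4, 0, 5]),
  (12, [0, 2, 1]),
  (12, [0, 2, 1, 6]),
  (12, [1, 4, 4, 0, 6, 2]),
  (13, [2, 2]),
  (13, [0, 5, 3, 0, 3]),
  (13, [1, 4, 0, 5, 6]),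
  (12, [0, 0, 6]),
  (13, [0, 3, 3, 5, 6]),
  (12, [4, 0]),
  (13, [0, 2, 5, 6, 3, 5]),
  (12, [0, 3, 5, 1, 2, 6]),
  (13, [0, 4, 6, 2]),
  (13, [0, 4, 6, 3, 0]),
  (12, [1, 2, 4, 0, 3, 6]),
  (13, [0, 4, 6, 2, 1]),
  (13, [0, 4, 2, 5, 6]),
  (12, [0, 0, 0, 6]),
  (12, [0, 3, 5, 3, 6, 3]),
  (13, [2, 4]),
  (12, [1, 2, 2, 5, 3]),
  (12, [3, 0]),
  (4, [0, 4, 6]),
  (5, [0, 5]),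
  (12, [1, 4]),
  (13, [0, 5, 1, 2, 1]),
  (13, [0, 5, 6, 3, 3]),
  (13, [6, 2, 1, 2]),
  (13, [0, 2, 2]),
  (4, [3, 6, 2]),
  (5, [0, 0, 0]),
  (9, [0, 4, 0, 6, 2]),
  (6, [0, 5]),
  (12, [6, 3]),
  (9, [0, 4, 4, 6]),
  (6, [0, 0, 0]),
  (12, [3, 3, 4, 6]),
  (13, [3, 0, 4, 2, 4]),
  (13, [0, 4, 2, 5]),
  (12, [1, 4, 4, 0, 5, 6]),
  (12, [1, 2, 4, 0, 5, 6]),
  (13, [0, 2, 2, 4, 2]),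
  (13, [1, 2, 2, 4, 4]),
  (13, [1, 4, 2, 4]),
  (13, [0, 2, 1, 1, 3]),
  (13, [0, 2, 6]),
  (13, [0, 3, 4, 6, 2, 2]),
  (13, [0, 5, 0, 4]),
  (13, [0, 0, 3]),
  (12, [0, 2, 5, 6, 2, 4]),
  (12, [1, 3, 4, 2, 6]),
  (12, [0, 4, 4, 1, 5]),
  (12, [0, 4, 4, 0]),
  (12, [1, 4, 1]),
  (13, [3, 0, 4, 2, 6]),
  (13, [0, 3, 5, 3, 6, 3]),
  (12, [0, 4, 4, 0, 6]),
  (12, [0, 5, 6, 3, 5]),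
  (12, [4, 1, 6]),
  (12, [1, 4, 2, 5, 6]),
  (13, [0, 2, 1, 4]),
  (12, [0, 3, 3, 4, 2]),
  (12, [3, 5, 0]),
  (13, [0, 4, 2, 4, 0]),
  (13, [3, 3, 4]),
  (13, [0, 4, 6, 3]),
  (13, [1, 4, 2, 5, 6]),
  (12, [0, 2, 4, 2, 5]),
  (12, [0, 4, 4, 1]),
  (12, [1, 4, 2, 4]),
  (12, [0, 5, 0, 4])]

end Cfsg.Agent.Lib.Helper2.HNS
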