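import Cfsg.Agent.Lib.Helper2.HNDce3b
import Cfsg.Agent.Lib.Helper2.HNS.Ch3
set_option autoImplicit false
set_option maxRecDepth 1000000
set_option Elab.async false
open Cfsg.Agent.Lib.Helper2.HNDce
namespace Cfsg.Agent.Lib.Helper2.HNS

/-! # The entries of the row 3 and the covering of the 1408 points -/

/-- the entries of the row 3: the word `h`, the row `j`, the word `g₀`, the number of the coset equality -/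
def ent3 : List (List Nat × Nat × List Nat × Nat) := [
  ([4], 2, [], 27),
  ([1, 4], 1, [], 21),
  ([0, 4, 3, 1], 6, [3, 1], 107),
  ([4, 2, 0, 4], 4, [3, 1, 2, 0, 4, 1, 3, 4, 2, 0, 4], 40)]

/-- the covering of the points by the row 3: for the point `q`, the entry and the word in the generators of the subgroup -/
def cov3 : List (Nat × List Nat) := [
  (0, [8]),
  (1, [6, 8]),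
  (1, [8]),
  (0, []),
  (0, [6, 8]),
  (1, [6]),
  (1, []),
  (2, [0, 6]),
  (2, [0, 3, 3, 6]),
  (0, [6]),
  (3, [1, 2, 2, 6, 8]),
  (3, [1, 6, 8]),
  (3, [1, 2, 2, 8]),
  (3, [1, 8]),
  (3, [8]),
  (3, [6, 8]),
  (2, [0, 0, 0, 4, 6]),
  (2, [0, 6, 8]),
  (3, [4, 1, 2, 8]),
  (3, [4, 1, 2, 6, 8]),
  (2, [1, 6]),
  (2, [0, 3, 3, 6, 8]),
  (2, [0]),
  (2, [0, 3, 3]),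
  (2, [3, 0, 5, 6]),
  (2, [3, 0, 5]),
  (3, [0, 6, 8]),
  (3, [1, 2, 2, 6]),
  (2, [6]),
  (2, []),
  (3, [0, 0, 6, 8, 10, 10]),
  (3, [1, 6]),
  (3, [0, 8]),
  (3, [1, 2, 2]),
  (3, [0, 0, 8, 10, 10]),
  (3, [1]),
  (0, [10, 0, 11]),
  (3, []),
  (0, [6, 10, 0, 11]),
  (3, [6]),
  (3, [0, 0, 5, 8]),
  (3, [0, 0, 5, 6, 8]),
  (2, [1, 10, 3, 11]),
  (2, [0, 0, 0, 4, 6, 8]),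
  (3, [0, 11, 3]),
  (0, [8, 10, 1]),
  (3, [4, 1, 2]),
  (3, [4, 1, 2, 6]),
  (3, [1, 1, 8]),
  (3, [1, 1, 6, 8]),
  (2, [1, 6, 8]),
  (0, [8, 10]),
  (3, [0, 0, 11, 0]),
  (2, [0, 0, 0, 4]),
  (2, [0, 8]),
  (2, [1]),
  (2, [0, 3, 3, 8]),
  (1, [6, 10, 0, 11]),
  (2, [3, 0, 5, 6, 8]),
  (1, [10, 0, 11]),
  (2, [3, 0, 5, 8]),
  (2, [0, 0, 6]),
  (2, [0, 0]),
  (3, [2, 1, 5, 1, 6, 8]),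
  (3, [0, 6]),
  (2, [0, 5, 6, 8, 10, 0]),
  (1, [6, 8, 10, 1]),
  (2, [6, 8]),
  (2, [8]),
  (2, [0, 6, 10, 3]),
  (2, [0, 10, 3]),
  (3, [0, 0, 6, 10, 10]),
  (1, [6, 8, 10]),
  (2, [6, 8, 11, 1, 10]),
  (3, [2, 1, 5, 1, 8]),
  (3, [0]),
  (2, [0, 5, 8, 10, 0]),
  (1, [8, 10, 1]),
  (3, [0, 0, 10, 10]),
  (1, [8, 10]),
  (2, [8, 11, 1, 10]),
  (0, [8, 10, 0, 11]),
  (3, [4, 6, 11, 11]),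
  (0, [6, 8, 10, 0, 11]),
  (3, [4, 11, 11]),
  (3, [1, 3, 8]),
  (0, [10, 1, 11]),
  (3, [0, 0, 5]),
  (3, [1, 3, 6, 8]),
  (0, [10, 2, 4]),
  (3, [0, 0, 5, 6]),
  (3, [2, 4, 0, 8]),
  (3, [2, 4, 0, 6, 8]),
  (2, [1, 8, 10, 3, 11]),
  (3, [4, 11, 5, 10]),
  (3, [5, 10]),
  (2, [1, 6, 8, 11, 3]),
  (2, [1, 8, 11, 3]),
  (3, [0, 5, 6, 10, 2]),
  (3, [0, 8, 11, 3]),
  (3, [1, 11, 1]),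
  (0, [10, 1]),
  (3, [1, 1, 10, 3, 11]),
  (3, [2, 1, 5, 0]),
  (3, [1, 3, 0, 8]),
  (3, [1, 1]),
  (3, [1, 3, 0, 6, 8]),
  (3, [1, 1, 6]),
  (3, [0, 11, 1]),
  (3, [0, 4, 10]),
  (0, [10]),
  (2, [6, 8, 10, 3]),
  (2, [8, 10, 3]),
  (3, [0, 4, 6, 10, 5]),
  (3, [0, 0, 8, 11, 0]),
  (2, [3, 3, 4, 1]),
  (2, [0, 0, 0, 4, 8]),
  (3, [0, 6, 11, 3]),
  (0, [6, 8, 10, 1]),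
  (2, [1, 8]),
  (0, [6, 8, 10]),
  (3, [0, 0, 6, 11, 0]),
  (1, [6, 8, 10, 0, 11]),
  (2, [0, 2, 4, 0, 8]),
  (1, [8, 10, 0, 11]),
  (2, [0, 2, 4, 0, 6, 8]),
  (2, [0, 2, 1, 6]),
  (1, [10, 2, 4]),
  (2, [0, 0, 6, 8]),
  (2, [0, 2, 1]),
  (1, [10, 1, 11]),
  (2, [0, 0, 8]),
  (2, [3, 5, 1, 6]),
  (2, [3, 5, 1]),
  (3, [2, 1, 5, 1, 6]),
  (2, [8, 10, 2, 4]),
  (2, [0, 0, 8, 10, 2, 4]),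
  (3, [5, 6, 10, 0]),
  (3, [5, 10, 0]),
  (2, [8, 10, 1, 4, 11]),
  (2, [0, 5, 6, 10, 0]),
  (2, [6, 8, 10, 3, 4]),
  (1, [6, 10, 1]),
  (2, [0, 2, 4, 1, 8]),
  (2, [0, 2, 4, 1, 6, 8]),
  (2, [0, 2, 6]),
  (2, [0, 6, 8, 10, 3]),
  (2, [0, 2]),
  (2, [0, 8, 10, 3]),
  (2, [6, 8, 10, 3, 0]),
  (2, [0, 3, 6, 8, 11]),
  (1, [6, 10]),
  (3, [0, 6, 11, 1, 1]),
  (3, [0, 11, 1, 1]),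
  (2, [0, 3, 8, 11, 5]),
  (2, [6, 11, 1, 10]),
  (3, [2, 1, 5, 1]),
  (2, [6, 8, 10, 2, 4]),
  (2, [0, 3, 0, 8, 11]),
  (2, [1, 8, 10, 4, 4, 1]),
  (2, [0, 5, 10, 0]),
  (2, [8, 10, 3, 4]),
  (1, [10, 1]),
  (2, [8, 10, 3, 0]),
  (2, [0, 3, 8, 11]),
  (1, [10]),
  (2, [0, 2, 8, 10, 2, 10]),
  (2, [11, 1, 10]),
  (3, [2, 2, 1, 11, 1]),
  (3, [0, 10, 0, 2]),
  (2, [3, 0, 4, 0, 8]),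
  (2, [0, 5, 8, 11, 3, 11]),
  (2, [1, 8, 11, 0, 10]),
  (3, [4, 6, 8, 11, 11]),
  (3, [2, 2, 5, 10]),
  (3, [2, 11, 1]),
  (2, [3, 3, 8, 10, 2]),
  (3, [4, 8, 11, 11]),
  (2, [11, 11, 0]),
  (2, [1, 10, 5, 11]),
  (3, [0, 0, 4, 8]),
  (3, [1, 3]),
  (0, [8, 10, 1, 11]),
  (2, [8, 10, 4, 0]),
  (3, [4, 4, 6]),
  (3, [0, 0, 4, 6, 8]),
  (3, [1, 3, 6]),
  (0, [8, 10, 2, 4]),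
  (2, [8, 11, 2, 4]),
  (3, [4, 4]),
  (3, [4, 1, 8]),
  (3, [2, 8]),
  (3, [2, 4, 0]),
  (3, [4, 1, 6, 8]),
  (3, [2, 6, 8]),
  (3, [2, 4, 0, 6]),
  (3, [5, 1, 11, 0]),
  (3, [0, 10, 3]),
  (2, [8, 10, 4, 4, 2]),
  (2, [8, 10, 4, 4, 0]),
  (3, [4, 8, 11, 5, 10]),
  (2, [0, 5, 6, 8, 10]),
  (2, [0, 5, 8, 10]),
  (0, [8, 10, 0]),
  (3, [5, 8, 10]),
  (2, [6, 8, 10, 5]),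
  (3, [2, 4, 2]),
  (2, [1, 6, 11, 3]),
  (2, [8, 10, 5]),
  (3, [2, 4, 2, 6]),
  (2, [1, 11, 3]),
  (2, [8, 11, 1, 3]),
  (2, [6, 8, 11, 1, 3]),
  (3, [2, 4, 10, 3]),
  (3, [0, 5, 6, 8, 10, 2]),
  (3, [0, 8, 11, 1, 4]),
  (2, [11, 4, 10, 10]),
  (2, [1, 6, 8, 11, 1, 10]),
  (2, [1, 8, 11, 1, 10]),
  (3, [1, 8, 11, 1]),
  (3, [1, 1, 8, 10, 3, 11]),
  (2, [3, 5, 0, 8]),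
  (2, [3, 5, 0, 6, 8]),
  (2, [0, 2, 4, 8, 11]),
  (2, [0, 3, 8, 10, 5]),
  (3, [2, 1, 5, 0, 8]),
  (2, [3, 0, 2]),
  (2, [3, 0, 2, 6]),
  (3, [1, 3, 0]),
  (2, [8, 10, 5, 0]),
  (3, [1, 3, 0, 6]),
  (2, [6, 8, 10, 5, 0]),
  (2, [8, 11, 4, 10, 10]),
  (2, [0, 3, 8, 11, 1]),
  (3, [0, 8, 11, 1]),
  (2, [6, 8, 10, 2, 5]),
  (2, [8, 10, 2, 5]),
  (3, [2, 10, 0]),
  (3, [0, 4, 8, 10]),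
  (2, [6, 8, 10, 5, 3]),
  (2, [6, 10, 3]),
  (2, [8, 10, 5, 3]),
  (2, [10, 3]),
  (2, [8, 10, 2]),
  (2, [6, 8, 10, 2]),
  (3, [0, 4, 6, 8, 10, 5]),
  (2, [0, 5, 6, 10]),
  (3, [1, 8, 11, 5, 11]),
  (2, [3, 3, 4, 1, 8]),
  (3, [0, 11, 4, 4]),
  (3, [5, 6, 10]),
  (3, [0, 5, 10, 2]),
  (3, [0, 6, 8, 11, 3]),
  (3, [1, 6, 11, 1]),
  (0, [6, 10, 1]),
  (3, [0, 6, 11, 1]),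
  (3, [0, 4, 6, 10]),
  (0, [6, 10]),
  (3, [0, 4, 10, 5]),
  (3, [0, 0, 6, 8, 11, 0]),
  (2, [8, 10, 2, 10, 2]),
  (2, [1, 8, 10, 0, 4]),
  (3, [2, 4, 1]),
  (3, [0, 10, 3, 11]),
  (3, [0, 11, 5, 11]),
  (2, [0, 2, 4, 0]),
  (2, [3, 8, 11, 0, 4]),
  (2, [0, 2, 4, 8, 10]),
  (3, [2, 4, 11, 2]),
  (2, [0, 2, 4, 0, 6]),
  (3, [5, 1, 8]),
  (3, [5, 1, 6, 8]),
  (2, [0, 6, 10, 0]),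
  (2, [0, 2, 1, 6, 8]),
  (1, [8, 10, 2, 4]),
  (3, [4, 10, 5]),
  (2, [3, 0, 4, 8]),
  (2, [0, 10, 0]),
  (2, [0, 2, 1, 8]),
  (1, [8, 10, 1, 11]),
  (3, [0, 10, 4, 4]),
  (2, [3, 0, 4, 6, 8]),
  (2, [3, 6]),
  (2, [0, 6, 10, 4]),
  (2, [3, 5, 1, 6, 8]),
  (2, [3]),
  (2, [0, 10, 4]),
  (2, [3, 5, 1, 8]),
  (2, [3, 8, 11, 3, 0]),
  (2, [0, 8, 10, 4, 11]),
  (3, [0, 10, 1, 10]),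
  (3, [0, 6, 10, 1, 10]),
  (2, [10, 2, 4]),
  (3, [1, 6, 11]),
  (3, [1, 11]),
  (1, [6, 8, 10, 0]),
  (2, [0, 0, 10, 2, 4]),
  (3, [0, 10, 5, 1, 10]),
  (2, [0, 2, 4, 6, 8]),
  (3, [5, 6, 8, 10, 0]),
  (3, [1, 11, 1, 3]),
  (2, [0, 2, 4, 8]),
  (3, [5, 8, 10, 0]),
  (3, [0, 5, 10, 5]),
  (3, [0, 5, 6, 10, 5]),
  (2, [3, 6, 8, 11, 0]),
  (2, [10, 1, 4, 11]),
  (2, [11, 2, 11]),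
  (3, [0, 4, 6, 8, 10, 1]),
  (3, [5, 6, 10, 1]),
  (3, [5, 10, 1]),
  (2, [6, 10, 3, 4]),
  (2, [0, 2, 4, 1]),
  (3, [4, 4, 1]),
  (3, [4, 4, 1, 6]),
  (3, [2, 10]),
  (3, [2, 6, 10]),
  (2, [0, 2, 4, 1, 6]),
  (3, [5, 8]),
  (3, [5, 6, 8]),
  (2, [0, 2, 6, 8]),
  (3, [5, 10, 2]),
  (2, [0, 2, 8]),
  (3, [2, 10, 4, 4]),
  (3, [0, 4, 6, 10, 1]),
  (3, [0, 4, 10, 1]),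
  (2, [6, 10, 3, 0]),
  (3, [0, 6, 11]),
  (3, [0, 11]),
  (2, [8, 11, 4, 2, 1]),
  (2, [0, 3, 6, 11]),
  (3, [2, 11, 0, 10]),
  (3, [0, 6, 8, 11, 1, 1]),
  (3, [0, 4, 10, 2]),
  (3, [0, 8, 11, 1, 1]),
  (3, [0, 11, 4]),
  (3, [0, 6, 11, 4]),
  (2, [0, 3, 11, 5]),
  (3, [1, 6, 8, 11]),
  (2, [1, 10, 5, 3]),
  (2, [8, 10, 4, 4, 10]),
  (2, [0, 5, 8, 11, 3]),
  (2, [6, 10, 2, 4]),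
  (1, [8, 10, 0]),
  (2, [0, 3, 0, 11]),
  (2, [3, 8, 11, 0]),
  (2, [1, 10, 4, 4, 1]),
  (2, [1, 10, 0]),
  (3, [0, 4, 8, 10, 1]),
  (2, [10, 3, 4]),
  (2, [10, 3, 0]),
  (2, [1, 8, 10, 1, 1]),
  (2, [0, 3, 11]),
  (2, [0, 2, 10, 2, 10]),
  (3, [1, 8, 11]),
  (2, [3, 10, 0, 10]),
  (3, [2, 11]),
  (3, [2, 2, 1, 8, 11, 1]),
  (3, [0, 5, 10, 2, 11]),
  (3, [0, 8, 10, 0, 2]),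
  (2, [3, 0, 4, 0]),
  (2, [0, 5, 11, 3, 11]),
  (3, [0, 10, 1]),
  (3, [0, 6, 10, 1]),
  (2, [1, 11, 0, 10]),
  (3, [2, 2, 1, 6, 8]),
  (3, [2, 2, 5, 8, 10]),
  (3, [2, 8, 11, 1]),
  (2, [3, 3, 10, 2]),
  (3, [2, 2, 1, 8]),
  (2, [0, 3, 0]),
  (2, [11, 11, 5]),
  (2, [8, 11, 11, 0]),
  (2, [0, 3, 0, 6]),
  (2, [6, 11, 11, 5]),
  (2, [1, 8, 10, 5, 11]),
  (2, [0, 3]),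
  (2, [0, 3, 6]),
  (3, [0, 0, 4]),
  (2, [0, 0, 8, 10, 0]),
  (2, [8, 10, 1, 4]),
  (3, [1, 1, 10, 3]),
  (3, [4, 11, 3]),
  (3, [0, 5, 11, 2]),
  (3, [0, 10, 0, 10]),
  (2, [10, 4, 0]),
  (3, [4, 4, 6, 8]),
  (3, [0, 0, 4, 6]),
  (2, [3, 5, 8, 10, 5]),
  (2, [1, 8, 10, 4, 11]),
  (3, [2, 2, 1, 11]),
  (3, [0, 11, 2, 11]),
  (2, [11, 2, 4]),
  (3, [4, 4, 8]),
  (2, [3, 3]),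
  (2, [3, 3, 6]),
  (3, [4, 1]),
  (2, [11, 11]),
  (2, [6, 11, 11]),
  (3, [2]),
  (2, [3, 8, 11, 2, 2]),
  (2, [0, 5, 6, 8, 11]),
  (3, [4, 1, 6]),
  (3, [2, 6]),
  (2, [0, 3, 8, 10, 1]),
  (2, [0, 5, 8, 11]),
  (2, [8, 10, 4, 11]),
  (2, [0, 2, 8, 11, 0]),
  (3, [5, 1, 8, 11, 0]),
  (2, [0, 5, 0, 8, 11]),
  (2, [8, 10, 0, 4, 4]),
  (3, [0, 8, 10, 3]),
  (2, [6, 8, 10, 0, 11]),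
  (2, [6, 8, 10, 4]),
  (2, [10, 4, 4, 2]),
  (2, [8, 10, 0, 11]),
  (2, [8, 10, 4]),
  (2, [10, 4, 4, 0]),
  (2, [10, 1, 5, 3]),
  (2, [3, 3, 4, 10]),
  (2, [0, 5, 10]),
  (0, [10, 0]),
  (2, [6, 10, 2, 5]),
  (3, [4, 8, 11, 3]),
  (3, [0, 0, 6, 10, 2]),
  (3, [0, 0, 10, 2]),
  (2, [6, 8, 10, 0]),
  (2, [6, 10, 5]),
  (3, [2, 4, 2, 8]),
  (2, [10, 1, 5]),
  (2, [8, 10, 0]),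
  (2, [10, 5]),
  (3, [2, 4, 2, 6, 8]),
  (2, [3, 10, 4, 11]),
  (2, [3, 8, 11, 0, 10]),
  (2, [11, 1, 3]),
  (2, [8, 10, 5, 1]),
  (2, [6, 11, 1, 3]),
  (2, [1, 8, 10, 2, 11]),
  (2, [3, 0, 8, 10, 3]),
  (3, [2, 4, 8, 10, 3]),
  (3, [4, 8, 11, 3, 11]),
  (3, [1, 8, 11, 2, 2]),
  (2, [11, 0, 10]),
  (2, [3, 11, 2, 11]),
  (2, [0, 2, 10]),
  (3, [0, 11, 1, 4]),
  (3, [0, 6, 8, 11, 1]),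
  (3, [0, 5, 8, 10, 2, 11]),
  (2, [1, 6, 11, 1, 10]),
  (2, [1, 11, 1, 10]),
  (3, [1, 3, 8, 10, 2]),
  (2, [3, 5, 0, 6]),
  (2, [3, 5, 0]),
  (3, [0, 5, 3, 6, 8]),
  (3, [5, 11]),
  (3, [2, 10, 4]),
  (2, [0, 2, 4, 11]),
  (2, [0, 3, 10, 5]),
  (3, [0, 5, 3, 8]),
  (2, [3, 3, 4]),
  (2, [0, 0, 2]),
  (2, [3, 0, 2, 8]),
  (2, [1, 10, 5, 10]),
  (2, [0, 0, 2, 6]),
  (2, [3, 0, 2, 6, 8]),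
  (2, [8, 10, 1, 5]),
  (3, [2, 10, 5]),
  (3, [0, 10, 2, 10]),
  (2, [10, 5, 0]),
  (2, [3, 8, 10, 4, 11]),
  (2, [6, 10, 5, 0]),
  (2, [0, 3, 11, 1]),
  (3, [1, 1, 8, 10, 3]),
  (2, [10, 2, 5]),
  (3, [2, 8, 10, 0]),
  (3, [0, 8, 11, 1, 11]),
  (3, [0, 6, 11, 5]),
  (3, [0, 11, 5]),
  (2, [6, 10, 5, 3]),
  (2, [0, 0, 10, 0]),
  (2, [10, 5, 3]),
  (2, [3, 5, 10, 5]),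
  (2, [3, 8, 10, 4, 10]),
  (2, [10, 2]),
  (2, [8, 10, 1, 11]),
  (2, [6, 10, 2]),
  (3, [0, 0, 8, 11, 2]),
  (3, [5, 8, 11, 1, 10]),
  (3, [5, 6, 8, 10]),
  (3, [2, 8, 11]),
  (2, [10, 4, 10]),
  (2, [3, 10, 2, 11]),
  (2, [10, 0, 5]),
  (3, [1, 11, 5, 11]),
  (3, [0, 8, 11, 4, 4]),
  (0, [6, 8, 10, 0]),
  (3, [1, 11, 2, 11]),
  (3, [0, 5, 8, 10, 2]),
  (3, [0, 8, 10, 4, 11]),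
  (3, [1, 6, 8, 11, 1]),
  (3, [1, 11, 4, 11]),
  (3, [0, 4, 6, 8, 10]),
  (3, [0, 4, 8, 10, 5]),
  (3, [2, 8, 11, 5, 1]),
  (2, [10, 2, 10, 2]),
  (2, [1, 10, 0, 4]),
  (3, [2, 4, 1, 8]),
  (3, [0, 8, 10, 3, 11]),
  (2, [0, 2, 8, 11, 5]),
  (2, [8, 11, 3, 4]),
  (3, [0, 8, 11, 5, 11]),
  (2, [0, 5, 0]),
  (2, [3, 11, 0, 4]),
  (2, [0, 2, 4, 10]),
  (3, [2, 4, 8, 11, 2]),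
  (2, [0, 5, 0, 6]),
  (3, [0, 4, 8]),
  (3, [2, 2, 5, 8]),
  (3, [5, 1]),
  (3, [0, 4, 6, 8]),
  (3, [2, 2, 5, 6, 8]),
  (3, [5, 1, 6]),
  (3, [1, 2, 8]),
  (3, [1, 2, 6, 8]),
  (2, [0, 6, 8, 10, 0]),
  (3, [2, 2, 11, 0]),
  (3, [5, 11, 0]),
  (2, [3, 6, 8, 10, 2]),
  (2, [3, 8, 10, 2]),
  (3, [4, 8, 10, 5]),
  (2, [3, 0, 4]),
  (2, [0, 8, 10, 0]),
  (3, [2, 10, 2, 2]),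
  (3, [2, 10, 2, 1]),
  (3, [0, 8, 10, 4, 4]),
  (2, [3, 0, 4, 6]),
  (3, [5, 0, 8]),
  (3, [5, 0, 6, 8]),
  (2, [3, 6, 8]),
  (3, [2, 2, 8]),
  (3, [2, 2, 6, 8]),
  (2, [0, 6, 8, 10, 4]),
  (3, [2, 10, 4, 1]),
  (3, [0, 6, 10]),
  (2, [3, 8]),
  (2, [0, 8, 10, 4]),
  (3, [5, 11, 1]),
  (3, [0, 10]),
  (2, [3, 11, 3, 0]),
  (2, [0, 10, 4, 11]),
  (3, [2, 10, 2, 10]),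
  (3, [0, 6, 11, 2]),
  (3, [0, 8, 10, 1, 10]),
  (3, [0, 10, 4, 1]),
  (3, [0, 11, 2]),
  (3, [0, 6, 8, 10, 1, 10]),
  (3, [2, 4, 6, 8, 10]),
  (3, [2, 1, 5, 8, 10]),
  (1, [6, 10, 0]),
  (3, [0, 6, 8, 11]),
  (2, [10, 4, 11]),
  (2, [1, 8, 11, 2]),
  (2, [1, 6, 8, 11, 2]),
  (3, [2, 10, 2, 11]),
  (3, [0, 8, 10, 5, 1, 10]),
  (2, [0, 2, 4, 6]),
  (3, [4, 8, 10, 0]),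
  (3, [1, 3, 10, 3]),
  (3, [1, 8, 11, 1, 3]),
  (2, [0, 2, 4]),
  (3, [0, 8, 10, 5, 0]),
  (3, [1, 6, 11, 2]),
  (3, [0, 5, 8, 10, 5]),
  (3, [1, 11, 2]),
  (3, [0, 5, 6, 8, 10, 5]),
  (3, [0, 10, 5, 3]),
  (3, [4, 10, 3]),
  (2, [3, 6, 11, 0]),
  (2, [10, 2, 4, 0]),
  (2, [1, 10, 4, 4]),
  (3, [5, 8, 11, 1, 1]),
  (3, [1, 3, 8, 10, 4, 11]),
  (3, [1, 3, 0, 8, 10]),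
  (2, [8, 11, 2, 11]),
  (2, [10, 4, 4, 10]),
  (3, [5, 6, 8, 10, 1]),
  (3, [5, 8, 10, 1]),
  (2, [3, 6, 11, 4]),
  (3, [4, 4, 1, 6, 8]),
  (3, [4, 4, 1, 8]),
  (2, [0, 5]),
  (2, [0, 3, 6, 8, 10]),
  (2, [0, 3, 8, 10]),
  (3, [2, 8, 10]),
  (3, [2, 6, 8, 10]),
  (2, [0, 5, 6]),
  (3, [2, 1, 5, 8]),
  (3, [0, 4, 0, 8]),
  (3, [5]),
  (3, [2, 1, 5, 6, 8]),
  (3, [0, 4, 0, 6, 8]),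
  (3, [5, 6]),
  (3, [4, 10, 0]),
  (2, [8, 11, 4, 10]),
  (2, [8, 11, 2, 2]),
  (3, [5, 8, 10, 2]),
  (3, [0, 10, 5, 0]),
  (3, [2, 8, 10, 4, 4]),
  (2, [0, 5, 0, 11]),
  (3, [0, 8, 11]),
  (2, [11, 4, 2, 1]),
  (2, [3, 10, 2, 4]),
  (2, [8, 10, 2, 2]),
  (2, [6, 8, 10, 2, 2]),
  (3, [2, 8, 11, 0, 10]),
  (3, [2, 2, 8, 11, 0]),
  (3, [0, 4, 8, 10, 2]),
  (3, [2, 8, 10, 2, 2]),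
  (3, [1, 11, 2, 4]),
  (3, [0, 8, 11, 4]),
  (3, [0, 11, 4, 1]),
  (3, [0, 6, 8, 11, 4]),
  (2, [1, 6, 10, 4]),
  (2, [10, 2, 4, 1]),
  (2, [0, 5, 11, 3]),
  (3, [0, 8, 10, 0]),
  (3, [0, 6, 8, 10, 0]),
  (3, [0, 8, 10, 0, 0]),
  (2, [1, 8, 10, 5, 3]),
  (3, [2, 4, 8, 10]),
  (3, [2, 8, 10, 0, 3]),
  (1, [10, 0]),
  (2, [0, 2, 11, 0]),
  (2, [3, 11, 0]),
  (2, [10, 0, 4, 10]),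
  (2, [1, 11, 1, 11]),
  (3, [2, 2, 8, 11, 5]),
  (2, [1, 8, 10, 0]),
  (2, [3, 11, 4]),
  (2, [10, 0, 4, 4]),
  (2, [1, 10, 1, 1]),
  (2, [3, 11, 4, 2]),
  (2, [1, 10, 4]),
  (2, [1, 11, 2, 4]),
  (3, [0, 6, 8, 10, 0, 0]),
  (2, [3, 8, 10, 0, 10]),
  (0, [8, 10, 5]),
  (3, [0, 0, 11, 3]),
  (3, [0, 8, 10, 1]),
  (0, [6, 8, 10, 5]),
  (3, [0, 0, 6, 11, 3]),
  (3, [0, 6, 8, 10, 1]),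
  (3, [0, 5, 8, 11, 5]),
  (3, [0, 8, 10, 5, 1]),
  (2, [1, 6, 10, 10]),
  (2, [1, 10, 10]),
  (3, [2, 2, 1, 6]),
  (3, [0, 8, 10, 2]),
  (3, [4, 8, 10, 1]),
  (3, [2, 2, 1]),
  (3, [2, 1, 2, 6, 8]),
  (3, [2, 1, 2, 8]),
  (2, [0, 3, 0, 8]),
  (3, [2, 4, 6, 8]),
  (3, [2, 4, 8]),
  (2, [8, 11, 11, 5]),
  (3, [2, 11, 4]),
  (3, [0, 0, 11, 2]),
  (2, [0, 3, 0, 6, 8]),
  (2, [6, 8, 11, 11, 5]),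
  (3, [0, 10, 3, 4]),
  (3, [5, 11, 0, 10]),
  (2, [0, 3, 8]),
  (2, [0, 3, 6, 8]),
  (3, [2, 11, 1, 2]),
  (3, [0, 10, 2, 11]),
  (2, [3, 8, 11, 5, 1]),
  (3, [4, 1, 5, 6]),
  (2, [10, 1, 4]),
  (3, [0, 6, 10, 0]),
  (3, [1, 3, 10, 4, 11]),
  (3, [0, 5, 11, 1]),
  (3, [5, 11, 1, 10]),
  (3, [0, 5, 8, 11, 2]),
  (3, [0, 5, 6, 11, 1]),
  (3, [0, 11, 4, 4, 1]),
  (3, [0, 8, 10, 0, 10]),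
  (3, [5, 1, 8, 10]),
  (3, [0, 8, 10, 3, 5]),
  (2, [8, 10, 0, 5]),
  (3, [4, 1, 5]),
  (2, [1, 10, 4, 11]),
  (3, [0, 10, 0]),
  (3, [2, 2, 1, 8, 11]),
  (3, [5, 11, 1, 1]),
  (3, [0, 8, 11, 2, 11]),
  (3, [2, 1, 8, 11, 5]),
  (3, [2, 8, 11, 5]),
  (0, [6, 10, 0]),
  (1, [6, 10, 2]),
  (2, [1, 1]),
  (2, [3, 3, 8]),
  (1, [10, 2]),
  (2, [1, 1, 6]),
  (2, [3, 3, 6, 8]),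
  (2, [8, 11, 4]),
  (2, [0, 0, 4]),
  (1, [6, 10, 5]),
  (2, [8, 11, 11]),
  (2, [0, 0, 4, 6]),
  (1, [10, 5]),
  (2, [6, 8, 11, 11]),
  (2, [3, 6, 8, 11, 2]),
  (3, [2, 6, 10, 1]),
  (3, [2, 10, 1]),
  (2, [3, 11, 2, 2]),
  (3, [1, 1, 10, 5]),
  (3, [2, 2, 1, 10]),
  (2, [0, 5, 6, 11]),
  (2, [3, 8, 10, 5]),
  (2, [3, 8, 11, 2]),
  (2, [0, 3, 10, 1]),
  (2, [0, 5, 11]),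
  (2, [8, 11, 0, 10]),
  (2, [3, 8, 11, 2, 11]),
  (2, [6, 10, 0, 3]),
  (2, [8, 10, 4, 10]),
  (2, [3, 8, 10, 2, 11]),
  (2, [1, 10, 2, 4]),
  (3, [0, 5, 6, 10, 4]),
  (3, [0, 5, 10, 4]),
  (2, [6, 10, 0, 11]),
  (3, [2, 11, 4, 10]),
  (3, [0, 0, 10, 5]),
  (2, [6, 10, 4]),
  (2, [10, 5, 1]),
  (2, [10, 1, 11]),
  (2, [10, 0, 11]),
  (2, [10, 4]),
  (2, [3, 11, 0, 10]),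
  (2, [3, 10, 4, 10]),
  (2, [8, 10, 1, 5, 3]),
  (2, [3, 3, 4, 8, 10]),
  (3, [2, 4, 0, 8, 11]),
  (3, [2, 4, 8, 11]),
  (3, [0, 11, 1, 11]),
  (3, [0, 0, 6, 8, 10, 2]),
  (3, [1, 11, 4, 10]),
  (3, [0, 0, 8, 10, 2]),
  (3, [2, 11, 4, 4]),
  (3, [5, 10, 3]),
  (2, [6, 10, 0]),
  (2, [11, 2]),
  (3, [2, 4, 8, 10, 5]),
  (3, [0, 8, 11, 4, 10]),
  (3, [0, 5, 8, 11]),
  (2, [10, 0]),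
  (2, [6, 11, 2]),
  (3, [0, 5, 6, 8, 11]),
  (3, [5, 10, 4, 10]),
  (3, [1, 11, 2, 2]),
  (2, [3, 3, 8, 10]),
  (2, [11, 0]),
  (2, [3, 8, 11, 5]),
  (2, [6, 11, 0]),
  (3, [2, 4]),
  (2, [1, 10, 2, 11]),
  (3, [2, 4, 6]),
  (2, [3, 0, 10, 3]),
  (3, [5, 1, 8, 11]),
  (2, [3, 11, 1, 10]),
  (2, [10, 2, 11, 11]),
  (3, [1, 8, 11, 5]),
  (3, [4, 11, 3, 11]),
  (2, [1, 10, 3, 3]),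
  (2, [0, 5, 11, 5]),
  (2, [3, 0, 10]),
  (3, [2, 1, 6, 8, 11]),
  (3, [2, 1, 8, 11]),
  (2, [10, 0, 3]),
  (2, [0, 2, 8, 10]),
  (2, [3, 3, 4, 8]),
  (3, [1, 1, 6, 10]),
  (3, [0, 8, 10, 0, 4]),
  (3, [4, 4, 8, 10]),
  (2, [10, 1, 3]),
  (2, [3, 11, 2, 10]),
  (3, [1, 3, 10, 2]),
  (2, [3, 0, 6]),
  (2, [3, 0]),
  (3, [0, 5, 3, 6]),
  (3, [0, 11, 0]),
  (0, [8, 10, 2]),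
  (3, [5, 8, 11]),
  (3, [0, 6, 11, 0]),
  (0, [6, 8, 10, 2]),
  (3, [2, 8, 10, 4]),
  (3, [0, 8, 10, 5]),
  (3, [1, 3, 8, 10, 4]),
  (3, [4, 8, 10]),
  (3, [0, 0, 8, 11, 5]),
  (3, [0, 5, 3]),
  (3, [4, 1, 5, 6, 8]),
  (3, [4, 1, 5, 8]),
  (3, [2, 5, 6, 8]),
  (3, [2, 5, 8]),
  (2, [0, 0, 2, 8]),
  (3, [2, 1, 11, 5]),
  (2, [1, 8, 10, 5, 10]),
  (2, [0, 0, 2, 6, 8]),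
  (3, [5, 1, 10]),
  (3, [0, 11, 4, 10]),
  (3, [2, 4, 10, 5]),
  (2, [0, 0, 8, 10, 5]),
  (3, [0, 0, 10]),
  (3, [2, 8, 10, 5]),
  (3, [0, 11, 2, 4, 1]),
  (3, [0, 0, 6, 10]),
  (3, [0, 8, 10, 2, 10]),
  (3, [0, 8, 10, 3, 4]),
  (3, [2, 8, 11, 4]),
  (3, [0, 8, 11, 0, 5]),
  (3, [4, 8, 11, 1]),
  (3, [0, 8, 10, 3, 0]),
  (3, [0, 0, 8, 10, 1]),
  (3, [0, 6, 8, 11, 5]),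
  (3, [0, 11, 2, 1, 5]),
  (3, [0, 8, 11, 5]),
  (3, [0, 8, 10, 2, 11]),
  (3, [2, 8, 11, 1, 2]),
  (3, [0, 0, 6, 8, 10, 1]),
  (2, [8, 10, 0, 10]),
  (2, [3, 0, 8, 11, 4]),
  (2, [0, 2, 11]),
  (2, [10, 4, 4]),
  (2, [6, 10, 4, 4]),
  (3, [0, 5, 8, 11, 4]),
  (2, [10, 0, 2]),
  (2, [3, 3, 11, 4]),
  (2, [10, 5, 11]),
  (3, [4, 11, 5]),
  (2, [3, 11, 0, 2]),
  (2, [0, 2, 11, 1]),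
  (3, [1, 8, 11, 2, 11]),
  (3, [0, 8, 11, 2, 4, 1]),
  (3, [5, 8, 10, 4, 10]),
  (2, [0, 0, 10, 5]),
  (3, [0, 10, 4, 11]),
  (3, [0, 8, 11, 2, 1, 5]),
  (3, [1, 8, 11, 4, 11]),
  (3, [1, 8, 11, 4, 10]),
  (3, [5, 8, 11, 0, 10]),
  (3, [0, 8, 11, 4, 4, 1]),
  (2, [3, 11, 5, 1]),
  (3, [2, 11, 5, 1]),
  (1, [6, 8, 10, 5]),
  (2, [3, 3, 8, 10, 2, 4]),
  (2, [0, 2, 11, 5]),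
  (1, [8, 10, 5]),
  (2, [8, 10, 0, 5, 11]),
  (2, [11, 3, 4]),
  (2, [11, 4]),
  (3, [2, 1, 6, 8]),
  (3, [2, 1, 8]),
  (2, [0, 5, 0, 8]),
  (2, [3, 10, 5]),
  (2, [0, 5, 0, 6, 8]),
  (2, [0, 0, 3]),
  (2, [0, 0, 3, 6]),
  (3, [0, 4]),
  (2, [0, 2, 1, 5]),
  (2, [3, 11, 5, 10]),
  (3, [2, 2, 5]),
  (2, [1, 8, 10, 0, 3]),
  (2, [1, 6, 8, 10, 4]),
  (3, [0, 4, 6]),
  (3, [2, 2, 5, 6]),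
  (2, [1, 8, 10, 5, 1]),
  (2, [1, 8, 10, 4]),
  (3, [1, 2]),
  (3, [1, 2, 6]),
  (2, [8, 11, 4, 11]),
  (2, [1, 8, 11, 3, 10]),
  (3, [0, 6, 10, 0, 0]),
  (2, [3, 5, 8]),
  (3, [5, 8, 11, 0]),
  (2, [3, 6, 8, 10, 1]),
  (2, [8, 10, 2, 4, 1]),
  (2, [3, 6, 10, 2]),
  (2, [3, 8, 10, 1]),
  (2, [1, 8, 11, 2, 4]),
  (2, [3, 10, 2]),
  (2, [1, 10, 5]),
  (2, [3, 6, 11, 1]),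
  (3, [0, 10, 0, 0]),
  (2, [3, 5, 6, 8]),
  (3, [2, 8, 10, 2, 1]),
  (2, [1, 6, 10, 5]),
  (2, [3, 11, 1]),
  (0, [6, 10, 2]),
  (3, [0, 5, 0, 8]),
  (3, [5, 0]),
  (0, [10, 2]),
  (3, [0, 5, 0, 6, 8]),
  (3, [5, 0, 6]),
  (3, [0, 10, 2]),
  (3, [0, 0, 8]),
  (0, [6, 10, 5]),
  (3, [2, 2]),
  (3, [0, 0, 6, 8]),
  (0, [10, 5]),
  (3, [2, 2, 6]),
  (3, [0, 0, 11, 5]),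
  (2, [8, 11, 3, 5]),
  (2, [0, 2, 8, 10, 2]),
  (3, [2, 8, 10, 4, 1]),
  (2, [0, 5, 0, 8, 10]),
  (2, [8, 10, 0, 5, 3]),
  (3, [0, 6, 8, 10]),
  (3, [0, 5, 11, 5]),
  (3, [1, 3, 10, 4]),
  (3, [5, 8, 11, 1]),
  (3, [0, 8, 10]),
  (3, [0, 6, 8, 10, 0, 5]),
  (3, [1, 3, 6, 8, 10]),
  (2, [1, 8, 10, 0, 11]),
  (2, [8, 11, 2, 11, 11]),
  (3, [2, 8, 10, 2, 10]),
  (2, [1, 8, 11, 5]),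
  (2, [1, 6, 8, 11, 5]),
  (3, [0, 6, 8, 11, 2]),
  (3, [1, 8, 11, 2]),
  (3, [0, 8, 11, 4, 1]),
  (3, [0, 8, 10, 4, 1]),
  (3, [0, 8, 11, 2]),
  (3, [1, 6, 8, 11, 2]),
  (3, [1, 8, 11, 2, 4]),
  (3, [2, 4, 6, 10]),
  (3, [2, 1, 5, 10]),
  (2, [3, 0, 11, 1]),
  (2, [3, 11, 5]),
  (2, [3, 8, 10, 2, 4]),
  (2, [1, 11, 2]),
  (2, [3, 8, 11, 4, 2]),
  (2, [1, 6, 11, 2]),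
  (2, [1, 8, 11, 0]),
  (2, [1, 6, 8, 11, 0]),
  (3, [2, 8, 10, 2, 11]),
  (3, [0, 8, 10, 4]),
  (2, [10, 2, 10]),
  (2, [6, 10, 2, 10]),
  (2, [3, 6, 10]),
  (3, [1, 3, 8, 10, 3]),
  (3, [0, 6, 8, 10, 4]),
  (2, [3, 10]),
  (2, [1, 8, 11, 1, 11]),
  (2, [1, 8, 10, 4, 4]),
  (3, [2, 4, 11]),
  (3, [0, 5, 8, 10, 3]),
  (3, [2, 4, 6, 11]),
  (3, [0, 5, 6, 8, 10, 3]),
  (2, [3, 8, 11, 5, 10]),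
  (3, [0, 8, 10, 5, 3]),
  (2, [0, 2, 1, 5, 8]),
  (3, [4, 8, 10, 3]),
  (2, [3, 11, 3]),
  (3, [4, 8, 11, 0, 11]),
  (3, [2, 8, 11, 5, 10]),
  (2, [11, 5, 0]),
  (2, [8, 10, 2, 4, 0]),
  (3, [2, 4, 8, 10, 1]),
  (2, [1, 10]),
  (2, [1, 6, 10]),
  (3, [0, 8, 10, 0, 5]),
  (3, [1, 3, 0, 10]),
  (3, [2, 1, 5]),
  (2, [0, 2, 1, 8, 11]),
  (2, [1, 10, 0, 2]),
  (2, [3, 3, 11, 1]),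
  (3, [0, 8, 11, 2, 1]),
  (3, [0, 6, 8, 11, 2, 1]),
  (2, [3, 6, 8, 11, 4]),
  (3, [4, 6, 8]),
  (3, [4, 8]),
  (2, [0, 5, 8]),
  (2, [0, 2, 8, 10, 2, 11]),
  (1, [6, 8, 10, 2]),
  (2, [0, 3, 6, 10]),
  (2, [0, 5, 8, 10, 3]),
  (1, [8, 10, 2]),
  (2, [0, 3, 10]),
  (2, [3, 6, 11, 2]),
  (2, [3, 11, 2]),
  (2, [0, 5, 6, 8]),
  (2, [3, 5]),
  (2, [3, 5, 6]),
  (2, [0, 10]),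
  (2, [0, 6, 10]),
  (3, [0, 4, 0]),
  (2, [1, 6, 8, 10, 5]),
  (3, [2, 1, 5, 6]),
  (3, [0, 4, 0, 6]),
  (2, [1, 8, 10, 5]),
  (2, [6, 8, 10, 2, 10]),
  (2, [8, 10, 2, 10]),
  (3, [2, 2, 11, 5]),
  (2, [1, 6, 8, 11]),
  (2, [11, 4, 10]),
  (2, [8, 10, 0, 4, 10]),
  (2, [1, 8, 11]),
  (2, [11, 2, 2]),
  (2, [1, 10, 5, 1]),
  (2, [1, 10, 0, 3]),
  (2, [3, 0, 11, 4]),
  (2, [3, 5, 10]),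
  (2, [1, 10, 1, 2]),
  (2, [1, 6, 11, 1]),
  (2, [10, 2, 2]),
  (2, [3, 8, 11, 4]),
  (2, [6, 10, 2, 2]),
  (2, [1, 11, 3, 10]),
  (2, [11, 4, 11]),
  (2, [1, 11, 1]),
  (3, [0, 11, 0, 5]),
  (3, [2, 10, 2]),
  (3, [1, 3, 0, 8, 11]),
  (3, [0, 8, 11, 2, 4]),
  (3, [0, 6, 8, 11, 2, 4]),
  (2, [11, 5]),
  (3, [1, 3, 8, 10]),
  (2, [8, 11, 2, 10]),
  (3, [2, 4, 10]),
  (3, [2, 10, 0, 3]),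
  (2, [3, 3, 10]),
  (2, [3, 5, 0, 10]),
  (2, [0, 5, 10, 5]),
  (3, [5, 0, 8, 11, 3]),
  (2, [8, 11, 5, 3]),
  (2, [10, 0, 10]),
  (2, [10, 5, 3, 11]),
  (3, [0, 8, 10, 1, 4]),
  (2, [3, 10, 4]),
  (2, [3, 0, 8, 11, 5]),
  (2, [6, 8, 11, 3]),
  (2, [8, 11, 3]),
  (3, [0, 5, 6, 10]),
  (3, [0, 0, 8, 11, 3]),
  (3, [1, 1, 8, 10, 5]),
  (3, [0, 5, 10]),
  (3, [0, 0, 6, 8, 11, 3]),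
  (3, [2, 2, 1, 8, 10]),
  (2, [3, 0, 11, 5]),
  (2, [11, 2, 10]),
  (3, [0, 10, 5, 1]),
  (2, [1, 6, 8, 10, 10]),
  (2, [1, 8, 10, 10]),
  (2, [0, 0, 8, 10, 2]),
  (3, [4, 10, 1]),
  (2, [1, 8, 10, 2, 1]),
  (3, [2, 1, 2, 6]),
  (3, [2, 1, 2]),
  (3, [0, 5, 6, 8]),
  (3, [0, 5, 8]),
  (3, [0, 5, 10, 0]),
  (2, [8, 10, 0, 4]),
  (2, [1, 8, 10, 2, 2]),
  (3, [0, 5, 6, 11]),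
  (3, [0, 0, 11]),
  (3, [0, 5, 6, 10, 0]),
  (3, [0, 5, 11]),
  (3, [0, 0, 6, 11]),
  (3, [0, 4, 10, 3]),
  (3, [0, 4, 6, 10, 3]),
  (3, [2, 11, 5]),
  (3, [0, 10, 3, 5]),
  (2, [0, 0, 8, 10, 3]),
  (3, [0, 0, 8, 11]),
  (3, [4, 8, 11, 5]),
  (3, [0, 5, 10, 3]),
  (2, [6, 8, 11, 1]),
  (2, [8, 11, 1]),
  (3, [0, 5, 8, 11, 1]),
  (2, [6, 8, 10, 4, 4]),
  (2, [8, 10, 4, 4]),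
  (3, [0, 5, 6, 8, 11, 1]),
  (2, [0, 0, 10]),
  (2, [0, 0, 6, 10]),
  (2, [6, 10]),
  (2, [0, 2, 8, 11]),
  (3, [0, 0, 6, 8, 11]),
  (3, [0, 8, 10, 4, 10]),
  (3, [0, 5, 6, 10, 3]),
  (3, [2, 8, 10, 2]),
  (3, [2, 4, 6, 8, 11]),
  (2, [10]),
  (3, [0, 0, 0, 6, 8]),
  (3, [0, 0, 0, 8]),
  (2, [0, 0, 0]),
  (2, [1, 1, 8]),
  (2, [3, 0, 6, 8]),
  (3, [2, 4, 11, 4]),
  (2, [0, 0, 0, 6]),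
  (2, [1, 1, 6, 8]),
  (2, [3, 0, 8]),
  (3, [4, 1, 11]),
  (2, [6, 8, 11, 0, 5]),
  (2, [1, 1, 10]),
  (2, [0, 0, 4, 8]),
  (3, [0, 10, 2, 2]),
  (2, [1, 1, 6, 10]),
  (2, [0, 0, 4, 6, 8]),
  (3, [2, 1, 11, 1]),
  (2, [0, 0, 3, 6, 8, 10]),
  (3, [5, 1, 11]),
  (3, [2, 6, 8, 10, 1]),
  (3, [2, 4, 10, 0]),
  (3, [2, 8, 10, 1]),
  (3, [5, 8, 10, 5]),
  (3, [2, 1, 8, 11, 1]),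
  (3, [0, 10, 3, 0]),
  (3, [2, 11, 0]),
  (3, [4, 1, 8, 11]),
  (3, [0, 0, 8, 11, 4]),
  (2, [8, 11, 0, 5]),
  (2, [0, 0, 3, 8, 10]),
  (3, [1, 8, 11, 4]),
  (3, [0, 8, 10, 2, 2]),
  (3, [2, 4, 8, 11, 4]),
  (3, [0, 8, 10, 2, 1]),
  (2, [6, 8, 11, 0]),
  (2, [8, 11, 0]),
  (3, [0, 5, 8, 10, 1]),
  (3, [0, 5, 6, 8, 10, 1]),
  (2, [6, 8, 10, 0, 3]),
  (2, [1, 8, 10, 2, 4]),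
  (3, [0, 5, 6, 8, 10, 4]),
  (3, [0, 5, 8, 10, 4]),
  (2, [0, 2, 10, 2, 11]),
  (3, [2, 8, 11, 4, 10]),
  (3, [0, 0, 8, 10, 5]),
  (2, [3, 3, 10, 2, 4]),
  (2, [6, 10, 1]),
  (2, [6, 11]),
  (2, [0, 5, 10, 3]),
  (2, [10, 0, 5, 11]),
  (2, [10, 1]),
  (2, [11]),
  (2, [3, 8, 11]),
  (2, [1, 8, 10, 1]),
  (2, [1, 11, 5]),
  (3, [2, 4, 0, 11]),
  (2, [3, 11]),
  (2, [3, 6, 11]),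
  (2, [6, 8, 11, 2]),
  (2, [8, 11, 2]),
  (3, [0, 4, 8, 10, 3]),
  (3, [0, 4, 6, 8, 10, 3]),
  (3, [2, 8, 11, 4, 4]),
  (3, [5, 8, 10, 3]),
  (2, [1, 10, 2, 2]),
  (3, [4, 8, 11, 0]),
  (2, [10, 0, 4]),
  (3, [0, 8, 11, 4, 11]),
  (3, [0, 5, 6, 10, 1]),
  (3, [0, 5, 10, 1]),
  (2, [1, 8, 10, 3, 3]),
  (3, [1, 1, 8, 10]),
  (2, [3, 3, 8, 11, 3]),
  (3, [1, 1, 6, 8, 10]),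
  (2, [0, 0, 10, 3]),
  (2, [3, 8, 11, 1, 10]),
  (3, [2, 8, 11, 0]),
  (2, [8, 10, 2, 11, 11]),
  (3, [0, 0, 8, 11, 1]),
  (3, [1, 11, 5]),
  (2, [0, 5, 8, 11, 5]),
  (2, [3, 0, 8, 10]),
  (3, [2, 1, 6, 11]),
  (3, [2, 1, 11]),
  (2, [8, 10, 0, 3]),
  (3, [0, 4, 10, 0]),
  (3, [4, 11, 0]),
  (2, [1, 10, 0, 11]),
  (3, [0, 10, 0, 4]),
  (2, [11, 2, 11, 11]),
  (3, [4, 4, 10]),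
  (3, [2, 1, 8, 11, 3]),
  (2, [8, 10, 1, 3]),
  (3, [5, 0, 8, 11]),
  (2, [3, 8, 11, 2, 10]),
  (2, [8, 11, 4, 1]),
  (2, [3, 6, 8, 10, 3]),
  (2, [3, 8, 10, 3]),
  (3, [0, 0, 6, 11, 1]),
  (3, [0, 8, 11, 0]),
  (3, [0, 0, 11, 1]),
  (3, [0, 6, 8, 11, 0]),
  (2, [11, 5, 3]),
  (2, [0, 2, 1, 11]),
  (3, [0, 10, 5]),
  (3, [4, 10]),
  (2, [1, 8, 10, 2]),
  (3, [2, 5, 6]),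
  (3, [2, 5]),
  (2, [0, 0, 8, 10]),
  (2, [0, 0, 6, 8, 10]),
  (3, [0, 0, 6, 10, 1]),
  (3, [2, 11, 4, 11]),
  (3, [0, 0, 10, 1]),
  (2, [6, 8, 10]),
  (2, [8, 10]),
  (3, [0, 0, 8, 10]),
  (3, [0, 0, 6, 8, 10]),
  (2, [6, 11, 1]),
  (2, [11, 1]),
  (2, [1, 10, 1]),
  (2, [11, 4, 2]),
  (2, [1, 6, 11, 5]),
  (3, [4, 11, 1]),
  (2, [3, 3, 11, 3]),
  (3, [2, 4, 8, 10, 0]),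
  (3, [0, 5, 8, 10]),
  (3, [0, 5, 11, 4]),
  (2, [8, 10, 0, 2]),
  (2, [3, 3, 8, 11, 4]),
  (2, [8, 10, 5, 11]),
  (3, [2, 1, 11, 3]),
  (2, [3, 8, 11, 0, 2]),
  (2, [0, 2, 8, 11, 1]),
  (3, [5, 8, 10, 4]),
  (3, [1, 1, 10]),
  (3, [0, 8, 10, 1, 3]),
  (3, [0, 10, 4, 10]),
  (2, [8, 11, 0, 2]),
  (2, [0, 5, 0, 10]),
  (2, [6, 8, 11, 0, 2]),
  (2, [10, 0, 5, 3]),
  (3, [2, 1, 6]),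
  (3, [2, 1]),
  (3, [1, 11, 4]),
  (3, [5, 10, 5]),
  (2, [0, 0, 3, 8]),
  (2, [0, 0, 3, 6, 8]),
  (3, [2, 2, 11, 1]),
  (3, [0, 0, 11, 4, 2]),
  (2, [3, 8, 10]),
  (2, [3, 8, 11, 2, 4]),
  (2, [3, 6, 8, 10]),
  (2, [0, 0, 4, 8, 11]),
  (2, [3, 6, 8, 10, 0]),
  (2, [3, 8, 10, 0]),
  (2, [3, 8, 11, 1]),
  (2, [3, 6, 8, 11, 1]),
  (3, [0, 10, 1, 4]),
  (2, [3, 11, 2, 4]),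
  (3, [2, 2, 6, 10, 1]),
  (3, [2, 2, 10, 1]),
  (2, [3, 6, 10, 1]),
  (3, [0, 6, 11, 2, 4]),
  (3, [0, 11, 2, 4]),
  (2, [3, 10, 1]),
  (3, [2, 2, 8, 11]),
  (3, [2, 2, 6, 8, 11]),
  (3, [0, 0, 5, 6, 8, 11]),
  (3, [1, 3, 0, 11]),
  (2, [0, 0, 4, 11]),
  (3, [0, 0, 5, 8, 11]),
  (3, [0, 5, 0]),
  (3, [4, 6]),
  (3, [0, 5, 0, 6]),
  (3, [4]),
  (2, [3, 6, 8, 11]),
  (3, [0, 6, 11, 0, 0]),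
  (3, [0, 0]),
  (3, [0, 0, 6]),
  (2, [8, 11, 4, 2]),
  (3, [1, 1, 6, 11]),
  (2, [3, 8, 11, 3]),
  (2, [11, 3, 5]),
  (2, [3, 5, 0, 8, 10]),
  (2, [0, 2, 10, 2]),
  (2, [0, 0, 10, 2]),
  (2, [1, 8, 10, 1, 2]),
  (2, [8, 10, 5, 3, 11]),
  (2, [11, 4, 1]),
  (3, [0, 11, 0, 0]),
  (3, [1, 1, 11]),
  (2, [1, 10, 2, 1]),
  (2, [1, 10, 2]),
  (2, [6, 11, 1, 11]),
  (2, [11, 1, 11]),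
  (3, [0, 6, 10, 0, 5]),
  (3, [1, 3, 6, 10]),
  (3, [0, 8, 10, 5, 0, 4]),
  (3, [2, 2, 6, 8, 10]),
  (3, [4, 8, 10, 0, 4]),
  (3, [2, 2, 8, 10]),
  (2, [3, 0, 8, 11, 1]),
  (3, [0, 6, 10, 4]),
  (3, [0, 10, 4]),
  (2, [3, 6, 10, 0]),
  (2, [3, 10, 0]),
  (2, [1, 11, 0]),
  (2, [1, 6, 11, 0]),
  (3, [0, 0, 8, 11, 4, 2]),
  (2, [10, 2, 11]),
  (3, [2, 2, 8, 11, 1]),
  (2, [0, 2, 11, 3]),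
  (2, [8, 11, 1, 11]),
  (2, [6, 8, 11, 1, 11]),
  (3, [2, 4, 10, 1]),
  (3, [5, 0, 11, 3]),
  (3, [4, 11, 0, 11]),
  (3, [2, 11, 5, 10]),
  (2, [6, 10, 1, 10]),
  (2, [8, 11, 5, 0]),
  (2, [1, 8, 10]),
  (2, [1, 6, 8, 10]),
  (3, [0, 10, 0, 5]),
  (2, [8, 10, 2, 11]),
  (2, [1, 8, 10, 0, 2]),
  (2, [3, 3, 8, 11, 1]),
  (2, [3, 3, 11]),
  (3, [0, 11, 2, 1]),
  (2, [1, 10, 3]),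
  (3, [0, 6, 11, 2, 1]),
  (3, [0, 10, 2, 1]),
  (2, [8, 10, 1, 10]),
  (2, [6, 8, 10, 1, 10]),
  (3, [0, 0, 11, 4]),
  (2, [0, 8, 10]),
  (2, [0, 6, 8, 10]),
  (3, [2, 2, 11]),
  (3, [2, 2, 6, 11]),
  (2, [1, 8, 11, 1]),
  (2, [1, 6, 8, 11, 1]),
  (3, [0, 0, 5, 6, 11]),
  (3, [0, 0, 5, 11]),
  (2, [1, 6, 11]),
  (2, [1, 11]),
  (3, [2, 2, 6, 8, 10, 1]),
  (3, [2, 2, 8, 10, 1]),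
  (2, [3, 5, 8, 10]),
  (2, [6, 11, 0, 2]),
  (2, [8, 11, 5]),
  (3, [1, 3, 10]),
  (2, [3, 3, 8, 11]),
  (2, [10, 1, 10]),
  (2, [0, 5, 8, 10, 5]),
  (2, [0, 2, 8, 11, 3]),
  (2, [11, 0, 2]),
  (2, [3, 8, 10, 4]),
  (2, [1, 8, 10, 3]),
  (2, [6, 11, 3]),
  (2, [11, 3]),
  (3, [0, 5, 6, 8, 10]),
  (3, [2, 2, 6, 10]),
  (3, [2, 2, 10]),
  (3, [0, 5, 6]),
  (3, [0, 5]),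
  (3, [5, 10, 4]),
  (3, [0, 5, 8, 10, 0]),
  (2, [8, 11]),
  (2, [6, 8, 11]),
  (3, [0, 5, 6, 8, 10, 0]),
  (3, [0, 0, 0, 6]),
  (3, [0, 0, 0]),
  (2, [0, 0, 0, 8]),
  (2, [0, 0, 0, 6, 8]),
  (2, [6, 11, 0, 5]),
  (2, [1, 1, 8, 10]),
  (2, [1, 1, 6, 8, 10]),
  (2, [0, 0, 3, 6, 10]),
  (3, [0, 8, 10, 1, 2]),
  (3, [4, 6, 8, 11]),
  (2, [11, 0, 5]),
  (2, [0, 0, 3, 10]),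
  (3, [4, 4, 8, 10, 1]),
  (3, [4, 8, 11]),
  (3, [0, 4, 8, 10, 0]),
  (3, [2, 8, 11, 4, 11]),
  (2, [6, 8, 10, 1]),
  (2, [8, 10, 1]),
  (3, [1, 1, 8, 11]),
  (3, [1, 1, 6, 8, 11]),
  (2, [3, 3, 11, 0]),
  (2, [1, 10, 3, 0]),
  (3, [0, 11, 4, 11]),
  (3, [5, 0, 11]),
  (3, [0, 10, 1, 3]),
  (2, [1, 8, 10, 3, 0]),
  (2, [3, 3, 8, 11, 0]),
  (2, [0, 3, 10, 3]),
  (2, [3, 0, 11]),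
  (2, [3, 6, 10, 3]),
  (2, [3, 10, 3]),
  (3, [0, 0, 6, 8, 11, 1]),
  (3, [0, 10, 5, 0, 4]),
  (3, [4, 10, 0, 4]),
  (3, [0, 8, 11, 0, 0]),
  (3, [0, 6, 8, 11, 0, 0]),
  (2, [3, 0, 8, 11]),
  (2, [0, 3, 8, 10, 3]),
  (3, [4, 4, 10, 1]),
  (3, [0, 10, 1, 2]),
  (3, [4, 11]),
  (3, [4, 6, 11])]

end Cfsg.Agent.Lib.Helper2.HNS
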