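import Cfsg.Agent.Lib.Helper2.HNDce3b
import Cfsg.Agent.Lib.Helper2.HNS.Ch4
set_option autoImplicit false
set_option maxRecDepth 1000000
set_option Elab.async false
open Cfsg.Agent.Lib.Helper2.HNDce
namespace Cfsg.Agent.Lib.Helper2.HNS

/-! # The entries of the row 4 and the covering of the 1408 points -/

/-- the entries of the row 4: the word `h`, the row `j`, the word `g₀`, the number of the coset equality -/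
def ent4 : List (List Nat × Nat × List Nat × Nat) := [
  ([0, 4], 6, [0, 4, 3, 0, 2, 4, 0], 90),
  ([4, 2, 0], 3, [4, 1, 3, 4, 2, 0, 4, 1, 3, 0, 2], 41),
  ([4, 3, 1], 2, [3, 3, 0, 3, 4, 3, 3, 4, 3, 3, 4, 3], 39),
  ([4, 3, 4], 7, [], 120),
  ([0, 0, 4, 2, 4], 4, [2, 2, 0, 2, 0, 3, 0, 2, 2, 0, 3, 3], 42),
  ([0, 4, 2, 0], 6, [3, 1, 2], 110),
  ([0, 4, 2, 4], 2, [1, 2], 52),
  ([1, 4, 2, 4], 1, [], 33),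
  ([4, 2, 0, 4], 4, [0, 0], 43),
  ([1, 4, 2, 4, 2, 4], 5, [0, 3, 4, 3, 0, 4, 2, 2, 4, 0], 59),
  ([1, 4, 3, 4, 2, 4], 2, [0, 3, 3, 0, 3, 4, 3, 3, 4, 3, 3, 4, 3], 37),
  ([4, 2, 0, 2, 4, 2], 6, [2, 2, 2, 0, 3, 3, 0, 2, 2, 0, 2, 2, 0, 2, 0], 80),
  ([4, 2, 2, 2, 4, 3], 4, [2, 2, 2, 0, 3, 3, 0, 4, 3, 0, 3, 3, 4], 50),
  ([0, 4, 2, 0, 4, 2, 1], 6, [2, 0, 4, 3, 4, 3, 0, 2, 2], 108),
  ([0, 4, 2, 2, 2, 4, 2, 4], 6, [4, 3, 0, 2, 2, 2, 0, 3, 0, 2, 2, 0, 3], 88),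
  ([4, 2, 4, 2, 4, 2, 2, 1, 4], 5, [0, 3, 0, 4, 2, 2, 0, 2, 1, 2, 1, 3, 0, 2, 2, 1, 2, 0, 3, 1, 3, 0, 2, 1, 3, 0, 2, 3, 1, 3, 0, 1, 3, 0, 3, 4, 3, 0, 3, 4, 1, 3, 4, 2, 0, 4, 2, 1, 2, 4, 4, 1, 1, 1, 3, 0, 3, 4, 2, 1, 2, 0, 0, 0, 4, 2, 2, 1, 2, 0, 3, 1, 3, 0, 3, 3, 3], 66)]

/-- the covering of the points by the row 4: for the point `q`, the entry and the word in the generators of the subgroup -/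
def cov4 : List (Nat × List Nat) := [
  (10, [8]),
  (6, [10]),
  (7, [10]),
  (5, [11]),
  (4, [10]),
  (0, []),
  (1, [11]),
  (6, [8]),
  (12, [2, 7, 8]),
  (8, [8, 11]),
  (4, [8]),
  (14, [11, 3]),
  (10, [10]),
  (9, [0, 2, 11, 7]),
  (1, []),
  (0, [10]),
  (12, [2, 6, 8]),
  (10, [8, 10]),
  (2, [10]),
  (2, []),
  (12, [0, 3, 8]),
  (3, []),
  (7, [8]),
  (15, [6, 3, 8, 0]),
  (5, []),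
  (8, [8]),
  (14, [11]),
  (6, []),
  (11, [3, 0, 8]),
  (11, [3, 10, 8]),
  (14, [0, 11, 6]),
  (13, [2, 7]),
  (9, [10, 3, 0]),
  (7, []),
  (9, [3, 10]),
  (13, [0, 10, 3]),
  (9, [11]),
  (8, []),
  (14, [3, 6, 10]),
  (5, [8]),
  (2, [6, 11]),
  (2, [2]),
  (12, [0, 7, 2, 8]),
  (3, [2]),
  (9, [8]),
  (15, [6, 4]),
  (12, [11, 7]),
  (15, [3, 10, 4]),
  (9, [0, 4, 11]),
  (14, [0, 2, 11]),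
  (3, [0, 2]),
  (1, [8, 11]),
  (3, [0, 11, 4]),
  (15, [3, 7, 8, 0]),
  (4, []),
  (15, [0, 2, 8]),
  (3, [0, 10]),
  (12, [0, 8, 4, 6]),
  (1, [8]),
  (15, [2, 4, 8, 4]),
  (0, [8, 10]),
  (11, [3, 6, 8]),
  (11, [2, 8, 10]),
  (14, [0, 10, 3]),
  (13, [2, 6]),
  (12, [10, 7, 11, 11]),
  (9, [2, 11, 8]),
  (14, [7, 4, 8]),
  (9, [0, 4, 8, 4]),
  (12, [0, 3, 0, 8]),
  (15, [4, 8]),
  (13, [10, 7, 11]),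
  (5, [8, 11]),
  (13, [0, 11, 7]),
  (9, [10, 2]),
  (13, [0, 10]),
  (15, [4, 11, 2]),
  (14, [10, 4, 8]),
  (13, [3, 4, 11]),
  (8, [11]),
  (13, [10, 6, 10]),
  (12, [0, 2, 11, 11]),
  (15, [11, 4]),
  (15, [10, 10]),
  (12, [11, 3]),
  (9, [2, 10]),
  (9, [2, 11]),
  (12, [0, 10]),
  (14, [7, 10, 3]),
  (14, [10, 4]),
  (15, [0, 3, 10]),
  (9, [0, 11, 4]),
  (14, [2, 11, 6]),
  (3, [0, 6, 3]),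
  (9, [8, 0, 3]),
  (11, [3, 10]),
  (15, [0, 11]),
  (12, [0, 2, 11]),
  (3, [3, 0, 6, 11]),
  (12, [10, 7, 8, 0]),
  (3, [8, 4, 8]),
  (14, [3, 10]),
  (13, [0]),
  (13, [2, 6, 11]),
  (9, [11, 2, 4]),
  (13, [0, 4, 10]),
  (14, [2, 11]),
  (13, [0, 2, 0]),
  (9, [3, 8]),
  (11, [2, 11]),
  (6, [8, 10]),
  (13, [10, 10, 7]),
  (13, [0, 7, 11, 11]),
  (3, [2, 10, 2]),
  (13, [8, 0, 11, 4]),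
  (15, [3, 8]),
  (3, [0, 10, 2]),
  (14, [0, 6, 8, 0]),
  (12, [10, 3, 10]),
  (3, [11, 2]),
  (0, [8]),
  (3, [10, 4, 10]),
  (14, [7, 8, 10]),
  (9, [0, 6, 8, 4]),
  (9, [7, 11, 8]),
  (14, [10, 8, 10]),
  (12, [8, 0, 2]),
  (12, [0, 8, 0, 4]),
  (14, [0, 11, 8, 10]),
  (15, [0, 8, 4]),
  (15, [6, 4, 8]),
  (9, [10, 10, 4, 8]),
  (12, [2, 8, 0, 2]),
  (15, [3, 8, 0]),
  (13, [0, 3, 0, 6]),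
  (12, [0, 7, 11]),
  (2, [10, 8]),
  (9, [2, 6, 8]),
  (14, [7, 8, 0]),
  (13, [0, 7, 11]),
  (14, [3, 0, 2]),
  (13, [4, 6, 3]),
  (15, [2, 7, 8, 4]),
  (3, [2, 11]),
  (3, [3, 0, 7]),
  (12, [0, 7, 8, 0]),
  (3, [2, 11, 4, 10]),
  (15, [2, 8, 0]),
  (3, [4, 11, 2]),
  (12, [0, 3, 0, 11]),
  (2, [6, 8, 10]),
  (4, [8, 10]),
  (3, [4, 11, 4]),
  (3, [0, 8, 11, 8]),
  (13, [2, 10, 6]),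
  (3, [10, 8, 10]),
  (13, [11, 3]),
  (15, [2, 11]),
  (2, [8]),
  (13, [3, 11, 11]),
  (9, []),
  (13, [7, 10, 3]),
  (12, [0, 6, 8, 4]),
  (15, [4, 11]),
  (2, [2, 8]),
  (10, []),
  (13, [0, 10, 10, 2]),
  (3, [0, 8, 11]),
  (11, []),
  (15, [2, 0]),
  (3, [0, 6, 10]),
  (3, [3, 6]),
  (12, [10, 3]),
  (2, [3, 6]),
  (11, [10]),
  (12, [3]),
  (15, [10, 7]),
  (2, [2, 11]),
  (15, [0, 2, 7, 8]),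
  (12, [0, 3, 7, 8]),
  (9, [0, 3, 11]),
  (13, [4, 11]),
  (12, [10, 10, 4]),
  (15, [10, 2]),
  (15, [2, 10]),
  (14, [10]),
  (13, [0, 2]),
  (15, [10, 10, 3]),
  (12, [7, 10]),
  (12, [7, 11]),
  (9, [0, 7, 11]),
  (9, [0, 3, 0, 11]),
  (13, [7, 4, 11]),
  (14, [3, 11]),
  (14, [11, 2]),
  (13, [0, 3, 7]),
  (9, [0, 2, 8, 0]),
  (12, []),
  (13, [3, 10]),
  (13, [2, 4, 6]),
  (12, [10, 8]),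
  (9, [8, 10, 3, 0]),
  (14, [11, 3, 8]),
  (15, [6, 3, 4]),
  (14, [7, 4]),
  (13, [0, 11, 11, 6]),
  (13, [0, 7, 10]),
  (9, [2, 6]),
  (13, [3, 10, 10]),
  (13, [3]),
  (14, [7, 11, 11]),
  (13, [4, 6, 10]),
  (13, [7, 10, 10]),
  (3, [10]),
  (13, [8, 0, 11]),
  (13, [3, 8, 0, 11]),
  (9, [2, 7]),
  (15, [3, 10]),
  (12, [11, 7, 4]),
  (13, [4, 8, 4]),
  (14, [2, 10, 4]),
  (3, [4, 7, 11]),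
  (3, [0, 3, 6]),
  (14, [6, 8, 11]),
  (9, [0, 2, 11, 8]),
  (9, [2, 10, 3]),
  (15, [3, 7, 8]),
  (12, [0, 8, 10, 10]),
  (13, [0, 4, 6, 10]),
  (15, [4, 10]),
  (13, [0, 3, 6]),
  (12, [11, 4]),
  (15, [3, 11]),
  (12, [10, 3, 0]),
  (12, [0, 3, 8, 11]),
  (9, [8, 0, 2, 11]),
  (14, [11, 8]),
  (3, [0, 2, 11]),
  (14, [2, 6, 4]),
  (13, [3, 10, 7]),
  (3, [10, 4, 10, 8]),
  (13, [2, 4]),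
  (3, [0, 11, 4, 8]),
  (12, [3, 10]),
  (15, [2, 0, 10]),
  (13, [7, 10, 8]),
  (13, [2, 7, 8]),
  (15, [6, 8, 11]),
  (3, [11, 6, 3]),
  (14, [0, 7, 8]),
  (11, [3, 0]),
  (3, [0, 4, 6, 4]),
  (15, [8, 11, 6]),
  (3, [3, 10, 3]),
  (9, [3, 11]),
  (14, [3, 0, 8]),
  (11, [3, 6]),
  (7, [8, 10]),
  (3, [2, 4, 7]),
  (13, [0, 8, 4, 11]),
  (2, [3, 0, 8]),
  (9, [0, 2, 0, 8, 11]),
  (13, [0, 2, 10, 4]),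
  (13, []),
  (14, [7, 2, 8]),
  (11, [6, 8, 10]),
  (2, [3, 10, 8]),
  (14, [2, 8, 11]),
  (9, [0, 3, 6, 8]),
  (11, [2, 8]),
  (9, [0, 11]),
  (14, [2, 6, 10]),
  (12, [0, 8, 0]),
  (3, [3, 0, 7, 2]),
  (14, [3, 10, 8]),
  (9, [0, 6, 3, 8]),
  (9, [0, 8, 4]),
  (15, [0, 3, 8, 0]),
  (3, [2, 11, 2]),
  (9, [2, 8, 11]),
  (14, [6, 8]),
  (14, [3, 6, 8, 4]),
  (12, [0, 3, 8, 0]),
  (12, [2, 8]),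
  (3, [3, 0, 2]),
  (15, [0, 2, 8, 0]),
  (15, [2, 0, 3, 8]),
  (3, [3, 4, 11]),
  (12, [0, 11, 7]),
  (14, [0, 11, 8, 0]),
  (3, [4, 7, 4]),
  (3, [3, 7, 10]),
  (14, [10, 10]),
  (12, [2, 7]),
  (15, [6, 11, 11]),
  (9, [11, 8]),
  (15, [10, 8, 4]),
  (3, [0, 4, 10, 4]),
  (3, [3, 7]),
  (12, [0, 2, 11, 8]),
  (3, [0, 2, 6, 4]),
  (3, [0, 2, 10, 4]),
  (15, [0, 11, 8]),
  (3, [3, 10, 10]),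
  (3, [0, 3, 4]),
  (13, [2, 7, 10]),
  (3, [2, 8, 11, 11]),
  (3, [0, 4, 10, 4, 8]),
  (12, [0, 8, 4, 10]),
  (9, [0, 4, 8]),
  (14, [0, 2, 8]),
  (3, [4, 8, 0, 4]),
  (15, [6, 8, 4]),
  (13, [11, 2, 7]),
  (13, [2, 8, 0, 8]),
  (15, [2, 0, 6]),
  (12, [7]),
  (12, [8, 0]),
  (9, [10, 3]),
  (14, [0, 10]),
  (3, [8, 0, 8]),
  (9, [0, 7, 8]),
  (3, [8, 11, 8]),
  (14, [3, 8]),
  (9, [2, 7, 8]),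
  (14, [7, 2, 8, 0]),
  (14, [3, 0]),
  (12, [2, 6]),
  (15, [11, 4, 10]),
  (13, [4, 7, 2]),
  (15, [0, 3, 10, 8]),
  (3, [6, 4]),
  (13, [8, 4, 11, 4]),
  (3, [0, 2, 10, 2]),
  (13, [0, 11, 7, 8]),
  (14, [2, 8]),
  (9, [0, 2, 0, 8]),
  (3, [8, 4, 7]),
  (3, [0, 10, 8]),
  (9, [0, 2, 0]),
  (15, [6, 11]),
  (9, [0, 3, 8, 11]),
  (9, [0, 3]),
  (14, [0, 6, 8, 10]),
  (12, [7, 8, 11]),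
  (13, [7, 4, 6]),
  (3, [0, 8, 11, 4]),
  (3, [0, 2, 6, 4, 8]),
  (15, [3, 11, 8]),
  (3, [2, 4, 8]),
  (9, [3]),
  (13, [10, 3]),
  (12, [8, 11]),
  (3, [3, 10, 8]),
  (3, [8]),
  (14, [2]),
  (15, [0, 3, 0]),
  (9, [0, 8, 4, 8]),
  (14, [0, 3, 6, 8]),
  (3, [3, 7, 8]),
  (15, [0, 3, 0, 8]),
  (12, [8]),
  (3, [3, 4]),
  (3, [10, 7]),
  (14, [0, 2, 6]),
  (14, [6, 10]),
  (14, [6, 10, 10]),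
  (3, [0, 2, 10, 4, 8]),
  (9, [0, 4, 6]),
  (9, [0, 3, 10, 6]),
  (15, [6, 3, 8]),
  (15, [3, 8, 0, 3]),
  (3, [11, 3]),
  (12, [0, 3, 6, 8]),
  (12, [2, 8, 0]),
  (3, [0, 3]),
  (15, [6, 8]),
  (12, [7, 8, 0]),
  (13, [8, 11, 8]),
  (15, [11, 2]),
  (12, [0, 11, 6]),
  (11, [2]),
  (3, [3, 10, 6]),
  (3, [10, 2]),
  (3, [4, 7]),
  (9, [11, 4, 11]),
  (2, [3, 0]),
  (13, [0, 2, 7, 2]),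
  (12, [10, 7]),
  (15, [3, 6, 11]),
  (11, [6, 11]),
  (3, [0, 2, 11, 3]),
  (14, [10, 3, 11]),
  (2, [3, 10]),
  (15, [8]),
  (12, [0, 2, 0, 8]),
  (13, [7, 11, 3]),
  (11, [2, 8, 11]),
  (11, [6, 8]),
  (13, [0, 6, 10]),
  (15, [6, 10]),
  (9, [11, 4, 8, 0]),
  (13, [0, 6, 3]),
  (13, [7]),
  (12, [10, 6]),
  (14, [8, 0, 11]),
  (13, [10, 2]),
  (13, [4, 7]),
  (12, [0, 8, 0, 11]),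
  (2, [3, 6, 8]),
  (2, [2, 8, 10]),
  (3, [0, 6, 10, 8]),
  (13, [10, 6]),
  (13, [2, 7, 4]),
  (3, [3, 4, 7, 8]),
  (13, [3, 4, 7]),
  (13, [0, 7, 2, 10]),
  (3, [10, 6, 8]),
  (13, [0, 3, 8]),
  (13, [11, 2, 8]),
  (13, [0, 10, 3, 8]),
  (14, [3, 10, 2]),
  (13, [2, 6, 8]),
  (13, [0, 8, 10]),
  (3, [0, 4, 7]),
  (3, [0, 6, 11]),
  (13, [10, 7]),
  (3, [3, 8, 10, 10]),
  (9, [0, 2, 11, 2]),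
  (3, [0, 2, 8, 11, 2]),
  (13, [3, 4]),
  (3, [3, 0, 11, 8]),
  (14, [0, 7, 11]),
  (3, [2, 4, 7, 8, 10]),
  (13, [2, 4, 7]),
  (3, [8, 10, 10]),
  (13, [2, 10, 4]),
  (3, [0, 11, 8]),
  (12, [10, 2]),
  (15, [11, 7]),
  (13, [7, 8, 10]),
  (13, [10, 2, 8]),
  (15, [2, 8, 11]),
  (3, [0, 6, 11, 8]),
  (3, [0, 4, 7, 8]),
  (13, [8, 11, 2]),
  (3, [3, 0, 11]),
  (15, [4, 11, 8]),
  (15, [10, 3, 8]),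
  (9, [10, 10]),
  (14, [2, 6]),
  (13, [0, 8, 10, 10]),
  (12, [0, 6, 8]),
  (15, [2, 7, 8]),
  (14, [11, 7]),
  (11, [10, 3]),
  (11, [3]),
  (13, [0, 10, 7, 8]),
  (13, [2, 8]),
  (9, [0, 2, 11]),
  (15, [3, 6, 8]),
  (8, [0, 8]),
  (3, [11, 6]),
  (12, [0, 6, 3, 8]),
  (5, [10, 7]),
  (3, [0, 6]),
  (13, [0, 3, 4]),
  (3, [2, 10, 3]),
  (3, [4, 6, 3]),
  (9, [2, 10, 10]),
  (13, [4, 10, 7]),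
  (14, [0, 3, 7]),
  (14, [0, 2, 0, 7]),
  (9, [10, 3, 10]),
  (13, [0, 10, 8]),
  (13, [2, 7, 4, 8]),
  (13, [7, 4, 8]),
  (14, [0, 6, 8]),
  (9, [8, 0]),
  (3, [3, 7, 8, 4]),
  (9, [7, 10, 10]),
  (3, [0, 3, 10, 8]),
  (14, [0, 6]),
  (13, [4, 10, 6]),
  (14, [0, 3]),
  (13, [0, 3, 4, 7]),
  (9, [0, 3, 0]),
  (13, [0, 2, 4, 8]),
  (13, [2, 8, 0, 4]),
  (9, [0, 2, 11, 11]),
  (3, [3, 6, 8]),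
  (3, [2, 4, 7, 8]),
  (3, [2, 10, 2, 8]),
  (3, [4, 8, 10, 4]),
  (14, [0, 3, 8]),
  (15, [2, 8, 11, 2]),
  (12, [0, 3, 6, 4]),
  (3, [0, 10, 10]),
  (13, [4, 10, 7, 8]),
  (13, [0, 8, 11, 3]),
  (13, [0, 10, 4, 8]),
  (3, [11, 2, 11]),
  (9, [10, 10, 4]),
  (13, [4, 6, 8]),
  (12, [3, 10, 8]),
  (12, [3, 8, 11]),
  (13, [3, 8]),
  (9, [0, 2, 11, 3]),
  (14, [11, 2, 6]),
  (13, [7, 4]),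
  (13, [0, 3, 7, 10]),
  (15, [3, 8, 10]),
  (15, [4, 7, 8]),
  (15, [2, 10, 8]),
  (13, [0, 7, 10, 8]),
  (12, [0, 3, 11, 8]),
  (12, [3, 8, 0]),
  (9, [0, 11, 2]),
  (9, [0, 3, 10]),
  (13, [11, 2, 0]),
  (14, [0, 10, 7]),
  (14, [3, 11, 2]),
  (13, [11, 4, 10]),
  (9, [7, 10, 3]),
  (14, [2, 10]),
  (3, [10, 6, 11]),
  (9, [0, 8]),
  (14, [0, 2, 7, 8]),
  (13, [3, 10, 4]),
  (13, [0, 2, 11, 3]),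
  (12, [8, 10]),
  (11, [10, 8]),
  (3, [4, 11, 7]),
  (14, [3, 6, 8]),
  (9, [0, 8, 0]),
  (15, [0, 3, 11, 8]),
  (11, [8]),
  (9, [7, 10]),
  (14, [0, 6, 11]),
  (3, [0, 2, 0]),
  (2, [2, 10]),
  (2, [6]),
  (3, [3]),
  (9, [0, 2, 8]),
  (12, [2]),
  (3, [3, 11, 3]),
  (3, [0, 10, 3]),
  (14, [0, 4, 8]),
  (15, [2, 0, 3]),
  (14, []),
  (13, [0, 2, 10, 4, 8]),
  (3, [0, 10, 10, 4]),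
  (3, [0, 10, 4]),
  (13, [3, 8, 4, 6]),
  (3, [10, 4]),
  (3, [4]),
  (13, [8, 10]),
  (3, [8, 11, 2]),
  (3, [0, 3, 0, 8]),
  (15, [2, 8, 4]),
  (3, [0, 10, 2, 8]),
  (3, [4, 6, 8]),
  (13, [11, 11]),
  (13, [0, 4, 6, 3]),
  (3, [3, 7, 4]),
  (13, [0, 4, 7, 8]),
  (12, [3, 8]),
  (13, [3, 8, 10, 10]),
  (3, [0, 2, 10]),
  (13, [0, 6, 11, 8]),
  (15, [2, 0, 8]),
  (13, [0, 2, 8, 4]),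
  (3, [3, 10, 2]),
  (13, [10, 2, 8, 10]),
  (3, [6, 4, 7]),
  (13, [4, 7, 8, 10]),
  (14, [6, 3, 8]),
  (9, [0, 3, 7, 8]),
  (3, [2, 8, 4, 6]),
  (3, [0, 10, 8, 10]),
  (9, [0, 2]),
  (13, [0, 4, 6, 3, 8]),
  (13, [8, 10, 10]),
  (3, [0, 2, 0, 8]),
  (13, [0, 6, 11]),
  (9, [0, 7, 2]),
  (12, [8, 11, 4]),
  (15, [10, 6, 8]),
  (3, [4, 6, 8, 10]),
  (14, [6, 11]),
  (9, [10, 7]),
  (15, [6, 8, 0]),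
  (2, [8, 10]),
  (2, [3, 8]),
  (3, [6, 8]),
  (3, [0, 7, 10, 8]),
  (12, [7, 8]),
  (9, [10]),
  (1, [10, 7]),
  (13, [11]),
  (14, [0, 10, 2]),
  (0, [4]),
  (13, [2, 0, 7]),
  (3, [2, 10, 10]),
  (13, [0, 3, 10, 6]),
  (13, [10, 3, 0]),
  (12, [0, 3, 10, 8]),
  (3, [4, 6, 10]),
  (15, [3, 8, 11]),
  (12, [2, 8, 11]),
  (3, [2, 8]),
  (3, [0, 10, 4, 8]),
  (3, [10, 7, 8]),
  (15, [2, 11, 2]),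
  (12, [0, 3, 10, 6]),
  (13, [3, 8, 4]),
  (12, [0, 2, 8, 11]),
  (13, [8, 10, 7]),
  (15, [8, 10]),
  (3, [0, 11, 11]),
  (15, [0, 3, 8, 11]),
  (3, [0, 2, 4]),
  (12, [0, 8, 11]),
  (3, [6, 10, 8, 10]),
  (3, [3, 0, 4, 8]),
  (13, [8]),
  (13, [4, 6, 8, 4]),
  (13, [3, 8, 10]),
  (13, [0, 11, 8, 0]),
  (15, [3, 10, 7]),
  (3, [8, 0, 2]),
  (3, [2, 4, 11, 8]),
  (12, [0, 7, 8, 4]),
  (3, [2, 10, 8]),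
  (3, [3, 8, 10]),
  (3, [8, 10]),
  (14, [0, 4]),
  (3, [2, 8, 4, 11]),
  (13, [0, 4, 7]),
  (3, [0, 8, 4, 11]),
  (15, [11, 4, 8]),
  (3, [4, 8]),
  (3, [3, 4, 8]),
  (3, [0, 7, 8, 11]),
  (3, [0, 11, 6, 8]),
  (13, [0, 4, 10, 8, 4]),
  (12, [3, 10, 4]),
  (15, [4, 7, 4]),
  (3, [4, 10]),
  (13, [2, 6, 8, 4]),
  (12, [3, 10, 3, 10]),
  (3, [0, 3, 4, 6]),
  (13, [0, 10, 8, 4]),
  (15, [0, 8, 4, 11]),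
  (13, [0, 4, 7, 2, 8]),
  (12, [0, 8]),
  (15, [0, 3, 8]),
  (13, [0, 7]),
  (12, [8, 0, 2, 11]),
  (13, [4, 10, 3, 8]),
  (13, [3, 11]),
  (14, [10, 3]),
  (9, [11, 4]),
  (3, [11]),
  (14, [0, 4, 10]),
  (9, [0, 2, 10]),
  (3, [3, 11]),
  (14, [0, 3, 7, 8]),
  (3, [11, 11, 2]),
  (3, [0]),
  (3, [3, 0]),
  (9, [3, 8, 0]),
  (3, [0, 11, 2]),
  (3, [6, 11]),
  (3, [0, 7]),
  (3, [0, 3, 10]),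
  (3, [11, 3, 10]),
  (13, [0, 2, 4]),
  (13, [0, 3]),
  (14, [7]),
  (3, [3, 10]),
  (3, [10, 10]),
  (3, [10, 3]),
  (3, [0, 4]),
  (13, [10, 8]),
  (3, [4, 7, 2]),
  (3, [11, 4]),
  (13, [11, 8, 10]),
  (3, [0, 6, 8]),
  (13, [0, 7, 8, 11]),
  (13, [4, 11, 4]),
  (13, [4, 11, 2]),
  (9, [10, 10, 2]),
  (3, [0, 3, 4, 11]),
  (14, [0, 10, 10]),
  (3, [0, 2, 0, 4]),
  (13, [0, 8, 11, 11]),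
  (3, [11, 6, 8]),
  (13, [3, 10, 8, 10]),
  (9, [7, 11]),
  (15, [0, 3, 8, 4]),
  (8, [8, 10]),
  (3, [6, 4, 11]),
  (12, [0, 8, 4]),
  (5, [10]),
  (3, [0, 7, 2]),
  (15, [0, 11, 7]),
  (15, [0, 8]),
  (15, [11, 8, 10]),
  (9, [0, 7, 8, 4]),
  (12, [0, 2, 8]),
  (12, [0, 2, 10, 8, 10]),
  (14, [3, 8, 4]),
  (13, [0, 11, 3]),
  (3, [6, 10]),
  (3, [2, 4, 6]),
  (9, [0, 2, 4]),
  (11, [6]),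
  (11, [2, 10]),
  (13, [7, 8]),
  (12, [0, 2, 11, 7]),
  (13, [10, 7, 10]),
  (14, [0]),
  (13, [0, 6, 10, 8]),
  (13, [0, 11, 11, 3]),
  (13, [0, 4, 11, 7]),
  (3, [2, 8, 10, 10]),
  (13, [7, 10]),
  (13, [4, 6]),
  (13, [0, 7, 2, 8]),
  (14, [8, 0]),
  (9, [2, 8, 0, 2]),
  (3, [0, 8, 11, 11]),
  (9, [2, 6, 8, 0]),
  (14, [7, 8]),
  (3, [8, 10, 7]),
  (3, [2, 4, 6, 8]),
  (3, [0, 3, 8, 4]),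
  (3, [10, 8]),
  (3, [6, 8, 4]),
  (3, [6, 10, 8]),
  (3, [8, 10, 10, 2]),
  (9, [8, 10]),
  (14, [0, 6, 8, 11]),
  (3, [3, 0, 8]),
  (3, [3, 8, 0, 3]),
  (3, [0, 2, 11, 7]),
  (13, [4, 7, 8, 0]),
  (3, [10, 3, 4]),
  (13, [0, 8, 11, 6]),
  (14, [7, 8, 4]),
  (9, [2, 8, 0]),
  (3, [3, 6, 8, 4]),
  (14, [7, 2]),
  (13, [4, 6, 10, 8]),
  (13, [7, 8, 11, 11]),
  (3, [0, 8]),
  (3, [10, 3, 8]),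
  (9, [0, 3, 6]),
  (3, [11, 8]),
  (9, [8, 0, 2]),
  (14, [0, 8]),
  (14, [8, 10, 3]),
  (3, [0, 11, 8, 10]),
  (9, [2, 10, 8]),
  (3, [0, 11, 8, 0]),
  (13, [4, 7, 11]),
  (14, [0, 7, 2]),
  (13, [10, 2, 11]),
  (9, [11, 4, 10]),
  (3, [0, 6, 3, 8]),
  (9, [0, 2, 10, 10]),
  (14, [0, 3, 6]),
  (13, [11, 4, 8]),
  (3, [2, 10]),
  (9, [10, 7, 11]),
  (13, [8, 0]),
  (13, [2, 6, 8, 11]),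
  (3, [4, 8, 11]),
  (3, [0, 7, 2, 8]),
  (3, [0, 2, 8, 4]),
  (14, [3, 11, 8]),
  (3, [2, 4, 11]),
  (12, [3, 10, 10]),
  (3, [2, 8, 11, 7]),
  (3, [3, 7, 8, 0]),
  (3, [4, 10, 3, 8]),
  (3, [0, 4, 7, 2, 8]),
  (3, [0, 4, 6]),
  (11, [3, 8]),
  (11, [8, 10]),
  (13, [2]),
  (3, [2, 4]),
  (15, [3, 7, 4]),
  (14, [0, 6, 4]),
  (3, [6, 10, 7]),
  (12, [0, 8, 4, 8]),
  (9, [7, 10, 3, 10]),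
  (3, [2, 8, 11]),
  (13, [8, 4, 10]),
  (3, [0, 2, 7, 8]),
  (13, [0, 11, 3, 8]),
  (13, [0, 10, 7]),
  (14, [7, 10]),
  (9, [0, 6, 11]),
  (0, [11]),
  (1, [0]),
  (0, [8, 4]),
  (12, [0, 11, 11]),
  (3, [0, 3, 0]),
  (1, [0, 8]),
  (15, [3, 7]),
  (3, [11, 11]),
  (3, [0, 11]),
  (9, [2, 8, 10]),
  (15, [6]),
  (13, [0, 2, 10, 8]),
  (3, [4, 6]),
  (12, [0, 2, 7]),
  (13, [4, 8]),
  (12, [11, 4, 8]),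
  (15, [4, 10, 8]),
  (13, [2, 8, 10]),
  (3, [3, 11, 8]),
  (13, [3, 10, 8]),
  (13, [8, 11, 11]),
  (15, [11, 2, 8]),
  (3, [4, 7, 10]),
  (12, [10, 7, 8]),
  (13, [2, 4, 8]),
  (13, [3, 10, 7, 8]),
  (13, [0, 2, 8, 11, 7]),
  (13, [3, 4, 6]),
  (13, [10]),
  (13, [3, 4, 8, 11]),
  (3, [8, 4, 10, 10]),
  (3, [2, 11, 4, 8]),
  (13, [8, 11, 11, 3]),
  (13, [8, 11, 3]),
  (3, [4, 7, 10, 8]),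
  (3, [0, 4, 6, 8]),
  (3, [0, 4, 7, 2]),
  (13, [3, 8, 4, 11]),
  (13, [0, 3, 8, 0]),
  (13, [3, 4, 7, 8]),
  (13, [4, 7, 8]),
  (12, [7, 8, 10]),
  (13, [0, 6, 3, 8]),
  (3, [3, 11, 11]),
  (13, [0, 8, 11]),
  (13, [4, 8, 0]),
  (13, [8, 10, 3]),
  (13, [2, 10, 8, 10]),
  (13, [0, 6, 4, 8]),
  (3, [0, 11, 2, 8]),
  (9, [0, 3, 0, 8]),
  (9, [8, 11]),
  (13, [0, 2, 4, 7]),
  (3, [0, 4, 8, 0]),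
  (14, [2, 6, 8, 10]),
  (13, [11, 11, 3]),
  (3, [2, 8, 4]),
  (9, [2]),
  (14, [0, 11]),
  (9, [3, 10, 7]),
  (3, [2, 11, 7]),
  (14, [0, 2, 0]),
  (3, [3, 0, 6]),
  (15, [2, 4, 8]),
  (12, [2, 0, 8]),
  (13, [11, 7]),
  (15, [2, 8]),
  (12, [0, 7, 8]),
  (13, [7, 11]),
  (15, [0, 2, 10]),
  (13, [0, 3, 11, 6]),
  (13, [2, 0, 6]),
  (13, [0, 6]),
  (12, [0, 3, 10]),
  (13, [2, 0, 4, 6]),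
  (13, [2, 11]),
  (13, [2, 0]),
  (13, [2, 10, 3]),
  (13, [0, 2, 11, 7]),
  (3, [0, 3, 4, 7]),
  (3, [2, 11, 3]),
  (15, [10, 8]),
  (13, [0, 3, 10]),
  (13, [11, 11, 6]),
  (3, [4, 7, 8, 4]),
  (13, [0, 2, 11]),
  (13, [11, 7, 4]),
  (3, [8, 10, 6]),
  (13, [0, 8, 0]),
  (3, [0, 8, 10, 10]),
  (3, [4, 10, 6]),
  (3, [10, 3, 11]),
  (12, [7, 8, 11, 4]),
  (13, [11, 8]),
  (3, [0, 2, 4, 8]),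
  (9, [11, 7]),
  (1, [10]),
  (13, [2, 4, 11]),
  (14, [0, 2, 10]),
  (0, [4, 6]),
  (13, [0, 3, 0]),
  (9, [7, 8]),
  (9, [2, 10, 4]),
  (9, [11, 2]),
  (12, [11]),
  (14, [0, 6, 10]),
  (14, [2, 11, 4]),
  (15, [2, 4, 10]),
  (3, [0, 4, 11]),
  (13, [2, 10]),
  (13, [0, 10, 7, 10]),
  (12, [0, 8, 10]),
  (2, [6, 8]),
  (2, [2, 8, 11]),
  (3, [0, 10, 3, 8]),
  (14, [2, 6, 8, 0]),
  (3, [11, 4, 11]),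
  (15, [8, 10, 7]),
  (3, [3, 8]),
  (13, [4, 8, 11, 4]),
  (3, [4, 11, 8]),
  (15, [2, 11, 7]),
  (12, [2, 10]),
  (13, [8, 4, 7]),
  (12, [7, 10, 3]),
  (15, [10]),
  (13, [10, 3, 8]),
  (13, [2, 11, 8, 10]),
  (13, [0, 6, 11, 4, 8]),
  (13, [8, 10, 2]),
  (13, [2, 8, 4]),
  (13, [2, 10, 8]),
  (13, [0, 11, 8, 10]),
  (12, [10, 7, 11]),
  (15, [3, 6]),
  (13, [0, 6, 8]),
  (13, [0, 2, 8]),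
  (13, [11, 3, 10]),
  (3, [8, 0, 11]),
  (13, [3, 10, 3]),
  (3, [8, 11, 11]),
  (15, [10, 4]),
  (12, [0, 11, 2]),
  (13, [8, 4]),
  (15, [4, 8, 11]),
  (3, [3, 8, 11, 11]),
  (3, [0, 3, 4, 8]),
  (13, [0, 7, 8, 0]),
  (13, [0, 3, 10, 8]),
  (12, [10, 3, 8]),
  (13, [0, 8, 4]),
  (12, [2, 6, 10]),
  (15, [2, 11, 3]),
  (15, [3, 0]),
  (13, [0, 11, 2, 8]),
  (12, [2, 0, 3]),
  (13, [0, 3, 8, 4]),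
  (3, [0, 2, 7, 2]),
  (15, [2, 4, 8, 10]),
  (3, [4, 7, 11, 3]),
  (12, [2, 10, 8]),
  (13, [0, 2, 8, 0]),
  (12, [8, 10, 2]),
  (15, [2, 8, 10]),
  (3, [8, 11, 4]),
  (13, [2, 6, 10]),
  (12, [3, 8, 10]),
  (13, [2, 4, 11, 8]),
  (13, [0, 3, 0, 8]),
  (13, [0, 11, 8]),
  (15, [3, 6, 4]),
  (13, [11, 2]),
  (14, [2, 8, 10]),
  (13, [3, 8, 11]),
  (13, [3, 8, 0]),
  (13, [0, 4, 6, 8]),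
  (13, [0, 11, 4, 8]),
  (13, [4, 10, 3]),
  (2, [3]),
  (2, [10, 3]),
  (3, [0, 7, 10]),
  (13, [2, 6, 4]),
  (9, [3, 8, 11]),
  (15, [6, 8, 10]),
  (13, [0, 10, 4]),
  (14, [0, 2, 10, 8]),
  (12, [3, 11, 8]),
  (3, [10, 3, 8, 10]),
  (3, [0, 4, 11, 8]),
  (3, [6]),
  (15, [8, 0]),
  (12, [8, 0, 3]),
  (8, [8, 0]),
  (5, [0]),
  (8, [10, 7]),
  (14, [0, 10, 8]),
  (13, [0, 10, 4, 11]),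
  (5, [0, 8]),
  (9, [10, 3, 8]),
  (13, [11, 7, 11]),
  (13, [0, 11, 7, 4]),
  (12, [0, 3, 11, 11]),
  (9, [0, 2, 8, 11]),
  (3, [2, 4, 8, 4]),
  (13, [0, 10, 10]),
  (14, [2, 10, 8]),
  (3, [4, 8, 0]),
  (14, [3]),
  (9, [0, 7]),
  (3, [4, 7, 8]),
  (13, [7, 11, 8]),
  (3, [11, 8, 10]),
  (3, [2, 8, 0, 11]),
  (9, [0]),
  (13, [0, 4, 7, 2]),
  (14, [3, 6]),
  (3, [0, 8, 10, 2]),
  (3, [6, 4, 8]),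
  (3, [0, 8, 11, 3]),
  (3, [3, 6, 10]),
  (3, [0, 2, 11, 2]),
  (3, [8, 0, 3]),
  (13, [0, 4, 8]),
  (13, [3, 8, 0, 4]),
  (3, [8, 4, 10]),
  (3, [0, 3, 8, 0]),
  (13, [0, 11, 4]),
  (15, [3, 0, 7]),
  (12, [0, 6, 3]),
  (13, [4, 11, 8]),
  (13, [11, 3, 8]),
  (3, [8, 0, 4]),
  (15, [2, 11, 8]),
  (9, [8, 11, 4]),
  (3, [6, 8, 10]),
  (3, [0, 8, 10]),
  (3, [8, 11, 3]),
  (3, [0, 8, 11, 2]),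
  (13, [0, 4, 6]),
  (13, [4, 10, 4]),
  (13, [7, 4, 10]),
  (12, [0, 3]),
  (13, [0, 4, 11, 8]),
  (9, [0, 3, 6, 4]),
  (15, [0, 2]),
  (13, [2, 4, 10, 8]),
  (14, [11, 11]),
  (3, [0, 6, 8, 11]),
  (3, [4, 6, 8, 0]),
  (3, [2, 10, 10, 10]),
  (3, [0, 2, 7]),
  (3, [11, 2, 7]),
  (12, [0, 2, 11, 2]),
  (3, [10, 10, 2]),
  (15, [0, 11, 2]),
  (13, [0, 2, 7]),
  (13, [4, 11, 7]),
  (14, [7, 11]),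
  (9, [2, 6, 10]),
  (3, [10, 7, 10]),
  (13, [4]),
  (13, [0, 2, 10]),
  (12, [0, 3, 6]),
  (15, [0]),
  (3, [3, 4, 10]),
  (15, [6, 3]),
  (12, [0, 2]),
  (3, [0, 4, 7, 4]),
  (3, [0, 3, 11, 6]),
  (3, [11, 11, 7]),
  (3, [0, 11, 7]),
  (9, [8, 10, 2]),
  (3, [0, 2, 6, 8]),
  (13, [0, 8, 0, 11]),
  (3, [0, 3, 4, 10]),
  (12, [0, 2, 10]),
  (15, [11]),
  (13, [10, 7, 8]),
  (13, [0, 3, 11]),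
  (13, [2, 0, 4]),
  (13, [3, 4, 8]),
  (13, [8, 11, 7]),
  (13, [0, 3, 6, 8]),
  (13, [2, 6, 8, 0]),
  (14, [3, 8, 10]),
  (3, [0, 4, 10, 8]),
  (13, [10, 8, 10]),
  (3, [0, 3, 0, 4]),
  (13, [8, 4, 6]),
  (3, [0, 8, 4, 7]),
  (13, [8, 11]),
  (0, [4, 7]),
  (1, [0, 3]),
  (15, [0, 8, 0]),
  (0, [4, 7, 8]),
  (14, [0, 6, 4, 8]),
  (12, [0, 3, 7]),
  (12, [0, 2, 8, 0]),
  (1, [8, 10]),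
  (9, [0, 8, 0, 4]),
  (15, [0, 2, 7]),
  (13, [0, 4, 11]),
  (8, [10, 8]),
  (3, [0, 4, 10]),
  (14, [6, 8, 4]),
  (5, [0, 3]),
  (3, [0, 2, 6]),
  (9, [0, 3, 8, 0]),
  (9, [3, 8, 10]),
  (15, [3]),
  (13, [2, 6, 8, 10]),
  (12, [0, 7, 2]),
  (13, [0, 10, 8, 10]),
  (12, [0, 2, 0, 8, 11]),
  (12, [7, 10, 8]),
  (3, [10, 6]),
  (3, [3, 4, 7]),
  (3, [0, 3, 8]),
  (13, [8, 0, 4]),
  (13, [2, 4, 10]),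
  (14, [3, 8, 11]),
  (15, [8, 11]),
  (15, [10, 2, 8]),
  (3, [11, 3, 8]),
  (13, [0, 7, 4, 8]),
  (13, [10, 10, 2]),
  (13, [0, 4, 7, 11]),
  (13, [0, 8, 11, 4]),
  (13, [2, 8, 11, 11]),
  (13, [0, 2, 0, 4]),
  (9, [0, 8, 10]),
  (15, [11, 7, 8]),
  (12, [10, 2, 8]),
  (3, [0, 10, 8, 4]),
  (12, [8, 10, 3]),
  (15, [0, 8, 10]),
  (3, [0, 11, 3, 8]),
  (3, [0, 7, 11, 8]),
  (13, [7, 8, 0]),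
  (3, [8, 4]),
  (3, [3, 8, 4, 10]),
  (3, [6, 8, 10, 10]),
  (13, [7, 8, 11]),
  (14, [2, 6, 10, 8]),
  (15, [0, 3, 11]),
  (14, [0, 2, 7]),
  (15, [4, 7, 2]),
  (13, [0, 8, 4, 6]),
  (13, [2, 8, 0, 2]),
  (15, [0, 2, 11]),
  (12, [0, 3, 11]),
  (13, [4, 6, 8, 0]),
  (13, [0, 6, 8, 11]),
  (15, [11, 8]),
  (12, [0, 2, 10, 8]),
  (3, [3, 8, 4]),
  (13, [8, 11, 4]),
  (3, [2, 10, 3, 8]),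
  (13, [11, 7, 4, 8]),
  (3, [2, 11, 11]),
  (3, [0, 11, 4, 6]),
  (15, [6, 10, 7]),
  (3, [0, 8, 0]),
  (12, [10]),
  (3, [11, 8, 0]),
  (13, [0, 3, 7, 8]),
  (15, [10, 3]),
  (13, [0, 8, 4, 10]),
  (12, [2, 0, 11]),
  (13, [2, 8, 4, 10]),
  (3, [0, 6, 4]),
  (9, [3, 10, 7, 8]),
  (14, [0, 11, 8]),
  (12, [0, 2, 0]),
  (15, []),
  (13, [2, 10, 10]),
  (14, [2, 6, 8]),
  (3, [0, 11, 6]),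
  (9, [0, 3, 7]),
  (12, [0, 7]),
  (14, [6, 3]),
  (15, [2]),
  (3, [0, 8, 4]),
  (13, [10, 10, 10]),
  (3, [11, 8, 4]),
  (13, [0, 3, 11, 3]),
  (13, [0, 7, 4]),
  (15, [10, 6]),
  (12, [3, 10, 3]),
  (3, [0, 7, 4, 11]),
  (13, [2, 7, 8, 4]),
  (3, [0, 2, 4, 7]),
  (13, [7, 10, 3, 8]),
  (13, [0, 7, 8]),
  (13, [3, 11, 8]),
  (12, [0]),
  (15, [0, 3]),
  (13, [0, 11, 6]),
  (5, [8, 0]),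
  (8, [0]),
  (14, [2, 11, 8]),
  (9, [8, 10, 3]),
  (3, [0, 7, 11]),
  (9, [7, 8, 0]),
  (3, [6, 11, 11]),
  (9, [0, 3, 11, 8]),
  (14, [10, 8]),
  (3, [0, 7, 8]),
  (3, [6, 11, 8]),
  (14, [0, 6, 3]),
  (9, [3, 10, 10]),
  (9, [0, 6, 3]),
  (14, [6]),
  (9, [0, 4, 7]),
  (12, [10, 10, 3]),
  (14, [0, 7]),
  (3, [8, 4, 11]),
  (3, [0, 2, 8]),
  (3, [0, 11, 3, 4]),
  (14, [7, 11, 8]),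
  (13, [0, 11, 11]),
  (13, [0, 3, 7, 4]),
  (12, [10, 10]),
  (14, [7, 10, 8]),
  (9, [10, 8]),
  (13, [0, 2, 8, 11]),
  (15, [4, 7]),
  (13, [0, 4, 8, 11]),
  (3, [4, 10, 3]),
  (14, [0, 11, 6, 8]),
  (12, [11, 8]),
  (9, [3, 10, 8]),
  (15, [2, 4, 10, 8]),
  (13, [8, 0, 8]),
  (13, [0, 3, 6, 4]),
  (14, [0, 2, 0, 8]),
  (9, [2, 8]),
  (3, [0, 3, 6, 4]),
  (3, [10, 4, 11]),
  (3, [3, 10, 7]),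
  (3, [3, 6, 4]),
  (14, [6, 8, 10]),
  (9, [0, 6, 8, 11]),
  (9, [11, 8, 4]),
  (14, [0, 6, 10, 8]),
  (13, [0, 11, 2]),
  (13, [11, 4, 6]),
  (13, [0, 4, 7, 4]),
  (13, [0, 6, 11, 4]),
  (12, [11, 4, 10]),
  (13, [4, 8, 10]),
  (14, [3, 7, 8]),
  (9, [0, 6, 8]),
  (3, [4, 8, 4]),
  (3, [0, 7, 4]),
  (3, [6, 11, 4]),
  (3, [0, 2, 10, 8]),
  (3, [8, 0]),
  (3, [8, 11]),
  (3, [8, 11, 6]),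
  (15, [4, 10, 10]),
  (13, [8, 4, 11]),
  (3, [2, 8, 0]),
  (8, [10]),
  (15, [2, 0, 11]),
  (5, [8, 10]),
  (12, [3, 11]),
  (9, [0, 11, 8]),
  (3, [0, 11, 3]),
  (13, [2, 11, 3]),
  (13, [2, 0, 3]),
  (12, [0, 11]),
  (12, [0, 3, 0]),
  (9, [10, 2, 8]),
  (3, [8, 4, 6]),
  (14, [0, 2, 8, 11]),
  (3, [2, 8, 10]),
  (14, [3, 0, 6]),
  (13, [2, 10, 2]),
  (13, [4, 6, 4]),
  (3, [0, 8, 11, 7]),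
  (3, [11, 11, 3]),
  (15, [4]),
  (9, [7]),
  (3, [4, 8, 11, 11]),
  (3, [4, 7, 8, 0]),
  (3, [0, 8, 11, 6]),
  (3, [6, 10, 10]),
  (12, [10, 7, 10]),
  (13, [2, 0, 11, 8]),
  (3, [3, 8, 11]),
  (13, [2, 8, 10, 10]),
  (3, [3, 8, 0]),
  (9, [0, 3, 10, 8]),
  (9, [0, 4, 6, 8]),
  (14, [3, 8, 0]),
  (3, [3, 0, 8, 11]),
  (3, [3, 10, 8, 10]),
  (9, [0, 6]),
  (14, [3, 7]),
  (13, [7, 8, 4]),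
  (3, [11, 4, 8]),
  (13, [0, 8, 10, 6]),
  (3, [0, 4, 8]),
  (13, [0, 4, 6, 4]),
  (13, [0, 11]),
  (9, [0, 3, 8]),
  (14, [8, 11, 11]),
  (9, [0, 7, 2, 8]),
  (14, [8]),
  (3, [3, 4, 10, 8]),
  (13, [0, 11, 2, 7]),
  (14, [7, 8, 11]),
  (9, [7, 10, 8]),
  (3, [0, 4, 11, 7]),
  (13, [7, 11, 4]),
  (14, [8, 10, 4]),
  (9, [0, 2, 10, 8]),
  (13, [11, 8, 0]),
  (3, [0, 6, 11, 11]),
  (13, [0, 8]),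
  (3, [10, 10, 7]),
  (3, [4, 10, 10]),
  (13, [0, 2, 10, 10]),
  (13, [4, 10]),
  (3, [2, 11, 11, 6]),
  (0, [4, 8]),
  (1, [8, 0]),
  (15, [2, 4, 6]),
  (12, [2, 0, 6]),
  (13, [2, 0, 11]),
  (13, [2, 11, 11]),
  (12, [0, 6, 4]),
  (15, [2, 4, 7]),
  (13, [2, 0, 8]),
  (13, [2, 11, 8]),
  (15, [8, 10, 3]),
  (12, [8, 10, 7]),
  (14, [0, 8, 10]),
  (13, [8, 0, 3]),
  (13, [0, 6, 4, 11]),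
  (15, [4, 6]),
  (14, [8, 11]),
  (3, [0, 4, 8, 11]),
  (13, [11, 4]),
  (13, [0, 6, 4]),
  (13, [4, 8, 11]),
  (13, [10, 10, 6]),
  (9, [8, 10, 7]),
  (3, [8, 11, 4, 11]),
  (3, [8, 0, 4, 11]),
  (3, [11, 2, 8]),
  (12, [2, 0]),
  (15, [2, 4]),
  (13, [0, 7, 2]),
  (13, [3, 11, 2]),
  (3, [0, 3, 11]),
  (13, [4, 10, 8]),
  (14, [8, 10]),
  (9, [11, 4, 8]),
  (13, [3, 8, 4, 10]),
  (5, [10, 8]),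
  (8, [0, 3]),
  (3, [4, 11]),
  (3, [0, 2, 0, 7]),
  (3, [2, 8, 4, 10]),
  (0, [4, 6, 8]),
  (1, [10, 8]),
  (13, [0, 2, 0, 8]),
  (13, [0, 3, 11, 8]),
  (3, [6, 8, 11]),
  (3, [4, 10, 8]),
  (13, [0, 4, 10, 8]),
  (13, [2, 0, 4, 8]),
  (3, [6, 8, 0]),
  (15, [3, 10, 8]),
  (12, [0, 8, 4, 11]),
  (13, [10, 10]),
  (13, [3, 4, 6, 10]),
  (3, [4, 8, 10]),
  (3, [3, 8, 4, 11]),
  (3, [3, 8, 0, 4]),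
  (3, [0, 2, 8, 11]),
  (3, [3, 0, 4]),
  (15, [3, 0, 6]),
  (3, [2, 4, 10]),
  (13, [0, 4]),
  (13, [0, 2, 0, 11]),
  (13, [2, 8, 0]),
  (13, [2, 8, 11]),
  (9, [0, 4]),
  (14, [0, 2]),
  (13, [0, 8, 11, 2]),
  (3, [0, 6, 3, 4]),
  (3, [0, 3, 11, 2]),
  (13, [0, 2, 4, 7, 8]),
  (13, [8, 10, 10, 6]),
  (14, [6, 11, 8]),
  (9, [10, 7, 8]),
  (3, [2, 11, 4]),
  (3, [3, 0, 7, 4]),
  (15, [2, 7]),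
  (12, [0, 6])]

end Cfsg.Agent.Lib.Helper2.HNS
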