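import Cfsg.Agent.Lib.Helper2.HNDce3b
import Cfsg.Agent.Lib.Helper2.HNS.Ch5
set_option autoImplicit false
set_option maxRecDepth 1000000
set_option Elab.async false
open Cfsg.Agent.Lib.Helper2.HNDce
namespace Cfsg.Agent.Lib.Helper2.HNS

/-! # The entries of the row 5 and the covering of the 1408 points -/

/-- the entries of the row 5: the word `h`, the row `j`, the word `g₀`, the number of the coset equality -/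
def ent5 : List (List Nat × Nat × List Nat × Nat) := [
  ([1, 4, 2], 6, [2, 2, 0, 3, 0, 3, 0, 2, 0, 3, 3, 4, 3, 1, 2, 4], 94),
  ([0, 4, 3, 1], 6, [0, 2, 0, 4, 3, 3, 0, 3, 0, 3, 0, 2, 1, 3], 96),
  ([4, 2, 2, 1], 4, [2, 0, 4, 2, 0, 3, 0, 3, 3, 4, 3, 1], 67),
  ([4, 2, 0, 4, 2], 4, [3, 3, 0, 4, 2, 4, 2, 4], 60),
  ([4, 2, 4, 2, 4], 5, [1, 3, 0, 2, 1, 2, 0, 3, 1, 3, 0, 3], 63),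
  ([0, 0, 4, 2, 4, 2, 4], 1, [], 58),
  ([0, 4, 2, 4, 2, 4], 5, [0, 3, 0, 2, 0, 3, 3, 0, 2, 2], 65),
  ([0, 4, 3, 4, 2, 4], 5, [0, 4, 3, 3, 0, 2, 1, 2], 71),
  ([1, 4, 2, 4, 2, 4], 5, [2, 0, 2, 0, 2, 2, 0, 2, 2, 0], 64),
  ([4, 2, 2, 0, 3, 4, 2], 2, [0, 2, 4, 2, 1], 62),
  ([4, 2, 2, 2, 4, 3, 0], 6, [2, 2, 0, 2, 0, 3, 0, 3, 0, 2, 0, 2, 2, 0, 3, 1], 100),
  ([4, 2, 2, 2, 4, 3, 1], 5, [0, 4, 3, 3, 0, 2, 1, 2], 72),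
  ([1, 4, 3, 3, 4, 2, 4, 2], 6, [0, 4, 2, 4, 2, 4, 2, 0, 3, 4, 3, 4, 3, 1], 92),
  ([4, 2, 2, 4, 2, 1, 3, 4], 6, [2, 2, 0, 2, 0, 2, 2, 0, 2, 4, 0, 2, 4, 2, 4, 3], 98),
  ([0, 4, 3, 4, 2, 2, 2, 4, 2], 7, [2, 2, 4, 3, 3, 0, 3, 3, 4, 0, 2], 128),
  ([4, 2, 2, 2, 0, 4, 3, 4, 3, 3], 5, [0, 3, 4, 3, 4, 2, 2, 2, 1, 2], 70)]

/-- the covering of the points by the row 5: for the point `q`, the entry and the word in the generators of the subgroup -/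
def cov5 : List (Nat × List Nat) := [
  (4, [6]),
  (6, [6]),
  (8, [6]),
  (9, [3, 3, 7]),
  (5, [6]),
  (10, [3, 3, 7]),
  (11, [3, 3, 7]),
  (3, [2, 7]),
  (9, [6, 0, 3]),
  (1, [0, 4, 3]),
  (2, [2, 2]),
  (10, [6, 0, 3]),
  (0, []),
  (11, [6, 0, 3]),
  (0, [3]),
  (2, [2]),
  (9, [2, 7]),
  (9, [2, 2]),
  (11, [6]),
  (10, [6]),
  (3, [2, 0, 6]),
  (12, [0, 2, 6, 0, 2]),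
  (7, [3, 3]),
  (1, [0, 3]),
  (3, [2, 2, 6]),
  (7, [2, 2]),
  (10, [2, 7]),
  (10, [2, 2]),
  (9, [6]),
  (1, []),
  (2, [7, 0, 7]),
  (13, [3, 3, 4, 7]),
  (11, [2, 7]),
  (11, [2, 2]),
  (0, [6, 0, 6]),
  (14, [0, 2, 6]),
  (11, [3, 7]),
  (10, [3]),
  (10, [3, 7]),
  (11, [3]),
  (0, [3, 3]),
  (2, []),
  (3, [3, 6]),
  (2, [7]),
  (0, [2, 2, 7]),
  (12, [2, 0, 2, 7]),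
  (14, [0, 7, 0]),
  (13, [7, 0, 4, 2]),
  (0, [3, 4]),
  (2, [2, 4]),
  (15, [0, 6, 0, 2]),
  (12, [3, 3, 3, 7]),
  (1, [0, 6]),
  (1, [3]),
  (1, [0, 4, 7]),
  (7, [6, 4, 6]),
  (15, [3, 4, 6]),
  (9, [3, 7]),
  (1, [2, 6]),
  (1, [2]),
  (9, [3]),
  (3, [3, 3, 6]),
  (7, [2]),
  (2, [2, 4, 3]),
  (7, [2, 7]),
  (3, [0, 4]),
  (13, [3, 3, 7]),
  (12, [0, 3, 6]),
  (15, [4, 6, 4, 0]),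
  (3, [3, 3, 7]),
  (7, [2, 2, 4]),
  (14, [3, 4, 6, 4]),
  (13, [4, 6, 4, 0]),
  (11, [6, 0, 6]),
  (0, [4, 0]),
  (3, [3, 3]),
  (7, [7]),
  (14, [0, 7, 4, 3]),
  (13, [2, 0, 2, 0, 7]),
  (14, [7, 4]),
  (10, [6, 0, 6]),
  (0, [7]),
  (3, []),
  (2, [2, 2, 7]),
  (7, [3, 7]),
  (0, [4]),
  (0, [2, 6, 4, 6]),
  (13, [2, 7, 0, 4]),
  (2, [2, 2, 4]),
  (2, [7, 4, 7]),
  (14, [3, 7, 0, 2]),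
  (0, [4, 2, 4]),
  (2, [4, 0, 4]),
  (15, [3, 3, 6]),
  (15, [0, 4, 6]),
  (15, [7]),
  (11, [3, 3]),
  (10, [3, 3]),
  (1, [0, 4, 6]),
  (4, []),
  (12, [2, 2, 4, 7]),
  (2, [4, 3, 4]),
  (14, [0, 7, 0, 2]),
  (13, [7, 0, 2, 0]),
  (11, [2, 4, 7]),
  (13, [2, 0, 2, 7]),
  (10, [2, 4, 7]),
  (14, [2, 0, 7, 0]),
  (0, [3, 4, 7]),
  (15, [2, 6, 0, 2]),
  (2, [3]),
  (11, [3, 4]),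
  (10, [3, 4]),
  (15, [3, 0, 6, 4]),
  (12, [3, 6, 0, 6]),
  (7, [4, 2]),
  (0, [3, 3, 7]),
  (2, [3, 7]),
  (15, [4, 2, 7]),
  (12, [0, 2, 7]),
  (15, [0, 4, 7, 0]),
  (9, [6, 0, 6]),
  (3, [4, 0]),
  (2, [3, 3, 7]),
  (7, [3, 3, 7]),
  (0, [2, 7]),
  (3, [2, 2, 7]),
  (3, [0, 3, 7]),
  (15, [4, 0, 7]),
  (7, [3, 3, 4]),
  (7, [7, 0, 7]),
  (12, [2, 7]),
  (3, [2, 6, 4]),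
  (7, [4, 3, 4]),
  (14, [0, 6, 4]),
  (14, [0, 4, 6, 6, 6]),
  (14, [0, 2, 4, 2, 7]),
  (9, [3, 3]),
  (1, [2, 2, 7]),
  (11, [4, 0]),
  (6, []),
  (13, [6, 6, 0, 7]),
  (7, [2, 4, 3, 4]),
  (12, [3, 4, 6]),
  (15, [0, 6, 0, 3]),
  (9, [2, 4, 7]),
  (15, [4, 2, 4, 6]),
  (1, [0, 2]),
  (12, [0, 2, 0, 7]),
  (3, [2, 4, 2]),
  (14, [4, 0, 6]),
  (7, []),
  (9, [3, 4]),
  (1, [0, 7, 0]),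
  (14, [3, 6]),
  (13, [4, 2, 4, 3]),
  (13, [3, 7]),
  (13, [4, 0, 3, 7]),
  (13, [2, 7, 7, 7]),
  (10, [4, 0]),
  (8, []),
  (14, [4, 3, 7]),
  (3, [4, 6]),
  (7, [2, 2, 4, 7]),
  (13, [3, 7, 0, 4]),
  (3, [3, 7]),
  (13, [2, 2, 7, 4]),
  (14, [0, 4]),
  (12, [0, 3, 0, 6]),
  (15, [2, 7, 4, 3]),
  (12, [0, 3, 4, 6]),
  (15, [0, 7, 7, 7]),
  (14, [0, 4, 7, 0]),
  (10, [7]),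
  (15, [2, 0, 4, 6]),
  (12, [4, 0, 3, 7]),
  (13, [4, 2, 7]),
  (11, [7]),
  (1, [0, 4]),
  (9, [2, 2, 6]),
  (0, [2, 4, 3]),
  (10, [4]),
  (15, [0, 6, 0, 7, 7]),
  (13, [2, 0, 7, 7, 7]),
  (13, [2, 6, 0, 2]),
  (2, [2, 4, 2]),
  (11, [4]),
  (12, [0, 2, 2, 7]),
  (14, [0, 6, 6, 6]),
  (14, [2, 6, 6, 6]),
  (11, [3, 6]),
  (11, [2, 6, 0]),
  (13, [2, 0, 3, 4, 6]),
  (10, [3, 6]),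
  (10, [2, 6, 0]),
  (14, [2, 6, 4]),
  (15, [0, 6, 4]),
  (12, [0, 2, 4, 6]),
  (14, [4, 0, 4, 6]),
  (13, [2, 0, 4, 2, 7]),
  (12, [4]),
  (14, [3, 0, 4, 7]),
  (13, [6, 0, 7, 7]),
  (0, [3, 7]),
  (13, [4, 7, 4, 6]),
  (10, [2, 2, 4]),
  (14, [3, 3, 4, 7]),
  (13, [3, 0, 3]),
  (11, [2, 2, 4]),
  (13, [2, 6]),
  (14, [4, 3, 4]),
  (14, [3, 0, 6, 0]),
  (13, [7, 0, 6, 6]),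
  (15, [2, 4, 7]),
  (14, [2, 7, 7]),
  (13, [2, 0, 7, 7]),
  (13, [3, 3]),
  (13, [6]),
  (14, [3, 7, 4]),
  (15, [2, 0, 4, 0]),
  (2, [6, 0, 6]),
  (12, [3, 3, 7]),
  (15, [0, 4, 7, 4]),
  (13, [2, 0, 7, 0]),
  (14, [0, 2, 0, 2, 7]),
  (0, [6, 4, 6]),
  (7, [3, 4]),
  (3, [6, 4]),
  (14, [6, 4, 0]),
  (3, [2, 0, 3]),
  (13, [2, 0, 4, 7]),
  (7, [2, 4, 7]),
  (7, [6]),
  (3, [3]),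
  (15, [0, 2, 0, 3, 4]),
  (10, [2]),
  (11, [2]),
  (12, [2, 0, 4, 6]),
  (12, [0, 2, 0]),
  (13, [2, 4, 7]),
  (13, [2, 6, 6, 0]),
  (14, [6]),
  (14, [7, 4, 7]),
  (14, [0, 2, 2, 6]),
  (13, [2, 7, 4]),
  (12, [3]),
  (12, [2, 2, 4]),
  (15, [3, 0, 7, 7]),
  (12, [3, 0, 4, 6]),
  (12, [2, 4, 7]),
  (12, [6, 0, 2]),
  (9, [4, 0]),
  (5, []),
  (15, [3, 0, 7]),
  (0, [7, 0, 6]),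
  (2, [2, 4, 7]),
  (12, [3, 7]),
  (0, [2, 2]),
  (12, [7, 0]),
  (15, [0, 4, 7, 7]),
  (13, [2, 0, 3, 6]),
  (14, [2, 2, 6]),
  (13, [3, 0, 7]),
  (14, [2, 7, 0, 2]),
  (12, [3, 6]),
  (1, [7, 7]),
  (14, [2, 7, 0]),
  (13, [4, 2, 0, 7]),
  (15, [0, 3, 0, 6, 0]),
  (9, [7]),
  (11, [2, 2, 6]),
  (10, [2, 2, 6]),
  (3, [7, 0]),
  (1, [2, 7]),
  (14, [0, 6, 0]),
  (15, [7, 4]),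
  (15, [0, 4, 6, 4, 0]),
  (7, [4, 0]),
  (9, [4]),
  (13, [3, 0, 4, 6]),
  (12, [0, 2, 4, 7]),
  (12, [7, 7, 7, 0]),
  (9, [3, 6]),
  (9, [2, 6, 0]),
  (15, [2, 0, 6]),
  (1, [2, 6, 6]),
  (1, [2, 2, 4]),
  (12, [3, 0, 3, 7]),
  (14, [2, 2, 4, 7]),
  (13, [2, 0, 7]),
  (12, [0, 6]),
  (15, [0, 3, 0, 7]),
  (13, [7, 7]),
  (12, [6]),
  (15, [2, 6, 0]),
  (3, [2, 2]),
  (15, [0, 2, 0, 2]),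
  (1, [3, 7]),
  (12, [4, 2, 7]),
  (15, [3, 0, 4]),
  (9, [2, 2, 4]),
  (15, [6, 6, 6]),
  (12, [2, 2]),
  (12, [0, 6, 0, 3]),
  (15, [0, 3, 7]),
  (14, [3, 4, 6]),
  (12, [3, 3, 4, 0]),
  (15, [7, 4, 6]),
  (15, [4, 2]),
  (15, [3, 7]),
  (12, [4, 6, 6, 6]),
  (14, [0, 7, 0, 7]),
  (7, [7, 4, 7]),
  (13, [4, 6]),
  (14, [0, 4, 6, 4]),
  (15, [0, 3, 3, 4, 7]),
  (12, [7, 4, 3]),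
  (3, [0, 7]),
  (0, [2, 4]),
  (2, [3, 3, 4]),
  (12, [0, 4, 7, 0]),
  (2, [4, 7]),
  (15, [0, 2, 7, 4]),
  (0, [6, 0, 3]),
  (0, [2, 2, 6]),
  (2, [3, 6]),
  (14, [7, 4, 6]),
  (1, [3, 6]),
  (9, [2]),
  (13, [2, 7]),
  (13, [2, 0, 2]),
  (15, [2, 7, 4, 2]),
  (15, [3, 0, 3, 0]),
  (12, [0, 4, 7, 4]),
  (12, [4, 2, 0]),
  (12, [0, 3, 7, 0]),
  (15, [6, 4]),
  (13, [4, 2, 7, 7]),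
  (13, [6, 6, 0]),
  (14, [2, 0, 2, 2]),
  (13, [2, 4, 6, 6, 6]),
  (14, [2, 7, 0, 3]),
  (14, [0, 3, 4, 0]),
  (7, [2, 2, 7]),
  (12, [3, 4]),
  (13, [2, 7, 4, 3]),
  (15, [2, 7, 4, 7]),
  (12, [0, 2, 4]),
  (12, [2, 0, 2]),
  (13, [2, 0, 3, 0]),
  (13, [2, 0, 2, 2]),
  (14, [2, 7, 4, 2]),
  (14, [7, 4, 2, 7]),
  (14, [4, 0, 6, 6]),
  (14, [4, 3]),
  (13, [7, 4, 6]),
  (15, [6, 6, 0, 7]),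
  (14, [2, 2, 4]),
  (12, [3, 0, 6]),
  (14, [6, 6, 0]),
  (7, [3]),
  (3, [6]),
  (2, [2, 2, 4, 7]),
  (0, [4, 7]),
  (12, [0, 2]),
  (2, [4, 0]),
  (13, [3, 6, 0, 7]),
  (13, [4, 3]),
  (15, [7, 4, 6, 4]),
  (0, [4, 2]),
  (1, [2, 0]),
  (1, [2, 4, 2]),
  (15, [4, 0, 6]),
  (9, [7, 4]),
  (9, [2, 2, 7, 0]),
  (12, [2, 6]),
  (7, [4, 2, 4]),
  (3, [0, 6]),
  (13, [3, 3, 3, 7]),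
  (13, [6, 0]),
  (13, [3, 4, 7]),
  (9, []),
  (15, [2, 7, 0, 2]),
  (0, [3, 3, 6]),
  (2, [6]),
  (15, [4]),
  (10, [2, 2, 4, 7]),
  (14, [7, 0]),
  (14, [2, 4, 7]),
  (14, [3, 3, 6]),
  (1, [7]),
  (12, [2, 7, 7, 7]),
  (12, [2, 0]),
  (11, [2, 2, 4, 7]),
  (7, [2, 4, 3]),
  (3, [2, 0, 7]),
  (14, [3, 7, 7, 7]),
  (1, [0]),
  (9, [6, 0]),
  (14, [7, 0, 2, 0]),
  (3, [6, 6]),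
  (14, [3, 3, 3, 7]),
  (13, [2, 4, 3, 7]),
  (13, [2, 4, 2, 7, 0]),
  (7, [3, 6]),
  (13, [3, 3, 6, 4]),
  (14, [2, 2, 6, 4]),
  (13, [6, 0, 3]),
  (15, [6, 6]),
  (10, []),
  (11, []),
  (12, [3, 3]),
  (13, [4, 6, 6, 6]),
  (13, [4, 0, 6]),
  (13, [2, 4, 6, 6]),
  (14, [7, 4, 3]),
  (14, [3, 7, 0, 4]),
  (14, [6, 6, 6, 6]),
  (14, [2, 7, 7, 0]),
  (12, [6, 4, 6, 4]),
  (15, [3, 0]),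
  (10, [2, 2, 7]),
  (15, [2, 0, 4]),
  (15, [4, 6, 6]),
  (15, [4, 6]),
  (12, [2, 0, 6]),
  (14, [0, 7, 7, 7]),
  (15, [2, 0, 3, 0]),
  (11, [2, 6]),
  (12, [6, 0, 7]),
  (13, [2, 0, 6]),
  (12, [0, 4]),
  (10, [2, 6]),
  (15, [2]),
  (13, [2, 2, 2, 6, 4]),
  (13, [2, 6, 6]),
  (14, [4, 7, 4]),
  (14, [3, 3, 4]),
  (14, [3, 3, 7]),
  (13, [7, 4, 3]),
  (15, [3, 4, 0, 3]),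
  (15, [0, 3, 0]),
  (15, [2, 4]),
  (13, [2, 0, 2, 4]),
  (14, [2, 2, 4, 2]),
  (12, [0, 3, 4, 3]),
  (9, [2, 4]),
  (12, [3, 3, 3]),
  (12, [4, 2, 7, 7]),
  (14, [0, 7, 7]),
  (13, [3, 4, 0]),
  (14, [3, 4, 0]),
  (3, [7]),
  (7, [4]),
  (10, [2, 7, 0]),
  (15, [3, 4, 0, 6]),
  (12, [7, 4]),
  (15, [6, 4, 6]),
  (12, [0, 6, 6, 4]),
  (11, [2, 7, 0]),
  (1, [6, 6]),
  (1, [2, 7, 7]),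
  (1, [6, 0]),
  (9, [2, 6, 4]),
  (9, [4, 7]),
  (9, [3, 3, 4]),
  (11, [2, 4, 2]),
  (15, [3, 6, 4]),
  (12, [2, 0, 3, 6]),
  (14, [0, 7, 7, 0]),
  (10, [2, 4, 2]),
  (13, [3, 4]),
  (14, [7, 0, 3, 7]),
  (13, [7, 7, 4]),
  (12, [0, 3, 0]),
  (12, [2, 0, 4, 3]),
  (12, [7, 0, 6]),
  (12, [0, 3, 0, 7]),
  (15, [0, 2, 6]),
  (14, [2, 4, 6, 6]),
  (13, [3, 3, 3, 3]),
  (13, [2, 4, 3, 4]),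
  (14, [7, 0, 2, 7]),
  (13, [3, 6]),
  (13, [7, 0, 7, 4]),
  (14, [7, 7, 7, 0]),
  (14, [2, 2, 2]),
  (13, [6, 0, 2, 7]),
  (15, [0, 4]),
  (14, [0, 7, 0, 2, 7]),
  (15, [3, 6, 0, 7]),
  (14, [2, 0, 4, 2]),
  (13, [3, 0, 7, 7]),
  (15, [0, 2, 0, 3]),
  (15, [0, 3, 0, 6, 4]),
  (15, [3, 0, 3, 3]),
  (2, [2, 7]),
  (12, [0, 2, 7, 4]),
  (13, [2, 4, 2]),
  (14, [0, 6, 6, 6, 6]),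
  (12, [0, 3]),
  (15, [6]),
  (15, [6, 6, 0, 2]),
  (15, [3, 3, 4, 0]),
  (12, [4, 6, 4, 6]),
  (12, [2, 7, 7, 0]),
  (12, [0, 2, 6, 0, 7]),
  (0, [2]),
  (2, [3, 3]),
  (7, [6, 0, 3]),
  (3, [0, 6, 6]),
  (13, [2, 0, 2, 0]),
  (7, [4, 3]),
  (15, [2, 0, 2]),
  (15, [4, 2, 4, 2]),
  (14, [4, 0, 4, 2]),
  (3, [2, 6]),
  (11, [7, 4]),
  (11, [2, 2, 7, 0]),
  (14, [2, 6, 0, 2]),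
  (10, [7, 4]),
  (10, [2, 2, 7, 0]),
  (13, [2, 2, 4, 2, 7]),
  (0, [4, 0, 4]),
  (2, [2, 4, 3, 4]),
  (15, [4, 7]),
  (15, [3, 7, 0]),
  (15, [2, 2, 7]),
  (3, [0, 4, 3]),
  (7, [2, 6]),
  (14, [7, 0, 6]),
  (1, [3, 7, 7]),
  (12, [2, 0, 7]),
  (12, [6, 6, 6]),
  (12, [6, 0, 3]),
  (13, [3, 3, 3]),
  (9, [2, 2, 4, 7]),
  (0, [2, 4, 2]),
  (2, [4, 3]),
  (12, [0, 6, 4, 0]),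
  (11, [6, 0]),
  (10, [6, 0]),
  (12, [3, 4, 0, 6]),
  (2, [3, 3, 6]),
  (12, [6, 0]),
  (15, [0, 3, 4, 6]),
  (15, [7, 4, 3]),
  (0, [2, 6]),
  (15, [2, 6]),
  (14, [6, 6, 4]),
  (13, [4, 6, 6]),
  (15, [3, 6, 0]),
  (15, [0, 4, 2, 7]),
  (15, [3, 3, 4]),
  (12, [3, 3, 6]),
  (12, [2, 2, 6, 4]),
  (12, [3, 0]),
  (12, [3, 3, 4]),
  (13, [2, 6, 4, 6]),
  (1, [2, 2, 2]),
  (14, [4, 2, 4]),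
  (14, [0, 7, 4, 6]),
  (14, [0, 7, 4]),
  (13, [3, 3, 3, 6]),
  (12, [0, 2, 0, 3, 6]),
  (14, [4, 0]),
  (9, [2, 6]),
  (13, [3, 4, 3]),
  (15, [0, 2, 2, 7]),
  (13, [6, 0, 2, 6]),
  (1, [0, 7, 7]),
  (14, [4, 2, 0]),
  (15, [0, 3, 3, 6]),
  (15, [3, 0, 3]),
  (12, [0, 6, 0]),
  (12, [4, 2]),
  (12, [7, 0, 2]),
  (15, [0, 6, 6, 0, 7]),
  (14, [0, 4, 2]),
  (14, [0, 4, 7, 7]),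
  (14, [0, 2, 2, 2]),
  (15, [2, 0, 2, 2]),
  (12, [0, 2, 0, 4]),
  (13, [2, 0, 4, 0]),
  (10, [2, 4]),
  (13, [2]),
  (12, [7, 4, 6, 4]),
  (15, [0, 2, 2]),
  (12, [7, 4, 6]),
  (2, [3, 4]),
  (0, [2, 2, 4]),
  (1, [3, 0]),
  (14, [0, 2, 0, 6]),
  (13, [2, 0, 7, 0, 2]),
  (14, [3, 4, 3]),
  (13, [2, 7, 4, 6]),
  (9, [2, 7, 0]),
  (11, [2, 6, 4]),
  (11, [4, 7]),
  (11, [3, 3, 4]),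
  (10, [2, 6, 4]),
  (10, [4, 7]),
  (10, [3, 3, 4]),
  (9, [2, 4, 2]),
  (14, [7, 0, 2]),
  (13, [2, 4, 2, 7]),
  (12, [6, 0, 3, 6]),
  (1, [0, 7]),
  (15, [2, 2]),
  (15, [4, 0, 3]),
  (13, [2, 0, 3]),
  (13, [6, 6]),
  (13, [4, 7, 0, 7]),
  (13, [2, 0, 3, 7]),
  (14, [3, 0, 7, 0]),
  (12, [7, 7, 7, 7]),
  (15, [4, 3]),
  (15, [0, 4, 2, 0]),
  (12, [2, 0, 3]),
  (15, [2, 2, 4, 6]),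
  (15, [6, 0, 2, 7]),
  (12, [4, 3, 7]),
  (12, [4, 0, 6, 6]),
  (15, [0, 2, 0, 4]),
  (14, [0, 4, 6, 6]),
  (14, [7, 4, 3, 7]),
  (12, [0, 3, 4]),
  (15, [4, 6, 6, 0]),
  (14, [7, 4, 6, 4]),
  (14, [7, 4, 2]),
  (15, [4, 2, 7, 7]),
  (14, [0, 2, 2, 2, 2]),
  (9, [2, 2, 7]),
  (13, [2, 6, 0, 7]),
  (13, [4, 2, 4]),
  (13, [2, 0, 4, 2]),
  (13, [4, 7, 7]),
  (14, [2, 0, 4]),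
  (11, [2, 4]),
  (15, [0, 2, 2, 4]),
  (12, []),
  (14, [0, 2, 4]),
  (14, [3, 6, 6]),
  (12, [0, 4, 7, 7]),
  (13, [4, 6, 4, 6]),
  (13, [2, 0, 2, 2, 4]),
  (13, [2, 0, 2, 6]),
  (12, [2, 2, 7]),
  (9, [7, 0, 7]),
  (12, [0, 4, 3]),
  (15, [0, 3, 6]),
  (1, [3, 4, 7]),
  (15, [3, 6, 0, 6]),
  (12, [0, 2, 2]),
  (14, [4, 2]),
  (9, [3, 4, 7]),
  (1, [4, 2]),
  (11, [4, 2]),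
  (15, [0, 6, 0, 7]),
  (13, [2, 0, 3, 4]),
  (10, [4, 2]),
  (2, [7, 0, 6]),
  (0, [2, 4, 3, 4]),
  (15, [7, 7, 0, 6]),
  (2, [6, 4, 6]),
  (0, [7, 4, 7]),
  (15, [3, 0, 6, 0]),
  (0, [2, 7, 0]),
  (15, [6, 0, 3]),
  (12, [0, 7, 4, 2]),
  (12, [0, 7, 0, 3]),
  (2, [3, 7, 4]),
  (12, [2, 7, 4, 3]),
  (12, [7, 0, 4]),
  (15, [3, 0, 6]),
  (15, [4, 6, 6, 6]),
  (12, [4, 2, 7, 0]),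
  (14, [0, 3, 6]),
  (10, [2, 6, 4, 6]),
  (13, [7, 0, 3, 7]),
  (15, [4, 0, 3, 7]),
  (12, [4, 7]),
  (12, [7, 4, 2]),
  (12, [7, 0, 3]),
  (15, [0, 3]),
  (15, [0, 2, 6, 4]),
  (15, [4, 7, 0]),
  (12, [0, 6, 6, 0]),
  (15, [2, 7, 4, 6]),
  (14, [3, 3, 3]),
  (13, [7, 7, 7, 0]),
  (11, [2, 6, 4, 6]),
  (14, [0, 3, 3]),
  (12, [7]),
  (14, [3, 6, 0, 6]),
  (15, [0, 2, 7, 0]),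
  (12, [0, 3, 4, 0]),
  (12, [4, 7, 7, 0]),
  (13, [7, 4, 7]),
  (11, [2, 2, 7]),
  (7, [2, 4, 2]),
  (1, [4]),
  (1, [2, 2, 6]),
  (3, [3, 0, 7]),
  (9, [6, 4]),
  (9, [4, 3]),
  (7, [6, 0]),
  (7, [7, 0, 6]),
  (7, [2, 4]),
  (15, [0, 3, 0, 6]),
  (3, [0, 3, 6]),
  (3, [0, 4, 7]),
  (12, [3, 6, 0]),
  (14, [4, 6, 4]),
  (15, [3, 4, 6, 4]),
  (12, [2, 6, 0, 2]),
  (14, [0, 6, 6, 4]),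
  (12, [0, 3, 0, 6, 0]),
  (15, [2, 7, 4]),
  (12, [4, 3, 4, 3]),
  (3, [3, 0]),
  (13, [3, 0, 6]),
  (13, [2, 0, 4, 3]),
  (15, [3, 6, 6]),
  (13, [7, 7, 7]),
  (14, [2, 0, 6]),
  (15, [4, 7, 7]),
  (14, [3, 6, 0]),
  (13, [2, 2, 4, 6]),
  (12, [4, 0, 4]),
  (12, [3, 0, 7]),
  (15, [3, 3, 4, 7]),
  (14, [0, 4, 2, 0]),
  (15, [4, 6, 4]),
  (12, [0, 3, 6, 0]),
  (14, [3, 7, 4, 7]),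
  (15, [0, 7, 7]),
  (12, [0, 4, 0]),
  (13, [7, 0, 7]),
  (13, []),
  (12, [2, 2, 2]),
  (15, [2, 0, 3]),
  (3, [2, 6, 6]),
  (14, [0, 3, 3, 7, 0]),
  (14, [0, 2, 7, 7]),
  (12, [2, 6, 4, 6]),
  (2, [7, 0]),
  (12, [0, 3, 7, 7]),
  (0, [3, 7, 4]),
  (15, [0, 3, 0, 3]),
  (12, [7, 7, 7]),
  (15, [0, 4, 6, 4]),
  (14, [4, 0, 3, 0]),
  (12, [7, 7, 4]),
  (12, [2, 6, 6]),
  (15, [0, 3, 3]),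
  (13, [6, 0, 7, 4]),
  (13, [4, 0, 3]),
  (15, [2, 7, 7]),
  (14, [3, 0]),
  (2, [6, 4]),
  (0, [2, 6, 0]),
  (3, [2]),
  (14, [3, 7, 7]),
  (7, [3, 3, 6]),
  (13, [2, 4, 3]),
  (10, [7, 4, 7]),
  (14, [4, 2, 4, 2]),
  (11, [7, 4, 7]),
  (13, [2, 0]),
  (12, [2, 4, 2]),
  (14, [0, 2, 0, 2, 2]),
  (13, [4, 7, 7, 0]),
  (13, [7, 7, 7, 7]),
  (12, [3, 3, 6, 0]),
  (14, [3, 6, 0, 7]),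
  (12, [2, 4, 3]),
  (15, [0, 7, 0, 7]),
  (12, [0, 7, 0, 6]),
  (15, [4, 7, 4, 6]),
  (12, [4, 0, 3]),
  (14, [2, 7, 0, 4]),
  (15, [2, 4, 2, 7]),
  (0, [2, 2, 4, 7]),
  (15, [0, 7, 7, 4]),
  (12, [6, 6, 0]),
  (15, [4, 7, 7, 0]),
  (12, [3, 6, 6]),
  (15, [7, 4, 2]),
  (9, [7, 0]),
  (1, [3, 4]),
  (13, [2, 7, 0]),
  (12, [0, 7]),
  (12, [0, 2, 7, 0, 4]),
  (13, [2, 6, 0, 6]),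
  (15, [4, 0, 4, 6]),
  (15, [2, 2, 6]),
  (14, [3, 0, 3]),
  (13, [3, 3, 4, 0]),
  (13, [7, 0, 2, 7]),
  (14, [0, 7, 0, 6]),
  (14, [4, 7, 4, 6]),
  (14, [2, 0, 3, 6]),
  (2, [2, 6, 4, 6]),
  (0, [7, 0, 7]),
  (10, [3, 7, 4]),
  (11, [3, 7, 4]),
  (15, [3, 3, 7]),
  (2, [6, 0, 3]),
  (12, [3, 6, 6, 6]),
  (12, [3, 0, 4, 7]),
  (0, [2, 4, 7]),
  (15, [2, 7, 0, 4]),
  (12, [0, 3, 3, 6]),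
  (13, [4, 3, 7, 0]),
  (12, [0, 3, 4, 7]),
  (13, [4, 6, 6, 0]),
  (15, [3, 6]),
  (15, [2, 7, 0, 3]),
  (14, [7, 4, 7, 4]),
  (12, [6, 6, 6, 6]),
  (15, [3, 7, 0, 6]),
  (15, [3, 4, 3]),
  (13, [7, 4, 7, 4]),
  (15, [2, 0, 3, 4]),
  (14, [6, 6, 0, 2]),
  (15, [2, 0, 2, 0]),
  (12, [0, 6, 4]),
  (12, [2, 7, 7]),
  (12, [2, 7, 4, 7]),
  (15, [6, 0, 7]),
  (13, [4]),
  (7, [2, 6, 0]),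
  (3, [2, 4]),
  (14, [3, 4]),
  (12, [7, 4, 7]),
  (15, [3, 4, 0]),
  (13, [7, 0, 6]),
  (15, [0, 2, 7, 7]),
  (15, [2, 0]),
  (12, [0, 3, 0, 4]),
  (15, [3, 3, 6, 0]),
  (13, [2, 4, 2, 0]),
  (15, [2, 4, 2]),
  (12, [3, 6, 6, 4]),
  (12, [0, 6, 6]),
  (12, [6, 0, 7, 4]),
  (15, [2, 7, 0, 7]),
  (1, [0, 2, 6]),
  (13, [3, 4, 0, 4]),
  (15, [3]),
  (15, [2, 0, 7, 7]),
  (14, [2, 4, 3]),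
  (12, [2, 4, 7, 7]),
  (12, [0, 2, 7, 7]),
  (12, [0, 2, 0, 6]),
  (13, [3, 0, 3, 7]),
  (10, [7, 0, 7]),
  (13, [4, 0, 3, 0]),
  (14, [2, 6, 0]),
  (11, [7, 0, 7]),
  (14, [4, 0, 3]),
  (13, [3, 0, 3, 0]),
  (10, [3, 4, 7]),
  (11, [3, 4, 7]),
  (9, [4, 2]),
  (14, [0, 6, 0, 6]),
  (1, [6]),
  (7, [4, 0, 4]),
  (3, [7, 0, 4]),
  (14, [2, 4, 2, 7]),
  (7, [2, 6, 4, 6]),
  (3, [4, 2, 7]),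
  (14, [0, 3, 7]),
  (3, [0]),
  (14, [2, 0, 7]),
  (13, [7, 0, 2]),
  (13, [2, 2, 7, 0]),
  (7, [7, 4]),
  (13, [2, 7, 0, 3]),
  (13, [2, 2, 7]),
  (14, [3, 6, 4]),
  (14, [3, 0, 3, 7]),
  (13, [2, 6, 0]),
  (12, [4, 7, 0]),
  (1, [6, 6, 6]),
  (15, [0, 6, 6]),
  (13, [3, 0, 7, 0]),
  (13, [2, 2, 7, 4, 3]),
  (14, [2, 6, 0, 7]),
  (14, [0, 4, 2, 7]),
  (14, [7]),
  (13, [2, 0, 4, 2, 0]),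
  (14, [2]),
  (12, [6, 0, 6]),
  (15, [0, 2, 7]),
  (9, [2, 6, 4, 6]),
  (12, [0, 7, 0, 7]),
  (13, [6, 0, 6, 4]),
  (15, [2, 6, 6]),
  (0, [4, 3]),
  (11, [6, 4]),
  (11, [4, 3]),
  (2, [4, 2]),
  (10, [6, 4]),
  (10, [4, 3]),
  (0, [3, 6, 4]),
  (0, [4, 3, 4]),
  (0, [3, 3, 4]),
  (14, [0, 4, 7]),
  (2, [4, 2, 4]),
  (2, [4]),
  (13, [4, 2, 7, 0]),
  (12, [6, 4, 0]),
  (14, [0, 2, 6, 4]),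
  (13, [4, 2, 4, 6]),
  (12, [7, 7, 0]),
  (13, [2, 2, 6, 4]),
  (14, [2, 7]),
  (13, [6, 6, 6, 6]),
  (2, [2, 6, 4]),
  (15, [0, 7]),
  (15, [7, 4, 7, 4]),
  (14, [2, 0, 7, 7]),
  (14, [7, 0, 7]),
  (13, [7, 7, 0, 4]),
  (13, [2, 4, 6]),
  (14, [6, 6, 6]),
  (12, [0, 7, 4, 7]),
  (14, [0, 7]),
  (13, [3, 4, 0, 6]),
  (12, [4, 6, 6]),
  (14, [4, 2, 4, 3]),
  (13, [6, 6, 0, 2]),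
  (15, [2, 7, 0, 6]),
  (15, [3, 7, 7]),
  (13, [3, 0]),
  (14, [4]),
  (2, [2, 6, 0]),
  (12, [0, 2, 2, 6]),
  (12, [6, 0, 6, 4]),
  (13, [7, 4, 2, 7]),
  (7, [2, 7, 0]),
  (13, [2, 0, 4]),
  (3, [0, 3, 3]),
  (14, [2, 0, 4, 0]),
  (13, [2, 2, 4, 7]),
  (14, [4, 7, 4, 2]),
  (12, [2, 4]),
  (13, [2, 2]),
  (13, [2, 2, 4, 2]),
  (14, [4, 7, 4, 7]),
  (15, [6, 0, 2, 6]),
  (15, [4, 0, 4]),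
  (14, [2, 7, 4, 7]),
  (12, [6, 6, 4]),
  (7, [2, 6, 4]),
  (3, [3, 6, 6]),
  (2, [2, 2, 6]),
  (12, [0, 2, 0, 4, 0]),
  (0, [6]),
  (15, [2, 2, 2]),
  (1, [2, 0, 7]),
  (12, [0, 2, 0, 3]),
  (9, [7, 4, 7]),
  (15, [6, 6, 0]),
  (13, [4, 0]),
  (12, [6, 4, 6]),
  (15, [0, 4, 3]),
  (15, [6, 0, 3, 6]),
  (13, [6, 6, 6]),
  (12, [7, 7]),
  (13, [4, 0, 4]),
  (14, [7, 7, 0]),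
  (13, [4, 2, 0]),
  (12, [7, 7, 0, 6]),
  (14, [0, 4, 2, 4, 6]),
  (3, [7, 7]),
  (14, [0, 6, 0, 7]),
  (13, [3, 0, 4]),
  (14, [0, 4, 2, 4]),
  (13, [4, 2]),
  (14, [0, 3, 7, 7, 7]),
  (10, [7, 0]),
  (11, [7, 0]),
  (15, [6, 0]),
  (13, [7, 0, 4]),
  (13, [3, 4, 6]),
  (15, [7, 4, 7, 0]),
  (14, [0, 7, 0, 3]),
  (14, [2, 7, 4, 3]),
  (12, [3, 7, 4, 7]),
  (15, [7, 7, 0]),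
  (12, [0, 6, 0, 6]),
  (12, [2, 7, 4]),
  (7, [6, 0, 6]),
  (3, [4, 7]),
  (1, [2, 4]),
  (9, [3, 7, 4]),
  (14, [0, 2, 4, 3, 7]),
  (7, [3, 4, 7]),
  (13, [2, 6, 4]),
  (13, [3, 7, 7, 7]),
  (3, [2, 0, 2]),
  (14, [0, 6, 0, 3]),
  (13, [2, 6, 4, 0]),
  (15, [0, 2, 7, 4, 2]),
  (13, [4, 0, 4, 6]),
  (15, [0, 6, 0, 3, 6]),
  (14, [0, 2, 4, 6]),
  (14, [7, 7, 0, 6]),
  (12, [0, 3, 3]),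
  (13, [6, 0, 6]),
  (14, [2, 4]),
  (14, [0]),
  (15, [0, 4, 0]),
  (14, []),
  (12, [2, 4, 2, 0]),
  (14, [2, 0, 4, 3]),
  (13, [2, 4, 3, 7, 0]),
  (13, [6, 0, 3, 6]),
  (13, [2, 7, 0, 7]),
  (14, [2, 0, 3]),
  (15, [2, 4, 6, 6]),
  (0, [6, 4]),
  (2, [6, 0]),
  (12, [7, 0, 7, 4]),
  (13, [4, 2, 4, 2]),
  (14, [0, 2, 0]),
  (15, [0, 3, 7, 7]),
  (14, [0, 3]),
  (14, [2, 2, 7]),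
  (0, [2, 6, 4]),
  (15, [0, 6, 0]),
  (14, [2, 0, 2]),
  (14, [7, 7, 0, 4]),
  (12, [4, 7, 7]),
  (15, [0, 3, 3, 3]),
  (7, [4, 7]),
  (13, [3, 7, 4, 7]),
  (13, [2, 4, 7, 7]),
  (15, [2, 4, 7, 7]),
  (12, [0, 7, 4, 6]),
  (13, [3, 7, 0]),
  (14, [4, 6, 4, 0]),
  (13, [3, 0, 6, 0]),
  (15, [0, 4, 7, 4, 2]),
  (13, [4, 3, 4, 3]),
  (14, [0, 4, 3]),
  (12, [3, 3, 3, 6]),
  (14, [0, 3, 3, 4]),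
  (13, [4, 3, 4]),
  (15, [4, 7, 0, 7]),
  (12, [7, 0, 3, 7]),
  (12, [0, 2, 6]),
  (12, [4, 2, 0, 7]),
  (15, [2, 2, 7, 4]),
  (3, [0, 3]),
  (15, [3, 7, 0, 4]),
  (7, [7, 0]),
  (10, [7, 0, 6]),
  (11, [7, 0, 6]),
  (10, [3, 6, 4]),
  (11, [3, 6, 4]),
  (15, [0, 7, 0]),
  (13, [7, 0, 3]),
  (14, [7, 0, 4]),
  (15, [2, 0, 7]),
  (2, [3, 6, 4]),
  (12, [6, 4]),
  (12, [7, 0, 6, 6]),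
  (0, [6, 0]),
  (1, [3, 0, 6]),
  (9, [4, 0, 4]),
  (15, [0, 2, 0, 6]),
  (12, [2, 6, 0]),
  (13, [3, 3, 6]),
  (12, [4, 3]),
  (14, [7, 7]),
  (1, [4, 7]),
  (14, [0, 3, 4, 0, 6]),
  (13, [7]),
  (15, [6, 6, 4]),
  (10, [6, 4, 6]),
  (11, [6, 4, 6]),
  (12, [3, 0, 7, 7]),
  (12, [2, 0, 2, 4]),
  (15, [4, 2, 4]),
  (14, [3, 0, 4]),
  (14, [7, 0, 3]),
  (15, [7, 7, 4]),
  (13, [3, 6, 0, 6]),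
  (9, [2, 4, 3]),
  (12, [4, 0, 4, 2]),
  (15, [7, 7, 7, 7]),
  (13, [6, 0, 7]),
  (10, [3, 3, 6]),
  (11, [3, 3, 6]),
  (1, [0, 3, 3]),
  (15, [3, 7, 4]),
  (12, [2, 7, 4, 2]),
  (15, [2, 6, 4, 0]),
  (9, [3, 6, 4]),
  (12, [2, 2, 6, 0]),
  (15, [6, 0, 2]),
  (12, [0, 3, 6, 4]),
  (10, [4, 2, 4]),
  (1, [2, 2]),
  (9, [4, 3, 4]),
  (12, [2, 6, 4]),
  (9, [3, 3, 6]),
  (1, [0, 2, 7]),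
  (15, [0, 6, 4, 0]),
  (13, [3, 6, 6, 6]),
  (12, [3, 0, 6, 4]),
  (13, [3]),
  (15, [0, 6]),
  (14, [0, 6, 4, 6]),
  (15, [0, 3, 4, 3]),
  (14, [4, 3, 4, 3]),
  (15, [4, 3, 7]),
  (12, [2, 0, 3, 7]),
  (14, [0, 2, 4, 3]),
  (14, [0, 3, 7, 7]),
  (11, [4, 2, 4]),
  (14, [4, 7, 0]),
  (12, [3, 0, 3, 3]),
  (13, [3, 0, 3, 3]),
  (13, [3, 7, 7]),
  (13, [4, 0, 4, 2]),
  (11, [2, 4, 3]),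
  (10, [2, 4, 3]),
  (14, [2, 4, 3, 4]),
  (13, [3, 4, 0, 3, 0]),
  (13, [3, 6, 4]),
  (13, [2, 2, 2, 6]),
  (15, [3, 3, 3]),
  (12, [4, 0]),
  (13, [4, 0, 6, 6]),
  (12, [7, 7, 0, 4]),
  (15, [7, 4, 7]),
  (15, [0, 6, 6, 4]),
  (15, [7, 4, 2, 7]),
  (14, [4, 6, 4, 6]),
  (14, [3, 4, 0, 3]),
  (12, [7, 4, 3, 7]),
  (12, [0, 2, 4, 3]),
  (13, [2, 7, 7, 0]),
  (14, [3, 4, 7]),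
  (13, [2, 6, 6, 6]),
  (13, [3, 7, 4, 6]),
  (12, [3, 4, 7, 4]),
  (15, [3, 3]),
  (12, [3, 0, 4]),
  (13, [7, 0]),
  (14, [7, 0, 4, 2]),
  (12, [2, 7, 4, 6]),
  (15, [6, 0, 6]),
  (12, [0]),
  (15, [4, 0, 3, 0]),
  (15, [0, 3, 4]),
  (15, [3, 7, 4, 6]),
  (12, [3, 0, 3]),
  (12, [7, 0, 7]),
  (12, [0, 2, 7, 0]),
  (15, [2, 2, 6, 4]),
  (14, [0, 3, 4, 6]),
  (12, [2, 6, 6, 4]),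
  (13, [7, 7, 0, 6]),
  (15, [0, 3, 3, 4]),
  (13, [6, 4, 6, 4]),
  (13, [2, 0, 4, 6]),
  (12, [0, 4, 0, 4]),
  (14, [0, 2, 7, 4]),
  (15, [0, 7, 4, 6]),
  (15, [3, 7, 0, 2]),
  (13, [7, 4, 2]),
  (14, [2, 0, 2, 6]),
  (2, [2, 6]),
  (0, [3, 6]),
  (14, [0, 2, 2, 7]),
  (15, [0, 3, 6, 4]),
  (15, [2, 6, 6, 6]),
  (14, [0, 3, 4]),
  (0, [7, 0]),
  (13, [7, 7, 0]),
  (2, [2, 2, 7, 0]),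
  (15, [3, 4]),
  (14, [3, 0, 6]),
  (12, [7, 4, 7, 0]),
  (13, [2, 6, 0, 3]),
  (14, [3, 4, 0, 6]),
  (14, [0, 4, 3, 7]),
  (13, [4, 3, 4, 7]),
  (15, [2, 7, 0]),
  (12, [7, 4, 2, 7]),
  (12, [0, 3, 3, 6, 4]),
  (15, [0, 4, 2]),
  (13, [4, 7, 4, 7]),
  (14, [0, 2, 0, 2]),
  (15, [7, 7, 7]),
  (12, [4, 3, 4, 7]),
  (13, [3, 0, 4, 7]),
  (13, [4, 6, 4]),
  (14, [0, 4, 6]),
  (14, [2, 6]),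
  (13, [3, 7, 0, 2]),
  (15, [3, 4, 7]),
  (12, [2, 7, 0]),
  (12, [0, 3, 7, 4]),
  (13, [3, 3, 7, 0]),
  (14, [2, 4, 6]),
  (15, [2, 4, 3]),
  (12, [7, 4, 7, 4]),
  (13, [2, 6, 6, 4]),
  (14, [3, 3]),
  (15, [4, 0]),
  (12, [2]),
  (14, [0, 6, 6]),
  (15, [2, 4, 6]),
  (13, [2, 2, 4]),
  (15, [4, 0, 4, 2]),
  (15, [2, 6, 6, 0]),
  (12, [6, 0, 7, 7]),
  (14, [4, 7]),
  (14, [0, 6, 0, 2]),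
  (13, [4, 0, 7]),
  (15, [0, 7, 0, 2]),
  (7, [3, 6, 4]),
  (13, [3, 0, 3, 0, 6]),
  (14, [2, 0]),
  (2, [3, 4, 7]),
  (14, [0, 3, 3, 3]),
  (12, [3, 7, 4]),
  (14, [6, 6, 0, 7]),
  (12, [2, 7, 0, 6]),
  (13, [4, 3, 7]),
  (15, [0, 2, 7, 4, 7]),
  (13, [3, 4, 7, 4]),
  (14, [3, 3, 6, 4]),
  (2, [7, 4]),
  (0, [2, 2, 7, 0]),
  (1, [0, 7, 4]),
  (9, [7, 0, 6]),
  (15, [4, 7, 4]),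
  (12, [0, 7, 0]),
  (14, [4, 2, 7]),
  (7, [6, 4]),
  (13, [4, 7, 0]),
  (3, [2, 0]),
  (11, [4, 0, 4]),
  (10, [4, 0, 4]),
  (14, [0, 2, 0, 7]),
  (13, [4, 7, 4, 2]),
  (15, [2, 6, 4]),
  (13, [3, 6, 6]),
  (12, [4, 6]),
  (15, [3, 7, 7, 7]),
  (14, [6, 6]),
  (1, [4, 6]),
  (9, [6, 4, 6]),
  (13, [2, 4]),
  (13, [3, 3, 4]),
  (14, [0, 2, 6, 6]),
  (12, [6, 6]),
  (12, [4, 0, 7]),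
  (14, [4, 7, 0, 7]),
  (15, [2, 6, 0, 6]),
  (14, [3, 7]),
  (13, [2, 7, 0, 2]),
  (13, [6, 4]),
  (14, [3, 0, 7]),
  (13, [3, 3, 6, 0]),
  (1, [6, 4]),
  (10, [4, 3, 4]),
  (11, [4, 3, 4]),
  (14, [2, 0, 2, 7]),
  (15, [6, 0, 7, 7]),
  (13, [2, 7, 7, 0, 6]),
  (15, [2, 2, 4]),
  (14, [0, 3, 3, 7]),
  (12, [2, 0, 2, 2]),
  (14, [4, 7, 7]),
  (14, [0, 7, 4, 2]),
  (13, [2, 0, 2, 4, 6]),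
  (12, [0, 6, 4, 6]),
  (9, [4, 2, 4]),
  (12, [3, 6, 4]),
  (13, [2, 2, 2]),
  (15, [3, 6, 6, 4]),
  (12, [3, 4, 3]),
  (15, [0, 2, 0]),
  (15, [2, 4, 3, 7]),
  (15, [2, 0, 3, 7]),
  (14, [2, 7, 0, 6]),
  (12, [2, 0, 4, 0]),
  (13, [7, 4, 6, 4]),
  (15, [0]),
  (13, [4, 7]),
  (15, [4, 7, 4, 2]),
  (12, [0, 7, 4]),
  (13, [2, 7, 0, 6]),
  (14, [2, 2, 2, 2]),
  (13, [7, 0, 4, 6]),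
  (14, [4, 0, 4]),
  (14, [2, 6, 4, 6]),
  (14, [3]),
  (13, [2, 2, 2, 2]),
  (13, [6, 4, 6]),
  (13, [3, 4, 6, 4]),
  (14, [2, 4, 3, 7]),
  (12, [4, 0, 6]),
  (15, [3, 3, 3, 6]),
  (15, [6, 4, 0]),
  (12, [0, 3, 7]),
  (14, [4, 6, 6]),
  (14, [6, 4]),
  (7, [2, 2, 6]),
  (3, [3, 0, 4]),
  (12, [0, 2, 6, 0]),
  (14, [3, 3, 3, 6]),
  (3, [4]),
  (7, [3, 7, 4]),
  (14, [0, 2]),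
  (12, [3, 3, 4, 7]),
  (13, [6, 6, 4]),
  (15, [0, 3, 7, 0]),
  (12, [6, 6, 0, 7]),
  (14, [2, 0, 4, 6]),
  (13, [2, 2, 6, 0]),
  (15, [0, 3, 7, 4]),
  (15, [0, 4, 7]),
  (12, [2, 7, 0, 3]),
  (12, [2, 2, 7, 0]),
  (15, [0, 3, 6, 0]),
  (14, [0, 2, 7]),
  (13, [2, 7, 4, 2]),
  (15, [4, 2, 7, 0]),
  (12, [3, 4, 6, 4]),
  (14, [0, 2, 2]),
  (13, [2, 7, 4, 7]),
  (15, [0, 6, 6, 0]),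
  (12, [4, 2, 4]),
  (14, [4, 2, 7, 0]),
  (14, [2, 6, 6]),
  (13, [2, 2, 6]),
  (12, [0, 4, 0, 7]),
  (14, [0, 2, 0, 2, 6]),
  (13, [7, 4, 3, 7]),
  (13, [6, 0, 2]),
  (13, [7, 4]),
  (13, [7, 4, 7, 0]),
  (14, [2, 7, 4]),
  (13, [4, 7, 4]),
  (14, [2, 4, 2]),
  (13, [6, 0, 3, 7]),
  (12, [0, 4, 3, 4]),
  (2, [2, 7, 0]),
  (0, [7, 4]),
  (13, [3, 0, 6, 4]),
  (14, [4, 6]),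
  (12, [0, 4, 7]),
  (15, [0, 7, 0, 7, 4]),
  (7, [2, 2, 7, 0]),
  (3, [4, 2]),
  (12, [2, 4, 3, 4]),
  (13, [6, 4, 0]),
  (14, [3, 7, 0]),
  (15, [0, 7, 4]),
  (12, [0, 4, 0, 6]),
  (15, [7, 7]),
  (15, [3, 0, 4, 6]),
  (12, [2, 2, 6]),
  (14, [0, 3, 6, 6]),
  (13, [3, 7, 0, 6]),
  (15, []),
  (12, [4, 3, 4]),
  (13, [3, 4, 0, 3]),
  (14, [2, 2]),
  (12, [2, 0, 4]),
  (15, [7, 4, 3, 7]),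
  (12, [3, 4, 0]),
  (14, [7, 7, 7]),
  (13, [3, 6, 0]),
  (15, [0, 2]),
  (12, [2, 0, 3, 4]),
  (12, [3, 7, 4, 6]),
  (15, [2, 0, 2, 4]),
  (12, [4, 6, 4]),
  (12, [3, 4, 7]),
  (15, [2, 7]),
  (10, [2, 4, 3, 4]),
  (11, [2, 4, 3, 4]),
  (13, [2, 7, 7]),
  (14, [0, 2, 4, 2]),
  (14, [3, 6, 6, 4]),
  (13, [2, 0, 2, 6, 6]),
  (12, [7, 0, 2, 7]),
  (12, [4, 3, 7, 0]),
  (15, [2, 0, 2, 6]),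
  (13, [3, 6, 6, 4]),
  (14, [3, 3, 3, 3]),
  (14, [0, 6]),
  (13, [3, 7, 4]),
  (1, [2, 4, 6]),
  (9, [2, 4, 3, 4]),
  (12, [0, 2, 2, 7, 0]),
  (15, [3, 3, 6, 4])]

end Cfsg.Agent.Lib.Helper2.HNS
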