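import Cfsg.Agent.Lib.Helper2.HNDce3b
import Cfsg.Agent.Lib.Helper2.HNS.Ch6
set_option autoImplicit false
set_option maxRecDepth 1000000
set_option Elab.async false
open Cfsg.Agent.Lib.Helper2.HNDce
namespace Cfsg.Agent.Lib.Helper2.HNS

/-! # The entries of the row 6 and the covering of the 1408 points -/

/-- the entries of the row 6: the word `h`, the row `j`, the word `g₀`, the number of the coset equality -/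
def ent6 : List (List Nat × Nat × List Nat × Nat) := [
  ([4], 4, [3, 4, 2], 91),
  ([0, 0, 4], 6, [0, 0], 116),
  ([0, 4], 4, [3, 0, 2], 111),
  ([1, 4], 3, [0, 2], 106),
  ([4, 2], 2, [], 77),
  ([0, 0, 4, 2], 6, [4], 105),
  ([4, 2, 1], 6, [0, 0], 112),
  ([0, 0, 4, 3, 4], 6, [2, 2, 2, 0, 4, 3, 3, 0, 2, 2, 0, 2, 2, 0, 2], 115),
  ([0, 4, 2, 1], 8, [], 138),
  ([0, 4, 2, 4], 4, [4, 2, 2, 4, 3, 3, 1, 3, 3, 4, 2, 2, 4, 2], 81),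
  ([1, 4, 2, 4], 2, [0], 84),
  ([1, 4, 3, 4], 4, [0, 4, 3, 3, 1, 2, 4], 109),
  ([4, 2, 1, 4], 6, [0, 4, 3, 0, 2, 4, 0], 104),
  ([4, 2, 4, 3], 5, [4, 3, 0, 3, 1, 2], 97),
  ([0, 0, 4, 2, 4, 2], 6, [4, 3, 0, 4, 2, 2, 1], 102),
  ([0, 4, 2, 1, 4], 6, [0, 4, 3, 0, 2, 0, 4], 103),
  ([4, 2, 2, 0, 3], 6, [2, 2, 4, 3, 3, 1, 3, 3, 4, 2, 2, 2], 119),
  ([0, 4, 2, 0, 4, 2], 5, [4, 0, 2, 2, 4, 2, 2, 4, 2, 2, 4, 3], 101),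
  ([0, 4, 2, 1, 4, 2], 2, [0, 3, 4, 0, 3, 4, 2, 2], 86),
  ([4, 2, 2, 2, 0, 3, 0], 5, [2, 2, 2, 0, 3, 0, 3, 0, 2, 4, 2], 95),
  ([1, 4, 3, 4, 3, 3, 4, 2], 6, [0, 4, 3, 0, 3, 3, 0, 4, 2, 2, 2, 0, 4], 113),
  ([4, 2, 2, 2, 0, 4, 3, 0], 4, [0, 2, 2, 1, 2, 4], 89),
  ([4, 2, 4, 2, 0, 2, 4, 3], 7, [2, 0, 3, 0, 3, 3, 4, 3, 0, 2, 4, 2, 0], 130),
  ([4, 3, 4, 3, 3, 4, 2, 2], 7, [0, 3, 4, 3, 0, 4, 3, 0, 3, 3], 134),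
  ([4, 2, 1, 4, 2, 2, 4, 3, 4], 6, [4, 2, 0, 2, 2, 4, 2, 0, 2, 4, 3, 3, 1], 118),
  ([4, 2, 2, 0, 2, 4, 3, 4, 2], 7, [0, 2, 0, 2, 0, 2, 2, 4, 2, 2, 0, 3, 3], 132),
  ([4, 2, 2, 2, 0, 4, 2, 0, 4], 6, [0, 2, 0, 3, 4, 3, 3, 1, 2, 4, 3, 3, 4], 117),
  ([4, 2, 2, 2, 4, 2, 4, 3, 4], 6, [0, 4, 2, 2, 2, 0, 4, 2, 2, 0, 2, 4, 0], 114),
  ([4, 2, 4, 2, 2, 4, 2, 1, 4], 5, [0, 2, 2, 0, 4, 2, 4, 3, 3, 0, 3, 3, 0], 93),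
  ([1, 4, 3, 4, 3, 4, 3, 4, 2, 2], 5, [2, 0, 3, 0, 4, 2, 2, 4, 0, 2, 4, 2], 99)]

/-- the covering of the points by the row 6: for the point `q`, the entry and the word in the generators of the subgroup -/
def cov6 : List (Nat × List Nat) := [
  (5, [6]),
  (9, [6, 8]),
  (10, [6, 8]),
  (0, []),
  (4, [6]),
  (2, []),
  (3, []),
  (4, []),
  (14, [2, 0, 6]),
  (1, []),
  (10, [8]),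
  (22, [6, 8, 0]),
  (9, [8]),
  (28, [0, 4, 2, 6]),
  (12, [6]),
  (6, []),
  (14, [6]),
  (5, [8]),
  (21, [8, 2]),
  (21, [0, 2, 6]),
  (14, [2, 4, 2, 6]),
  (23, [4, 8]),
  (5, []),
  (29, [0, 8, 2]),
  (15, [6]),
  (8, []),
  (22, [6, 8, 2]),
  (9, []),
  (19, [6, 8, 2]),
  (19, [0, 2]),
  (22, [0, 2, 6, 9]),
  (25, [0, 8]),
  (28, [2, 0, 4, 6]),
  (10, []),
  (28, [4, 6, 8, 8]),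
  (11, []),
  (16, [4]),
  (6, [6]),
  (13, [8]),
  (12, []),
  (21, [8]),
  (21, [0, 6]),
  (14, [4, 2, 6]),
  (23, [4, 0, 9]),
  (29, [6, 9, 0]),
  (13, []),
  (16, [6, 8, 8]),
  (13, [2, 4, 6, 8]),
  (28, [0, 6, 9, 9]),
  (22, [0, 4, 6, 8, 0]),
  (23, [2, 9, 4]),
  (1, [6]),
  (26, [2, 4, 6]),
  (29, [9, 0]),
  (4, [8]),
  (29, [0, 4, 8]),
  (7, []),
  (18, [6]),
  (8, [6]),
  (17, [6]),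
  (15, []),
  (19, [6, 8]),
  (19, [0]),
  (22, [6, 9, 4, 0]),
  (25, [9]),
  (28, [2, 0, 4]),
  (17, [6, 9]),
  (18, [2, 4, 2]),
  (17, [2, 4, 2]),
  (14, [0, 4, 0, 6]),
  (29, [9, 4, 0]),
  (25, [4, 2, 8, 2]),
  (3, [6]),
  (20, [6]),
  (28, [4, 6]),
  (11, [0, 2]),
  (22, [8, 2]),
  (18, [6, 9]),
  (11, [0, 4, 2]),
  (2, [6]),
  (27, [2, 4, 8, 8]),
  (16, [8, 2]),
  (13, [6, 8]),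
  (13, [2, 4, 2]),
  (16, [4, 6]),
  (28, [0, 6, 9, 9, 0]),
  (16, []),
  (16, [0, 4, 6]),
  (22, [0, 4, 6, 8]),
  (13, [2, 8]),
  (13, [6, 9, 4]),
  (28, [0, 2, 6]),
  (22, [6, 9, 4]),
  (23, [0, 4, 2, 9]),
  (29, [0, 4, 6, 9]),
  (21, [0, 6, 8]),
  (22, [0, 8, 2]),
  (28, [2, 4]),
  (26, [0, 8, 2]),
  (14, [0, 4, 9]),
  (24, [0, 4]),
  (13, [2, 4, 8]),
  (25, [0, 9, 4]),
  (11, [2, 9, 9]),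
  (28, [2, 0, 6]),
  (11, [4, 2]),
  (22, [4, 2, 6, 9]),
  (25, [0, 6]),
  (29, [0, 6, 8, 2]),
  (21, [6, 9]),
  (4, [6, 8]),
  (27, [0, 8, 8, 0]),
  (20, [8, 2]),
  (24, [2, 6, 9, 0]),
  (24, [4, 0, 6]),
  (29, [0, 4, 9]),
  (7, [0, 2]),
  (14, []),
  (16, [0, 8]),
  (7, [0, 4, 2]),
  (0, [6]),
  (24, [6, 9]),
  (18, [2, 6, 9, 4]),
  (17, []),
  (17, [2, 6, 9, 4]),
  (18, []),
  (14, [0, 4, 6]),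
  (18, [4, 6]),
  (18, [2, 4]),
  (29, [9, 4]),
  (17, [4, 6]),
  (17, [2, 4]),
  (14, [6, 9, 9]),
  (29, [8, 4]),
  (25, [9, 4, 2]),
  (28, [4]),
  (19, [0, 8]),
  (29, [2, 6, 8]),
  (14, [4, 0, 4]),
  (20, [6, 9, 9]),
  (22, [0, 4]),
  (27, [4, 0]),
  (17, [2, 4, 2, 6]),
  (7, [2, 9, 9]),
  (23, [2, 8]),
  (14, [4, 6]),
  (23, [0, 8]),
  (29, [4, 0, 8]),
  (7, [4, 2]),
  (28, [0, 4, 2]),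
  (19, [9]),
  (10, [6]),
  (26, [0, 8, 8, 8]),
  (24, [2]),
  (27, [2, 9, 9]),
  (27, [0, 9, 4]),
  (11, [0, 2, 4, 2]),
  (22, [9, 4, 0]),
  (19, [6, 8, 8]),
  (27, [2, 4]),
  (28, [2, 8, 2]),
  (20, [8, 0, 4]),
  (18, [2, 4, 2, 6]),
  (22, [8, 0]),
  (19, [0, 4, 2, 6]),
  (9, [6]),
  (20, [4, 8, 4]),
  (20, [0, 4, 6, 9]),
  (21, [0, 2]),
  (22, [4, 2, 0, 6]),
  (7, [0, 6, 9, 4]),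
  (23, [0, 9]),
  (28, [2, 4, 2]),
  (21, [0, 4, 2, 6]),
  (21, [6, 8, 2]),
  (28, [0, 2, 6, 9]),
  (22, [0, 8]),
  (21, [9]),
  (29, [0, 9, 4, 0]),
  (14, [6, 8, 8]),
  (28, [6, 8, 0, 9]),
  (11, [4, 2, 0]),
  (16, [0, 9]),
  (22, [0, 4, 8]),
  (13, [2, 6, 8]),
  (22, [4, 0, 6, 8]),
  (25, [6]),
  (13, [9, 9]),
  (28, [0, 9, 9, 0]),
  (16, [6]),
  (28, [2, 6, 9, 9, 2]),
  (28, [4, 6, 9, 9]),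
  (11, [2, 4, 2]),
  (22, [4, 6, 9]),
  (22, [6, 9, 0]),
  (25, [8, 8, 8]),
  (29, [0, 4, 6, 8]),
  (28, [2, 0, 6, 8, 2]),
  (20, [2, 8, 8, 8]),
  (27, [2, 4, 0]),
  (14, [0, 2, 9, 4]),
  (29, [2, 9, 9]),
  (14, [0, 6, 9, 4]),
  (13, [2]),
  (13, [6, 9, 9]),
  (27, [0, 8, 8]),
  (11, [8, 2, 9]),
  (28, [2, 0, 8, 2]),
  (20, [2, 8, 2]),
  (25, [0, 4, 8]),
  (22, [4]),
  (20, [8, 8, 8]),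
  (27, [0, 2, 0]),
  (24, [4, 6, 8]),
  (24, [0, 8]),
  (24, [8, 8, 8]),
  (28, [0, 2, 9]),
  (22, [4, 0, 9]),
  (28, [2, 0, 8, 8]),
  (26, [9, 4, 2, 8]),
  (22, [4, 6, 8, 4]),
  (7, [4, 2, 4, 2]),
  (23, [2, 6]),
  (14, [4, 2, 6, 8]),
  (29, [0, 4]),
  (28, [2, 4, 0, 6]),
  (29, [9]),
  (14, [0, 6]),
  (11, [0, 2, 4]),
  (22, [4, 2, 9]),
  (25, [9, 4]),
  (28, [2, 0]),
  (22, [9, 2]),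
  (28, [0, 2, 4, 2]),
  (14, [0, 9, 4]),
  (29, [4, 2, 0]),
  (14, [0, 4, 6, 9]),
  (24, [2, 6, 8]),
  (13, [2, 4, 2, 6]),
  (20, [9, 4]),
  (20, [2, 4, 2, 4]),
  (27, [2, 4, 2]),
  (27, [0, 6]),
  (28, [0, 2]),
  (22, [9, 4]),
  (26, [2, 0]),
  (7, [6]),
  (29, [6, 8, 2, 9]),
  (7, [0, 2, 4, 2]),
  (14, [4, 2]),
  (21, [8, 8]),
  (24, [2, 9, 9, 2]),
  (29, [4, 2, 0, 6]),
  (26, [0, 9, 4, 2]),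
  (16, [8, 8]),
  (14, [2, 0]),
  (21, [0, 4, 2]),
  (5, [6, 8]),
  (26, [2, 8, 4]),
  (26, [8, 8, 0]),
  (19, [0, 2, 6]),
  (29, [8, 4, 9]),
  (11, [0, 6, 9, 4]),
  (25, [0, 4, 0, 9]),
  (14, [2, 4, 2, 4]),
  (19, [0, 4, 2]),
  (19, [8, 2]),
  (14, [4, 6, 8, 0]),
  (29, [2, 6, 8, 2]),
  (19, [6, 9]),
  (28, [0, 2, 6, 9, 9]),
  (22, [4, 6, 8, 0]),
  (14, [4, 6, 9, 9]),
  (23, [9]),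
  (18, [2, 6, 9]),
  (29, [6, 9, 4]),
  (17, [4]),
  (29, [4, 0, 9]),
  (7, [4, 2, 0]),
  (17, [2, 6, 9]),
  (14, [0, 4]),
  (18, [4]),
  (14, [0, 2, 4, 2, 6]),
  (14, [0, 6, 8, 8, 0]),
  (23, [2, 4, 8]),
  (29, [0, 4, 8, 0]),
  (29, [8, 0]),
  (7, [2, 4, 2]),
  (28, [4, 8, 8]),
  (14, [2, 6, 9, 4]),
  (24, [2, 4, 2, 4]),
  (26, [4, 8, 4]),
  (22, [0, 2]),
  (28, [0, 6, 9]),
  (22, [6, 8, 8, 4]),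
  (17, [4, 6, 9]),
  (17, [2, 9]),
  (26, [6, 8, 4, 9]),
  (23, [8]),
  (14, [2, 9, 4]),
  (24, [2, 0]),
  (7, [8, 2, 9]),
  (29, [6, 8, 8, 4]),
  (24, [8, 8]),
  (26, [9, 4, 0]),
  (27, [6, 8, 0]),
  (27, [0, 4, 8, 0]),
  (27, [2, 4, 6]),
  (14, [4, 8, 0]),
  (29, [6, 8, 2, 4]),
  (14, [4, 8, 8]),
  (20, [8, 8, 0]),
  (29, [0, 9]),
  (11, [4, 2, 4, 2]),
  (25, [8, 2]),
  (22, [4, 0, 2, 6]),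
  (28, [4, 6, 8]),
  (14, [6, 9, 2, 9]),
  (28, [6, 8, 4, 9]),
  (22, [2, 6, 8, 2]),
  (23, [0, 9, 4, 0]),
  (29, [4, 0, 6, 8]),
  (7, [0, 2, 4]),
  (14, [4]),
  (29, [6, 8, 2]),
  (14, [0, 4, 8, 8]),
  (22, [8, 8, 4]),
  (28, [2, 6, 8, 2]),
  (22, [0, 4, 6]),
  (27, [4, 2]),
  (17, [2, 9, 4]),
  (24, [2, 9, 9]),
  (24, [0, 4, 8, 0]),
  (26, [0, 8]),
  (26, [4, 2, 4, 2]),
  (14, [9, 9]),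
  (29, [6, 8, 4]),
  (20, [4, 0]),
  (11, [6]),
  (28, [2, 4, 8, 0]),
  (22, [0, 2, 9]),
  (29, [8, 8, 4]),
  (28, [0, 4, 8, 2]),
  (18, [4, 6, 9]),
  (18, [2, 9]),
  (20, [0, 2, 4, 6]),
  (20, [2, 0]),
  (20, [9, 9]),
  (29, [6, 8, 4, 9]),
  (27, [0, 8]),
  (28, [0, 9]),
  (20, [0, 4, 8, 0]),
  (18, [2, 9, 4]),
  (27, [2, 9, 4, 2]),
  (25, [0, 2, 4]),
  (22, [9, 2, 9]),
  (22, [4, 6]),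
  (16, [0, 6, 8]),
  (14, [2, 4, 2]),
  (25, [8, 8]),
  (29, [2, 8]),
  (14, [4, 0, 4, 6]),
  (26, [2, 9, 4]),
  (24, [0, 8, 8]),
  (22, [4, 2]),
  (22, [0, 6, 8]),
  (13, [6]),
  (11, [2, 4, 2, 9]),
  (28, [2, 0, 8]),
  (28, [2, 4, 2, 6]),
  (29, [4, 8, 4]),
  (29, [8]),
  (7, [4, 2, 4]),
  (14, [2, 6]),
  (14, [0, 6, 8, 8]),
  (23, [6]),
  (29, [0, 8]),
  (14, [0, 2, 0, 6]),
  (11, [2, 6, 9]),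
  (22, [4, 0, 8]),
  (28, [2, 9, 9]),
  (21, [0]),
  (26, [6, 8, 8]),
  (24, [2, 4]),
  (26, [2, 0, 6]),
  (28, [8, 2, 4]),
  (21, [6, 8, 8]),
  (25, [4, 8, 0]),
  (28, [8, 0, 9]),
  (22, [2, 8, 4]),
  (21, [6, 8]),
  (24, [4]),
  (22, [8, 2, 8]),
  (21, [0, 8]),
  (29, [2, 9]),
  (14, [6, 9, 9, 2]),
  (11, [8, 8]),
  (19, []),
  (19, [0, 6, 9]),
  (11, [0, 9, 9, 0]),
  (22, [4, 9]),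
  (29, [4]),
  (25, [4, 8, 2]),
  (25, [0, 9, 4, 2]),
  (28, [2, 9, 9, 2]),
  (14, [0, 6, 8, 4]),
  (20, [8, 4]),
  (27, [8, 0, 9]),
  (14, [4, 2, 9]),
  (19, [0, 6]),
  (19, [8]),
  (11, [0, 9, 4]),
  (20, [0, 6]),
  (20, [0, 9, 4, 2]),
  (27, [0, 4, 8]),
  (27, [9, 4, 2, 8]),
  (27, [0, 2, 9, 9]),
  (20, [2]),
  (7, [0, 4, 2, 6]),
  (23, [0, 9, 9]),
  (23, [0, 8, 8]),
  (13, [9, 4]),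
  (7, [0, 2, 6]),
  (24, [2, 9, 4, 0]),
  (26, [0, 6]),
  (24, [0, 2, 4]),
  (20, [0, 2, 0, 6]),
  (20, [2, 9, 9, 2]),
  (28, [0, 2, 4, 2, 6]),
  (20, [9, 2, 9]),
  (27, [0, 9, 9]),
  (27, [6]),
  (22, [6, 9, 2]),
  (27, [0, 6, 8, 8]),
  (27, [0, 2, 4]),
  (27, [4, 8]),
  (20, [4, 2, 9]),
  (20, [0, 4, 0]),
  (28, [0, 9, 9]),
  (22, [0, 4, 8, 0]),
  (26, [0, 4, 6, 9]),
  (26, [2, 9, 9, 0]),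
  (29, [2, 6, 8, 8]),
  (20, [6, 8, 0]),
  (27, [9, 4]),
  (23, [0]),
  (26, [0, 2, 9]),
  (29, [2, 6, 9, 9]),
  (29, [2, 0, 6]),
  (28, [0, 2, 9, 4]),
  (22, [0, 8, 8]),
  (24, [4, 8, 2]),
  (14, [4, 6, 8, 8]),
  (29, [8, 2, 4]),
  (22, [2, 6, 8]),
  (21, [6, 8, 4]),
  (21, [0, 4]),
  (23, [0, 4, 2]),
  (7, [2, 9, 4]),
  (28, [6, 9, 9]),
  (29, [0, 9, 4]),
  (8, [4]),
  (7, [0, 2, 0]),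
  (14, [6, 8, 0, 9]),
  (15, [0, 8]),
  (23, [9, 4]),
  (27, [9, 9, 0]),
  (24, [0, 6, 9]),
  (26, [0, 4, 2, 9]),
  (28, [0, 4, 8]),
  (20, [4, 8, 0]),
  (22, [0]),
  (22, [4, 2, 0]),
  (16, [6, 9]),
  (23, [9, 9]),
  (26, [2, 8, 8]),
  (26, [0, 9, 9]),
  (14, [0]),
  (29, [6, 9]),
  (27, [0, 4, 0, 9]),
  (28, [0, 4, 9]),
  (20, [0, 2, 0]),
  (22, [0, 9, 9]),
  (20, [0, 4, 6]),
  (22, [0, 2, 0]),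
  (27, [9, 9, 2]),
  (28, [2, 9, 4]),
  (24, [9]),
  (24, [4, 2, 8]),
  (16, [0, 6, 9]),
  (25, [0, 9, 9]),
  (27, [2, 9]),
  (20, [9, 9, 0]),
  (27, [4, 0, 9]),
  (14, [8, 8]),
  (29, [6, 8, 0, 9]),
  (16, [9]),
  (26, [8, 8, 8]),
  (26, [0, 2, 4, 2]),
  (26, [4, 0, 2]),
  (24, [8, 0]),
  (26, [8, 2, 4]),
  (16, [6, 8, 2]),
  (24, [2, 4, 6]),
  (14, [0, 4, 8]),
  (18, [9]),
  (7, [2, 4, 2, 9]),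
  (28, [2, 4, 6]),
  (22, [0, 6, 8, 2]),
  (20, [2, 0, 8]),
  (27, [6, 8, 2]),
  (29, [2, 0, 4, 6]),
  (29, [2, 8, 2]),
  (17, [9]),
  (23, [2, 4]),
  (14, [4, 8]),
  (14, [2, 4, 2, 4, 6]),
  (28, [6, 8, 8, 4]),
  (28, [0, 2, 4, 6]),
  (11, [4, 2, 4]),
  (22, [6, 8]),
  (22, [6, 9]),
  (25, [8]),
  (28, [0, 4, 6]),
  (22, [0, 6, 9]),
  (23, [0, 4, 8]),
  (29, [4, 0, 6, 9]),
  (14, [0, 2, 4]),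
  (27, [0, 8, 8, 0, 4]),
  (20, [4, 0, 6]),
  (14, [8]),
  (19, [8, 8]),
  (7, [2, 6, 9]),
  (14, [4, 9, 9]),
  (29, [4, 2, 6, 8]),
  (29, [4, 2, 4, 6]),
  (19, [0, 6, 8]),
  (28, [0, 6]),
  (22, [0, 6, 9, 4]),
  (23, [0, 4, 0, 9]),
  (21, [0, 9]),
  (21, [6]),
  (23, [2, 8, 2]),
  (29, [0, 4, 6, 8, 0]),
  (28, [6, 8]),
  (7, [8, 8]),
  (7, [0, 9, 9, 0]),
  (14, [0, 2, 4, 2]),
  (22, [2, 6, 9, 9]),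
  (22, [4, 2, 4]),
  (23, [0, 4, 0]),
  (24, [6, 9, 0]),
  (24, [0, 2, 4, 2]),
  (26, [2, 4, 2]),
  (26, [0, 4, 8]),
  (26, [0, 2, 6]),
  (24, [9, 2]),
  (11, [0, 4, 2, 6]),
  (25, [4, 2, 4, 2]),
  (17, [2, 4, 6]),
  (11, [0, 2, 6]),
  (27, [2, 0, 8]),
  (20, [0, 9, 4]),
  (27, [4, 2, 8, 8]),
  (24, [0, 6, 8, 2]),
  (24, [0, 4, 8]),
  (14, [0, 4, 6, 8, 8]),
  (24, [0, 9, 4]),
  (26, [0, 2, 4, 6]),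
  (26, [8, 2, 9, 4]),
  (29, [8, 2]),
  (26, [8, 4, 9]),
  (26, [9]),
  (26, [6, 8, 2]),
  (24, [8, 8, 0, 4]),
  (24, [2, 8, 4]),
  (14, [0, 4, 0]),
  (29, [6, 9, 4, 0]),
  (20, [0, 6, 8]),
  (20, [0, 2, 4]),
  (28, [2, 4, 8]),
  (24, [0, 6]),
  (26, [0, 4, 2]),
  (25, [0, 4, 0]),
  (20, [2, 8, 4]),
  (28, [4, 9]),
  (14, [0, 4, 8, 2]),
  (29, [0, 6, 9, 9]),
  (27, [0, 9]),
  (22, [4, 0, 6, 9]),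
  (28, [2, 0, 6, 8, 8]),
  (29, [9, 2]),
  (19, [8, 4]),
  (19, [0, 4, 6]),
  (25, [4, 8, 8, 0]),
  (11, [2, 9, 4]),
  (14, [0, 2, 6]),
  (28, [2, 4, 0, 4, 6]),
  (12, [0, 8]),
  (11, [0, 2, 0]),
  (22, [4, 6, 8]),
  (6, [4]),
  (25, [4, 6]),
  (26, [0, 9]),
  (27, [4, 2, 0]),
  (20, [0, 4, 8]),
  (14, [2, 9, 0]),
  (24, [2, 8, 8]),
  (29, [0, 6, 8, 8]),
  (18, [4, 9]),
  (25, [4, 0]),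
  (20, [4, 8, 8]),
  (20, [8, 2, 8]),
  (22, [2, 8, 2]),
  (28, [8, 4, 9]),
  (26, [0, 2, 4]),
  (14, [9, 2]),
  (24, [0, 8, 2]),
  (29, [0, 6]),
  (24, [0, 9, 9]),
  (29, [6, 8, 2, 8]),
  (26, [2, 8, 2]),
  (14, [2, 0, 8, 2]),
  (27, [0, 4, 8, 2]),
  (27, [2, 8, 2]),
  (7, [0, 9, 4]),
  (26, [0, 2, 0, 4]),
  (24, [2, 9, 4, 2]),
  (26, [2, 6, 8]),
  (22, [4, 8, 0]),
  (25, [8, 2, 9, 4]),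
  (11, [2, 4, 8]),
  (18, [2, 4, 6]),
  (20, [4, 2, 4, 2]),
  (27, [0, 2, 9, 4, 2]),
  (27, [8, 0]),
  (22, [4, 0, 4]),
  (11, [4, 2, 9]),
  (27, [4, 8, 8]),
  (20, [0, 2, 4, 2]),
  (17, [4, 9]),
  (27, [9]),
  (27, [4, 2, 6]),
  (20, []),
  (20, [2, 4]),
  (24, [0, 4, 9]),
  (28, [0, 2, 9, 9]),
  (13, [2, 0]),
  (24, [4, 8, 8, 0]),
  (24, [6, 9, 9]),
  (16, [4, 8]),
  (26, [0, 8, 2, 4]),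
  (26, [4, 0, 4]),
  (29, [0, 4, 6]),
  (24, [0, 4, 0, 9]),
  (14, [0, 2, 4, 6]),
  (29, [4, 2, 8]),
  (25, [0, 4, 2, 9]),
  (14, [4, 2, 8]),
  (26, [4, 2, 4]),
  (11, [2, 8, 8]),
  (22, [6, 8, 0, 4]),
  (28, [2, 6, 8, 8]),
  (7, [0]),
  (22, [0, 4, 2, 6, 9]),
  (28, [2, 6]),
  (7, [0, 9, 9]),
  (14, [2]),
  (26, [9, 0]),
  (23, [4, 2, 9]),
  (23, [8, 2]),
  (29, [4, 6, 8, 4]),
  (24, [2, 6, 9, 4]),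
  (7, [2]),
  (23, [4, 8, 2]),
  (24, [6, 8]),
  (26, [0, 9, 4]),
  (27, [0]),
  (25, [4, 2, 9]),
  (22, [9, 9]),
  (26, [2, 0, 8]),
  (24, [0, 9, 9, 0]),
  (24, [0, 4, 0]),
  (26, [4, 8]),
  (26, [0, 4, 0, 9, 9]),
  (26, [4, 2, 4, 8]),
  (24, [2, 4, 2]),
  (24, [4, 2, 8, 2]),
  (25, [9, 9, 2]),
  (26, [0, 8, 8]),
  (20, [2, 9, 4]),
  (11, [2, 4, 0]),
  (28, [8, 4]),
  (24, [4, 0, 2]),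
  (13, [2, 6]),
  (26, [8, 2]),
  (26, [4, 2]),
  (11, [2, 9]),
  (24, [2, 9]),
  (16, [0, 4]),
  (17, [2, 6]),
  (8, [0, 4]),
  (7, [2, 4]),
  (18, [2, 6]),
  (15, [8]),
  (23, [0, 8, 8, 8]),
  (22, [9, 0]),
  (29, [4, 8, 0]),
  (17, [2, 4, 0, 6]),
  (17, [2, 4, 0]),
  (14, [2, 4, 0, 6]),
  (18, [2, 4, 0, 6]),
  (18, [2, 4, 0]),
  (20, [0, 2, 4, 8]),
  (24, [4, 2, 4]),
  (26, [0, 4, 9]),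
  (28, [0, 8]),
  (21, []),
  (21, [0, 6, 9]),
  (7, [0, 4, 9]),
  (28, [4, 9, 9]),
  (27, [2, 0]),
  (22, [9, 9, 2]),
  (23, [4, 0, 4, 2]),
  (27, [4, 2, 4]),
  (20, [0, 4, 0, 6]),
  (20, [8, 8, 4]),
  (20, [4, 0, 8]),
  (27, [4, 8, 8, 0]),
  (7, [2, 8, 2]),
  (14, [9, 9, 2]),
  (29, [2, 6, 9]),
  (27, [0, 9, 4, 0]),
  (29, [0, 6, 9]),
  (14, [9, 2, 9]),
  (27, [8, 2]),
  (27, [4, 8, 0, 4]),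
  (20, [6, 8]),
  (20, [6, 8, 4]),
  (20, [2, 4, 0]),
  (20, [0]),
  (27, [9, 4, 0]),
  (29, [2, 0]),
  (14, [0, 6, 8, 2]),
  (25, [0, 4, 2]),
  (25, [9, 9]),
  (24, [6, 8, 0]),
  (24, [4, 8, 0]),
  (26, [0, 9, 4, 0]),
  (26, [2, 9, 9]),
  (14, [0, 2, 0]),
  (29, [0, 6, 8]),
  (27, [6, 8, 8]),
  (22, []),
  (26, [6, 8, 4]),
  (24, [2, 0, 8]),
  (25, [4, 0, 4]),
  (20, [4, 6, 9]),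
  (28, [0, 2, 4, 8]),
  (11, [2, 8]),
  (29, [0, 6, 9, 4]),
  (14, [8, 0, 9]),
  (14, [6, 9]),
  (27, [4, 8, 0]),
  (29, [0, 2]),
  (20, [0, 4]),
  (11, [0, 6, 9]),
  (22, [4, 8, 8]),
  (25, [9, 4, 0]),
  (28, [0, 4, 2, 9]),
  (25, [9, 9, 0]),
  (28, [8, 8, 8]),
  (22, [2]),
  (24, [4, 2, 9]),
  (24, [4, 9, 9]),
  (28, [9]),
  (7, [0, 9, 4, 0]),
  (23, [0, 4]),
  (11, [9]),
  (25, [0]),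
  (27, [4, 2, 8]),
  (14, [0, 4, 0, 6, 9]),
  (7, [9, 9]),
  (28, [0, 2, 4, 6, 8]),
  (11, [0, 2, 4, 8]),
  (25, [8, 2, 9]),
  (20, [4, 0, 4]),
  (27, [4, 2, 9]),
  (26, [2, 6]),
  (19, [6, 8, 4]),
  (19, [0, 4]),
  (25, [4, 2, 6]),
  (26, [0, 8, 4]),
  (13, [2, 4]),
  (13, [2, 4, 6]),
  (24, [9, 9]),
  (16, [8]),
  (16, [6, 8]),
  (11, [0, 9, 4, 0]),
  (24, [4, 9]),
  (25, [8, 2, 8]),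
  (26, [6, 8]),
  (11, [2, 0]),
  (22, [0, 6, 9, 4, 0]),
  (28, [6]),
  (6, [0]),
  (12, [0, 6]),
  (15, [4]),
  (28, [0, 4, 6, 9]),
  (23, [0, 6]),
  (8, [0, 8]),
  (22, [0, 6, 9, 9]),
  (26, [2, 6, 9, 9]),
  (24, [0, 4, 8, 8]),
  (29, [2, 8, 8]),
  (22, [6, 8, 8]),
  (26, [8, 2, 9]),
  (26, [6]),
  (28, [0, 6, 9, 4]),
  (24, [2, 8, 2]),
  (14, [4, 0, 8]),
  (29, [0, 2, 0, 4, 6]),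
  (24, [2, 4, 8]),
  (11, [9, 4, 2]),
  (26, [0, 8, 8, 0]),
  (24, [0, 2, 4, 6]),
  (29, [4, 2, 6]),
  (24, [2, 4, 0]),
  (14, [8, 4]),
  (24, [0, 9]),
  (26, [0, 9, 9, 0]),
  (26, [0]),
  (27, [2, 8, 8]),
  (20, [2, 6]),
  (23, []),
  (20, [0, 2]),
  (27, [8, 0, 4]),
  (24, [0, 4, 8, 2]),
  (23, [8, 8, 0]),
  (20, [0, 4, 0, 9, 9]),
  (27, [4, 9]),
  (26, [2, 0, 8, 2]),
  (23, [0, 9, 9, 0]),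
  (7, [2, 4, 8]),
  (24, [0, 2, 9]),
  (24, [4, 8]),
  (14, [0, 4, 0, 9]),
  (7, [4, 2, 9]),
  (24, [0, 2, 0, 4]),
  (26, [8, 8, 0, 4]),
  (24, [8, 2]),
  (24, [2, 8]),
  (26, [2, 4]),
  (26, [2, 4, 2, 4]),
  (20, [0, 4, 2]),
  (29, [0, 6, 9, 4, 0]),
  (17, [6, 8]),
  (27, [2]),
  (27, [2, 4, 8]),
  (18, [6, 8]),
  (20, [2, 4, 2, 9]),
  (20, [6, 9]),
  (28, [4, 8]),
  (22, [2, 6, 8, 4]),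
  (28, [2, 6, 9, 9]),
  (7, [2, 8, 8]),
  (22, [4, 0, 2]),
  (23, [2, 9]),
  (29, [4, 2, 9]),
  (14, [2, 0, 4, 6]),
  (11, [0]),
  (29, [2, 8, 4]),
  (14, [4, 0, 6]),
  (11, [0, 9, 9]),
  (22, [8]),
  (20, [0, 8, 2, 4]),
  (25, [9, 2]),
  (25, [0, 4, 8, 2]),
  (28, [8, 8, 4]),
  (27, [4, 9, 9]),
  (11, [2]),
  (25, [0, 8, 2]),
  (27, [4, 0, 2]),
  (20, [6, 8, 8]),
  (26, [9, 4, 2]),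
  (7, [2, 4, 0]),
  (29, [6]),
  (27, [4]),
  (20, [4, 0, 2, 6]),
  (20, [2, 4, 2]),
  (20, [0, 4, 0, 9]),
  (27, [2, 4, 0, 4]),
  (27, [2, 8]),
  (7, [2, 9]),
  (20, [8, 2, 9]),
  (24, [8, 0, 9]),
  (23, [0, 9, 4, 2]),
  (14, [0, 8]),
  (23, [2, 8, 8]),
  (27, [0, 2, 9, 4]),
  (16, [0]),
  (12, [8]),
  (11, [2, 4]),
  (13, [9]),
  (6, [0, 4]),
  (25, [0, 2, 4, 8]),
  (29, [6, 8, 0]),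
  (28, [6, 8, 8, 0]),
  (16, [9, 9]),
  (16, [6, 9, 9]),
  (22, [0, 4, 6, 9]),
  (13, [2, 9]),
  (13, [2, 6, 9]),
  (24, [4, 8, 8]),
  (27, [8, 8, 0, 4]),
  (20, [0, 8]),
  (14, [0, 8, 2]),
  (19, [6]),
  (19, [0, 9]),
  (11, [0, 4, 9]),
  (14, [0, 8, 8, 0]),
  (26, [4, 2, 9]),
  (29, [2, 6]),
  (25, [4, 2]),
  (24, [8, 4]),
  (11, [2, 8, 2]),
  (22, [0, 9, 4]),
  (28, [0]),
  (26, [8, 8]),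
  (28, [2, 4, 0]),
  (22, [4, 8, 4]),
  (26, [2, 6, 9, 4]),
  (26, [2, 4, 0]),
  (24, [6]),
  (24, [4, 6]),
  (24, [4, 0, 9]),
  (24, [9, 0]),
  (26, [8, 8, 4]),
  (28, [4, 6, 9]),
  (22, [6, 9, 9, 2]),
  (7, [9, 4, 2]),
  (7, [0, 2, 9]),
  (27, [0, 6, 8]),
  (27, [8]),
  (20, [0, 4, 8, 2]),
  (20, [4, 9, 9]),
  (22, [0, 9]),
  (28, [0, 4]),
  (26, [2, 6, 9]),
  (29, [6, 8, 8]),
  (20, [6, 9, 2]),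
  (27, [0, 8, 8, 8]),
  (7, [2, 8]),
  (24, [2, 4, 0, 9]),
  (14, [2, 9]),
  (23, [2, 9, 9]),
  (28, [2, 4, 0, 4]),
  (22, [4, 8]),
  (22, [6, 8, 2, 9]),
  (26, [2, 4, 0, 4]),
  (28, [6, 9, 0]),
  (24, [4, 0, 8]),
  (23, [0, 9, 4]),
  (29, [6, 9, 9, 2]),
  (7, [0, 6, 9]),
  (14, [8, 0]),
  (7, [0, 4, 6]),
  (14, [0, 2, 9]),
  (29, [4, 6, 8, 8]),
  (27, [2, 9, 4]),
  (27, [2, 0, 8, 8]),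
  (14, [9, 0]),
  (23, [4]),
  (7, [9]),
  (26, [0, 6, 9]),
  (22, [4, 0, 4, 6]),
  (11, [9, 9]),
  (14, [2, 6, 9]),
  (23, [2, 4, 0]),
  (7, [0, 2, 4, 8]),
  (24, [2, 6]),
  (26, [2, 0, 4]),
  (20, [4, 6]),
  (21, [0, 4, 6]),
  (21, [8, 4]),
  (7, [2, 0]),
  (20, [9]),
  (17, [4, 6, 8]),
  (17, [4, 8]),
  (27, [2, 4, 2, 4]),
  (18, [4, 6, 8]),
  (18, [4, 8]),
  (27, [4, 8, 2]),
  (20, [8, 4, 9]),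
  (23, [9, 4, 2]),
  (29, [4, 9]),
  (14, [4, 0, 2, 6]),
  (8, [0]),
  (15, [0, 6]),
  (6, [0, 8]),
  (14, [6, 9, 2]),
  (25, [0, 9]),
  (12, [4]),
  (29, [0]),
  (20, [2, 0, 8, 2]),
  (27, [6, 8]),
  (28, [2, 4, 6, 8]),
  (29, [9, 9]),
  (20, [4, 8, 8, 0]),
  (20, [4, 2, 6]),
  (14, [0, 6, 9]),
  (27, [4, 6]),
  (22, [0, 4, 2]),
  (28, [2, 8]),
  (27, [0, 9, 4, 2]),
  (23, [2]),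
  (20, [2, 8, 8]),
  (27, [2, 4, 2, 9]),
  (28, [8, 2]),
  (27, [4, 0, 9, 9]),
  (22, [0, 4, 0]),
  (27, [0, 8, 2]),
  (20, [8, 0, 9]),
  (20, [4, 2, 0]),
  (26, [0, 4, 0, 9]),
  (24, [6, 9, 2]),
  (25, [0, 4]),
  (24, [4, 8, 4]),
  (26, [4, 9, 9]),
  (27, [2, 6]),
  (25, [4, 0, 4, 2]),
  (20, [0, 4, 9]),
  (22, [4, 2, 4, 6]),
  (28, [0, 6, 8]),
  (23, [2, 4, 8, 8]),
  (23, [9, 4, 2, 8]),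
  (20, [4, 0, 2]),
  (29, [0, 2, 0, 6]),
  (29, [8, 8]),
  (20, [4, 0, 6, 8]),
  (27, [2, 4, 0, 9]),
  (11, [9, 4]),
  (20, [2, 9, 9]),
  (27, [8, 2, 8]),
  (27, [4, 0, 4, 2]),
  (20, [0, 9]),
  (28, [6, 8, 8, 8]),
  (26, [6, 8, 0]),
  (16, [4, 6, 8]),
  (22, [2, 6]),
  (24, [0, 8, 4]),
  (13, [2, 0, 6]),
  (20, [8, 2, 9, 4]),
  (27, [0, 2, 9]),
  (26, [2, 4, 8]),
  (23, [0, 4, 8, 0]),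
  (7, [2, 0, 4]),
  (28, [9, 9]),
  (24, []),
  (22, [2, 8]),
  (25, [4, 9]),
  (11, [4]),
  (22, [2, 6, 9]),
  (28, [6, 8, 8]),
  (24, [0, 2]),
  (27, [8, 8]),
  (20, [4, 9]),
  (28, [0, 4, 6, 8]),
  (22, [6, 8, 2, 8]),
  (26, [0, 4, 6]),
  (22, [0, 6]),
  (28, [6, 8, 2, 4]),
  (26, [4, 0, 8]),
  (24, [2, 6, 9]),
  (26, [0, 2, 4, 8]),
  (24, [4, 0, 4]),
  (29, [8, 2, 9]),
  (25, []),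
  (24, [2, 9, 4]),
  (24, [8, 8, 0]),
  (28, [2, 8, 8]),
  (22, [8, 0, 4]),
  (26, [0, 6, 9, 4]),
  (20, [9, 4, 0]),
  (27, [0, 2, 4, 2]),
  (24, [8]),
  (23, [9, 9, 2]),
  (7, [0, 6]),
  (7, [4, 8]),
  (14, [0, 4, 6, 8]),
  (11, [9, 0]),
  (26, [4, 2, 0]),
  (26, [9, 4]),
  (26, [8, 0, 9]),
  (11, [0, 2, 9]),
  (23, [4, 0, 4]),
  (6, [4, 2]),
  (12, [9]),
  (29, [4, 8]),
  (15, [0, 4]),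
  (18, [2]),
  (28, [2, 6, 9, 4]),
  (14, [2, 4, 6]),
  (8, [8]),
  (17, [2]),
  (22, [0, 2, 0, 6]),
  (20, [4, 0, 9]),
  (8, [4, 2]),
  (7, [0, 4, 0]),
  (14, [2, 4, 0]),
  (15, [9]),
  (23, [8, 8, 8]),
  (29, [4, 6, 8, 0]),
  (29, [4, 0, 4]),
  (22, [2, 6, 8, 8]),
  (26, []),
  (28, [6, 9]),
  (24, [9, 4, 2]),
  (14, [0, 8, 4]),
  (14, [9]),
  (24, [9, 2, 9]),
  (26, [2, 4, 2, 9]),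
  (25, [0, 4, 8, 8]),
  (26, [4, 8, 8]),
  (27, [8, 2, 9, 4]),
  (14, [2, 0, 6, 8]),
  (29, [4, 6]),
  (29, [0, 2, 6]),
  (11, [8, 2]),
  (24, [4, 2, 6]),
  (27, [0, 2]),
  (20, [2, 9, 4, 2]),
  (24, [2, 4, 8, 0]),
  (26, [8, 2, 8]),
  (27, []),
  (29, [8, 0, 9]),
  (29, [4, 0, 4, 6]),
  (14, [2, 0, 8]),
  (27, [2, 9, 4, 0]),
  (14, [2, 9, 4, 0]),
  (29, [0, 4, 2, 6]),
  (20, [2, 0, 4]),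
  (20, [6, 8, 8, 8]),
  (7, [2, 6]),
  (20, [0, 2, 0, 4]),
  (27, [4, 2, 8, 2]),
  (27, [0, 8, 4]),
  (23, [0, 4, 8, 8]),
  (14, [2, 0, 6, 8, 2]),
  (22, [0, 4, 9]),
  (22, [4, 0]),
  (22, [0, 6, 8, 8]),
  (23, [8, 8]),
  (7, [8, 2]),
  (22, [0, 4, 2, 9]),
  (28, [2]),
  (24, [9, 4]),
  (26, [2]),
  (29, [4, 0, 6]),
  (14, [4, 9]),
  (27, [2, 4, 2, 6]),
  (26, [4, 6, 9]),
  (20, [6, 9, 4]),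
  (24, [2, 4, 8, 4]),
  (24, [0, 6, 8]),
  (26, [8, 0, 4]),
  (22, [2, 9]),
  (25, [9, 2, 9]),
  (28, [8, 8]),
  (11, [0, 9]),
  (7, [9, 4]),
  (22, [0, 9, 4, 0]),
  (24, [2, 9, 0]),
  (28, []),
  (24, [0, 2, 6]),
  (26, [4, 9]),
  (29, [0, 4, 2]),
  (14, [2, 6, 9, 4, 0]),
  (28, [0, 4, 2, 6, 9]),
  (22, [4, 6, 8, 8]),
  (20, [2, 9, 4, 0]),
  (14, [0, 8, 8]),
  (24, [0, 8, 8, 0]),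
  (28, [8, 0, 4]),
  (28, [2, 0, 6, 8]),
  (22, [2, 0]),
  (22, [4, 2, 6]),
  (11, [2, 9, 0]),
  (27, [9, 9]),
  (25, [4, 2, 4]),
  (20, [4, 8]),
  (27, [0, 9, 9, 0]),
  (22, [9]),
  (28, [0, 2, 4]),
  (24, [4, 6, 9]),
  (24, [0, 8, 2, 4]),
  (26, [8]),
  (26, [0, 2]),
  (7, [0, 9]),
  (23, [8, 2, 8]),
  (28, [4, 6, 8, 2]),
  (22, [4, 0, 6]),
  (20, [0, 2, 6]),
  (12, [0]),
  (6, [0, 6]),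
  (14, [4, 0, 6, 8]),
  (29, [0, 2, 0, 4]),
  (24, [9, 9, 2]),
  (29, [6, 8]),
  (26, [8, 4]),
  (29, [4, 2]),
  (14, [6, 8, 4]),
  (25, [0, 2]),
  (11, [0, 8]),
  (22, [8, 8]),
  (28, [0, 9, 4]),
  (28, [9, 0]),
  (22, [8, 2, 9]),
  (28, [4, 8, 2]),
  (28, [0, 2, 6, 9, 4]),
  (22, [2, 8, 8]),
  (11, [0, 4, 6]),
  (25, [0, 8, 8, 0]),
  (26, [0, 2, 9, 4]),
  (14, [0, 2, 6, 9, 4]),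
  (27, [9, 2, 9]),
  (20, [8]),
  (28, [6, 8, 4]),
  (14, [4, 2, 6, 9]),
  (29, [2]),
  (26, [0, 2, 0]),
  (22, [6]),
  (26, [9, 9, 0]),
  (24, [4, 0]),
  (14, [0, 2, 6, 9]),
  (18, [8]),
  (29, [4, 8, 8]),
  (17, [8]),
  (25, [4, 8]),
  (11, [2, 0, 4]),
  (14, [0, 2]),
  (29, [6, 9, 2]),
  (7, [4]),
  (23, [0, 8, 2]),
  (26, [2, 9]),
  (24, [4, 2, 0]),
  (14, [2, 6, 9, 0]),
  (29, [4, 2, 4]),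
  (29, [0, 8, 8]),
  (14, [6, 8]),
  (20, [0, 8, 2]),
  (27, [2, 9, 9, 0]),
  (20, [2, 9, 0]),
  (27, [0, 4, 0]),
  (28, [2, 4, 6, 8, 0]),
  (7, [9, 0]),
  (14, [2, 0, 4]),
  (29, [4, 2, 6, 9]),
  (20, [8, 8]),
  (24, [2, 9, 9, 0]),
  (26, [4, 6]),
  (27, [9, 2]),
  (25, [4, 0, 2]),
  (11, [0, 6]),
  (11, [4, 8]),
  (22, [6, 9, 2, 9]),
  (23, [4, 0]),
  (25, [4]),
  (6, [8]),
  (13, [6, 9]),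
  (12, [0, 4]),
  (16, [0, 6]),
  (29, [8, 2, 8]),
  (24, [0, 6, 8, 4]),
  (11, [0, 4, 0]),
  (25, [4, 0, 9]),
  (28, [8, 8, 0]),
  (28, [6, 8, 0, 4]),
  (29, [0, 2, 0]),
  (20, [4, 2]),
  (14, [6, 9, 0]),
  (27, [0, 2, 4, 8]),
  (22, [2, 9, 9]),
  (27, [0, 4]),
  (20, [2, 9]),
  (20, [0, 2, 9, 9]),
  (26, [8, 0]),
  (22, [2, 0, 6]),
  (28, [8]),
  (27, [0, 4, 2, 9]),
  (27, [4, 2, 4, 8]),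
  (20, [2, 6, 8, 4]),
  (26, [2, 8, 8, 8]),
  (28, [0, 4, 6, 8, 2]),
  (24, [6, 8, 8]),
  (11, [2, 6]),
  (26, [9, 9, 2]),
  (25, [4, 2, 0]),
  (29, [0, 9, 9]),
  (29, [2, 6, 8, 4]),
  (14, [4, 0]),
  (27, [8, 8, 8]),
  (20, [4]),
  (28, [8, 0]),
  (22, [2, 0, 4]),
  (26, [4, 0]),
  (20, [6, 9, 0]),
  (24, [0, 2, 4, 8]),
  (27, [2, 4, 8, 0]),
  (27, [8, 2, 9]),
  (20, [2, 0, 6]),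
  (29, [4, 6, 8]),
  (14, [2, 4]),
  (29, [4, 6, 9]),
  (14, [4, 0, 2]),
  (27, [9, 4, 2]),
  (20, [9, 0]),
  (14, [6, 8, 0]),
  (29, [9, 9, 2]),
  (24, [8, 2, 8]),
  (27, [0, 4, 2]),
  (14, [4, 6, 8]),
  (29, [2, 0, 4]),
  (23, [8, 2, 9]),
  (26, [2, 8]),
  (7, [2, 9, 0]),
  (24, [8, 2, 9]),
  (26, [0, 4, 8, 2]),
  (27, [4, 2, 4, 2]),
  (20, [4, 2, 8]),
  (24, [4, 2, 8, 8]),
  (15, [0]),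
  (8, [0, 6]),
  (22, [0, 4, 2, 6]),
  (28, [2, 6, 8]),
  (27, [0, 4, 0, 9, 9]),
  (20, [9, 2]),
  (28, [6, 8, 2]),
  (22, [0, 4, 0, 6]),
  (7, [0, 8]),
  (23, [4, 2]),
  (29, [6, 9, 9]),
  (14, [0, 9]),
  (14, [0, 4, 6, 8, 2]),
  (7, [8, 0]),
  (20, [2, 8]),
  (22, [0, 2, 6]),
  (14, [0, 6, 8]),
  (20, [0, 6, 9]),
  (27, [2, 9, 9, 2]),
  (20, [0, 2, 9]),
  (23, [4, 8, 8, 0]),
  (27, [0, 4, 8, 8]),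
  (29, []),
  (20, [2, 9, 9, 0]),
  (27, [8, 4]),
  (11, [8, 0]),
  (28, [6, 8, 0]),
  (22, [2, 0, 4, 6]),
  (25, [4, 2, 8]),
  (11, [0, 4]),
  (24, [9, 9, 0]),
  (26, [9, 9]),
  (14, [4, 6, 9]),
  (29, [4, 0]),
  (24, [4, 6, 8, 8]),
  (12, [4, 2]),
  (6, [9]),
  (7, [0, 4]),
  (23, [2, 9, 4, 2]),
  (27, [2, 8, 8, 8]),
  (15, [4, 2]),
  (8, [9]),
  (7, [8]),
  (26, [4]),
  (11, [8, 2, 4]),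
  (20, [2, 6, 8]),
  (23, [4, 8, 8]),
  (24, [2, 4, 2, 9]),
  (25, [4, 8, 8]),
  (29, [0, 4, 0, 6]),
  (14, [4, 0, 9]),
  (27, [4, 0, 4]),
  (20, [8, 0]),
  (25, [0, 8, 8]),
  (11, [8]),
  (27, [2, 0, 8, 2]),
  (20, [4, 2, 4]),
  (26, [2, 9, 4, 0]),
  (22, [6, 9, 9]),
  (24, [0, 2, 0]),
  (27, [8, 8, 0]),
  (20, [0, 8, 4]),
  (7, [8, 2, 4]),
  (23, [2, 4, 2]),
  (28, [2, 9]),
  (22, [0, 2, 0, 4]),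
  (26, [0, 4]),
  (26, [0, 4, 2, 6]),
  (24, [0]),
  (24, [0, 2, 0, 6]),
  (26, [0, 4, 0]),
  (14, [4, 0, 6, 9]),
  (29, [0, 4, 0]),
  (26, [2, 9, 0]),
  (24, [4, 2]),
  (22, [0, 2, 0, 4, 6]),
  (28, [2, 6, 9])]

end Cfsg.Agent.Lib.Helper2.HNS
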