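import Cfsg.Agent.Lib.Helper2.HNDce3b
import Cfsg.Agent.Lib.Helper2.HNS.Ch8
set_option autoImplicit false
set_option maxRecDepth 1000000
set_option Elab.async false
open Cfsg.Agent.Lib.Helper2.HNDce
namespace Cfsg.Agent.Lib.Helper2.HNS

/-! # The entries of the row 8 and the covering of the 1408 points -/

/-- the entries of the row 8: the word `h`, the row `j`, the word `g₀`, the number of the coset equality -/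
def ent8 : List (List Nat × Nat × List Nat × Nat) := [
  ([0, 4, 2, 0], 6, [], 142),
  ([4, 3, 3, 0, 3, 0, 3, 4], 8, [], 145)]

/-- the covering of the points by the row 8: for the point `q`, the entry and the word in the generators of the subgroup -/
def cov8 : List (Nat × List Nat) := [
  (0, [6, 0, 6, 1, 6, 0, 6, 6, 6, 1, 6]),
  (0, [6, 0, 6, 0, 7, 0, 7, 0, 7]),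
  (0, [6, 0, 4, 6, 0, 6, 6, 6, 1, 6, 0, 6]),
  (0, [6, 4, 6, 4, 7, 4, 7]),
  (0, [6, 0, 4, 6, 1, 7, 1, 7, 1, 7]),
  (0, [6, 0, 4, 6, 6, 0, 6, 1, 6, 6]),
  (0, [6, 0, 4, 6, 6, 0, 7, 0, 6, 6]),
  (0, [6, 4, 6, 6, 6]),
  (0, [6, 0, 4, 6, 0, 4, 7, 1, 6, 3]),
  (0, [6, 6, 6, 6]),
  (0, [6, 0, 6, 6, 1, 6, 0, 7, 7]),
  (0, [6, 0, 6, 0, 6, 2, 7, 0]),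
  (0, [6, 0, 6, 6, 1, 7, 1, 6, 6]),
  (0, [6, 0, 6, 0, 6, 0, 6, 1, 7, 7, 1]),
  (0, [6, 0, 4, 6, 6, 0, 6, 1, 7, 7]),
  (0, [6, 0, 4, 6, 6, 0, 7, 0, 7, 7]),
  (0, [6, 1, 4, 6, 1, 4, 7, 2, 7]),
  (0, [6, 0, 4, 6, 1, 6, 6, 6, 1, 7, 1, 7]),
  (0, [6, 4, 6, 4]),
  (0, [7, 4, 7]),
  (0, [6, 0, 7, 7, 4, 7]),
  (0, [6, 0, 6, 1, 7, 0, 6, 1, 7]),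
  (0, [6, 4, 7, 4]),
  (0, [6, 0, 6, 1, 6, 6, 6, 0, 6, 1]),
  (0, []),
  (0, [6, 4, 6, 4, 6, 4, 6]),
  (0, [6, 0, 6, 0, 6, 2, 7]),
  (0, [6, 0, 4, 6, 0, 7, 1, 6, 0, 6]),
  (0, [6, 0, 6, 6, 1, 7, 3]),
  (0, [6, 0, 6, 6, 1, 6, 0]),
  (0, [6, 6, 0, 6, 3, 7]),
  (0, [6, 0, 6, 0, 7, 0, 6, 0, 6, 3]),
  (0, [6, 0, 6, 0, 7, 3, 7, 7, 1, 7]),
  (0, [6, 0, 6, 0, 6, 6, 6, 0, 7, 0, 7]),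
  (0, [6, 6, 1, 7, 1, 7]),
  (0, [6, 0, 6, 0, 6, 0, 7, 0, 6]),
  (0, [6, 1, 6, 0, 6, 1, 6, 6, 6]),
  (0, [6, 0, 6, 1, 7, 0, 6, 1, 6]),
  (0, [6, 1, 4, 6, 0, 6, 2, 7]),
  (0, [6, 0, 6, 0, 6, 6, 0, 6, 0, 7, 1, 6]),
  (0, [6, 4, 6, 0, 4]),
  (0, [7, 4, 7, 1]),
  (0, [6, 0, 4, 6, 6, 6]),
  (0, [6, 0, 6, 1, 6, 0, 6, 1, 7]),
  (0, [6, 2, 4]),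
  (0, [6, 0, 7, 7, 1, 6, 0, 6]),
  (0, [6, 0, 4, 6, 6, 0, 6, 3, 7]),
  (0, [6, 0, 4, 6, 6, 2, 7, 0, 7]),
  (0, [6, 0, 6, 2, 6, 6]),
  (0, [6, 0, 6, 3, 6, 6, 1]),
  (0, [6, 0, 7, 7, 0, 6, 1, 7]),
  (0, [6, 0, 6, 0, 6, 0, 7, 0, 7]),
  (0, [6, 4, 6, 1, 6, 1]),
  (0, [6, 1, 6, 0, 6, 6, 6, 1, 6]),
  (0, [6, 0, 6, 1, 6, 0, 7, 1, 6]),
  (0, [6, 0, 4, 6, 4]),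
  (0, [6, 0, 6, 1, 6, 0, 6, 1, 6, 1]),
  (0, [6, 0, 6, 0, 7, 2, 7]),
  (0, [6, 0, 4, 6, 1, 4, 7, 1, 7, 0, 7]),
  (0, [6, 0, 4, 6, 0, 6, 6, 6, 1, 6]),
  (0, [6, 0, 6, 0, 6, 0, 6, 6, 6, 0, 7]),
  (0, [6, 1, 6, 6, 0, 7]),
  (0, [6, 0, 6, 6, 1, 6]),
  (0, [6, 6, 0, 7, 1, 6]),
  (0, [6, 1, 6, 1, 6, 3, 7, 1, 7]),
  (0, [6, 6, 0, 6, 1, 7, 7]),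
  (0, [6, 4, 7, 4, 7]),
  (0, [7, 7, 7]),
  (0, [6, 4, 6, 4, 7, 4]),
  (0, [6, 1, 4, 7, 7, 7, 2]),
  (0, [6, 1, 4, 6, 4, 2]),
  (0, [6, 0, 6, 1, 6, 3, 7, 7]),
  (0, [6, 0, 6, 1, 6, 6, 6, 0, 6, 1, 6]),
  (0, [6, 0, 6, 6, 2]),
  (0, [6, 6, 1, 6, 1, 6]),
  (0, [6, 0, 6, 0, 7, 0, 6, 2, 7]),
  (0, [6, 6, 1, 7, 1, 6, 6]),
  (0, [6, 4, 6, 6]),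
  (0, [6, 0, 4, 7, 3, 6]),
  (0, [6, 0, 4, 6, 0, 4, 7, 1, 6, 1, 7]),
  (0, [6, 1, 7, 7]),
  (0, [6, 6, 1, 6, 1, 6, 6]),
  (0, [6, 4, 6, 1, 7, 1, 6, 6]),
  (0, [6, 6, 0, 7, 1, 6, 6]),
  (0, [6, 4, 6, 0, 6, 1, 7, 7]),
  (0, [6, 6, 0, 7, 0, 6]),
  (0, [6, 0, 6, 1, 6, 0, 6, 6, 6, 1]),
  (0, [6, 4, 6, 0, 7, 1, 7, 7]),
  (0, [6, 6, 1, 6, 0, 6]),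
  (0, [6, 0, 4, 6, 1, 7, 1, 7, 3]),
  (0, [6, 4, 6, 1, 6, 1, 7, 7]),
  (0, [6, 0, 7, 0, 7, 7]),
  (0, [6, 0, 6, 1, 7, 7, 1]),
  (0, [6, 0, 6, 6, 0, 7, 1, 6]),
  (0, [6, 1, 6, 0, 6, 1, 6, 6]),
  (0, [6, 0, 6, 1, 6, 0, 7, 3, 6]),
  (0, [6, 6, 1, 6, 1, 7, 7]),
  (0, [6, 6, 0, 7, 1, 7, 7]),
  (1, [6, 0, 6, 3]),
  (0, [6, 0, 4, 6, 0, 7, 1, 6]),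
  (0, [6, 0, 6, 3, 6, 6, 3, 6]),
  (0, [6, 0, 4, 6, 1, 7, 1, 7, 1]),
  (0, [6, 0, 6, 1, 7, 0, 7, 0, 6]),
  (0, [7, 1, 6, 0, 6, 1]),
  (0, [6, 6, 0, 7, 2, 6]),
  (0, [6, 1, 6, 0, 7, 1]),
  (0, [6, 6, 1, 6, 2, 6]),
  (0, [6, 0, 6, 1, 7, 0, 7, 2, 6]),
  (0, [7, 4]),
  (0, [6, 0, 7, 1, 7, 0, 6, 1, 7]),
  (0, [6, 4, 6, 4, 6, 6]),
  (0, [7, 1, 7, 7]),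
  (0, [6, 0, 6, 6, 0]),
  (0, [6, 1, 4, 7, 1, 6]),
  (0, [6, 1, 6, 1, 7, 1, 6, 2]),
  (0, [6, 0, 4, 7, 4]),
  (0, [6, 1, 6, 0, 6, 1, 6, 2, 6]),
  (0, [6, 4, 6, 4, 6, 1]),
  (0, [6, 0, 6, 6, 1, 7, 1, 6]),
  (0, [6, 1, 6, 6, 6, 3, 7]),
  (0, [6, 0, 6, 0, 6, 0, 6, 1, 7, 7, 1, 6]),
  (0, [6, 4, 6, 0, 7, 1]),
  (0, [6, 6, 6, 2, 4]),
  (0, [6, 0, 6, 6, 0, 7, 7]),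
  (0, [6, 0, 4, 7, 4, 6]),
  (0, [6, 6, 6, 1]),
  (0, [6, 1, 6, 6, 4, 6]),
  (0, [6, 0, 6, 0, 7, 2, 7, 0]),
  (0, [7, 7, 7, 1]),
  (0, [6, 1, 4, 7, 4]),
  (0, [6, 0, 4, 6, 0, 6, 6, 6, 1, 6, 0]),
  (0, [6, 0, 6, 6, 2, 7, 7]),
  (0, [6, 1, 4, 6, 6, 6, 0]),
  (0, [6, 1, 4, 7, 3, 4]),
  (0, [6, 0, 6, 3, 7, 3, 6, 6]),
  (0, [6, 0, 6, 2, 7, 0]),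
  (0, [6, 0, 6, 0, 7, 2, 7, 0, 7]),
  (0, [6, 0, 4]),
  (0, [7, 4, 7, 4, 7, 1]),
  (1, [6, 6]),
  (0, [6, 1, 6, 0, 6, 1, 7]),
  (0, [6, 1, 4, 6, 3, 4, 6]),
  (0, [6, 0, 4, 6, 0, 7, 1, 6, 0, 7, 7]),
  (0, [6, 0, 6, 0, 6, 0, 6, 6]),
  (0, [6, 0, 4, 6, 1, 4, 7, 3]),
  (0, [6, 1, 4, 6, 6, 6]),
  (0, [6, 0, 4, 6, 3, 4, 6, 3]),
  (0, [6, 4, 2, 7, 4]),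
  (0, [6, 0, 6, 0, 6, 2, 6, 6]),
  (0, [6, 0, 6, 6, 1, 6, 0, 6]),
  (0, [6, 0, 6, 0, 6, 0, 6, 2, 7]),
  (0, [6, 0, 6, 6, 1, 7, 1, 7, 7]),
  (0, [6, 4, 6, 1, 7, 3]),
  (0, [6, 4, 6, 0, 6, 1]),
  (0, [6, 0, 6, 1, 6, 6, 6]),
  (0, [6, 0, 6, 1, 7, 2, 7, 2]),
  (0, [6, 0, 4, 6, 3, 7]),
  (0, [6, 0, 4, 6, 0, 6, 6, 6, 1]),
  (0, [6, 0, 6, 0, 6, 0, 6, 0, 6, 3]),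
  (1, [7, 7]),
  (0, [6, 0, 6, 1, 6, 0, 6, 2, 7, 7]),
  (0, [6, 1, 4, 6, 6, 6, 2, 6]),
  (0, [6, 0, 6, 0, 7, 0, 7, 0]),
  (0, [6, 0, 6, 6, 1, 7, 3, 6]),
  (0, [6, 1, 6, 1, 7, 3, 7, 1, 7]),
  (0, [6, 0, 6, 6, 1, 6, 0, 6, 6]),
  (0, [6, 0, 4, 6, 0, 4, 7, 4]),
  (0, [7, 1, 6, 0, 6, 3, 6]),
  (0, [6, 0, 4, 6, 1, 7, 1, 7, 1, 6]),
  (0, [6, 0, 4, 6, 6, 0, 6, 1, 7]),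
  (0, [6, 1, 6, 0, 6, 1, 6, 0, 6]),
  (0, [6, 0, 7, 1, 6, 0, 7, 1, 7]),
  (0, [6, 1, 6, 3, 7, 3]),
  (0, [6, 4, 6, 1]),
  (0, [6, 0, 6, 1, 6, 0, 7, 1, 7]),
  (0, [6, 0, 4, 6, 6, 0, 7, 0, 7]),
  (0, [6, 0, 6, 0, 7, 0, 6, 1, 7]),
  (0, [6, 4, 6, 2, 4]),
  (0, [6, 0, 4, 6, 4, 3]),
  (0, [6, 0, 4, 7, 7, 7, 1]),
  (0, [6, 0, 7, 2, 7, 7]),
  (0, [6, 1, 4, 6, 2, 7]),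
  (0, [6, 0, 6, 6, 1, 7, 3, 7]),
  (0, [6, 0, 6, 0, 7, 0, 6, 3, 6]),
  (0, [6, 0, 4, 6, 6, 0, 7, 0, 6]),
  (0, [6, 0, 6, 3, 6, 6, 3]),
  (0, [6, 1, 6, 2, 6, 0, 6, 6]),
  (0, [6, 0, 6, 6, 1, 6, 0, 7]),
  (0, [6, 1, 6, 3, 7, 1]),
  (0, [6, 0, 4, 6, 6, 0, 6, 1, 6]),
  (0, [6, 6, 0, 6, 2, 7]),
  (0, [6, 0, 6, 0, 6, 0, 6, 3, 6, 6]),
  (0, [7, 1, 6, 0, 6, 3]),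
  (0, [7, 7, 1, 6, 0, 7]),
  (0, [6, 1, 6, 1, 7, 1, 7]),
  (0, [6, 0, 6, 1, 7, 2, 7, 2, 7]),
  (0, [6, 6, 6, 1, 6, 0, 7, 1]),
  (0, [6, 4, 6, 1, 6, 1, 6, 6]),
  (0, [6, 1, 4, 6, 2, 6, 6, 6]),
  (0, [6, 1, 4, 6, 4, 2, 7]),
  (0, [6, 0, 4, 7, 4, 7, 7, 1]),
  (0, [7]),
  (0, [6, 4, 6, 4, 6, 4]),
  (0, [6, 6, 0, 6, 1, 6, 6]),
  (0, [6, 0, 4, 6, 1, 4, 7, 1, 7, 0]),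
  (1, [1, 6, 6]),
  (0, [6, 0, 6, 0, 6, 2, 7, 0, 7]),
  (0, [6, 0, 6, 1, 6, 0, 6, 0, 7, 7]),
  (1, [1, 7, 7]),
  (0, [6, 0, 6, 0, 7, 0, 6, 0, 6, 1]),
  (0, [7, 1, 6, 0, 7, 1, 7]),
  (0, [6, 0, 6, 6, 4, 2]),
  (0, [6, 1, 4, 6, 6, 1]),
  (0, [6, 1, 4, 6, 3, 7]),
  (0, [7, 1, 6, 0, 7, 1, 6, 2]),
  (1, [7, 3]),
  (0, [6, 0, 4, 6, 1, 6, 6, 6, 1, 7, 1]),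
  (0, [6, 0, 4, 6, 0, 6, 6, 6, 3]),
  (0, [6, 0, 6, 0, 7, 2]),
  (0, [6, 6, 6, 1, 7]),
  (0, [6, 0, 6, 1, 7, 7, 3]),
  (0, [6, 1, 6, 1, 6, 6, 6]),
  (0, [6, 0, 6, 6, 0, 7, 3, 7]),
  (0, [6, 1, 6, 6, 3, 6, 6]),
  (0, [6, 0]),
  (0, [6, 0, 6, 0, 6, 6]),
  (0, [6, 0, 4, 7, 4, 3]),
  (0, [6, 0, 4, 6, 6, 6, 3]),
  (0, [6, 1, 4, 6, 0, 7]),
  (0, [6, 0, 6, 2, 7, 0, 7, 3, 6]),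
  (0, [6, 1, 6, 2, 6, 2, 6, 6]),
  (0, [6, 1, 6, 1, 6, 3]),
  (0, [6, 0, 6, 6, 1, 7, 1, 7]),
  (0, [6, 0, 7, 7, 1, 6, 0, 7]),
  (0, [6, 0, 4, 6, 0, 7, 1, 6, 0]),
  (0, [7, 1]),
  (0, [6, 0, 6, 6, 0, 6, 6]),
  (0, [6, 0, 6, 0, 7, 1, 6, 6]),
  (0, [6, 0, 4, 6, 1, 4, 7, 1, 7]),
  (0, [6, 1, 6, 0, 6, 6, 6]),
  (0, [6, 1, 6, 0, 7, 3, 6]),
  (0, [6, 0, 6, 6, 2, 7, 0, 7]),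
  (0, [6, 0, 6, 1, 7, 2, 7, 0]),
  (0, [6, 1, 7, 3, 6]),
  (0, [6, 0, 6, 6, 0, 6, 1, 6]),
  (0, [6, 1, 6, 6, 1, 6, 0]),
  (0, [6, 0, 4, 6, 6, 0, 6, 3]),
  (0, [6, 2, 4, 6, 0]),
  (0, [6, 1, 6, 3, 7, 7, 7]),
  (0, [6, 1, 4, 6, 2, 6, 0]),
  (0, [6, 0, 4, 6, 1, 7, 1, 7, 3, 7]),
  (1, [7, 3, 6, 1]),
  (0, [6, 0, 6, 0, 6, 6, 6, 2, 7]),
  (0, [6, 0, 7, 2, 7]),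
  (0, [6, 0, 6, 1, 6, 0, 6, 6, 6, 3]),
  (0, [6, 4, 6, 4, 6]),
  (0, [6, 1, 6, 0, 7, 1, 7, 0, 6]),
  (0, [6, 4, 7]),
  (0, [6, 1, 7, 1, 7, 0, 7, 7]),
  (0, [6, 0, 6, 2, 6, 2, 7]),
  (0, [6, 0, 4, 6, 0, 7, 1, 6, 0, 7]),
  (0, [6]),
  (0, [6, 0, 6, 0, 7, 0, 6, 0, 7]),
  (0, [6, 1, 6, 1, 6, 1, 6, 1, 6]),
  (0, [6, 0, 4, 6, 3, 6, 3]),
  (0, [6, 0, 7, 7, 1, 6]),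
  (0, [6, 0, 6, 0, 7, 0, 7, 0, 6]),
  (0, [7, 4, 7, 4, 7, 4]),
  (0, [6, 0, 6, 1, 7, 7, 7, 0]),
  (0, [6, 1, 6, 6, 2, 7]),
  (0, [6, 1, 6, 1, 7, 7]),
  (0, [6, 1, 6, 2, 7, 7, 0]),
  (0, [6, 1, 4, 6, 6, 6, 2]),
  (0, [6, 0, 4, 6, 1, 4, 7, 2]),
  (0, [7, 4, 7, 7]),
  (0, [6, 0, 6, 1, 6, 2, 6, 6]),
  (0, [6, 4, 7, 4, 7, 4]),
  (0, [6, 1, 4, 6, 3, 4]),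
  (0, [6, 0, 6, 2, 7, 7, 7]),
  (0, [6, 4, 6, 4, 7]),
  (0, [6, 0, 4, 6, 3, 6, 1]),
  (0, [6, 6, 6]),
  (0, [6, 1, 7, 7, 4, 7]),
  (0, [6, 0, 4, 6, 0, 4, 7, 1, 6]),
  (0, [6, 0, 4, 6, 1, 4, 7, 1]),
  (0, [6, 4, 2, 6, 4]),
  (0, [6, 0, 6, 1, 6, 6, 6, 2, 6]),
  (0, [6, 0, 6, 0, 7, 7, 7, 0]),
  (0, [6, 0, 6, 0, 7, 0]),
  (0, [6, 0, 6, 6, 2, 6, 6]),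
  (0, [6, 0, 6, 3, 6, 6, 1, 7]),
  (0, [6, 0, 6, 2, 6]),
  (0, [6, 1, 6, 1, 6, 6]),
  (0, [6, 0, 4, 6, 6, 2, 7, 0, 6]),
  (0, [6, 0, 4, 6, 6, 0, 6, 3, 6]),
  (0, [6, 0, 4, 6, 4, 7]),
  (0, [6, 0, 6, 0, 6, 6, 0, 6, 0, 7, 3]),
  (1, [6, 0, 6, 1]),
  (0, [6, 0, 6, 1, 7, 0, 6, 3, 6]),
  (0, [6, 0, 6, 0, 7, 2, 4, 7]),
  (1, [7, 1, 6, 2]),
  (0, [6, 0, 6, 1, 6, 0, 6, 1, 6, 3]),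
  (0, [6, 0, 6, 0, 6, 6, 6, 0, 7]),
  (0, [6, 6, 2, 6]),
  (0, [6, 6, 1, 7]),
  (0, [6, 0, 6, 6, 6, 3, 6]),
  (0, [6, 0, 6, 0, 7, 0, 6, 0]),
  (1, [7, 7, 0, 7]),
  (0, [6, 0, 6, 0, 7, 2, 4, 7, 0]),
  (0, [6, 1, 6, 0, 6, 3, 7, 7]),
  (0, [6, 1, 4, 6, 0, 6, 2]),
  (0, [6, 4, 6, 1, 7, 1, 6]),
  (0, [6, 1, 4, 6, 1, 4]),
  (0, [6, 0, 4, 6, 1, 6]),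
  (0, [6, 0, 6, 3, 7, 1, 7, 7]),
  (0, [6, 4, 6, 1, 6, 2, 6, 6]),
  (0, [6, 4, 6, 0, 6, 0, 7, 7]),
  (0, [6, 1, 4, 7, 7, 7, 0]),
  (0, [6, 1, 7, 3, 7, 7]),
  (0, [6, 1, 6, 2, 7, 7, 2]),
  (0, [6, 0, 4, 6, 1, 4, 7, 0]),
  (0, [6, 0, 6, 1, 6, 0, 6, 6]),
  (0, [6, 0, 6, 0, 7, 7, 7]),
  (0, [6, 0, 4, 6, 1, 7, 3]),
  (0, [6, 4]),
  (0, [7, 4, 7, 4, 7]),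
  (0, [6, 0, 6, 1, 6, 0, 7, 1]),
  (0, [6, 4, 6, 1, 7, 1, 7, 7]),
  (0, [6, 4, 6, 0, 6, 1, 6, 6]),
  (0, [6, 0, 6, 6, 0, 7, 0, 6]),
  (0, [6, 0, 6, 1, 7, 0, 7, 0, 6, 6]),
  (0, [6, 0, 7, 0, 6, 1, 7, 7]),
  (0, [6, 1, 6, 1, 7, 1, 6, 0]),
  (0, [6, 0, 4, 6, 2, 6]),
  (0, [6, 0, 6, 2, 6, 0, 7]),
  (0, [6, 0, 4, 7, 3, 7]),
  (0, [6, 0, 6, 1, 7, 7, 7, 3]),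
  (0, [6, 1, 6, 2, 6, 0, 6]),
  (0, [7, 7]),
  (0, [7, 1, 6, 2, 7, 7]),
  (0, [6, 0, 6, 0, 6, 1, 7, 7, 3]),
  (0, [6, 1]),
  (0, [6, 1, 6, 2, 6, 6, 0]),
  (0, [6, 4, 6, 6, 1]),
  (0, [6, 0, 6, 1, 7, 0, 6, 3]),
  (0, [6, 0, 4, 6, 0, 4, 7, 2]),
  (0, [6, 1, 6, 1, 6, 1, 6, 3]),
  (1, [6, 6, 0, 7]),
  (0, [6, 0, 6, 0, 6, 6, 6, 0, 7, 0]),
  (0, [6, 4, 6, 0, 6, 3, 6]),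
  (0, [6, 0, 4, 6, 1, 6, 6, 6, 1, 7, 3]),
  (0, [6, 6, 6, 1, 6, 0, 6]),
  (0, [7, 1, 6, 0, 6, 1, 6]),
  (0, [6, 1, 4, 6, 2, 7, 7]),
  (0, [6, 6, 0, 6, 6, 0]),
  (0, [6, 1, 6, 3, 7, 7, 1]),
  (0, [6, 4, 6, 0, 7, 1, 6, 6]),
  (0, [6, 0, 6, 0, 6, 0, 7, 0, 6, 6]),
  (0, [6, 1, 4, 6, 0, 6, 0]),
  (0, [6, 6, 0, 7, 7, 0]),
  (0, [6, 6, 6, 1, 6, 0, 6, 1, 6]),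
  (0, [6, 1, 4, 6, 1, 4, 7, 0, 7]),
  (0, [6, 0, 7, 7, 0, 7, 3, 7]),
  (0, [6, 1, 6, 1, 7]),
  (0, [6, 0, 6, 0, 7, 7]),
  (0, [7, 7, 1, 6, 2, 7]),
  (0, [6, 0, 4, 6, 1, 7, 1, 7, 3, 4]),
  (0, [6, 6]),
  (0, [6, 0, 6, 1, 6, 6, 3]),
  (0, [6, 6, 0, 6, 0, 7]),
  (0, [6, 0, 4, 6, 4, 2]),
  (0, [6, 1, 4, 6, 0, 4]),
  (0, [6, 1, 6, 1, 6, 6, 6, 1]),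
  (0, [6, 0, 6, 6, 4, 6, 0]),
  (0, [6, 1, 4, 7, 7, 7, 1]),
  (0, [6, 1, 4, 6, 0, 4, 6, 2]),
  (0, [6, 2, 4, 7, 4]),
  (0, [6, 0, 6, 6, 4, 6]),
  (0, [6, 1, 6, 0, 7, 3]),
  (0, [6, 0, 7, 7, 0, 7, 3, 6]),
  (0, [6, 0, 6, 0, 7]),
  (0, [6, 1, 6, 0, 7, 1, 7, 2, 6]),
  (0, [6, 0, 7, 0, 7]),
  (0, [6, 1, 6, 3, 6]),
  (0, [6, 0, 7, 7, 0, 7, 1, 6]),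
  (0, [6, 0, 6, 1, 6, 6, 1]),
  (0, [6, 4, 6]),
  (0, [6, 0, 6, 1, 7, 2, 7, 0, 7]),
  (0, [6, 1, 6, 1, 6]),
  (0, [6, 0, 6, 1, 6, 6, 3, 6]),
  (0, [6, 0, 6, 1, 7, 0, 7, 1, 7]),
  (0, [6, 0, 6, 1, 7, 7, 1, 6]),
  (0, [6, 0, 7, 0, 6, 6]),
  (0, [7, 4, 7, 4]),
  (0, [6, 0, 4, 6, 2, 4]),
  (0, [6, 0, 4, 6, 6, 6, 1]),
  (0, [6, 1, 4, 7, 0, 6]),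
  (0, [6, 1, 6, 6, 0, 6]),
  (0, [6, 0, 6, 6, 3, 6]),
  (0, [6, 1, 6, 1, 6, 1, 6, 3, 6]),
  (0, [6, 0, 6, 2, 7, 0, 7, 1, 7]),
  (0, [6, 2]),
  (0, [6, 1, 6, 0, 6, 0, 7, 7]),
  (0, [6, 0, 6, 0, 7, 0, 6, 0, 6]),
  (0, [6, 1, 6, 1, 6, 1]),
  (0, [6, 1, 6, 6, 1, 7, 7]),
  (0, [6, 1, 4, 6, 6, 6, 0, 6]),
  (0, [6, 1, 4, 7, 3, 4, 6]),
  (0, [6, 0, 4, 6, 4, 6, 6, 3]),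
  (0, [6, 1, 6, 1, 7, 1, 6, 1, 6]),
  (0, [6, 0, 6, 0, 6, 0, 6, 0, 7]),
  (0, [6, 6, 1]),
  (0, [6, 6, 6, 1, 6, 2, 6]),
  (0, [6, 0, 4, 6, 0, 4, 7, 0]),
  (0, [6, 4, 6, 0, 6, 1, 7]),
  (0, [6, 0, 6, 6, 0, 7, 2, 6]),
  (0, [6, 0, 6, 3, 7, 7, 7]),
  (0, [6, 4, 6, 1, 7, 3, 7]),
  (0, [6, 0, 7, 0]),
  (0, [6, 0, 7, 7, 0, 7, 3]),
  (0, [6, 0, 4, 6, 6, 2, 7, 0]),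
  (0, [6, 1, 4, 6, 0, 6, 0, 7]),
  (0, [6, 1, 4, 7, 7, 1, 6]),
  (0, [6, 0, 7, 7, 2, 6]),
  (0, [6, 6, 1, 6]),
  (0, [6, 6, 0, 7]),
  (0, [6, 1, 4, 6, 0, 6, 6, 6]),
  (0, [6, 1, 6, 1, 6, 1, 6, 1]),
  (0, [6, 0, 6, 0, 6, 0, 6, 1, 7, 7, 3]),
  (1, [0, 6, 6, 2, 6]),
  (0, [6, 1, 4, 6, 1, 4, 7]),
  (0, [6, 0, 6, 0, 7, 2, 6, 2]),
  (0, [6, 0, 6, 0, 6, 0, 7, 0]),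
  (1, [0, 7, 7, 2, 6]),
  (0, [6, 1, 4, 6, 3, 4, 6, 2]),
  (1, [7, 7, 1, 7]),
  (0, [6, 1, 6, 0, 6, 6, 6, 1]),
  (1, [6, 6, 1, 7]),
  (0, [6, 1, 6, 3, 7]),
  (0, [6, 0, 7, 7, 0, 7, 1, 7]),
  (0, [6, 1, 7, 7, 1, 7, 2]),
  (0, [6, 1, 6, 6, 3, 7, 3]),
  (0, [6, 2, 4, 6]),
  (0, [6, 1, 6, 1, 6, 3, 7, 3]),
  (0, [6, 0, 6, 0, 7, 2, 6, 0]),
  (0, [6, 1, 6, 6, 1, 7, 1]),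
  (0, [7, 7, 1, 6]),
  (0, [6, 0, 6, 0, 6, 6, 6, 2, 7, 0]),
  (0, [6, 0, 4, 7, 1]),
  (0, [6, 1, 6, 0, 6, 6, 2]),
  (0, [6, 1, 6, 3, 7, 7]),
  (1, [7, 2]),
  (0, [6, 0, 4, 7, 7, 7]),
  (0, [6, 2, 4, 6, 4]),
  (0, [6, 1, 6, 1, 7, 3, 6]),
  (0, [6, 1, 6, 0, 7, 1, 7, 2, 7]),
  (0, [6, 0, 6, 1, 7, 0, 7, 3, 7]),
  (0, [6, 1, 4, 6, 6, 3, 6]),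
  (0, [6, 0, 4, 6, 6, 0, 6]),
  (0, [6, 0, 6, 0, 6, 0, 6, 1, 7, 7]),
  (0, [6, 0, 4, 6, 3, 4]),
  (1, [6, 6, 0, 6]),
  (0, [6, 1, 6, 1, 7, 3, 7, 7]),
  (0, [6, 0, 4, 6, 6, 6, 2]),
  (1, [7, 7, 0, 6]),
  (0, [6, 1, 4, 6, 0, 4, 6, 0]),
  (0, [6, 1, 4, 7, 7, 1]),
  (0, [6, 1, 7, 1, 6]),
  (0, [6, 0, 6, 6, 0, 6, 3, 6]),
  (0, [6, 0, 6, 3, 7, 7, 3]),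
  (0, [6, 0, 6, 6, 1, 4]),
  (0, [6, 0, 7, 2, 6, 6]),
  (0, [6, 0, 6, 1, 6, 0, 7, 3]),
  (0, [6, 0, 6, 0, 6, 2, 6, 6, 6]),
  (0, [6, 0, 4, 6, 6, 2, 7]),
  (0, [6, 1, 6, 6, 6, 3]),
  (0, [6, 6, 6, 1, 6, 2]),
  (0, [6, 1, 4, 7, 2, 7]),
  (0, [6, 1, 6, 0, 7, 7, 7, 2]),
  (0, [6, 0, 6, 3, 7, 3, 6]),
  (0, [6, 0, 6, 3, 7, 7]),
  (0, [6, 0, 4, 6, 3, 7, 7]),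
  (0, [6, 0, 6, 2, 7, 7, 0]),
  (0, [6, 0, 6, 6, 4]),
  (0, [6, 0, 6, 2, 7, 7, 2]),
  (0, [6, 1, 4, 7, 7, 0]),
  (0, [6, 0, 7, 3, 7, 7]),
  (0, [7, 1, 6, 0, 7, 3, 7]),
  (1, [1, 6]),
  (0, [6, 0, 6, 0, 6, 0, 6, 6, 6, 0]),
  (0, [6, 6, 0, 7, 7]),
  (0, [6, 0, 6, 1, 6, 1, 6]),
  (0, [6, 0, 4, 7, 1, 7, 7]),
  (1, [6, 2, 7, 2, 6]),
  (0, [6, 1, 4, 7, 0, 7]),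
  (0, [6, 0, 4, 6, 1]),
  (0, [6, 6, 1, 7, 1, 7, 7]),
  (0, [6, 1, 6, 1, 6, 2, 6, 6]),
  (0, [6, 0, 7, 1, 6, 0, 7, 1]),
  (1, [6, 2]),
  (0, [6, 0, 7, 7, 0, 6]),
  (0, [6, 0, 7, 0, 7, 3]),
  (0, [6, 0, 6, 0, 6, 0, 6, 6, 6]),
  (0, [6, 0, 7, 7, 7, 2]),
  (0, [6, 0, 4, 6, 4, 6, 6, 2]),
  (0, [6, 0, 6, 1, 7, 0, 6, 1]),
  (0, [6, 0, 4, 6, 6, 0, 6, 1]),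
  (0, [6, 0, 6, 0, 7, 1, 6, 6, 1, 6]),
  (0, [6, 0, 6, 0, 6, 0, 7]),
  (0, [6, 0, 4, 6, 4, 3, 6]),
  (0, [6, 0, 4, 6, 1, 7, 7, 7]),
  (0, [6, 1, 4, 6, 0]),
  (0, [6, 1, 4, 6, 4]),
  (0, [6, 0, 6, 0, 6, 6, 0, 6, 0, 7, 1]),
  (0, [6, 0, 4, 6, 6, 0, 7, 0]),
  (0, [6, 0, 4, 7, 7, 1, 6, 2]),
  (0, [6, 1, 4, 7, 7, 7]),
  (0, [6, 1, 6, 1, 7, 7, 3]),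
  (0, [6, 0, 6, 0, 6, 6, 0]),
  (0, [6, 0, 7, 1, 7, 2]),
  (0, [7, 1, 6, 0, 6, 6]),
  (0, [6, 0, 7, 1, 7, 7]),
  (0, [6, 0, 6, 0, 6, 6, 0, 6, 2]),
  (0, [6, 6, 1, 7, 3, 6]),
  (0, [6, 6, 0, 6, 1, 6]),
  (0, [6, 0, 4, 6, 3, 4, 6, 1]),
  (0, [6, 0, 6, 3, 6, 6, 6, 1]),
  (0, [6, 1, 4, 6, 0, 6]),
  (0, [6, 0, 4, 6, 3, 6, 6, 6]),
  (0, [6, 0, 4, 6, 0, 4, 7]),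
  (0, [6, 0, 4, 6, 6, 1, 7, 2]),
  (0, [6, 0, 7, 7, 1, 6, 0]),
  (0, [6, 0, 6, 0, 7, 7, 7, 2]),
  (0, [6, 0, 4, 6, 1, 7]),
  (0, [6, 1, 6, 2, 7, 7, 7, 2]),
  (0, [6, 1, 4, 7, 0]),
  (0, [6, 0, 6, 6, 1, 7, 1]),
  (0, [6, 1, 7, 1, 6, 6]),
  (0, [6, 1, 6, 0, 7, 7, 0]),
  (0, [6, 0, 4, 6, 1, 4, 7, 4]),
  (0, [6, 4, 6, 1, 4]),
  (0, [6, 4, 6, 2]),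
  (0, [6, 1, 6, 0, 6, 1, 6, 2, 7]),
  (0, [6, 0, 6, 1, 7, 7, 7, 2]),
  (0, [6, 4, 6, 0, 6, 2, 7, 7]),
  (0, [6, 0, 6, 6, 6, 0, 7]),
  (0, [6, 0, 6, 1, 6, 0, 6, 3, 7]),
  (0, [6, 0, 4, 6, 1, 7, 1]),
  (0, [6, 4, 6, 1, 6, 0, 6, 6]),
  (0, [6, 1, 7, 1, 7, 7]),
  (0, [6, 0, 4, 6, 6, 0, 7]),
  (0, [6, 0, 7, 0, 6, 3, 6, 6]),
  (0, [6, 1, 4, 7, 3, 7]),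
  (0, [6, 6, 6, 1, 6]),
  (0, [6, 0, 6, 0, 6, 1]),
  (0, [6, 1, 6, 1, 6, 0, 6, 6]),
  (0, [6, 0, 6, 6, 0, 7]),
  (0, [6, 1, 4, 7, 0, 7, 7]),
  (0, [6, 0, 4, 6, 2, 7, 7, 0]),
  (0, [6, 0, 6, 0, 6, 1, 7, 7, 1, 6]),
  (0, [7, 7, 1]),
  (0, [6, 4, 6, 0, 7, 3, 6]),
  (0, [6, 0, 4, 6, 6, 0]),
  (0, [6, 1, 4, 6, 6, 3]),
  (0, [6, 0, 6, 1, 7, 7, 3, 7]),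
  (0, [6, 1, 6, 0, 6, 1, 6, 0]),
  (0, [6, 0, 4, 6, 0, 4, 7, 1, 6, 1]),
  (1, [7, 1]),
  (0, [6, 0, 6, 0, 6]),
  (0, [6, 0, 7, 1, 6, 0, 7, 3]),
  (0, [6, 0, 6, 1, 6, 6, 6, 0, 6, 3]),
  (1, [0, 6, 0]),
  (0, [6, 0, 6, 2, 6, 0]),
  (1, [0, 6, 2]),
  (0, [6, 0, 6, 0, 7, 3, 7, 7, 3]),
  (1, [1, 6, 3]),
  (0, [6, 0, 4, 6, 3, 6]),
  (0, [6, 0, 6, 3, 6, 6, 6, 3]),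
  (0, [6, 1, 6, 0, 6, 0, 7]),
  (0, [6, 1, 4, 7, 3, 7, 7]),
  (0, [6, 6, 0, 6, 1, 7]),
  (0, [6, 1, 6, 0, 6, 1, 6, 2]),
  (0, [6, 0, 6, 1, 6, 0, 6, 3]),
  (0, [6, 1, 4, 7, 3, 6, 6]),
  (0, [6, 0, 4, 6, 6, 2]),
  (0, [6, 1, 6, 0, 6, 6, 0]),
  (0, [6, 0, 4, 6, 6, 6, 2, 4]),
  (0, [6, 0, 4, 6, 3]),
  (1, [6, 0, 6, 3, 7]),
  (0, [6, 6, 0, 7, 3, 7]),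
  (0, [6, 6, 1, 6, 3, 7]),
  (0, [6, 0, 6, 1, 6, 6, 6, 0, 6]),
  (0, [6, 1, 6, 1, 7, 1, 6, 1, 7]),
  (0, [6, 0, 6, 0, 6, 0, 6, 2, 6]),
  (0, [6, 6, 1, 6, 6]),
  (0, [6, 6, 0]),
  (0, [6, 0, 4, 6, 0, 4, 7, 3, 7]),
  (0, [6, 1, 6, 1, 7, 7, 1]),
  (1, [6, 2, 7, 7]),
  (0, [6, 0, 7, 1, 7, 0]),
  (0, [6, 1, 6, 2, 7, 7]),
  (1, [6, 2, 6, 6]),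
  (0, [6, 0, 6, 0, 6, 6, 0, 6, 0]),
  (0, [7, 7, 1, 7]),
  (0, [6, 0, 4, 6, 6, 6, 1, 7]),
  (0, [6, 0, 4, 6, 2, 4, 7]),
  (0, [6, 0, 4, 6, 6, 1, 7, 0]),
  (0, [6, 6, 0, 6]),
  (0, [6, 1, 4, 7, 2]),
  (0, [6, 1, 6, 0, 7, 1, 6]),
  (0, [6, 6, 0, 6, 6]),
  (0, [6, 0, 4, 7, 3, 6, 6]),
  (0, [6, 0, 7, 0, 6, 3, 6]),
  (0, [6, 0, 6, 3, 7, 7, 3, 7]),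
  (0, [6, 0, 7, 2, 6]),
  (0, [6, 1, 7, 7, 7, 3]),
  (0, [6, 0, 4, 6, 6, 3, 6, 3]),
  (0, [6, 0, 6, 6, 0, 7, 1]),
  (0, [6, 1, 4, 7, 3]),
  (0, [6, 6, 0, 6, 1]),
  (0, [6, 1, 4, 6, 3]),
  (0, [6, 6, 1, 7, 3]),
  (0, [6, 0, 4, 6, 6, 1, 7, 1]),
  (0, [6, 0, 6, 0, 7, 0, 6]),
  (1, [6, 0, 6, 1, 7]),
  (0, [6, 1, 4, 6, 6, 1, 6]),
  (0, [6, 1, 6, 6, 6, 1]),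
  (0, [6, 0, 7, 7, 0, 6, 3]),
  (1, [0, 2, 7]),
  (0, [6, 0, 6, 1, 6, 6, 1, 7]),
  (0, [6, 1, 4, 6, 1, 7, 7, 1]),
  (0, [6, 0, 4, 6, 1, 7, 7]),
  (0, [6, 0, 6, 0, 7, 0, 7]),
  (0, [6, 4, 6, 1, 6, 3, 6]),
  (0, [6, 1, 4, 7, 0, 6, 6]),
  (0, [6, 1, 6, 1, 6, 0, 6]),
  (0, [6, 6, 1, 7, 3, 7]),
  (0, [6, 1, 4, 6, 2, 6, 6, 2]),
  (0, [6, 1, 4, 7, 7, 3]),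
  (1, [6, 6, 0, 7, 3]),
  (0, [6, 0, 6, 1, 7, 0, 7, 2, 6, 6]),
  (0, [6, 0, 6, 1, 6, 3, 7]),
  (0, [6, 0, 6, 0, 6, 1, 7]),
  (0, [6, 0, 6, 2, 7, 2, 4, 7]),
  (1, [6, 6, 1, 7, 2]),
  (1, [7, 4]),
  (0, [6, 0, 7, 0, 6]),
  (0, [6, 6, 1, 6, 0, 6, 6]),
  (0, [6, 6, 0, 7, 2]),
  (0, [6, 0, 6, 6, 6]),
  (0, [6, 6, 0, 6, 2, 7, 7]),
  (0, [6, 6, 1, 6, 2]),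
  (0, [6, 1, 7, 7, 3, 6]),
  (0, [6, 1, 6, 1, 6, 1, 6, 6, 6]),
  (0, [6, 1, 6, 0, 6, 1, 6]),
  (0, [6, 0, 4, 7, 7, 7, 3]),
  (0, [6, 0, 4, 6, 0, 4]),
  (0, [6, 1, 6, 0, 6, 2, 7, 7]),
  (0, [6, 1, 4, 6, 1, 7, 2, 6]),
  (0, [6, 0, 6, 1, 6, 0, 6, 2]),
  (0, [6, 1, 4, 7, 2, 6]),
  (0, [6, 0, 6, 3, 6, 6]),
  (0, [6, 0, 6, 2, 6, 6, 0]),
  (0, [6, 1, 4, 6, 1, 7, 7, 7]),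
  (0, [6, 1, 6, 0, 7, 7]),
  (0, [6, 1, 6, 3, 6, 6, 3]),
  (0, [6, 0, 6, 6, 4, 6, 0, 7]),
  (0, [6, 1, 4, 7, 0, 7, 3]),
  (1, [0, 6, 2, 6]),
  (0, [6, 1, 4, 6, 0, 4, 6]),
  (0, [6, 0, 4, 6, 4, 2, 7]),
  (0, [6, 6, 6, 1, 6, 2, 7]),
  (1, [1, 6, 3, 6]),
  (0, [6, 1, 6, 6, 6, 1, 6]),
  (0, [6, 0, 7, 7, 0, 6, 3, 6]),
  (0, [6, 1, 4, 6, 1, 6]),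
  (0, [6, 1, 7, 1, 7, 2, 7, 7]),
  (0, [6, 0, 4, 6, 4, 6]),
  (0, [6, 0, 6, 6, 0, 6, 0, 6]),
  (0, [6, 1, 6, 3, 7, 7, 3]),
  (0, [6, 0, 4, 6, 0, 6]),
  (1, [7, 1, 6, 0]),
  (0, [6, 1, 6, 3, 6, 3]),
  (0, [6, 6, 1, 6, 0]),
  (0, [6, 1, 7, 7, 1, 7]),
  (0, [6, 0, 6, 0, 6, 0, 6, 1, 7]),
  (0, [6, 6, 0, 7, 0]),
  (0, [6, 2, 7, 7, 7]),
  (0, [6, 4, 6, 0, 7, 3, 7]),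
  (0, [6, 0, 6, 1, 6, 0, 6, 0]),
  (0, [6, 0, 7, 7, 4]),
  (0, [7, 1, 6, 2, 6]),
  (0, [6, 1, 6, 0, 6, 6]),
  (0, [6, 0, 6, 0, 7, 3, 7, 7]),
  (0, [6, 0, 4, 6, 1, 7, 3, 6, 4]),
  (1, [6, 2, 7, 2]),
  (0, [6, 1, 6, 6, 6]),
  (0, [6, 4, 6, 1, 6, 3, 7]),
  (0, [7, 1, 6, 0, 7, 1, 6]),
  (0, [6, 6, 6, 1, 6, 0, 7, 1, 7]),
  (0, [6, 0, 6, 0, 7, 0, 6, 1, 7, 7]),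
  (1, [6, 6, 2, 6]),
  (0, [6, 1, 6, 1, 7, 1, 6, 6]),
  (0, [6, 1, 6, 1, 6, 3, 6]),
  (1, [6, 6, 3, 7]),
  (0, [6, 1, 4, 6, 2, 4, 6, 2]),
  (0, [6, 6, 0, 6, 0, 6, 6]),
  (0, [6, 0, 4, 6, 1, 4]),
  (0, [6, 0, 6, 0, 7, 0, 6, 3, 6, 6]),
  (0, [6, 0, 4, 7, 4, 6, 4]),
  (0, [6, 0, 6, 6, 4, 6, 2]),
  (0, [6, 1, 6, 1, 6, 1, 7]),
  (0, [6, 6, 6, 2]),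
  (0, [6, 0, 7, 7]),
  (0, [6, 1, 7, 3, 7]),
  (0, [6, 0, 6, 6, 0, 6, 1, 7]),
  (0, [6, 0, 6, 3, 7, 7, 1]),
  (0, [6, 0, 6, 1, 7, 0, 7, 1, 6]),
  (0, [6, 1, 6, 0, 7, 1, 7, 0, 7]),
  (0, [6, 0, 4, 6, 6, 2, 6]),
  (0, [6, 6, 1, 6, 2, 7, 7]),
  (0, [6, 1, 6, 6, 3]),
  (0, [6, 0, 6, 2, 7, 7]),
  (0, [6, 1, 4, 6, 6, 1, 7]),
  (1, [7, 4, 7]),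
  (1, [0, 2, 7, 7]),
  (0, [6, 1, 6, 0, 7, 1, 7, 0]),
  (0, [6, 1, 6, 2, 6, 6, 6]),
  (0, [6, 0, 6, 6, 2, 7, 2, 7]),
  (0, [6, 0, 6, 2]),
  (0, [6, 1, 4, 6, 2, 6]),
  (0, [6, 1, 6, 2, 7, 7, 7, 0]),
  (0, [6, 0, 6, 3, 7, 1, 7]),
  (0, [6, 0, 6, 1, 7, 7, 7, 1]),
  (0, [6, 0, 4, 7, 1, 6]),
  (0, [6, 1, 4, 7, 2, 6, 6]),
  (0, [6, 0, 7, 0, 7, 3, 7]),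
  (1, [6, 6, 1, 7, 3]),
  (0, [6, 0, 4, 6, 1, 6, 6]),
  (0, [6, 1, 6, 0, 6, 2, 7]),
  (0, [6, 0, 6, 0, 7, 1, 6]),
  (1, [6, 0, 7, 0, 7]),
  (0, [6, 1, 4, 6, 2, 7, 7, 7]),
  (0, [6, 0, 6, 3, 7, 3]),
  (0, [6, 1, 4, 6, 3, 4, 6, 6]),
  (0, [6, 1, 4, 6, 1, 7, 7]),
  (0, [6, 0, 6, 0, 7, 1, 6, 6, 1]),
  (1, [1, 6, 1]),
  (0, [6, 0, 6, 2, 6, 2]),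
  (1, [6, 0]),
  (0, [6, 1, 4, 6, 2, 6, 2]),
  (0, [6, 6, 6, 1, 6, 0, 7, 3]),
  (0, [6, 4, 6, 0, 7, 1, 7]),
  (0, [6, 6, 1, 6, 1, 7]),
  (0, [6, 0, 6, 1, 6, 0, 6, 1]),
  (0, [7, 1, 6, 0, 7, 1, 6, 0]),
  (0, [6, 0, 4, 6, 0, 4, 7, 7]),
  (0, [6, 4, 6, 1, 6, 1, 7]),
  (0, [6, 6, 0, 7, 1, 7]),
  (0, [6, 0, 4, 6, 3, 6, 6]),
  (0, [6, 1, 6, 0, 7, 7, 7]),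
  (0, [6, 1, 4, 7, 0, 7, 1]),
  (0, [6, 1, 6, 0, 6, 3]),
  (0, [6, 0, 6, 1, 7, 0, 7, 2]),
  (0, [6, 0, 6, 1, 6, 2, 6, 0, 6]),
  (0, [6, 1, 6, 0, 7, 1, 7]),
  (0, [6, 0, 6, 3, 6]),
  (0, [6, 0, 6, 0, 7, 7, 2]),
  (0, [6, 0, 6, 2, 6, 6, 0, 7]),
  (0, [6, 0, 6, 1, 6, 6]),
  (0, [6, 0, 4, 6, 2, 7, 7]),
  (0, [6, 6, 1, 6, 0, 7]),
  (0, [6, 6, 0, 7, 0, 7]),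
  (0, [6, 1, 6, 3, 6, 3, 6]),
  (0, [6, 1, 6, 3, 6, 1]),
  (0, [7, 7, 1, 6, 0, 6]),
  (0, [7, 1, 7]),
  (0, [6, 0, 6, 6, 0, 6]),
  (0, [6, 4, 6, 1, 6, 1, 6]),
  (0, [6, 4, 6, 0, 7, 1, 6]),
  (0, [6, 0, 7, 1, 7, 0, 6, 3]),
  (0, [7, 1, 6, 0, 7, 1]),
  (0, [6, 1, 4, 6, 3, 6, 6, 6]),
  (0, [6, 0, 4, 6, 0, 7, 3]),
  (0, [6, 0, 4, 7, 3, 7, 7]),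
  (0, [6, 0, 4, 6, 2, 7, 7, 2]),
  (0, [6, 0, 4, 6, 0, 7, 1, 7]),
  (0, [6, 0, 6, 0, 7, 2, 6]),
  (0, [6, 6, 1, 6, 1]),
  (0, [6, 0, 6, 6, 1, 7]),
  (0, [6, 1, 6, 6, 2, 6]),
  (0, [6, 0, 6, 0, 7, 0, 6, 2, 6]),
  (0, [6, 0, 6, 2, 6, 0, 7, 3, 6]),
  (0, [6, 6, 1, 6, 2, 6, 6]),
  (0, [6, 1, 4, 6, 0, 4, 6, 2, 7]),
  (0, [6, 1, 6, 1, 7, 3]),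
  (0, [6, 6, 0, 6, 0, 7, 7]),
  (0, [6, 1, 6, 1, 6, 6, 6, 1, 7]),
  (0, [6, 4, 6, 1, 7, 3, 6]),
  (0, [6, 1, 6, 3, 6, 1, 7]),
  (0, [6, 4, 6, 0, 6, 1, 6]),
  (0, [6, 0, 6, 0, 6, 0, 6, 3]),
  (0, [6, 1, 6, 1, 6, 1, 6, 1, 7]),
  (0, [6, 0, 6, 1, 7, 7]),
  (0, [6, 0, 6, 0, 6, 6, 2]),
  (1, [0, 6, 2, 7, 7]),
  (1, [0, 6, 2, 6, 6]),
  (1, []),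
  (0, [6, 1, 4, 6, 3, 6]),
  (0, [6, 1, 4, 6, 4, 3, 7]),
  (1, [6, 3, 6]),
  (0, [6, 1, 6, 1, 7, 7, 7, 2]),
  (1, [6, 0, 7, 0]),
  (1, [7, 1, 7, 3]),
  (0, [6, 0, 6, 1, 6, 0, 6, 0, 7]),
  (0, [6, 1, 6, 1, 7, 7, 7, 3]),
  (0, [6, 1, 6, 6, 3, 7]),
  (0, [6, 0, 6, 0, 6, 0, 6, 3, 6]),
  (0, [6, 1, 4, 6, 1, 7, 0]),
  (0, [6, 0, 7, 7, 7]),
  (0, [6, 0, 4, 6, 4, 6, 6]),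
  (0, [6, 2, 4, 7]),
  (0, [6, 0, 6, 6, 2, 7, 0]),
  (0, [6, 1, 4, 7, 2, 7, 7]),
  (0, [6, 1, 6, 6, 1, 6, 3]),
  (0, [6, 1, 6, 1, 7, 1, 6, 3]),
  (0, [6, 2, 4, 6, 2]),
  (0, [6, 6, 0, 7, 1]),
  (0, [6, 0, 4, 6, 4, 6, 6, 0]),
  (0, [6, 0, 7, 7, 7, 0]),
  (0, [6, 1, 6, 6, 1, 6, 2]),
  (0, [6, 0, 6, 0, 6, 0, 6, 0]),
  (0, [6, 1, 4, 6, 1, 4, 7, 0]),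
  (0, [6, 6, 6, 1, 6, 0, 6, 3]),
  (0, [6, 1, 6, 6, 1, 7]),
  (0, [6, 1, 6, 3, 7, 3, 6]),
  (0, [6, 0, 6, 0, 7, 0, 6, 1]),
  (0, [6, 1, 6, 1, 7, 1, 6]),
  (0, [6, 1, 7, 7, 1, 6, 0]),
  (0, [6, 0, 4, 6, 0, 7, 3, 6]),
  (0, [6, 0, 6, 2, 7, 0, 7]),
  (0, [6, 6, 1, 6, 3]),
  (0, [6, 1, 6, 6, 1, 7, 2]),
  (0, [6, 1, 6, 1]),
  (0, [6, 0, 6, 6, 6, 0]),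
  (0, [6, 0, 7, 7, 7, 3]),
  (0, [6, 0, 4, 7, 7, 7, 4]),
  (0, [6, 0, 6, 3]),
  (0, [6, 6, 2, 7]),
  (1, [6]),
  (0, [6, 0, 7, 7, 0, 6, 1]),
  (0, [6, 0, 6, 6, 0, 7, 2]),
  (0, [6, 0, 6, 1, 6, 2, 6, 2]),
  (1, [6, 1]),
  (1, [6, 6, 1, 7, 1]),
  (0, [6, 1, 6, 0, 7, 7, 7, 0]),
  (0, [6, 1, 4, 7, 4, 6]),
  (0, [6, 1, 4, 6, 6]),
  (0, [6, 4, 6, 0, 6, 0, 6]),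
  (0, [6, 4, 6, 6, 0]),
  (0, [6, 0, 4, 7, 7, 3]),
  (0, [6, 6, 1, 6, 4, 2, 6]),
  (0, [6, 0, 4, 6, 1, 6, 6, 6, 1, 7]),
  (0, [6, 1, 6, 0, 7, 7, 2]),
  (0, [6, 1, 6, 3, 6, 6]),
  (0, [6, 0, 6, 6, 6, 2, 7]),
  (0, [6, 0, 6, 1, 6, 2, 7]),
  (0, [6, 0, 4, 6, 3, 4, 6, 2]),
  (0, [6, 1, 4, 7, 0, 4]),
  (0, [6, 1, 4, 6, 6, 6, 3]),
  (0, [6, 0, 7, 1, 7]),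
  (0, [6, 0, 4, 7, 1, 4]),
  (0, [6, 0, 4, 6, 6, 6, 0]),
  (0, [7, 1, 6, 0, 6]),
  (0, [6, 0, 6, 0, 6, 1, 7, 7]),
  (1, [6, 6, 1]),
  (0, [6, 0, 6, 0, 6, 6, 0, 6]),
  (0, [6, 0, 6, 6, 0, 6, 2, 6]),
  (0, [6, 0, 7, 0, 6, 3]),
  (1, [7, 7, 1]),
  (0, [6, 0, 4, 7, 1, 7]),
  (0, [6, 0, 6, 1, 6, 1, 6, 6]),
  (0, [6, 0, 6, 6, 6, 1, 7]),
  (0, [6, 0, 4, 6, 2, 4, 7, 0]),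
  (0, [6, 6, 1, 7, 1]),
  (0, [6, 0, 6, 0, 7, 7, 7, 1]),
  (0, [6, 0, 4, 6, 2]),
  (0, [6, 0, 6, 1, 7, 0, 7, 7]),
  (0, [6, 0, 4, 6, 6, 1]),
  (0, [6, 4, 6, 1, 6, 0, 7]),
  (0, [6, 0, 4, 6, 0, 4, 7, 3]),
  (0, [6, 1, 6, 6, 4]),
  (0, [6, 4, 6, 0, 7, 0, 7]),
  (0, [6, 1, 6]),
  (0, [6, 0, 6, 0, 7, 2, 4, 6]),
  (0, [6, 6, 0, 6, 3]),
  (0, [6, 0, 4, 6, 1, 4, 7]),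
  (0, [6, 0, 4, 6, 6, 6, 1, 4]),
  (0, [6, 0, 7, 7, 2, 7]),
  (0, [6, 0, 6, 2, 7, 2, 7]),
  (0, [6, 0, 6, 1, 6, 0, 6, 6, 6]),
  (1, [6, 0, 7, 7]),
  (0, [6, 0, 6, 1, 7, 2]),
  (0, [6, 0, 4, 6, 1, 7, 3, 6]),
  (1, [6, 0, 6, 6]),
  (0, [6, 0, 6, 0, 6, 6, 2, 6, 2]),
  (0, [6, 1, 4]),
  (0, [6, 1, 6, 3, 6, 6, 1]),
  (0, [6, 0, 6, 1, 6, 2, 6, 6, 6]),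
  (0, [6, 4, 6, 1, 6, 2, 7, 7]),
  (0, [7, 1, 6, 2, 6, 6]),
  (0, [6, 0, 4, 6, 1, 7, 1, 7]),
  (0, [6, 4, 6, 0, 6, 0, 6, 6]),
  (0, [6, 4, 6, 0, 7, 2]),
  (0, [6, 0, 4, 6, 6, 6, 3, 6]),
  (0, [6, 0, 4, 7, 4, 3, 6]),
  (0, [6, 0, 4, 7, 7, 1, 6, 0]),
  (0, [6, 0, 6, 0, 6, 0, 6, 0, 6]),
  (0, [6, 1, 6, 1, 7, 1, 6, 3, 6]),
  (0, [6, 6, 2]),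
  (0, [6, 4, 6, 4, 6, 2]),
  (0, [6, 4, 6, 1, 6, 2]),
  (0, [6, 1, 4, 6, 2]),
  (0, [6, 6, 1, 7, 7]),
  (0, [6, 1, 6, 1, 7, 3, 7, 3]),
  (0, [6, 1, 4, 6, 2, 6, 6]),
  (0, [6, 0, 6, 3, 7, 7, 1, 6]),
  (0, [6, 0, 6, 2, 7]),
  (0, [6, 1, 7, 7, 7, 1]),
  (0, [6, 1, 7, 1, 7]),
  (0, [6, 0, 6, 6, 0, 6, 3, 7]),
  (0, [6, 1, 7, 7, 1, 7, 0]),
  (0, [6, 6, 6, 1, 6, 0]),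
  (1, [7, 0]),
  (0, [6, 0, 6, 6, 0, 7, 3]),
  (0, [6, 0, 6, 6, 6, 2]),
  (0, [6, 0, 6, 6, 0, 7, 0]),
  (1, [0, 6]),
  (0, [6, 0, 4, 6, 0, 7, 0]),
  (0, [6, 1, 6, 3, 6, 6, 6]),
  (0, [6, 0, 7, 2]),
  (0, [6, 0, 7, 1]),
  (0, [6, 1, 4, 6, 3, 4, 6, 0]),
  (1, [7, 7, 2, 7]),
  (0, [6, 6, 6, 1, 6, 0, 6, 1]),
  (1, [6, 6, 2, 7]),
  (0, [6, 0, 6, 0, 6, 1, 7, 7, 1]),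
  (0, [6, 0, 6, 2, 7, 2]),
  (0, [6, 1, 7, 7, 7]),
  (0, [6, 0, 4, 6]),
  (0, [6, 1, 6, 1, 6, 3, 7, 1]),
  (0, [6, 0, 6, 0, 7, 0, 6, 2]),
  (0, [6, 1, 6, 3]),
  (0, [6, 0, 6, 6, 2, 7]),
  (0, [6, 0, 4, 7, 4, 7, 7]),
  (0, [6, 0, 7, 7, 0, 7, 1]),
  (0, [6, 0, 7, 0, 6, 1]),
  (0, [6, 0, 4, 6, 2, 6, 6, 6]),
  (0, [6, 0, 6, 0, 7, 2, 6, 6]),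
  (0, [6, 0, 6, 0, 6, 2, 6]),
  (0, [6, 0, 4, 6, 0, 7, 1]),
  (0, [6, 1, 6, 3, 6, 1, 7, 0]),
  (0, [6, 1, 4, 7, 0, 4, 7]),
  (0, [6, 1, 4, 7, 1]),
  (0, [6, 1, 4, 6, 6, 6, 3, 7]),
  (0, [6, 0, 4, 6, 6, 3, 6, 1]),
  (0, [6, 1, 6, 0]),
  (0, [6, 0, 4, 6, 6, 1, 7]),
  (0, [6, 4, 2, 6]),
  (0, [6, 0, 6, 1, 7, 0, 7]),
  (0, [6, 0, 6, 1, 6, 6, 6, 2]),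
  (0, [6, 0, 4, 7, 7, 1, 6]),
  (0, [6, 0, 6, 6, 2, 6]),
  (0, [6, 1, 7]),
  (0, [6, 0, 6, 0, 6, 2, 6, 0]),
  (0, [6, 0, 6, 0, 6, 6, 6, 0]),
  (0, [6, 0, 7, 3, 6]),
  (0, [6, 1, 6, 0, 6, 1]),
  (0, [6, 0, 6, 6, 0, 6, 1]),
  (0, [6, 1, 7, 3]),
  (0, [6, 1, 6, 0, 6, 3, 7]),
  (0, [6, 0, 6, 1, 6, 2, 6, 0]),
  (0, [6, 0, 4, 6, 6]),
  (0, [6, 4, 6, 0]),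
  (0, [6, 4, 6, 4, 2]),
  (0, [6, 0, 6, 1, 6, 0, 6, 1, 6]),
  (0, [6, 0, 4, 6, 4, 3, 6, 3]),
  (0, [6, 1, 4, 6, 4, 7]),
  (0, [6, 0, 6, 0, 6, 6, 0, 6, 2, 7]),
  (0, [6, 0, 6, 1, 6, 6, 6, 0]),
  (0, [6, 4, 6, 6, 2]),
  (0, [6, 0, 6, 1, 7, 2, 6]),
  (0, [6, 0, 7, 1, 7, 2, 6]),
  (0, [6, 1, 6, 0, 7, 1, 7, 1]),
  (0, [6, 1, 6, 0, 6, 1, 6, 0, 7]),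
  (0, [6, 1, 4, 6, 2, 4]),
  (0, [6, 1, 4, 6, 6, 6, 1]),
  (1, [7, 7, 1, 6]),
  (1, [6, 6, 1, 6]),
  (1, [6, 0, 6, 3, 6, 6]),
  (0, [6, 0, 7, 3, 7]),
  (0, [6, 0, 6, 2, 6, 6, 2, 7]),
  (1, [6, 0, 6, 3, 7, 7]),
  (0, [6, 0, 6, 2, 7, 7, 2, 6]),
  (1, [0, 6, 6]),
  (1, [0, 7, 7]),
  (0, [6, 0, 6, 0, 7, 2, 4]),
  (0, [6, 0, 4, 6, 1, 6, 6, 6, 3]),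
  (0, [6, 4, 6, 1, 6, 2, 7]),
  (0, [6, 0, 4, 6, 0, 4, 7, 1]),
  (0, [6, 0, 7, 1, 6, 0]),
  (0, [6, 4, 6, 0, 7, 2, 7]),
  (0, [6, 6, 1, 7, 1, 6]),
  (0, [6, 6, 0, 6, 3, 6]),
  (0, [6, 0, 4, 6, 2, 6, 6]),
  (0, [6, 1, 6, 6, 1, 7, 0]),
  (0, [6, 1, 4, 6, 1, 6, 6]),
  (0, [6, 0, 6, 1, 7, 0, 7, 1]),
  (0, [7, 1, 6, 0, 7, 7]),
  (0, [6, 0, 4, 7, 4, 7]),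
  (0, [6, 1, 6, 1, 6, 6, 3]),
  (0, [6, 1, 4, 6, 0, 7, 7]),
  (0, [6, 1, 6, 2, 6, 2, 6]),
  (0, [7, 1, 6, 0, 6, 1, 7, 0]),
  (0, [6, 0, 6, 0, 6, 0]),
  (0, [6, 0, 6, 0, 7, 1, 6, 6, 3]),
  (0, [6, 6, 1, 6, 1, 4, 7]),
  (0, [6, 0, 4, 6, 3, 6, 3, 6]),
  (0, [6, 0, 7, 1, 6, 0, 7]),
  (0, [6, 0, 6, 1, 7, 2, 7]),
  (0, [6, 1, 4, 6, 1, 7, 7, 4]),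
  (0, [6, 0, 4, 7, 7]),
  (0, [6, 0, 6, 2, 6, 6, 6]),
  (0, [6, 1, 4, 6, 3, 6, 1]),
  (0, [6, 1, 6, 6, 3, 6, 1]),
  (0, [6, 0, 6, 6, 2, 6, 2]),
  (0, [6, 1, 6, 0, 7, 1, 7, 3]),
  (0, [6, 4, 2, 7]),
  (0, [6, 0, 6, 1, 6, 0, 6, 2, 7]),
  (0, [6, 0, 7, 0, 6, 1, 7]),
  (0, [6, 1, 7, 1, 7, 2, 7]),
  (0, [6, 4, 6, 0, 6, 2, 7]),
  (0, [6, 1, 6, 0, 7, 3, 6, 1]),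
  (0, [6, 1, 4, 6, 6, 2]),
  (1, [7, 7, 2]),
  (1, [6, 6, 2]),
  (0, [6, 1, 4, 7, 1, 7, 2]),
  (1, [0, 6, 4]),
  (0, [6, 1, 6, 1, 6, 6, 6, 3, 6]),
  (0, [6, 1, 6, 1, 7, 7, 7, 1]),
  (1, [0, 2, 6]),
  (0, [6, 1, 4, 6, 0, 4, 6, 0, 7]),
  (1, [6, 6, 0, 7, 1]),
  (1, [6, 0, 6, 1, 6]),
  (1, [6, 2, 7]),
  (0, [6, 1, 4, 6, 2, 4, 6, 0]),
  (0, [6, 1, 6, 1, 6, 6, 6, 3]),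
  (0, [6, 6, 1, 6, 0, 7, 7]),
  (1, [7, 3, 7]),
  (0, [6, 6, 0, 6, 2, 6, 6]),
  (0, [6, 0, 6, 6, 2, 6, 2, 7]),
  (0, [6, 1, 6, 0, 7]),
  (0, [6, 0, 7, 3, 6, 6]),
  (0, [6, 0, 6, 2, 6, 6, 2]),
  (1, [1, 6, 1, 6]),
  (0, [6, 1, 4, 6, 1, 4, 7, 2]),
  (0, [6, 1, 6, 0, 6, 6, 6, 3]),
  (0, [6, 1, 4, 6, 3, 6, 3]),
  (0, [6, 1, 6, 6, 6, 3, 6]),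
  (1, [6, 0, 6]),
  (0, [6, 1, 6, 1, 7, 7, 7]),
  (0, [6, 1, 4, 6, 1, 7, 1]),
  (0, [6, 4, 6, 1, 6, 3]),
  (0, [6, 4, 6, 0, 7, 3]),
  (1, [6, 0, 7]),
  (1, [1, 6, 1, 7]),
  (0, [6, 0, 6, 6, 0, 6, 2, 7]),
  (0, [6, 0, 4, 6, 0, 7, 7, 0]),
  (1, [0, 7, 0]),
  (0, [6, 4, 6, 0, 6, 3]),
  (0, [6, 1, 6, 1, 6, 2]),
  (0, [6, 1, 4, 6, 3, 7, 7, 7]),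
  (0, [6, 1, 6, 6, 3, 7, 1]),
  (1, [6, 6, 0]),
  (1, [7, 7, 0]),
  (0, [6, 0, 7, 7, 7, 1]),
  (0, [6, 1, 6, 6, 1, 7, 3]),
  (0, [6, 0, 6, 1]),
  (0, [6, 0, 6]),
  (0, [7, 1, 6, 0, 7]),
  (0, [6, 0, 4, 7, 1, 6, 6]),
  (1, [1, 7]),
  (0, [6, 4, 6, 1, 7, 1]),
  (0, [6, 1, 6, 6, 6, 2]),
  (0, [6, 1, 4, 6, 0, 4, 6, 6]),
  (0, [6, 1, 7, 7, 3, 7]),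
  (1, [7, 1, 6, 6]),
  (1, [7, 1, 7, 7]),
  (0, [6, 1, 4, 6, 4, 3]),
  (1, [0]),
  (0, [6, 6, 6, 0]),
  (0, [6, 1, 4, 7, 3, 6]),
  (0, [6, 1, 4, 7, 7, 7, 3]),
  (1, [7, 0, 7]),
  (0, [6, 0, 4, 6, 4, 7, 4]),
  (0, [6, 1, 6, 1, 7, 7, 7, 0]),
  (1, [0, 6, 6, 2]),
  (1, [0, 6, 6, 2, 7]),
  (0, [6, 1, 4, 6, 6, 6, 1, 6]),
  (0, [6, 1, 4, 6, 0, 6, 1]),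
  (1, [0, 7, 7, 2, 7]),
  (0, [6, 1, 4, 6, 2, 4, 6]),
  (0, [6, 6, 6, 1, 6, 0, 7]),
  (0, [6, 0, 6, 6, 2, 6, 2, 6]),
  (0, [6, 1, 6, 1, 6, 1, 6, 6]),
  (0, [6, 1, 6, 6, 1, 6]),
  (0, [6, 1, 4, 6, 1, 7, 2]),
  (0, [6, 2, 6, 6, 6]),
  (0, [6, 1, 4, 6, 1, 7, 0, 6]),
  (0, [6, 0, 4, 6, 6, 6, 4]),
  (0, [6, 1, 6, 1, 7, 1]),
  (0, [6, 0, 6, 2, 6, 0, 7, 1, 7]),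
  (0, [6, 4, 6, 0, 6, 3, 7]),
  (0, [6, 0, 6, 2, 6, 0, 7, 3]),
  (1, [0, 7, 7, 2]),
  (0, [6, 1, 6, 0, 6]),
  (0, [6, 1, 6, 1, 6, 3, 7, 7, 7]),
  (0, [6, 0, 4, 7]),
  (0, [6, 4, 6, 1, 7, 1, 7]),
  (0, [6, 1, 6, 1, 7, 3, 7]),
  (0, [7, 1, 6, 6]),
  (0, [6, 0, 7, 7, 0]),
  (0, [6, 1, 6, 1, 7, 3, 7, 1]),
  (0, [6, 0, 6, 0, 6, 0, 6, 2]),
  (0, [7, 1, 6, 6, 0]),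
  (0, [6, 1, 4, 6, 6, 6, 0, 7]),
  (0, [6, 0, 4, 6, 0]),
  (0, [6, 0, 4, 6, 6, 6, 4, 2]),
  (0, [6, 1, 6, 1, 6, 2, 6]),
  (0, [6, 0, 4, 6, 6, 1, 7, 3]),
  (0, [6, 1, 4, 6, 1]),
  (1, [6, 6, 1, 7, 0]),
  (0, [6, 1, 6, 0, 7, 1, 7, 2]),
  (0, [6, 0, 6, 0]),
  (0, [6, 1, 4, 6, 3, 7, 7]),
  (1, [6, 2, 7, 2, 7]),
  (0, [6, 0, 6, 1, 7, 0, 7, 3]),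
  (0, [6, 1, 7, 7, 1, 6, 2]),
  (0, [6, 0, 6, 3, 7]),
  (0, [6, 0, 6, 6, 4, 6, 0, 6]),
  (0, [6, 0, 6, 0, 7, 7, 0]),
  (0, [6, 0, 6, 0, 6, 6, 6]),
  (0, [6, 0, 7, 7, 0, 7]),
  (0, [7, 1, 6]),
  (0, [6, 0, 4, 6, 0, 6, 6, 6]),
  (0, [6, 0, 6, 0, 7, 3]),
  (0, [6, 1, 6, 3, 6, 1, 7, 2]),
  (0, [6, 0, 6, 0, 6, 0, 6]),
  (0, [6, 0, 4, 7, 3]),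
  (0, [6, 0, 4, 6, 4, 6, 6, 1]),
  (0, [6, 0, 4, 6, 0, 6, 6]),
  (0, [6, 0, 6, 1, 6, 0, 6]),
  (0, [6, 0, 6, 0, 7, 3, 7]),
  (0, [6, 0, 4, 6, 1, 7, 3, 7]),
  (0, [6, 4, 6, 0, 7]),
  (0, [6, 4, 6, 1, 6]),
  (0, [6, 1, 4, 6, 6, 6, 3, 6]),
  (0, [6, 1, 4, 6, 3, 6, 6]),
  (0, [6, 1, 6, 1, 6, 0]),
  (0, [6, 1, 4, 6, 2, 6, 6, 0]),
  (0, [6, 2, 6]),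
  (0, [6, 1, 4, 6, 1, 6, 6, 6]),
  (0, [6, 0, 6, 6, 6, 1]),
  (0, [6, 1, 7, 1, 7, 2]),
  (1, [7]),
  (0, [6, 6, 1, 6, 1, 4]),
  (0, [6, 0, 6, 0, 7, 7, 2, 7]),
  (0, [6, 0, 6, 1, 6]),
  (0, [6, 1, 4, 6, 1, 7]),
  (0, [6, 1, 6, 6, 6, 1, 7, 2]),
  (0, [6, 0, 7, 7, 1]),
  (0, [6, 0, 4, 7, 1, 6, 0]),
  (1, [1, 6, 3, 7]),
  (0, [6, 1, 6, 2, 6, 6]),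
  (0, [6, 1, 4, 6, 1, 7, 3]),
  (0, [6, 1, 6, 1, 6, 6, 1]),
  (0, [6, 1, 6, 6, 6, 1, 7]),
  (0, [6, 4, 6, 0, 7, 2, 6]),
  (1, [1, 6, 6, 3]),
  (0, [6, 4, 6, 1, 6, 2, 6]),
  (1, [1, 7, 7, 3]),
  (0, [6, 1, 7, 7, 1]),
  (0, [6, 1, 4, 6, 6, 6, 1, 7]),
  (0, [6, 1, 7, 1, 7, 0]),
  (0, [6, 6, 0, 6, 0]),
  (0, [6, 0, 6, 6, 6, 3]),
  (0, [7, 7, 1, 6, 2]),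
  (0, [6, 1, 6, 6, 1, 6, 1]),
  (0, [6, 0, 7, 3]),
  (0, [6, 1, 6, 6, 3, 6, 3]),
  (0, [6, 1, 4, 7, 1, 7]),
  (0, [6, 1, 6, 6, 6, 1, 7, 0]),
  (0, [6, 2, 7, 7]),
  (1, [6, 2, 7, 2, 6, 6]),
  (1, [6, 2, 7, 2, 7, 7]),
  (0, [7, 1, 6, 0, 7, 3]),
  (0, [6, 0, 6, 1, 6, 2, 6, 2, 6]),
  (0, [6, 4, 6, 2, 7]),
  (0, [6, 0, 6, 1, 7, 7, 7]),
  (0, [6, 6, 1, 6, 4]),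
  (0, [6, 0, 6, 6, 0, 6, 0, 7]),
  (0, [7, 1, 6, 2, 7]),
  (0, [6, 0, 4, 6, 0, 7, 7]),
  (0, [6, 0, 4, 6, 3, 4, 6, 6]),
  (0, [6, 6, 0, 6, 0, 6]),
  (0, [7, 7, 1, 6, 2, 6]),
  (0, [6, 6, 0, 7, 3, 6]),
  (0, [6, 6, 1, 6, 3, 6]),
  (0, [6, 0, 7, 1, 6, 6]),
  (0, [6, 0, 4, 6, 0, 7, 2]),
  (0, [6, 6, 0, 6, 2, 6]),
  (0, [6, 0, 4, 6, 1, 7, 7, 1]),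
  (0, [6, 0, 7, 0, 6, 4, 6]),
  (0, [6, 6, 1, 6, 4, 2]),
  (0, [6, 1, 6, 0, 6, 0]),
  (1, [1, 6, 6, 1]),
  (1, [1, 7, 7, 1]),
  (0, [6, 0, 4, 6, 0, 7]),
  (0, [6, 1, 6, 2, 6, 0]),
  (0, [6, 0, 4, 6, 3, 7, 7, 7]),
  (0, [6, 0, 6, 0, 6, 0, 6, 1]),
  (0, [6, 0, 6, 0, 6, 6, 6, 2]),
  (0, [6, 0, 6, 2, 6, 0, 7, 1]),
  (0, [6, 6, 0, 7, 3]),
  (0, [6, 0, 6, 1, 6, 2]),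
  (0, [6, 0, 6, 1, 7, 0, 6]),
  (0, [6, 0, 4, 6, 1, 6, 6, 6, 1]),
  (0, [6, 0, 6, 0, 6, 6, 0, 6, 0, 7]),
  (0, [6, 0, 6, 0, 6, 6, 2, 6, 0]),
  (0, [6, 0, 6, 1, 7, 0]),
  (0, [6, 4, 6, 4, 6, 0]),
  (0, [6, 4, 2]),
  (0, [6, 0, 4, 6, 2, 7, 7, 7]),
  (0, [6, 0, 4, 7, 1, 4, 6]),
  (0, [6, 0, 6, 0, 6, 2]),
  (0, [6, 0, 6, 0, 7, 3, 7, 7, 1]),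
  (0, [6, 0, 6, 3, 7, 1]),
  (0, [6, 0, 4, 6, 6, 6, 3, 7]),
  (0, [6, 0, 4, 6, 1, 6, 6, 6]),
  (0, [6, 0, 6, 1, 6, 3]),
  (0, [6, 0, 7, 7, 2]),
  (0, [6, 1, 6, 6]),
  (1, [6, 6, 3]),
  (1, [7, 7, 3]),
  (0, [6, 0, 7, 0, 6, 4]),
  (0, [6, 1, 7, 1]),
  (0, [6, 0, 4, 6, 1, 7, 2]),
  (0, [6, 0, 6, 6, 6, 3, 7]),
  (0, [6, 1, 4, 7, 1, 6, 6]),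
  (1, [7, 3, 6]),
  (1, [6, 2, 6]),
  (0, [6, 1, 7, 1, 7, 0, 7]),
  (0, [6, 1, 4, 7, 1, 7, 7]),
  (0, [6, 1, 4, 6, 0, 6, 6, 0]),
  (0, [6, 4, 6, 0, 6, 0, 7]),
  (0, [6, 0, 6, 0, 6, 6, 6, 1]),
  (0, [6, 0, 6, 6, 0, 6, 3]),
  (0, [6, 6, 1, 6, 4, 2, 7]),
  (1, [6, 0, 7, 0, 6, 6]),
  (0, [6, 4, 6, 0, 6, 2, 6, 6]),
  (1, [6, 0, 7, 0, 7, 7]),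
  (0, [6, 4, 6, 1, 6, 0, 7, 7]),
  (0, [6, 0, 6, 2, 7, 7, 0, 6]),
  (1, [7, 1, 7]),
  (0, [6, 0, 6, 1, 7]),
  (0, [6, 0, 6, 0, 6, 6, 2, 6]),
  (0, [6, 0, 6, 0, 7, 1]),
  (0, [6, 0, 4, 6, 2, 7]),
  (0, [6, 0, 4, 6, 1, 7, 1, 6, 6]),
  (0, [6, 6, 1, 6, 1, 4, 6]),
  (0, [6, 0, 7, 1, 6, 2]),
  (0, [6, 4, 6, 0, 6, 2, 6]),
  (0, [6, 0, 6, 1, 6, 0, 7]),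
  (0, [6, 0, 6, 1, 7, 2, 7, 7]),
  (0, [6, 0, 4, 6, 4, 3, 6, 1]),
  (0, [6, 1, 6, 0, 7, 3, 6, 3]),
  (1, [0, 6, 0, 7]),
  (0, [6, 0, 6, 6, 6, 0, 6, 1]),
  (0, [6, 0, 4, 6, 1, 6, 6, 6, 3, 6]),
  (0, [6, 0, 7, 1, 7, 0, 6]),
  (0, [6, 0, 7, 1, 7, 0, 6, 1]),
  (0, [7, 1, 6, 0, 6, 1, 7, 2]),
  (0, [6, 4, 6, 1, 7]),
  (0, [6, 0, 4, 6, 2, 7, 0]),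
  (0, [6, 1, 6, 1, 7, 1, 6, 1]),
  (0, [6, 1, 4, 6, 0, 6, 6]),
  (0, [6, 0, 6, 0, 6, 2, 6, 2]),
  (0, [6, 1, 4, 6, 1, 4, 7, 7]),
  (0, [6, 1, 4, 6, 0, 7, 7, 7]),
  (0, [6, 1, 6, 2, 7, 7, 7]),
  (0, [6, 1, 4, 6, 0, 6, 3]),
  (0, [6, 0, 6, 1, 7, 0, 7, 0]),
  (0, [7, 1, 6, 0, 6, 1, 7]),
  (0, [6, 1, 6, 2, 6, 6, 2]),
  (0, [6, 1, 7, 3, 6, 6]),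
  (0, [6, 1, 6, 6, 6, 0]),
  (0, [6, 1, 6, 1, 6, 3, 7]),
  (0, [6, 0, 6, 6, 2, 7, 2]),
  (0, [6, 0, 6, 2, 7, 0, 7, 3]),
  (0, [6, 1, 6, 6, 2]),
  (0, [6, 0, 7, 7, 3]),
  (0, [6, 0, 6, 3, 6, 6, 6]),
  (0, [6, 0, 4, 6, 1, 7, 0]),
  (0, [6, 0, 6, 6, 6, 1, 6]),
  (0, [6, 0, 4, 7, 1, 6, 2]),
  (1, [6, 0, 6, 3, 6]),
  (0, [6, 2, 6, 6]),
  (0, [6, 0, 7, 1, 6]),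
  (0, [6, 0, 6, 0, 7, 7, 0, 7]),
  (0, [6, 4, 6, 2, 6]),
  (1, [0, 7, 7, 0]),
  (0, [6, 0, 6, 1, 6, 1]),
  (0, [6, 0, 4, 6, 6, 6, 1, 6]),
  (0, [6, 1, 6, 6, 3, 6]),
  (1, [0, 6, 0, 6]),
  (0, [6, 0, 7]),
  (1, [7, 1, 6]),
  (0, [6, 4, 6, 1, 6, 0]),
  (0, [6, 1, 4, 7, 7]),
  (0, [6, 0, 4, 6, 6, 3]),
  (0, [6, 4, 6, 0, 7, 0]),
  (1, [0, 2]),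
  (1, [7, 4, 6]),
  (0, [6, 0, 6, 0, 7, 0, 6, 6]),
  (0, [6, 0, 6, 2, 7, 2, 4]),
  (0, [6, 1, 6, 6, 0]),
  (0, [6, 0, 6, 6, 3]),
  (0, [6, 0, 7, 2, 6, 4]),
  (0, [6, 0, 6, 6, 6, 0, 6, 3]),
  (0, [6, 1, 6, 2]),
  (0, [6, 0, 6, 6, 2, 6, 0]),
  (0, [6, 1, 4, 7]),
  (0, [6, 0, 4, 6, 6, 3, 6]),
  (0, [6, 1, 6, 2, 6, 2]),
  (0, [7, 1, 6, 0]),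
  (0, [6, 0, 6, 6]),
  (0, [6, 0, 6, 6, 6, 0, 6]),
  (0, [6, 1, 6, 2, 6]),
  (1, [6, 6, 0, 7, 2]),
  (0, [6, 1, 6, 6, 1]),
  (1, [0, 6, 6, 0]),
  (0, [6, 0, 6, 6, 0, 6, 2]),
  (0, [6, 1, 7, 7, 3]),
  (0, [6, 0, 6, 6, 2, 6, 0, 6]),
  (0, [6, 1, 6, 1, 6, 1, 6]),
  (0, [6, 0, 6, 2, 7, 0, 7, 1]),
  (0, [6, 0, 4, 6, 1, 7, 7, 4]),
  (0, [6, 0, 4, 6, 2, 7, 2]),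
  (0, [6, 0, 6, 6, 6, 2, 6]),
  (0, [6, 0, 6, 6, 2, 6, 0, 7]),
  (0, [6, 1, 6, 2, 7]),
  (0, [6, 4, 6, 0, 6, 2]),
  (0, [6, 0, 7, 1, 6, 2, 7]),
  (0, [6, 1, 6, 0, 6, 2]),
  (0, [6, 1, 4, 6, 6, 6, 2, 7]),
  (0, [6, 0, 4, 6, 1, 7, 1, 6]),
  (1, [6, 0, 6, 1, 6, 6]),
  (1, [6, 0, 6, 1, 7, 7]),
  (0, [6, 0, 4, 6, 0, 7, 7, 7]),
  (0, [6, 0, 4, 6, 3, 4, 6]),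
  (0, [6, 0, 6, 0, 7, 0, 6, 3]),
  (1, [1]),
  (1, [6, 1, 7]),
  (0, [6, 2, 7]),
  (1, [1, 7, 1]),
  (0, [6, 0, 4, 6, 1, 4, 7, 7]),
  (0, [6, 1, 6, 3, 7, 1, 7]),
  (0, [6, 1, 7, 7, 1, 6]),
  (1, [0, 7]),
  (0, [6, 0, 7, 2, 6, 4, 6]),
  (0, [6, 1, 4, 6]),
  (0, [6, 0, 4, 7, 7, 3, 7]),
  (0, [7, 1, 6, 6, 2]),
  (0, [6, 0, 6, 6, 1]),
  (0, [6, 4, 6, 1, 6, 0, 6]),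
  (0, [6, 4, 6, 0, 7, 0, 6]),
  (1, [6, 0, 7, 0, 6]),
  (1, [6, 6, 0, 7, 0]),
  (1, [0, 6, 2, 7]),
  (0, [6, 0, 6, 0, 6, 6, 6, 3]),
  (0, [6, 4, 6, 0, 6, 0]),
  (0, [6, 1, 7, 7, 4]),
  (0, [6, 0, 4, 7, 7, 1]),
  (0, [7, 1, 6, 2]),
  (0, [6, 0, 6, 6, 0, 6, 0]),
  (0, [6, 6, 1, 6, 2, 7]),
  (0, [6, 6, 0, 7, 2, 7]),
  (1, [6, 3]),
  (0, [7, 4, 7, 1, 7]),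
  (0, [6, 4, 6, 0, 6]),
  (0, [6, 0, 4, 6, 3, 6, 1, 7]),
  (0, [6, 0, 6, 1, 6, 2, 6]),
  (0, [6, 0, 6, 1, 6, 0]),
  (0, [6, 0, 4, 6, 1, 7, 3, 7, 7]),
  (0, [7, 7, 1, 6, 0]),
  (0, [6, 6, 0, 6, 2]),
  (0, [6, 1, 6, 1, 6, 3, 7, 7]),
  (0, [6, 1, 4, 7, 1, 7, 0])]

end Cfsg.Agent.Lib.Helper2.HNS
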