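set_option autoImplicit false
namespace Cfsg.Agent.Lib.Helper2.HNS

/-! # The rows of the double coset enumeration -/

/-- the words of the representatives of the double cosets -/
def roww : List (List Nat) := [[], [5], [5, 4, 1, 1, 5, 0, 0, 4], [5, 4, 1, 5, 0, 4], [5, 4, 3, 4, 1, 5, 0, 4, 2, 4], [5, 4, 3, 4, 3, 4, 5, 4, 2, 4, 2, 4], [5, 4, 1, 1, 5, 0, 0, 4, 3, 4, 1, 1, 5, 0, 0, 4, 2], [5, 4, 3, 4, 1, 5, 0, 4, 2, 4, 4, 2, 4, 5, 4, 3, 4], [5, 4, 1, 1, 5, 0, 0, 4, 3, 4, 1, 1, 5, 0, 0, 4, 2, 0, 3, 4, 1, 5, 0, 4, 2, 1]]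

/-- the numbers of the coset equalities of the generators of the subgroups of the rows -/
def rowmf : List (List Nat) := [[146, 147, 148], [0, 1], [8, 9, 10, 15], [18, 19, 20, 23, 25, 47], [29, 30, 31, 32, 35, 46], [55, 56, 57, 69], [74, 75, 76, 79, 83], [121, 122, 125, 127], [139, 140, 141, 144]]

end Cfsg.Agent.Lib.Helper2.HNS
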