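import Cfsg.Agent.Lib.Helper2.HNS.Cert12
import Cfsg.Agent.Lib.Helper2.HNS.Ch0
import Cfsg.Agent.Lib.Helper2.HNS.Ch1
import Cfsg.Agent.Lib.Helper2.HNS.Ch2
import Cfsg.Agent.Lib.Helper2.HNS.Ch3
import Cfsg.Agent.Lib.Helper2.HNS.Ch4
import Cfsg.Agent.Lib.Helper2.HNS.Ch5
import Cfsg.Agent.Lib.Helper2.HNS.Ch6
import Cfsg.Agent.Lib.Helper2.HNS.Ch7
import Cfsg.Agent.Lib.Helper2.HNS.Ch8
import Cfsg.Agent.Lib.Helper2.HNS.Cov0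
import Cfsg.Agent.Lib.Helper2.HNS.Cov1
import Cfsg.Agent.Lib.Helper2.HNS.Cov2
import Cfsg.Agent.Lib.Helper2.HNS.Cov3
import Cfsg.Agent.Lib.Helper2.HNS.Cov4
import Cfsg.Agent.Lib.Helper2.HNS.Cov5
import Cfsg.Agent.Lib.Helper2.HNS.Cov6
import Cfsg.Agent.Lib.Helper2.HNS.Cov7
import Cfsg.Agent.Lib.Helper2.HNS.Cov8
import Cfsg.Agent.Lib.Helper2.HNS.Rows
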