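import Cfsg.Agent.Lib.Helper2.HNS.Ctx7
import Cfsg.Agent.Lib.Helper2.HNS.AllData
import Cfsg.Agent.Lib.Helper2.HNDce7

set_option autoImplicit false
set_option maxRecDepth 1000000

namespace Cfsg.Agent.Lib.Helper2.HNS

open Cfsg.Agent.Lib.Helper6.TC Cfsg.Agent.Lib.Helper6.TCP Cfsg.Agent.Lib.Helper2.HNDce

/-! # The checks linking the certificate of the double coset enumeration with its rows -/

/-- all the coset equalities -/
def prev13 : List (List ℕ × List ℕ) := prev12 ++ cert12.map (fun f => (f.1, f.2.1))

/-- the generators of the subgroups of the rows -/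
def mgs : List (List (List ℕ)) := [mg0, mg1, mg2, mg3, mg4, mg5, mg6, mg7, mg8]

/-- the entries of the rows -/
def entsL : List (List (List ℕ × ℕ × List ℕ × ℕ)) :=
  [ent0, ent1, ent2, ent3, ent4, ent5, ent6, ent7, ent8]

/-- the coverings of the rows -/
def covsL : List (List (ℕ × List ℕ)) := [cov0, cov1, cov2, cov3, cov4, cov5, cov6, cov7, cov8]

/-- the bounds for the indices of the subgroups of the rows -/
def bnds : List ℕ := [1, 1408, 35200, 2200, 123200, 354816, 739200, 277200, 5775]

set_option Elab.async false in
theorem chk_gens : (List.range 9).all (fun i =>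
    chkGens prev13 (roww.getD i []) (mgs.getD i []) (rowmf.getD i [])) = true := by decide +kernel

set_option Elab.async false in
theorem chk_ents : (List.range 9).all (fun i =>
    (entsL.getD i []).all (chkEnt prev13 roww (roww.getD i []))) = true := by decide +kernel

set_option Elab.async false in
theorem chk_covs : (List.range 9).all (fun i =>
    chkCov px 1408 (mgs.getD i []) (entsL.getD i []) (covsL.getD i [])) = true := by decide +kernel

theorem roww_length : roww.length = 9 := by decide

theorem bnds_sum : ∑ i : Fin 9, bnds.getD i.val 0 = 1539000 := by decide +kernel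

end Cfsg.Agent.Lib.Helper2.HNS
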