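import Cfsg.Agent.Lib.Helper2.HNS.Asm1
import Cfsg.Agent.Lib.Helper2.HNDce8
import Cfsg.Agent.Lib.Helper2.HNPerf

set_option autoImplicit false
set_option maxRecDepth 100000

namespace Cfsg.Agent.Lib.Helper2.HNS

open Cfsg.Agent.Lib.Helper6.TC Cfsg.Agent.Lib.Helper6.TCP Cfsg.Agent.Lib.Helper2.HNDce

/-! # The index of the subgroup generated by x, y, z in the presented Harada–Norton group is at most
1539000 -/

/-- every element of the group presented by words is a word -/
theorem exists_word (g : HNP2W.G) : ∃ w, (∀ c ∈ w, c < 5) ∧ evP w = g := by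
  have hg : g ∈ (⊤ : Subgroup HNP2W.G) := Subgroup.mem_top g
  rw [← PresentedGroup.closure_range_of] at hg
  induction hg using Subgroup.closure_induction with
  | mem x hx =>
    obtain ⟨i, rfl⟩ := hx
    refine ⟨[i.val], ?_, ?_⟩
    · intro c hc
      rw [List.mem_singleton] at hc
      rw [hc]; exact i.isLt
    · unfold evP
      rw [wordElt_cons, wordElt_nil, mul_one]
      show PresentedGroup.mk _ (FreeGroup.of (Fin.ofNat 5 i.val)) = PresentedGroup.of i
      rw [Fin.ofNat_val_eq_self]; rfl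
  | one => exact ⟨[], by simp, W5.ev_nil⟩
  | mul a b _ _ ha hb =>
    obtain ⟨u, hu, rfl⟩ := ha
    obtain ⟨v, hv, rfl⟩ := hb
    exact ⟨u ++ v, mem_append_lt hu hv, W5.ev_append u v⟩
  | inv a _ ha =>
    obtain ⟨u, hu, rfl⟩ := ha
    exact ⟨iw u, iw_lt5 hu, evP_iw u hu⟩

/-- the row of a number -/
def fin9 (j : ℕ) : Fin 9 := ⟨j % 9, Nat.mod_lt _ (by decide)⟩

theorem hrange9 : ∀ i : Fin 9, i.val ∈ List.range 9 := fun i => List.mem_range.mpr i.isLt

theorem hents7 : ∀ i : Fin 9, ∀ e ∈ entsL.getD i.val [],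
    chkEnt prev13 roww (roww.getD i.val []) e = true := by
  intro i
  have h := chk_ents
  rw [List.all_eq_true] at h
  have h' := h i.val (hrange9 i)
  rw [List.all_eq_true] at h'
  exact h'

section
variable (ι : HNP2W.G →* HNG) (hι : ∀ w, (∀ c ∈ w, c < 5) → ι (evP w) = ev7 w)
include hι

theorem hgen7 : Subgroup.closure (Set.range ι ∪ {ev7 [5]}) = ⊤ := by
  rw [eq_top_iff, ← PresentedGroup.closure_range_of, Subgroup.closure_le]
  rintro _ ⟨g, rfl⟩
  apply Subgroup.subset_closure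
  cases g
  · left; exact ⟨evP [0], by rw [hι [0] (by decide), ev7_x]⟩
  · left; exact ⟨evP [2], by rw [hι [2] (by decide), ev7_y]⟩
  · left; exact ⟨evP [4], by rw [hι [4] (by decide), ev7_z]⟩
  · right; rw [Set.mem_singleton_iff, ev7_t]

variable [Finite HNP2W.G] (hcard : Nat.card HNP2W.G ≤ 177408000)
include hcard

theorem hC7 : ∀ c : HNP2W.G, psi c ⟨0, by decide⟩ = ⟨0, by decide⟩ →
    ι c * ev7 [5] = ev7 [5] * ι c := by
  intro c hc
  obtain ⟨w, hw, rfl⟩ := exists_word c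
  have h0 : wapp px w 0 = 0 := by
    have h1 := psi_act w hw ⟨0, by decide⟩
    have h2 : (psi (evP w))⁻¹ ⟨0, by decide⟩ = ⟨0, by decide⟩ := by
      rw [Equiv.Perm.inv_eq_iff_eq]; exact hc.symm
    unfold evP at h2
    rw [h2] at h1
    exact h1.symm
  exact comm_mg1 ι hι _ (fixC hcard w hw h0)

theorem valid13 : ∀ f ∈ prev13, Valid (ctx ι hι hcard) f := by
  have h0 : ∀ f ∈ prev0, Valid (ctx ι hι hcard) f := by intro f hf; cases hf
  have h1 : ∀ f ∈ prev1, Valid (ctx ι hι hcard) f := valid_next _ prev0 cert0 h0 chk_cert0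
  have h2 : ∀ f ∈ prev2, Valid (ctx ι hι hcard) f := valid_next _ prev1 cert1 h1 chk_cert1
  have h3 : ∀ f ∈ prev3, Valid (ctx ι hι hcard) f := valid_next _ prev2 cert2 h2 chk_cert2
  have h4 : ∀ f ∈ prev4, Valid (ctx ι hι hcard) f := valid_next _ prev3 cert3 h3 chk_cert3
  have h5 : ∀ f ∈ prev5, Valid (ctx ι hι hcard) f := valid_next _ prev4 cert4 h4 chk_cert4
  have h6 : ∀ f ∈ prev6, Valid (ctx ι hι hcard) f := valid_next _ prev5 cert5 h5 chk_cert5
  have h7 : ∀ f ∈ prev7, Valid (ctx ι hι hcard) f := valid_next _ prev6 cert6 h6 chk_cert6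
  have h8 : ∀ f ∈ prev8, Valid (ctx ι hι hcard) f := valid_next _ prev7 cert7 h7 chk_cert7
  have h9 : ∀ f ∈ prev9, Valid (ctx ι hι hcard) f := valid_next _ prev8 cert8 h8 chk_cert8
  have h10 : ∀ f ∈ prev10, Valid (ctx ι hι hcard) f := valid_next _ prev9 cert9 h9 chk_cert9
  have h11 : ∀ f ∈ prev11, Valid (ctx ι hι hcard) f := valid_next _ prev10 cert10 h10 chk_cert10
  have h12 : ∀ f ∈ prev12, Valid (ctx ι hι hcard) f := valid_next _ prev11 cert11 h11 chk_cert11
  exact valid_next _ prev12 cert12 h12 chk_cert12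

omit hι in
/-- the bound for the index of a subgroup generated by words from a chain of stabilisers -/
theorem index_le_of_chain (mg : List (List ℕ)) (ch : List (ℕ × List (ℕ × List ℕ)))
    (hlt : ∀ w ∈ mg, ∀ c ∈ w, c < 5) (hchk : chkChain px 1408 mg [] ch = true) (s b : ℕ)
    (hs : sizes ch = s) (hb : b * s = 177408000) (hs0 : 0 < s) :
    (genSub W5 mg).index ≤ b := by
  have h1 := card_genSub_ge W5 psi px psi_act' mg hlt ch hchk
  rw [hs] at h1
  have h2 := Subgroup.index_mul_card (genSub W5 mg)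
  have h3 : (genSub W5 mg).index * s ≤ b * s := by
    calc (genSub W5 mg).index * s
        ≤ (genSub W5 mg).index * Nat.card (genSub W5 mg) := Nat.mul_le_mul_left _ h1
      _ = Nat.card HNP2W.G := h2
      _ ≤ 177408000 := hcard
      _ = b * s := hb.symm
  exact Nat.le_of_mul_le_mul_right h3 hs0

omit hι in
theorem index_rows : ∀ i : Fin 9, (genSub W5 (mgs.getD i.val [])).index ≤ bnds.getD i.val 0 := by
  intro i
  fin_cases i
  · exact index_le_of_chain hcard mg0 ch0 mg0_lt chk_ch0 177408000 1 sizes_ch0 (by norm_num)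
      (by norm_num)
  · exact index_le_of_chain hcard mg1 ch1 mg1_lt chk_ch1 126000 1408 sizes_ch1 (by norm_num)
      (by norm_num)
  · exact index_le_of_chain hcard mg2 ch2 mg2_lt chk_ch2 5040 35200 sizes_ch2 (by norm_num)
      (by norm_num)
  · exact index_le_of_chain hcard mg3 ch3 mg3_lt chk_ch3 80640 2200 sizes_ch3 (by norm_num)
      (by norm_num)
  · exact index_le_of_chain hcard mg4 ch4 mg4_lt chk_ch4 1440 123200 sizes_ch4 (by norm_num)
      (by norm_num)
  · exact index_le_of_chain hcard mg5 ch5 mg5_lt chk_ch5 500 354816 sizes_ch5 (by norm_num)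
      (by norm_num)
  · exact index_le_of_chain hcard mg6 ch6 mg6_lt chk_ch6 240 739200 sizes_ch6 (by norm_num)
      (by norm_num)
  · exact index_le_of_chain hcard mg7 ch7 mg7_lt chk_ch7 640 277200 sizes_ch7 (by norm_num)
      (by norm_num)
  · exact index_le_of_chain hcard mg8 ch8 mg8_lt chk_ch8 30720 5775 sizes_ch8 (by norm_num)
      (by norm_num)

/-- the representatives of the double cosets -/
noncomputable def wR (i : Fin 9) : HNG := ev7 (roww.getD i.val [])

/-- the subgroups of the rows -/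
noncomputable def MR (i : Fin 9) : Subgroup HNP2W.G := genSub W5 (mgs.getD i.val [])

/-- the entries of the rows -/
noncomputable def ER (i : Fin 9) : List (Entry 9 HNP2W.G) :=
  (entsL.getD i.val []).map (fun e => ((evP e.1, fin9 e.2.1, evP e.2.2.1) : Entry 9 HNP2W.G))

theorem hgens7 : ∀ i : Fin 9, ∀ u ∈ mgs.getD i.val [], (∀ c ∈ u, c < 5) ∧
    Valid (ctx ι hι hcard) (roww.getD i.val [] ++ u, roww.getD i.val []) := by
  intro i
  have h := chk_gens
  rw [List.all_eq_true] at h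
  exact chkGens_spec (ctx ι hι hcard) (valid13 ι hι hcard) _ _ _ (h i.val (hrange9 i))

theorem hM7 : ∀ i : Fin 9, ∀ m ∈ MR i, CosetEq ι.range (wR i * ι m) (wR i) := by
  intro i
  apply cosetEq_of_mem_genSub
  intro u hu
  obtain ⟨hu5, hv⟩ := hgens7 ι hι hcard i u hu
  have hv' : CosetEq ι.range (ev7 (roww.getD i.val [] ++ u)) (ev7 (roww.getD i.val [])) := hv
  rw [ev7_append] at hv'
  rw [W5_ev, hι u hu5]
  exact hv'

theorem hE7 : ∀ i : Fin 9, ∀ e ∈ ER i,
    CosetEq ι.range (wR i * ((ι e.1)⁻¹ * ev7 [5] * ι e.1)) (wR e.2.1 * ι e.2.2) := by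
  intro i e he
  obtain ⟨e0, he0, rfl⟩ := List.mem_map.mp he
  obtain ⟨h1, h2, h3, h4⟩ := chkEnt_spec (ctx ι hι hcard) (valid13 ι hι hcard) (hents7 i e0 he0)
  show CosetEq ι.range (ev7 _ * ((ι (evP e0.1))⁻¹ * ev7 [5] * ι (evP e0.1)))
    (ev7 (roww.getD (fin9 e0.2.1).val []) * ι (evP e0.2.2.1))
  rw [hι _ h1, hι _ h2]
  have e9 : (fin9 e0.2.1).val = e0.2.1 := by
    rw [roww_length] at h3
    exact Nat.mod_eq_of_lt h3
  rw [e9]
  exact h4

theorem hcov7 : ∀ i : Fin 9, ∀ q : Fin 1408, ∃ e ∈ ER i,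
    ∃ m ∈ MR i, q = (psi (e.1 * m))⁻¹ ⟨0, by decide⟩ := by
  intro i q
  have h := chk_covs
  rw [List.all_eq_true] at h
  obtain ⟨e0, he0, path, hp⟩ := chkCov_spec (h i.val (hrange9 i)) q.val q.isLt
  have hmg5 : ∀ u ∈ mgs.getD i.val [], ∀ c ∈ u, c < 5 :=
    fun u hu => (hgens7 ι hι hcard i u hu).1
  obtain ⟨h1, -, -, -⟩ :=
    chkEnt_spec (ctx ι hι hcard) (valid13 ι hι hcard) (hents7 i e0 he0)
  refine ⟨(evP e0.1, fin9 e0.2.1, evP e0.2.2.1), List.mem_map.mpr ⟨e0, he0, rfl⟩,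
    W5.ev (expand (mgs.getD i.val []) path), expand_mem W5 hmg5 path, ?_⟩
  apply Fin.ext
  show q.val = ((psi (W5.ev e0.1 * W5.ev (expand (mgs.getD i.val []) path)))⁻¹ ⟨0, _⟩).val
  rw [← W5.ev_append, psi_act' _ (mem_append_lt h1 (expand_lt W5 hmg5 path))]
  exact hp.symm

/-- every element lies in one of the nine double cosets -/
theorem inRows7 : ∀ g : HNG, ∃ i p, CosetEq ι.range g (wR i * ι p) :=
  inRows_all ι ι.range (ev7 [5]) t_pow_five (hgen7 ι hι)
    psi ⟨0, by decide⟩ (hC7 ι hι hcard) wR 0 ev7_nil MR (hM7 ι hι hcard) ER (hE7 ι hι hcard)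
    (hcov7 ι hι hcard)

omit hι in
theorem index_rows' : ∀ i : Fin 9, (MR i).index ≤ bnds.getD i.val 0 := index_rows hcard

/-- the upper bound for the index -/
theorem index_le_main : ι.range.index ≤ 1539000 ∧ ι.range.index ≠ 0 := by
  have key := index_le_of_rows ι ι.range wR MR (hM7 ι hι hcard) (inRows7 ι hι hcard)
  refine ⟨key.1.trans ?_, key.2⟩
  calc ∑ i : Fin 9, (MR i).index
      ≤ ∑ i : Fin 9, bnds.getD i.val 0 := Finset.sum_le_sum (fun i _ => index_rows' hcard i)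
    _ = 1539000 := bnds_sum

/-- the orbits of the subgroup on its cosets, once its index is known -/
theorem orbits7 (hidx : 1539000 ≤ ι.range.index) :
    (∀ i : Fin 9, (MulAction.orbit ι.range (((wR i)⁻¹ : HNG) : HNG ⧸ ι.range)).ncard =
      bnds.getD i.val 0) ∧
    (∀ i j : Fin 9, i ≠ j → MulAction.orbit ι.range (((wR i)⁻¹ : HNG) : HNG ⧸ ι.range) ≠
      MulAction.orbit ι.range (((wR j)⁻¹ : HNG) : HNG ⧸ ι.range)) :=
  orbits_of_rows ι wR MR (hM7 ι hι hcard) (inRows7 ι hι hcard) (fun i => bnds.getD i.val 0)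
    (index_rows' hcard) (by rw [bnds_sum]; exact hidx)

/-- the orbits of the subgroup on its cosets, the subgroup being given in another form -/
theorem orbits7' (Hs : Subgroup HNG) (hHs : ι.range = Hs) (hidx : 1539000 ≤ Hs.index) :
    (∀ i : Fin 9, (MulAction.orbit Hs (((wR i)⁻¹ : HNG) : HNG ⧸ Hs)).ncard =
      bnds.getD i.val 0) ∧
    (∀ i j : Fin 9, i ≠ j → MulAction.orbit Hs (((wR i)⁻¹ : HNG) : HNG ⧸ Hs) ≠
      MulAction.orbit Hs (((wR j)⁻¹ : HNG) : HNG ⧸ Hs)) := by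
  subst hHs
  exact orbits7 ι hι hcard hidx

end

end Cfsg.Agent.Lib.Helper2.HNS
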