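import Cfsg.Agent.Lib.Helper2.HNDce4
import Cfsg.Agent.Lib.Helper2.HNS.Tab
set_option autoImplicit false
set_option maxRecDepth 1000000
set_option Elab.async false
open Cfsg.Agent.Lib.Helper2.HNDce
namespace Cfsg.Agent.Lib.Helper2.HNS

/-! # The certificate of the double coset enumeration, part 0 -/

/-- the coset equalities of part 0, with their chains -/
def cert0 : List (List Nat × List Nat × List Step) := [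
  ([5, 2], [5], [.e3 0 [] [5] [2] [2] [5] [], .strip 1]),
  ([5, 1, 2, 0], [5], [.e3 0 [] [5] [1, 2, 0] [1, 2, 0] [5] [], .strip 3]),
  ([5, 1, 1, 5, 0, 0], [], [.e3 1 [1, 1] [5] [0, 0] [] [6] [], .fr 0 [5] false]),
  ([5, 4, 5, 4], [5, 0, 0], [.e3 1 [4] [5] [4] [0, 0, 4, 1, 1] [5] [0, 0, 4, 1, 1], .add [4, 1, 1], .pre 2 false, .e3 1 [1, 1] [5] [0, 0] [1, 1] [5] [0, 0], .e3 1 [1, 1] [5] [0, 0] [1, 1] [5] [0, 0], .e3 6 [4, 1, 1] [5] [0, 0, 4] [1, 1, 4] [5] [4, 0, 0], .e3 13 [1, 1] [5] [0, 0] [1, 1] [5] [0, 0], .fr 4 [0, 0] false, .fr 7 [0, 0] false, .fr 3 [4] true, .rel 4 false, .e2 1 [1, 1, 4, 0, 0, 4, 1, 1] [0, 0]]),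
  ([5, 1, 5, 0], [5, 0, 0], [.e3 1 [1] [5] [0] [0, 0, 0] [5] [1, 1, 1], .add [1, 1], .pre 2 false, .e3 1 [1, 1] [5] [0, 0] [1, 1] [5] [0, 0], .e3 1 [1, 1] [5] [0, 0] [1, 1] [5] [0, 0], .e3 6 [1, 1] [5] [0, 0] [1, 1] [5] [0, 0], .e3 11 [0] [5] [1] [1, 1] [6, 6] [0, 0], .fr 4 [0, 0] false, .fr 5 [0, 0] false, .e3 1 [1, 1] [5, 5, 6, 6] [0, 0] [] [] [], .e2 1 [1, 1] [0, 0]]),
  ([5, 0, 5, 1], [5, 0], [.e3 1 [0] [5] [1] [1, 1, 1] [5] [0, 0, 0], .add [0], .pre 2 false, .e3 1 [1, 1] [5] [0, 0] [1, 1] [5] [0, 0], .e3 1 [1, 1] [5] [0, 0] [1, 1] [5] [0, 0], .e3 6 [0] [5] [1] [1, 1] [6, 6] [0, 0], .e3 12 [1, 1] [5] [0, 0] [1, 1] [5] [0, 0], .fr 4 [0, 0] false, .fr 6 [0, 0] false, .e3 1 [1, 1] [5, 6, 6, 5] [0, 0] [] [] []]),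
  ([5, 5], [5, 1], [.e3 1 [] [5] [] [0, 1] [5] [0, 1], .e3 2 [1] [5] [0] [0] [6] [1], .pre 5 false, .fr 1 [0, 5, 1] false]),
  ([5, 4, 1, 1, 5, 0, 0, 4], [5, 4, 1, 1, 5, 0, 0, 4], []),
  ([5, 4, 1, 1, 5, 0, 0, 4, 2, 1, 3, 0, 2], [5, 4, 1, 1, 5, 0, 0, 4], [.pre 7 false, .e3 1 [4, 1, 1] [5] [0, 0, 4, 2, 1, 3, 0, 2] [2, 1, 3, 0, 2, 4, 1, 1] [5] [0, 0, 4], .pre 0 true, .pre 1 false, .fr 1 [1, 2, 0] false, .pre 0 true, .pre 7 true, .fr 8 [] true]),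
  ([5, 4, 1, 1, 5, 0, 0, 4, 3, 1, 3, 0, 1, 3, 0, 3], [5, 4, 1, 1, 5, 0, 0, 4], [.pre 7 false, .e3 1 [4, 1, 1] [5] [0, 0, 4, 3, 1, 3, 0, 1, 3, 0, 3] [3, 1, 3, 0, 1, 3, 0, 3, 4, 1, 1] [5] [0, 0, 4], .pre 0 false, .fr 1 [2] false, .pre 1 false, .fr 1 [1, 2, 0] false, .pre 1 false, .fr 1 [1, 2, 0] false, .pre 0 false, .fr 1 [2] false, .pre 7 true, .fr 8 [] true]),
  ([5, 4, 1, 1, 5, 0, 0, 4, 1, 2, 0, 2, 1, 3, 0, 3], [5, 4, 1, 1, 5, 0, 0, 4], [.pre 7 false, .e3 1 [4, 1, 1] [5] [0, 0, 4, 1, 2, 0, 2, 1, 3, 0, 3] [1, 2, 0, 2, 1, 3, 0, 3, 4, 1, 1] [5] [0, 0, 4], .pre 1 true, .pre 0 true, .pre 1 false, .fr 1 [1, 2, 0] false, .pre 0 false, .fr 1 [2] false, .pre 7 true, .fr 8 [] true]),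
  ([5, 4, 1, 1, 5, 0, 0, 4, 4, 5, 4], [5], [.e3 8 [4] [5] [4] [4] [5] [4], .e3 8 [4] [5] [4] [4, 1, 1] [6] [0, 0, 4], .pre 7 false, .fr 1 [4, 1, 1, 5, 0, 0, 4] false])]

/-- the coset equalities before part 0 -/
def prev0 : List (List Nat × List Nat) := []

theorem chk_cert0 : checkAll px bp prev0 cert0 = true := by decide +kernel

end Cfsg.Agent.Lib.Helper2.HNS
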