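import Cfsg.Agent.Lib.Helper2.HNDce4
import Cfsg.Agent.Lib.Helper2.HNS.Tab
import Cfsg.Agent.Lib.Helper2.HNS.Cert0
set_option autoImplicit false
set_option maxRecDepth 1000000
set_option Elab.async false
open Cfsg.Agent.Lib.Helper2.HNDce
namespace Cfsg.Agent.Lib.Helper2.HNS

/-! # The certificate of the double coset enumeration, part 1 -/

/-- the coset equalities of part 1, with their chains -/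
def cert1 : List (List Nat × List Nat × List Step) := [
  ([5, 4, 1, 1, 5, 0, 0, 4, 4, 0, 5, 1, 4], [5, 0, 0], [.e3 8 [4, 0] [5] [1, 4] [0, 0, 4, 1] [5] [0, 4, 1, 1], .pre 7 false, .e3 1 [4, 1, 1] [5] [0, 0, 4, 0, 0] [0, 0, 4] [5] [4], .pre 3 false, .e3 1 [4] [5] [4] [4] [5] [4], .e3 1 [4] [5] [4] [4] [5] [4], .e3 4 [4] [5] [4] [4] [5] [4], .e3 7 [4, 1] [5] [0, 4] [4] [6, 6] [4], .fr 3 [4] false, .fr 4 [4] false, .e3 1 [4] [5, 5, 6, 6] [4] [] [] [], .e2 1 [1, 1] [0, 0]]),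
  ([5, 4, 0, 5, 1, 4], [5, 4, 1, 1, 5, 0, 0, 4, 0, 0], [.e3 1 [4, 0] [5] [1, 4] [0, 0, 4, 1] [5] [0, 4, 1, 1], .e3 3 [4, 1] [5] [0, 4] [4, 0] [6] [1, 4], .pre 12 false, .fr 8 [4, 0, 5, 1, 4] false, .e2 8 [1, 1] [0, 0]]),
  ([5, 4, 1, 1, 5, 0, 0, 4, 1, 1, 5, 0, 0], [5, 4, 0], [.e3 8 [1, 1] [5] [0, 0] [0, 0] [5] [1, 1], .pre 7 false, .e3 1 [4, 1, 1] [5] [0, 0, 4, 0] [0, 4, 1] [5] [0, 4], .pre 5 false, .e3 1 [0] [5] [1] [0] [5] [1], .e3 1 [0] [5] [1] [0] [5] [1], .e3 4 [4, 1] [5] [0, 4] [0, 4] [5] [4, 1], .e3 9 [0] [5] [1] [0] [5] [1], .fr 3 [1] false, .fr 6 [1] false, .fr 2 [4] true, .rel 3 false, .e2 1 [0, 4, 1, 1] [4, 0]]),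
  ([5, 4, 1, 1, 5, 0, 0, 4, 1, 4, 1, 1], [5, 4, 1, 1, 5, 0, 0, 4], [.fr 8 [1, 1, 5, 0, 0] true, .pre 14 true, .e3 3 [1, 1] [6] [0, 0] [] [5] [], .e3 1 [4, 0] [5] [] [4, 0] [5] [1, 4, 4, 0], .pre 13 true, .fr 8 [0, 0, 4, 0] false]),
  ([5, 4, 1, 1, 5, 0, 0, 4, 4, 1, 5, 0, 4], [5, 4, 1, 1, 5, 0, 0, 4, 0, 0], [.e3 8 [4, 1] [5] [0, 4] [4, 1] [5] [0, 4], .pre 7 false, .e3 1 [4, 1, 1] [5] [0, 0, 4] [4, 1, 1] [5] [0, 0, 4], .fr 13 [4, 1, 5, 0, 4] true, .e3 1 [4, 1, 1] [5] [0, 0, 4] [4, 1, 1] [5] [0, 0, 4], .e3 8 [4, 1] [5] [0, 4] [4, 1, 1] [5, 5] [0, 0, 4], .e3 16 [4, 1] [5] [0, 4] [4, 1, 1] [5, 5] [0, 0, 4], .fr 5 [0, 0, 4] false, .fr 7 [0, 0, 4] false, .e3 1 [4, 1, 1] [5, 5, 5, 5, 5] [0, 0, 4] [] [] [], .e3 1 [4, 1] [6] [0, 4] [4, 0] [5] [1, 4], .e3 1 [4, 0] [5] [1, 4] [4, 0] [5]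 [1, 4], .pre 13 true]),
  ([5, 4, 1, 5, 0, 4], [5, 4, 1, 5, 0, 4], []),
  ([5, 4, 1, 5, 0, 4, 2, 1, 3, 0, 2], [5, 4, 1, 5, 0, 4], [.pre 17 false, .e3 1 [4, 1] [5] [0, 4, 2, 1, 3, 0, 2] [2, 1, 3, 0, 2, 4, 1] [5] [0, 4], .pre 0 true, .pre 1 false, .fr 1 [1, 2, 0] false, .pre 0 true, .pre 17 true, .fr 6 [] true]),
  ([5, 4, 1, 5, 0, 4, 3, 1, 3, 0, 1, 3, 0, 3], [5, 4, 1, 5, 0, 4], [.pre 17 false, .e3 1 [4, 1] [5] [0, 4, 3, 1, 3, 0, 1, 3, 0, 3] [3, 1, 3, 0, 1, 3, 0, 3, 4, 1] [5] [0, 4], .pre 0 false, .fr 1 [2] false, .pre 1 false, .fr 1 [1, 2, 0] false, .pre 1 false, .fr 1 [1, 2, 0] false, .pre 0 false, .fr 1 [2] false, .pre 17 true, .fr 6 [] true]),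
  ([5, 4, 1, 5, 0, 4, 1, 2, 0, 2, 1, 3, 0, 3], [5, 4, 1, 5, 0, 4], [.pre 17 false, .e3 1 [4, 1] [5] [0, 4, 1, 2, 0, 2, 1, 3, 0, 3] [1, 2, 0, 2, 1, 3, 0, 3, 4, 1] [5] [0, 4], .pre 1 true, .pre 0 true, .pre 1 false, .fr 1 [1, 2, 0] false, .pre 0 false, .fr 1 [2] false, .pre 17 true, .fr 6 [] true]),
  ([5, 4, 1, 5, 0, 4, 4, 0, 5, 1, 4], [5], [.e3 6 [4, 0] [5] [1, 4] [4, 0] [5] [1, 4], .e3 6 [4, 0] [5] [1, 4] [4, 1] [6] [0, 4], .pre 17 false, .fr 1 [4, 1, 5, 0, 4] false]),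
  ([5, 4, 1, 5, 0, 4, 4, 1, 5, 0, 4], [5, 0, 0], [.e3 6 [4, 1] [5] [0, 4] [0, 0, 4, 0] [5] [1, 4, 1, 1], .pre 17 false, .e3 1 [4, 1] [5] [0, 4, 0, 0] [0, 0, 4, 0] [5] [1, 4], .pre 3 false, .e3 1 [4] [5] [4] [4] [5] [4], .e3 1 [4] [5] [4] [4] [5] [4], .e3 4 [4, 0] [5] [1, 4] [4] [5, 5] [4], .e3 8 [4, 0] [5] [1, 4] [4] [5, 5] [4], .fr 3 [4] false, .fr 5 [4] false, .e3 1 [4] [5, 5, 5, 5, 5] [4] [] [] [], .e2 1 [1, 1] [0, 0]]),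
  ([5, 4, 1, 5, 0, 4, 1, 1], [5, 4, 1, 5, 0, 4], [.fr 6 [4, 1, 5, 0, 4] true, .pre 22 true, .e3 3 [4, 1] [6] [0, 4] [4, 0] [5] [1, 4], .e3 1 [0, 0, 4, 0] [5] [1, 4] [4, 1] [5] [0, 4, 0, 0], .pre 17 true, .fr 6 [0, 0] false])]

/-- the coset equalities before part 1 -/
def prev1 : List (List Nat × List Nat) := prev0 ++ cert0.map (fun f => (f.1, f.2.1))

theorem chk_cert1 : checkAll px bp prev1 cert1 = true := by decide +kernel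

end Cfsg.Agent.Lib.Helper2.HNS
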