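import Cfsg.Agent.Lib.Helper2.HNDce4
import Cfsg.Agent.Lib.Helper2.HNS.Tab
import Cfsg.Agent.Lib.Helper2.HNS.Cert1
set_option autoImplicit false
set_option maxRecDepth 1000000
set_option Elab.async false
open Cfsg.Agent.Lib.Helper2.HNDce
namespace Cfsg.Agent.Lib.Helper2.HNS

/-! # The certificate of the double coset enumeration, part 2 -/

/-- the coset equalities of part 2, with their chains -/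
def cert2 : List (List Nat × List Nat × List Step) := [
  ([5, 4, 1, 5, 0, 4, 0, 5, 1], [5, 4], [.e3 6 [0] [5] [1] [0, 0, 1] [5] [0, 1, 1], .pre 17 false, .e3 1 [4, 1] [5] [0, 4, 0, 0] [0, 0, 4, 0] [5] [1, 4], .pre 4 false, .e3 1 [1] [5] [0] [1] [5] [0], .e3 1 [1] [5] [0] [1] [5] [0], .e3 4 [4, 0] [5] [1, 4] [1, 4] [5] [4, 0], .e3 9 [1] [5] [0] [1] [5] [0], .fr 3 [0] false, .fr 6 [0] false, .fr 2 [4] true, .rel 3 false, .e2 1 [1, 4, 0, 1, 1] [4]]),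
  ([5, 4, 1, 5, 0, 4, 4], [5, 4, 1, 5, 0, 4], [.fr 6 [0, 5, 1] true, .pre 24 true, .e3 2 [0] [6] [1] [1] [5] [0], .e3 1 [4, 1] [5] [0] [4, 1] [5] [0, 4, 4], .pre 17 true, .fr 6 [4] false]),
  ([5, 4, 1, 1, 5, 0, 0, 4, 4, 1, 1, 5, 0, 0, 4], [5, 4, 1, 5, 0, 4], [.e3 8 [4, 1, 1] [5] [0, 0, 4] [4, 1, 1] [5] [0, 0, 4], .pre 7 false, .e3 1 [4, 1, 1] [5] [0, 0, 4] [4, 1, 1] [5] [0, 0, 4], .fr 15 [4, 0, 5, 1, 4] true, .e3 1 [4, 1, 1] [5] [0, 0, 4] [4, 1, 1] [5] [0, 0, 4], .e3 8 [4, 1, 1] [5] [0, 0, 4] [4, 1, 1] [5] [0, 0, 4], .e3 15 [4, 0] [5] [1, 4] [4, 1, 1] [6, 6] [0, 0, 4], .fr 5 [0, 0, 4] false, .fr 6 [0, 0, 4] false, .e3 1 [4, 1, 1] [5, 5, 6, 6] [0, 0, 4] [] [] [], .e3 1 [4, 0] [6] [1, 4] [4, 1] [5] [0, 4], .e3 1 [4, 1] [5] [0, 4] [4, 1] [5] [0, 4], .pre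 17 true]),
  ([5, 4, 1, 5, 0, 4, 4, 5, 4], [5, 4, 1, 1, 5, 0, 0, 4], [.e3 6 [4] [5] [4] [4] [5] [4], .e3 6 [4] [5] [4] [4, 1, 1] [6] [0, 0, 4], .pre 26 false, .fr 8 [4, 1, 1, 5, 0, 0, 4] false]),
  ([5, 4, 3, 4, 1, 5, 0, 4, 2, 4], [5, 4, 3, 4, 1, 5, 0, 4, 2, 4], []),
  ([5, 4, 3, 4, 1, 5, 0, 4, 2, 4, 1, 2, 0, 2, 1, 2, 0, 2], [5, 4, 3, 4, 1, 5, 0, 4, 2, 4], [.pre 28 false, .e3 1 [4, 3, 4, 1] [5] [0, 4, 2, 4, 1, 2, 0, 2, 1, 2, 0, 2] [1, 2, 0, 2, 1, 2, 0, 2, 4, 3, 4, 1] [5] [0, 4, 2, 4], .pre 1 true, .pre 0 true, .pre 1 true, .pre 0 true, .pre 28 true, .fr 10 [] true]),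
  ([5, 4, 3, 4, 1, 5, 0, 4, 2, 4, 2, 1, 3, 0, 1, 3, 0, 2, 1, 2, 0], [5, 4, 3, 4, 1, 5, 0, 4, 2, 4], [.pre 28 false, .e3 1 [4, 3, 4, 1] [5] [0, 4, 2, 4, 2, 1, 3, 0, 1, 3, 0, 2, 1, 2, 0] [2, 1, 3, 0, 1, 3, 0, 2, 1, 2, 0, 4, 3, 4, 1] [5] [0, 4, 2, 4], .pre 0 true, .pre 1 false, .fr 1 [1, 2, 0] false, .pre 1 false, .fr 1 [1, 2, 0] false, .pre 0 true, .pre 1 true, .pre 28 true, .fr 10 [] true]),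
  ([5, 4, 3, 4, 1, 5, 0, 4, 2, 4, 3, 1, 2, 0, 2, 1, 2, 0, 2, 2], [5, 4, 3, 4, 1, 5, 0, 4, 2, 4], [.pre 28 false, .e3 1 [4, 3, 4, 1] [5] [0, 4, 2, 4, 3, 1, 2, 0, 2, 1, 2, 0, 2, 2] [3, 1, 2, 0, 2, 1, 2, 0, 2, 2, 4, 3, 4, 1] [5] [0, 4, 2, 4], .pre 0 false, .fr 1 [2] false, .pre 1 true, .pre 0 true, .pre 1 true, .pre 0 true, .pre 0 true, .pre 28 true, .fr 10 [] true]),
  ([5, 4, 3, 4, 1, 5, 0, 4, 2, 4, 3, 1, 3, 0, 2, 2, 1, 3, 0], [5, 4, 3, 4, 1, 5, 0, 4, 2, 4], [.pre 28 false, .e3 1 [4, 3, 4, 1] [5] [0, 4, 2, 4, 3, 1, 3, 0, 2, 2, 1, 3, 0] [3, 1, 3, 0, 2, 2, 1, 3, 0, 4, 3, 4, 1] [5] [0, 4, 2, 4], .pre 0 false, .fr 1 [2] false, .pre 1 false, .fr 1 [1, 2, 0] false, .pre 0 true, .pre 0 true, .pre 1 false, .fr 1 [1, 2, 0] false, .pre 28 true, .fr 10 [] true]),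
  ([5, 4, 3, 4, 1, 5, 0, 4, 2, 4, 4, 3, 4, 0, 5, 1, 4, 2, 4], [5], [.e3 10 [4, 3, 4, 0] [5] [1, 4, 2, 4] [4, 3, 4, 0] [5] [1, 4, 2, 4], .e3 10 [4, 3, 4, 0] [5] [1, 4, 2, 4] [4, 3, 4, 1] [6] [0, 4, 2, 4], .pre 28 false, .fr 1 [4, 3, 4, 1, 5, 0, 4, 2, 4] false]),
  ([5, 4, 3, 4, 1, 5, 0, 4, 2, 4, 3, 4, 1, 1, 5, 0, 0, 4, 2], [5, 4, 0, 3, 4, 2, 4], [.e3 10 [3, 4, 1, 1] [5] [0, 0, 4, 2] [2, 2, 2, 1, 2, 0, 2, 1, 3, 0, 3, 1, 2, 0, 0, 0, 4] [5] [4, 1, 1, 1, 3, 0, 2, 1, 2, 0, 3, 1, 3, 0, 3, 3, 3], .pre 28 false, .fr 1 [2] true, .pre 0 true, .fr 1 [2] true, .pre 0 true, .fr 1 [2] true, .pre 0 true, .fr 1 [1, 2, 0] true, .pre 1 true, .fr 1 [2] true, .pre 0 true, .pre 1 false, .pre 0 false, .fr 1 [1, 2, 0] true, .pre 1 true, .e3 1 [1, 3, 0, 2, 1, 2, 0, 3, 1, 3, 0,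 3, 3, 3, 4, 3, 4, 1] [5] [0, 4, 2, 4, 2, 2, 2, 1, 2, 0, 2, 1, 3, 0, 3, 1, 2, 0, 0, 0] [0, 0, 4, 3, 1, 3, 4, 1] [5] [0, 4, 2, 0, 2, 4], .pre 3 false, .e3 1 [4] [5] [4] [4] [5] [4], .e3 1 [4] [5] [4] [4, 1, 3, 0, 3] [5] [2, 1, 2, 0, 4], .e3 12 [4, 3, 1, 3, 4, 1] [5] [0, 4, 2, 0, 2, 4] [4, 1, 3, 0, 3, 4] [5] [4, 2, 1, 2, 0, 4], .e3 25 [4] [5] [4] [4, 1, 3, 0, 3] [5] [2, 1, 2, 0, 4], .fr 7 [2, 1, 2, 0, 4] false, .fr 10 [2, 1, 2, 0, 4] false, .fr 6 [4] true, .rel 7 false, .e2 1 [4, 1, 3, 0, 3, 4, 2, 1, 2, 0, 4, 1, 1, 1, 3, 0, 2, 1, 2, 0, 3, 1, 3, 0, 3, 3, 3] [3, 3, 1, 2, 0, 2, 1, 3, 0, 3, 1, 3, 0, 2, 1, 2, 0, 3, 3, 4, 0, 3, 4, 2, 4], .pre 0 false, .fr 1 [2] false, .pre 0 false, .fr 1 [2] false, .pre 1 true, .pre 0 true, .pre 1 false, .fr 1 [1, 2, 0] false,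 .pre 0 false, .fr 1 [2] false, .pre 1 false, .fr 1 [1, 2, 0] false, .pre 0 true, .pre 1 true, .pre 0 false, .fr 1 [2] false, .pre 0 false, .fr 1 [2] false]),
  ([5, 4, 3, 4, 1, 5, 0, 4, 2, 4, 4, 3, 4, 2, 1, 4, 3, 1, 2, 0], [5, 4, 3, 4, 1, 5, 0, 4, 2, 4], [.fr 10 [3, 4, 1, 1, 5, 0, 0, 4, 2] true, .pre 34 true, .e3 7 [3, 4, 1, 1] [6] [0, 0, 4, 2] [3, 4] [5] [4, 2], .e3 1 [4, 0, 3, 4, 2, 4, 3, 4] [5] [4, 2] [3, 1, 2, 0, 4, 3, 4, 1] [5] [0, 4, 2, 4, 1, 3, 0, 2, 4, 0, 3, 4, 2, 4], .pre 0 false, .fr 1 [2] false, .pre 1 true, .pre 28 true, .fr 10 [1, 3, 0, 2, 4, 0, 3, 4, 2, 4] false])]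

/-- the coset equalities before part 2 -/
def prev2 : List (List Nat × List Nat) := prev1 ++ cert1.map (fun f => (f.1, f.2.1))

theorem chk_cert2 : checkAll px bp prev2 cert2 = true := by decide +kernel

end Cfsg.Agent.Lib.Helper2.HNS
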