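import Cfsg.Agent.Lib.Helper2.HNDce4
import Cfsg.Agent.Lib.Helper2.HNS.Tab
import Cfsg.Agent.Lib.Helper2.HNS.Cert2
set_option autoImplicit false
set_option maxRecDepth 1000000
set_option Elab.async false
open Cfsg.Agent.Lib.Helper2.HNDce
namespace Cfsg.Agent.Lib.Helper2.HNS

/-! # The certificate of the double coset enumeration, part 3 -/

/-- the coset equalities of part 3, with their chains -/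
def cert3 : List (List Nat × List Nat × List Step) := [
  ([5, 4, 1, 1, 5, 0, 0, 4, 4, 3, 0, 3, 4, 1, 5, 0, 4, 2, 1, 2, 4], [5, 4, 3, 4, 1, 5, 0, 4, 2, 4, 2, 2, 2, 1, 2, 0, 2, 1, 3, 0, 3, 3, 4, 1, 1, 1, 3, 0, 3, 4, 2, 1, 2, 0, 0, 0, 4], [.e3 8 [4, 3, 0, 3, 4, 1] [5] [0, 4, 2, 1, 2, 4] [4, 3, 0, 3, 4, 1] [5] [0, 4, 2, 1, 2, 4], .pre 7 false, .e3 1 [4, 1, 1] [5] [0, 0, 4] [4, 1, 1] [5] [0, 0, 4], .fr 21 [4, 1, 1, 5, 0, 0, 4] true, .e3 1 [4, 1, 1] [5] [0, 0, 4] [4, 1, 1, 1, 3, 0, 3] [5] [2, 1, 2, 0, 0, 0, 4], .e3 16 [4, 3, 0, 3, 4, 1] [5] [0, 4, 2, 1, 2, 4] [4, 1, 1, 1, 3, 0, 3, 4] [5] [4, 2, 1, 2, 0, 0, 0, 4], .e3 33 [4, 1, 1] [5] [0, 0, 4] [4, 1, 1, 1, 3, 0, 3] [5] [2, 1, 2, 0, 0,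 0, 4], .fr 9 [2, 1, 2, 0, 0, 0, 4] false, .fr 12 [2, 1, 2, 0, 0, 0, 4] false, .fr 8 [4] true, .rel 9 false, .e3 16 [4, 1, 1] [6] [0, 0, 4] [4] [5] [4], .e3 1 [4, 1, 1, 1, 3, 0, 3, 4, 2, 1, 2, 0, 0, 0, 4, 4] [5] [4] [2, 2, 1, 2, 0, 3, 1, 3, 0, 3, 3, 3, 4, 3, 4, 1] [5] [0, 4, 2, 4, 2, 2, 2, 1, 2, 0, 2, 1, 3, 0, 3, 3, 4, 1, 1, 1, 3, 0, 3, 4, 2, 1, 2, 0, 0, 0, 4], .pre 0 true, .pre 0 true, .pre 1 true, .pre 0 false, .fr 1 [2] false, .pre 1 false, .fr 1 [1, 2, 0] false, .pre 0 false, .fr 1 [2] false, .pre 0 false, .fr 1 [2] false, .pre 0 false, .fr 1 [2] false, .pre 28 true]),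
  ([5, 4, 3, 4, 1, 5, 0, 4, 2, 4, 4, 3, 4, 2, 4, 0, 5, 1, 4, 3, 4, 2, 4], [5, 4, 1, 1, 5, 0, 0, 4, 0, 3, 3, 0, 3, 4, 3, 3, 4, 3, 3, 4, 3], [.e3 10 [4, 3, 4, 2, 4, 0] [5] [1, 4, 3, 4, 2, 4] [2, 2, 2, 1, 2, 0, 2, 1, 3, 0, 3, 3, 4, 1, 1, 1, 3, 0, 3, 4, 2, 1, 2, 0, 0, 0, 4, 4, 3, 1, 3, 4, 1] [5] [0, 4, 2, 0, 2, 4, 4, 1, 1, 1, 3, 0, 3, 4, 2, 1, 2, 0, 0, 0, 4, 2, 2, 1, 2, 0, 3, 1, 3, 0, 3, 3, 3], .e3 37 [4, 3, 1, 3, 4, 1] [5] [0, 4, 2, 0, 2, 4] [4, 3, 0, 3, 4, 1] [6] [0, 4, 2, 1, 2, 4], .pre 36 false, .fr 8 [4, 3, 0, 3, 4, 1, 5, 0, 4, 2, 1, 2, 4] false, .e2 8 [4, 1, 1, 1, 3, 0, 3, 4, 2, 1, 2, 0, 0, 0, 4, 2, 2, 1, 2, 0, 3, 1, 3, 0, 3, 3, 3] [2, 1, 3, 0, 2, 2, 1, 3, 0, 2, 1, 2, 0, 2, 1,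 3, 0, 3, 3, 1, 3, 0, 1, 3, 0, 3, 1, 2, 0, 2, 1, 3, 0, 3, 0, 3, 3, 0, 3, 4, 3, 3, 4, 3, 3, 4, 3], .pre 8 true, .pre 8 true, .pre 10 true, .pre 9 true, .pre 10 true]),
  ([5, 4, 1, 1, 5, 0, 0, 4, 4, 1, 3, 4, 5, 4, 2, 0, 4], [5, 4, 3, 4, 1, 5, 0, 4, 2, 4, 2, 2, 1, 2, 0, 2, 2, 1, 2, 0, 3, 1, 3, 0, 4, 0, 3, 4, 2, 1, 4, 1, 1], [.e3 8 [4, 1, 3, 4] [5] [4, 2, 0, 4] [0, 0, 4, 0, 3, 4] [5] [4, 2, 1, 4, 1, 1], .pre 13 false, .e3 1 [4, 0] [5] [1, 4] [4, 0] [5] [1, 4], .fr 15 [4, 0, 5, 1, 4] true, .e3 1 [4, 0] [5] [1, 4] [4, 0, 3] [5] [2, 1, 4], .e3 8 [4, 0, 3, 4] [5] [4, 2, 1, 4] [4, 0, 3, 4] [5] [4, 2, 1, 4], .e3 17 [4, 0] [5] [1, 4] [4, 0, 3] [5] [2, 1, 4], .fr 5 [2, 1, 4] false, .fr 8 [2,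 1, 4] false, .fr 4 [4] true, .rel 5 false, .e3 8 [4, 0] [6] [1, 4] [4, 1] [5] [0, 4], .e3 1 [4, 0, 3, 4, 2, 1, 4, 4, 1] [5] [0, 4] [1, 2, 0, 2, 1, 3, 0, 3, 3, 1, 3, 0, 3, 3, 4, 3, 4, 1] [5] [0, 4, 2, 4, 2, 2, 1, 2, 0, 2, 2, 1, 2, 0, 3, 1, 3, 0, 4, 0, 3, 4, 2, 1, 4], .pre 1 true, .pre 0 true, .pre 1 false, .fr 1 [1, 2, 0] false, .pre 0 false, .fr 1 [2] false, .pre 0 false, .fr 1 [2] false, .pre 1 false, .fr 1 [1, 2, 0] false, .pre 0 false, .fr 1 [2] false, .pre 0 false, .fr 1 [2] false, .pre 28 true]),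
  ([5, 4, 3, 4, 1, 5, 0, 4, 2, 4, 0, 2, 4, 5, 4, 3, 1], [5, 4, 1, 1, 5, 0, 0, 4, 3, 3, 0, 3, 4, 3, 3, 4, 3, 3, 4, 3], [.e3 10 [0, 2, 4] [5] [4, 3, 1] [2, 2, 1, 2, 0, 2, 2, 1, 2, 0, 3, 1, 3, 0, 4, 0, 3, 4, 2, 1, 4, 1, 1, 4, 0, 3, 4] [5] [4, 2, 1, 4, 0, 0, 4, 0, 3, 4, 2, 1, 4, 1, 2, 0, 2, 1, 3, 0, 3, 3, 1, 3, 0, 3, 3], .e3 33 [4, 0, 3, 4] [5] [4, 2, 1, 4] [4, 1, 3, 4] [6] [4, 2, 0, 4], .pre 38 false, .fr 8 [4, 1, 3, 4, 5, 4, 2, 0, 4] false, .e2 8 [0, 0, 4, 0, 3, 4, 2, 1, 4, 1, 2, 0, 2, 1, 3, 0, 3, 3, 1, 3, 0, 3, 3] [3, 1, 3, 0, 1, 3, 0, 3, 3, 1, 3, 0, 1, 3, 0, 3, 3, 1, 2, 0, 3, 1, 2, 0, 2, 1, 3, 0, 3, 3, 1, 2, 0, 3, 2, 1, 2, 0, 1, 2, 0, 2, 3, 3, 0, 3, 4, 3, 3, 4, 3, 3, 4, 3], .pre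 9 true, .pre 9 true, .pre 8 false, .fr 8 [2, 1, 3, 0, 2] false, .pre 10 true, .pre 8 false, .fr 8 [2, 1, 3, 0, 2] false, .pre 9 false, .fr 8 [3, 1, 3, 0, 1, 3, 0, 3] false]),
  ([5, 4, 1, 5, 0, 4, 4, 1, 3, 4, 5, 4, 2, 0, 4], [5, 4, 3, 4, 1, 5, 0, 4, 2, 4, 3, 1, 2, 0, 4, 1, 3, 4, 2, 0, 4], [.e3 6 [4, 1, 3, 4] [5] [4, 2, 0, 4] [4, 1, 3, 4] [5] [4, 2, 0, 4], .pre 17 false, .e3 1 [4, 1] [5] [0, 4] [4, 1] [5] [0, 4], .fr 15 [4, 1, 5, 0, 4] true, .e3 1 [4, 1] [5] [0, 4] [4, 1, 3] [5] [2, 0, 4], .e3 8 [4, 1, 3, 4] [5] [4, 2, 0, 4] [4, 1, 3, 4] [5] [4, 2, 0, 4], .e3 17 [4, 1] [5] [0, 4] [4, 1, 3] [5] [2, 0, 4], .fr 5 [2, 0, 4] false, .fr 8 [2, 0, 4] false, .fr 4 [4] true, .rel 5 false,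 .e3 8 [4, 1] [6] [0, 4] [4, 0] [5] [1, 4], .e3 1 [4, 1, 3, 4, 2, 0, 4, 4, 0] [5] [1, 4] [1, 3, 0, 2, 4, 3, 4, 1] [5] [0, 4, 2, 4, 3, 1, 2, 0, 4, 1, 3, 4, 2, 0, 4], .pre 1 false, .fr 1 [1, 2, 0] false, .pre 0 true, .pre 28 true]),
  ([5, 4, 3, 4, 1, 5, 0, 4, 2, 4, 1, 3, 4, 5, 4, 2, 0], [5, 4, 1, 5, 0, 4, 4, 1, 3, 4, 2, 0, 4, 1, 3, 0, 2], [.e3 10 [1, 3, 4] [5] [4, 2, 0] [3, 1, 2, 0, 4, 1, 3, 4, 2, 0, 4, 4, 0, 3, 4] [5] [4, 2, 1, 4, 4, 1, 3, 4, 2, 0, 4, 1, 3, 0, 2], .e3 21 [4, 0, 3, 4] [5] [4, 2, 1, 4] [4, 1, 3, 4] [6] [4, 2, 0, 4], .pre 40 false, .fr 6 [4, 1, 3, 4, 5, 4, 2, 0, 4] false]),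
  ([5, 4, 3, 4, 1, 5, 0, 4, 2, 4, 4, 3, 4, 1, 1, 5, 0, 0, 4, 2, 4], [5, 4, 3, 4, 1, 5, 0, 4, 2, 4, 2, 2, 0, 2, 0, 3, 0, 2, 2, 0, 3, 3], [.e3 10 [4, 3, 4, 1, 1] [5] [0, 0, 4, 2, 4] [4, 3, 4, 1, 1] [5] [0, 0, 4, 2, 4], .pre 28 false, .e3 1 [4, 3, 4, 1] [5] [0, 4, 2, 4] [4, 3, 4, 1] [5] [0, 4, 2, 4], .fr 21 [4, 3, 4, 1, 5, 0, 4, 2, 4] true, .e3 1 [4, 3, 4, 1] [5] [0, 4, 2, 4] [4, 3, 4, 1] [5] [0, 4, 2, 4], .e3 10 [4, 3, 4, 1, 1] [5] [0, 0, 4, 2, 4] [4, 3, 4, 1] [6, 6] [0, 4, 2, 4], .e3 20 [4, 3, 4, 1] [5] [0, 4, 2, 4] [4, 3, 4, 1] [5] [0, 4, 2, 4], .fr 6 [0, 4, 2, 4] false, .fr 8 [0, 4, 2, 4] false, .e3 1 [4, 3, 4, 1] [5, 6, 6, 5] [0, 4, 2, 4] [] [] [], .e3 1 [4, 3, 4, 1] [6] [0, 4,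 2, 4] [4, 3, 4, 0] [5] [1, 4, 2, 4], .e3 1 [4, 3, 4, 0] [5] [1, 4, 2, 4] [2, 2, 1, 3, 0, 3, 1, 2, 0, 3, 3, 3, 4, 3, 4, 1] [5] [0, 4, 2, 4, 2, 2, 2, 1, 3, 0, 2, 1, 2, 0, 3, 3], .pre 0 true, .pre 0 true, .pre 1 false, .fr 1 [1, 2, 0] false, .pre 0 false, .fr 1 [2] false, .pre 1 true, .pre 0 false, .fr 1 [2] false, .pre 0 false, .fr 1 [2] false, .pre 0 false, .fr 1 [2] false, .pre 28 true, .e2 10 [2, 2, 2, 1, 3, 0, 2, 1, 2, 0, 3, 3] [2, 2, 0, 2, 0, 3, 0, 2, 2, 0, 3, 3]]),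
  ([5, 4, 3, 4, 1, 5, 0, 4, 2, 4, 4, 1, 3, 4, 5, 4, 2, 0, 4], [5, 4, 3, 4, 1, 5, 0, 4, 2, 4, 0, 0], [.e3 10 [4, 1, 3, 4] [5] [4, 2, 0, 4] [2, 2, 2, 1, 2, 0, 2, 1, 3, 0, 3, 3, 4, 1, 1, 1, 3, 0, 3, 4, 2, 1, 2, 0, 0, 0, 4, 3, 0, 3, 1, 3, 3, 3, 4, 1] [5] [0, 4, 2, 2, 2, 0, 2, 1, 2, 4, 1, 1, 1, 3, 0, 3, 4, 2, 1, 2, 0, 0, 0, 4, 2, 2, 1, 2, 0, 3, 1, 3, 0, 3, 3, 3], .pre 36 false, .e3 8 [4, 3, 0, 3, 4, 1] [5] [0, 4, 2, 1, 2, 4] [4, 3, 0, 3, 4, 1] [5] [0, 4, 2, 1, 2, 4], .fr 40 [4, 3, 0, 3, 4, 1, 5, 0, 4, 2, 1, 2, 4] true, .e3 8 [4, 3, 0, 3, 4, 1] [5] [0, 4, 2, 1, 2, 4] [4, 3, 0, 3, 4, 1, 3, 3, 3] [5] [2, 2, 2, 0, 4, 2, 1, 2, 4], .e3 27 [3, 0, 3, 1, 3, 3, 3, 4, 1] [5] [0, 4, 2, 2, 2, 0,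 2, 1, 2] [4, 3, 0, 3, 4, 1, 3, 3, 3, 4] [5] [4, 2, 2, 2, 0, 4, 2, 1, 2, 4], .e3 48 [4, 3, 0, 3, 4, 1] [5] [0, 4, 2, 1, 2, 4] [4, 3, 0, 3, 4, 1, 3, 3, 3] [5] [2, 2, 2, 0, 4, 2, 1, 2, 4], .fr 18 [2, 2, 2, 0, 4, 2, 1, 2, 4] false, .fr 21 [2, 2, 2, 0, 4, 2, 1, 2, 4] false, .fr 17 [4] true, .rel 18 false, .e3 27 [4, 3, 0, 3, 4, 1] [6] [0, 4, 2, 1, 2, 4] [4, 3, 1, 3, 4, 1] [5] [0, 4, 2, 0, 2, 4], .e3 8 [4, 3, 0, 3, 4, 1, 3, 3, 3, 4, 2, 2, 2, 0, 4, 2, 1, 2, 4, 4, 3, 1, 3, 4, 1] [5] [0, 4, 2, 0, 2, 4] [0, 0, 4, 0, 2, 1, 2, 0, 3, 1, 3, 0, 3, 1, 2, 0, 3, 4, 3, 0, 3, 4, 1] [5] [0, 4, 2, 1, 2, 4, 2, 1, 3, 0, 2, 1, 2, 0, 2, 1, 3, 0, 3, 1, 4, 1, 1, 4, 3, 0, 3, 4, 1, 3, 3, 3, 4, 2, 2, 2, 0, 4,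 2, 1, 2, 4], .pre 15 false, .fr 8 [1, 4, 1, 1] false, .pre 10 false, .fr 8 [1, 2, 0, 2, 1, 3, 0, 3] false, .pre 8 false, .fr 8 [2, 1, 3, 0, 2] false, .pre 36 true, .e2 10 [2, 2, 2, 1, 2, 0, 2, 1, 3, 0, 3, 3, 4, 1, 1, 1, 3, 0, 3, 4, 2, 1, 2, 0, 0, 0, 4, 2, 1, 3, 0, 2, 1, 2, 0, 2, 1, 3, 0, 3, 1, 4, 1, 1, 4, 3, 0, 3, 4, 1, 3, 3, 3, 4, 2, 2, 2, 0, 4, 2, 1, 2, 4, 4, 1, 1, 1, 3, 0, 3, 4, 2, 1, 2, 0, 0, 0, 4, 2, 2, 1, 2, 0, 3, 1, 3, 0, 3, 3, 3] [1, 2, 0, 2, 1, 2, 0, 2, 2, 1, 3, 0, 1, 3, 0, 2, 1, 2, 0, 1, 2, 0, 3, 3, 1, 2, 0, 2, 2, 1, 3, 0, 1, 3, 0, 2, 1, 2, 0, 3, 1, 2, 0, 2, 1, 2, 0, 2, 2, 1, 2, 0, 3, 3, 1, 2, 0, 2, 0, 0], .pre 29 true, .pre 30 true, .pre 32 false, .fr 10 [3, 1, 3, 0,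 2, 2, 1, 3, 0] false, .pre 30 true, .pre 31 true, .pre 32 false, .fr 10 [3, 1, 3, 0, 2, 2, 1, 3, 0] false]),
  ([5, 4, 1, 1, 5, 0, 0, 4, 1, 3, 3, 3, 4, 5, 4, 2, 2, 2, 0], [5, 4, 1, 1, 5, 0, 0, 4, 2, 0, 2, 4, 2, 0, 2], [.e3 8 [1, 3, 3, 3, 4] [5] [4, 2, 2, 2, 0] [3, 3, 0, 3, 4, 3, 3, 4, 3, 3, 4, 3, 1, 3, 0, 3, 1, 2, 0, 1, 2, 0, 3, 3, 1, 3, 0, 2, 2, 1, 3, 0, 4, 3, 4, 2, 1, 4, 3, 1, 2, 0, 2, 2, 1, 2, 0, 2, 2, 1, 2, 0, 3, 1, 3, 0, 4, 0, 3, 4, 2, 1, 4, 1, 1, 4, 1, 3, 4] [5] [4, 2, 0, 4, 0, 0, 4, 0, 3, 4, 2, 1, 4, 1, 2, 0, 2, 1, 3, 0, 3, 3, 1, 3, 0, 3, 3, 1, 3, 0, 2, 4, 0, 3, 4, 2, 4, 1, 2, 0, 3, 3, 1, 2, 0, 2, 2, 1, 3, 0, 1, 3, 0, 2, 1, 2, 0, 2, 4, 2, 2, 4, 2, 2, 4, 2, 1, 2, 2], .pre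 39 false, .pre 30 false, .fr 10 [3, 1, 3, 0, 2, 2, 1, 3, 0] true, .pre 32 true, .fr 10 [4, 3, 4, 2, 1, 4, 3, 1, 2, 0] true, .pre 35 true, .e3 10 [1, 3, 0, 2, 4, 0, 3, 4, 2, 4, 1, 2, 0, 3, 3, 1, 2, 0, 2, 2, 1, 3, 0, 1, 3, 0, 2, 1, 2, 0, 0, 2, 4] [5] [4, 3, 1, 1, 3, 0, 3, 1, 2, 0, 1, 2, 0, 3, 3, 1, 3, 0, 2, 2, 1, 3, 0, 4, 3, 4, 2, 1, 4, 3, 1, 2, 0, 2, 2, 1, 2, 0, 2, 2, 1, 2, 0, 3, 1, 3, 0, 4, 0, 3, 4, 2, 1, 4, 1, 1] [2, 2, 1, 2, 0, 2, 2, 1, 2, 0, 3, 1, 3, 0, 4, 0, 3, 4, 2, 1, 4, 1, 1, 3, 4, 1] [5] [0, 4, 2], .pre 38 false, .e3 8 [4, 1, 3, 4] [5] [4, 2, 0, 4] [4, 1, 3, 4] [5] [4, 2, 0, 4], .e3 8 [4, 1, 3, 4] [5] [4, 2, 0, 4] [4, 1, 3, 4, 1, 2, 0] [5] [1, 3, 0, 4, 2, 0, 4], .e3 23 [3,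 4, 1] [5] [0, 4, 2] [4, 1, 3, 4, 1, 2, 0, 4] [5] [4, 1, 3, 0, 4, 2, 0, 4], .e3 40 [4, 1, 3, 4] [5] [4, 2, 0, 4] [4, 1, 3, 4, 1, 2, 0] [5] [1, 3, 0, 4, 2, 0, 4], .fr 16 [1, 3, 0, 4, 2, 0, 4] false, .fr 19 [1, 3, 0, 4, 2, 0, 4] false, .fr 15 [4] true, .rel 16 false, .e2 8 [4, 1, 3, 4, 1, 2, 0, 4, 1, 3, 0, 4, 2, 0, 4, 0, 0, 4, 0, 3, 4, 2, 1, 4, 1, 2, 0, 2, 1, 3, 0, 3, 3, 1, 3, 0, 3, 3, 1, 3, 0, 2, 4, 0, 3, 4, 2, 4, 1, 2, 0, 3, 3, 1, 2, 0, 2, 2, 1, 3, 0, 1, 3, 0, 2, 1, 2, 0, 2, 4, 2, 2, 4, 2, 2, 4, 2, 1, 2, 2] [2, 1, 2, 0, 3, 1, 3, 0, 2, 1, 3, 0, 2, 1, 2, 0, 2, 1, 3, 0, 3, 3, 1, 2, 0, 3, 3, 1, 3, 0, 1, 3, 0, 3, 3, 1, 3, 0, 1, 3, 0, 3, 1, 4, 1, 1, 2, 0, 2, 4, 2, 0, 2], .pre 10 false,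 .fr 8 [1, 2, 0, 2, 1, 3, 0, 3] false, .pre 8 true, .pre 10 true, .pre 8 false, .fr 8 [2, 1, 3, 0, 2] false, .pre 9 true, .pre 9 true, .pre 15 true]),
  ([5, 4, 3, 4, 1, 5, 0, 4, 2, 4, 1, 2, 4, 5, 4, 3, 0], [5, 4, 1, 1, 5, 0, 0, 4, 2, 2, 2, 0, 3, 0, 3, 3, 0, 3, 3], [.e3 10 [1, 2, 4] [5] [4, 3, 0] [2, 2, 1, 2, 0, 2, 2, 1, 2, 0, 3, 1, 3, 0, 4, 0, 3, 4, 2, 1, 4, 1, 1, 4, 1, 3, 4] [5] [4, 2, 0, 4, 0, 0, 4, 0, 3, 4, 2, 1, 4, 1, 2, 0, 2, 1, 3, 0, 3, 3, 1, 3, 0, 3, 3], .pre 38 false, .e3 8 [4, 1, 3, 4] [5] [4, 2, 0, 4] [4, 1, 3, 4] [5] [4, 2, 0, 4], .fr 26 [4, 1, 3, 4, 1, 5, 0, 4, 2, 0, 4] true, .e3 8 [4, 1, 3, 4] [5] [4, 2, 0, 4] [4, 1, 3, 4] [5] [4, 2, 0, 4], .e3 17 [4, 1, 3, 4] [5] [4,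 2, 0, 4] [4, 1, 3, 4] [5] [4, 2, 0, 4], .e3 26 [4, 1, 3, 4, 1] [5] [0, 4, 2, 0, 4] [4, 1, 3, 4] [6, 6] [4, 2, 0, 4], .fr 13 [4, 2, 0, 4] false, .fr 14 [4, 2, 0, 4] false, .e3 8 [4, 1, 3, 4] [5, 5, 6, 6] [4, 2, 0, 4] [] [] [], .e3 8 [4, 1, 3, 4, 1] [6] [0, 4, 2, 0, 4] [4, 0, 3, 4, 1] [5] [0, 4, 2, 1, 4], .e3 8 [4, 0, 3, 4, 1] [5] [0, 4, 2, 1, 4] [0, 0, 4, 0, 2, 1, 2, 0, 3, 1, 3, 0, 2, 1, 2, 0, 3, 1, 3, 0, 3, 1, 3, 0, 1, 3, 0, 3, 3, 1, 2, 0, 3, 1, 3, 3, 3, 4] [5] [4, 2, 2, 2, 0, 2, 1, 3, 0, 2, 2, 1, 2, 0, 1, 2, 0, 2, 1, 2, 0, 2, 1, 3, 0, 3, 1, 2, 0, 2, 1, 3, 0, 3, 1, 4, 1, 1], .pre 15 false, .fr 8 [1, 4, 1, 1] false, .pre 10 false, .fr 8 [1, 2, 0, 2, 1, 3, 0, 3] false, .pre 10 false,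 .fr 8 [1, 2, 0, 2, 1, 3, 0, 3] false, .pre 9 true, .pre 8 false, .fr 8 [2, 1, 3, 0, 2] false, .pre 44 true, .e2 8 [2, 0, 2, 4, 2, 0, 2, 2, 1, 3, 0, 2, 2, 1, 2, 0, 1, 2, 0, 2, 1, 2, 0, 2, 1, 3, 0, 3, 1, 2, 0, 2, 1, 3, 0, 3, 1, 4, 1, 1, 0, 0, 4, 0, 3, 4, 2, 1, 4, 1, 2, 0, 2, 1, 3, 0, 3, 3, 1, 3, 0, 3, 3] [3, 1, 3, 0, 1, 3, 0, 3, 3, 1, 3, 0, 1, 3, 0, 3, 2, 1, 2, 0, 3, 1, 3, 0, 3, 1, 2, 0, 3, 1, 4, 1, 1, 2, 1, 2, 0, 1, 2, 0, 2, 2, 1, 2, 0, 3, 1, 3, 0, 2, 2, 2, 0, 3, 0, 3, 3, 0, 3, 3], .pre 9 true, .pre 9 true, .pre 10 false, .fr 8 [1, 2, 0, 2, 1, 3, 0, 3] false, .pre 8 false, .fr 8 [2, 1, 3, 0, 2] false, .pre 15 true, .pre 9 false, .fr 8 [3, 1, 3, 0, 1, 3, 0, 3] false, .pre 10 false,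 .fr 8 [1, 2, 0, 2, 1, 3, 0, 3] false]),
  ([5, 4, 3, 4, 1, 5, 0, 4, 2, 4, 2, 2, 1, 2, 2, 1, 2, 1, 3, 3, 3, 0, 0, 4, 0, 1, 2, 0, 2, 1, 3, 0, 3, 0, 0, 4, 0, 3, 4, 2, 1, 4, 1, 2, 0, 2, 1, 3, 0, 3, 3, 1, 3, 0, 3, 3], [5, 4, 3, 4, 1, 5, 0, 4, 2, 4], [.fr 10 [1, 2, 4, 5, 4, 3, 0] true, .pre 45 true, .e3 19 [1, 2, 4] [6] [4, 3, 0] [0, 2, 4] [5] [4, 3, 1], .e3 8 [2, 2, 2, 0, 3, 0, 3, 3, 0, 3, 3, 0, 2, 4] [5] [4, 3, 1] [0, 0, 4, 0, 1, 2, 0, 2, 1, 3, 0, 3, 4, 1, 3, 4] [5] [4, 2, 0, 4, 2, 1, 2, 0, 3, 1, 3, 0, 1, 4, 1, 1, 2, 2, 2, 0, 3, 0, 3, 3, 0, 3, 3], .pre 15 false, .fr 8 [1, 4, 1, 1] false, .pre 10 true, .pre 38 true, .fr 10 [2, 2, 1, 2, 0, 2, 2, 1, 2, 0, 3, 1, 3, 0, 4, 0, 3, 4, 2, 1,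 4, 1, 1, 2, 1, 2, 0, 3, 1, 3, 0, 1, 4, 1, 1, 2, 2, 2, 0, 3, 0, 3, 3, 0, 3, 3] false]),
  ([5, 4, 1, 5, 0, 4, 4, 1, 3, 4, 2, 0, 4, 1, 3, 0, 2, 1, 2, 0, 2, 1, 2, 0, 2, 2, 1, 3, 0, 1, 3, 0, 2, 1, 2, 0, 2, 2, 1, 2, 0, 2, 2, 1, 2, 0, 3, 1, 3, 0, 4, 0, 3, 4, 2, 1, 4, 1, 1, 2, 1, 2, 0, 3, 1, 3, 0, 1, 4, 1, 1, 2, 2, 2, 0, 3, 0, 3, 3, 0, 3, 3, 3, 1, 2, 0, 4, 1, 3, 4, 2, 0, 4], [5, 4, 1, 5, 0, 4], [.pre 41 false, .e3 10 [1, 3, 4] [5] [4, 2, 0, 1, 2, 0, 2, 1, 2, 0, 2, 2, 1, 3, 0, 1, 3, 0, 2, 1, 2, 0, 2, 2, 1, 2, 0, 2, 2, 1, 2, 0, 3, 1, 3, 0, 4, 0, 3, 4, 2, 1, 4, 1, 1, 2, 1, 2, 0, 3, 1, 3, 0, 1, 4, 1, 1, 2, 2, 2, 0, 3, 0, 3, 3, 0, 3, 3] [1, 2, 0, 2, 1, 2, 0, 2, 2, 1, 3, 0, 1, 3, 0, 2, 1, 2,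 0, 2, 2, 1, 2, 0, 2, 2, 1, 2, 0, 3, 1, 3, 0, 4, 0, 3, 4, 2, 1, 4, 1, 1, 2, 1, 2, 0, 3, 1, 3, 0, 1, 4, 1, 1, 2, 2, 2, 0, 3, 0, 3, 3, 0, 3, 3, 1, 3, 4] [5] [4, 2, 0], .pre 29 true, .pre 30 true, .pre 46 false, .fr 10 [2, 2, 1, 2, 2, 1, 2, 1, 3, 3, 3, 0, 0, 4, 0, 1, 2, 0, 2, 1, 3, 0, 3, 0, 0, 4, 0, 3, 4, 2, 1, 4, 1, 2, 0, 2, 1, 3, 0, 3, 3, 1, 3, 0, 3, 3] false, .pre 41 true, .fr 6 [4, 1, 3, 4, 2, 0, 4, 1, 3, 0, 2] false])]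

/-- the coset equalities before part 3 -/
def prev3 : List (List Nat × List Nat) := prev2 ++ cert2.map (fun f => (f.1, f.2.1))

theorem chk_cert3 : checkAll px bp prev3 cert3 = true := by decide +kernel

end Cfsg.Agent.Lib.Helper2.HNS
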