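import Cfsg.Agent.Lib.Helper2.HNDce4
import Cfsg.Agent.Lib.Helper2.HNS.Tab
import Cfsg.Agent.Lib.Helper2.HNS.Cert3
set_option autoImplicit false
set_option maxRecDepth 1000000
set_option Elab.async false
open Cfsg.Agent.Lib.Helper2.HNDce
namespace Cfsg.Agent.Lib.Helper2.HNS

/-! # The certificate of the double coset enumeration, part 4 -/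

/-- the coset equalities of part 4, with their chains -/
def cert4 : List (List Nat × List Nat × List Step) := [
  ([5, 4, 3, 0, 3, 4, 5, 4, 2, 1, 2, 4], [5, 4, 1, 1, 5, 0, 0, 4, 1], [.e3 1 [4, 3, 0, 3, 4] [5] [4, 2, 1, 2, 4] [4, 3, 0, 3, 4] [5] [4, 2, 1, 2, 4], .pre 21 false, .e3 6 [4, 0] [5] [1, 4] [4, 0] [5] [1, 4], .fr 22 [4, 0, 5, 1, 4] true, .e3 6 [4, 0] [5] [1, 4] [4, 0, 1, 3, 0, 3] [5] [2, 1, 2, 0, 1, 4], .e3 19 [4, 3, 0, 3, 4] [5] [4, 2, 1, 2, 4] [4, 0, 1, 3, 0, 3, 4] [5] [4, 2, 1, 2, 0, 1, 4], .e3 34 [4, 0] [5] [1, 4] [4, 0, 1, 3, 0, 3] [5] [2, 1, 2, 0, 1, 4], .fr 13 [2, 1, 2, 0, 1, 4] false, .fr 16 [2, 1, 2, 0, 1, 4] false, .fr 12 [4] true, .rel 13 false,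 .e3 19 [4, 0] [6] [1, 4] [4, 1] [5] [0, 4], .e3 6 [4, 0, 1, 3, 0, 3, 4, 2, 1, 2, 0, 1, 4, 4, 1] [5] [0, 4] [4, 1, 3, 4, 2, 0, 4, 1, 3, 0, 2, 1, 2, 0, 2, 1, 2, 0, 2, 2, 1, 3, 0, 1, 3, 0, 2, 1, 2, 0, 2, 2, 1, 2, 0, 2, 2, 1, 2, 0, 3, 1, 3, 0, 4, 0, 3, 4, 2, 1, 4, 1, 1, 2, 1, 2, 0, 3, 1, 3, 0, 1, 4, 1, 1, 2, 2, 2, 0, 3, 0, 3, 3, 0, 3, 3, 3, 1, 2, 0, 4, 1, 3, 4, 2, 0, 4, 3, 1, 2, 0, 3, 4, 1, 3, 4, 2, 0, 4, 1, 3, 0, 2, 2, 2, 1, 2, 2, 1, 2, 1, 3, 3, 3, 0, 0, 4, 0, 1, 2, 0, 2, 1, 3, 0, 3, 0, 0, 4, 0, 3, 4, 2, 1, 4, 1, 2, 0, 2, 1, 3, 0, 3, 3, 1, 3, 0, 3, 3, 1, 3, 0, 3, 1, 2, 0, 1, 2, 0, 3, 3, 1, 3, 0, 3, 1, 3, 0, 3, 1, 2, 0, 4, 1, 3, 4, 2, 0, 4, 4, 4] [5] [4, 4, 4, 1, 3, 4,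 2, 0, 4, 1, 3, 0, 2, 1, 2, 0, 2, 1, 2, 0, 2, 2, 1, 3, 0, 1, 3, 0, 2, 1, 2, 0, 2, 2, 1, 2, 0, 2, 2, 1, 2, 0, 3, 1, 3, 0, 4, 0, 3, 4, 2, 1, 4, 1, 1, 2, 1, 2, 0, 3, 1, 3, 0, 1, 4, 1, 1, 2, 2, 2, 0, 3, 0, 3, 3, 0, 3, 3, 3, 1, 2, 0, 4, 1, 3, 4, 2, 0, 4, 2, 1, 3, 0, 2, 4, 1, 3, 4, 2, 0, 4, 1, 3, 0, 2, 2, 2, 1, 2, 2, 1, 2, 1, 3, 3, 3, 0, 0, 4, 0, 1, 2, 0, 2, 1, 3, 0, 3, 0, 0, 4, 0, 3, 4, 2, 1, 4, 1, 2, 0, 2, 1, 3, 0, 3, 3, 1, 3, 0, 3, 3, 1, 3, 0, 3, 1, 2, 0, 1, 2, 0, 3, 3, 1, 3, 0, 3, 1, 3, 0, 3, 1, 2, 0, 4, 1, 3, 4, 2, 0, 4, 4, 0, 1, 3, 0, 3, 4, 2, 1, 2, 0, 1, 4], .pre 47 true, .pre 18 false, .fr 6 [2, 1, 3, 0, 2] false, .pre 47 false, .fr 6 [4, 1, 3, 4, 2, 0, 4, 1, 3, 0,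 2, 1, 2, 0, 2, 1, 2, 0, 2, 2, 1, 3, 0, 1, 3, 0, 2, 1, 2, 0, 2, 2, 1, 2, 0, 2, 2, 1, 2, 0, 3, 1, 3, 0, 4, 0, 3, 4, 2, 1, 4, 1, 1, 2, 1, 2, 0, 3, 1, 3, 0, 1, 4, 1, 1, 2, 2, 2, 0, 3, 0, 3, 3, 0, 3, 3, 3, 1, 2, 0, 4, 1, 3, 4, 2, 0, 4] false, .pre 25 false, .fr 6 [4] false, .pre 27 true, .e2 8 [4, 4, 1, 3, 4, 2, 0, 4, 1, 3, 0, 2, 1, 2, 0, 2, 1, 2, 0, 2, 2, 1, 3, 0, 1, 3, 0, 2, 1, 2, 0, 2, 2, 1, 2, 0, 2, 2, 1, 2, 0, 3, 1, 3, 0, 4, 0, 3, 4, 2, 1, 4, 1, 1, 2, 1, 2, 0, 3, 1, 3, 0, 1, 4, 1, 1, 2, 2, 2, 0, 3, 0, 3, 3, 0, 3, 3, 3, 1, 2, 0, 4, 1, 3, 4, 2, 0, 4, 2, 1, 3, 0, 2, 4, 1, 3, 4, 2, 0, 4, 1, 3, 0, 2, 2, 2, 1, 2, 2, 1, 2, 1, 3, 3, 3, 0, 0, 4, 0, 1, 2, 0, 2, 1, 3, 0, 3, 0,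 0, 4, 0, 3, 4, 2, 1, 4, 1, 2, 0, 2, 1, 3, 0, 3, 3, 1, 3, 0, 3, 3, 1, 3, 0, 3, 1, 2, 0, 1, 2, 0, 3, 3, 1, 3, 0, 3, 1, 3, 0, 3, 1, 2, 0, 4, 1, 3, 4, 2, 0, 4, 4, 0, 1, 3, 0, 3, 4, 2, 1, 2, 0, 1, 4] [3, 1, 2, 0, 3, 3, 1, 3, 0, 1, 3, 0, 3, 3, 1, 3, 0, 1, 3, 0, 3, 1], .pre 8 false, .fr 8 [2, 1, 3, 0, 2] false, .pre 9 true, .pre 9 true]),
  ([5, 4, 1, 1, 5, 0, 0, 4, 4, 3, 1, 3, 4, 1, 5, 0, 4, 2, 0, 2, 4], [5, 0], [.e3 8 [4, 3, 1, 3, 4, 1] [5] [0, 4, 2, 0, 2, 4] [1, 4, 3, 1, 3, 4] [5] [4, 2, 0, 2, 4, 0], .e3 9 [4, 3, 1, 3, 4] [5] [4, 2, 0, 2, 4] [4, 3, 0, 3, 4] [6] [4, 2, 1, 2, 4], .pre 48 false, .fr 1 [4, 3, 0, 3, 4, 5, 4, 2, 1, 2, 4] false]),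
  ([5, 4, 3, 4, 1, 5, 0, 4, 2, 4, 2, 4, 3, 3, 3, 4, 5, 4, 2, 2, 2, 4, 3], [5, 4, 3, 4, 1, 5, 0, 4, 2, 4, 2, 2, 2, 0, 3, 3, 0, 4, 3, 0, 3, 3, 4], [.e3 10 [2, 4, 3, 3, 3, 4] [5] [4, 2, 2, 2, 4, 3] [3, 1, 2, 0, 4, 1, 3, 4, 2, 0, 4, 4, 1, 3, 4, 1, 3, 4, 1] [5] [0, 4, 2, 0, 4, 2, 0, 4, 4, 1, 3, 4, 2, 0, 4, 1, 3, 0, 2], .pre 40 false, .e3 6 [4, 1, 3, 4] [5] [4, 2, 0, 4] [4, 1, 3, 4] [5] [4, 2, 0, 4], .fr 32 [4, 1, 3, 4, 5, 4, 2, 0, 4] true, .e3 6 [4, 1, 3, 4] [5] [4, 2, 0, 4] [4, 1, 3, 4, 1, 3, 0] [5] [1, 2, 0, 4, 2, 0, 4], .e3 21 [4, 1, 3, 4, 1, 3, 4, 1] [5] [0, 4, 2, 0, 4, 2, 0, 4] [4, 1, 3, 4, 1, 3, 0, 4] [5] [4, 1, 2, 0, 4, 2, 0, 4], .e3 38 [4, 1, 3, 4] [5] [4, 2, 0,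 4] [4, 1, 3, 4, 1, 3, 0] [5] [1, 2, 0, 4, 2, 0, 4], .fr 14 [1, 2, 0, 4, 2, 0, 4] false, .fr 17 [1, 2, 0, 4, 2, 0, 4] false, .fr 13 [4] true, .rel 14 false, .e3 21 [4, 1, 3, 4] [6] [4, 2, 0, 4] [4, 0, 3, 4] [5] [4, 2, 1, 4], .e3 6 [4, 1, 3, 4, 1, 3, 0, 4, 1, 2, 0, 4, 2, 0, 4, 4, 0, 3, 4] [5] [4, 2, 1, 4] [4, 1, 3, 4, 2, 0, 4, 1, 3, 0, 2, 1, 2, 0, 2, 1, 2, 0, 2, 2, 1, 3, 0, 1, 3, 0, 2, 1, 2, 0, 2, 2, 1, 2, 0, 2, 2, 1, 2, 0, 3, 1, 3, 0, 4, 0, 3, 4, 2, 1, 4, 1, 1, 2, 1, 2, 0, 3, 1, 3, 0, 1, 4, 1, 1, 2, 2, 2, 0, 3, 0, 3, 3, 0, 3, 3, 3, 1, 2, 0, 4, 1, 3, 4, 2, 0, 4, 3, 1, 3, 0, 1, 3, 0, 3, 4, 1, 3, 4, 2, 0, 4, 1, 3, 0, 2, 2, 2, 1, 2, 2, 1, 2, 1, 3, 3, 3, 0, 0, 4, 0, 1, 2,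 0, 2, 1, 3, 0, 3, 0, 0, 4, 0, 3, 4, 2, 1, 4, 1, 2, 0, 2, 1, 3, 0, 3, 3, 1, 3, 0, 3, 3, 1, 3, 0, 3, 1, 2, 0, 1, 2, 0, 3, 3, 1, 3, 0, 3, 1, 3, 0, 3, 1, 2, 0, 4, 1, 3, 4, 2, 0, 4, 4, 3, 1, 2, 0, 3, 4, 1, 3, 4] [5] [4, 2, 0, 4, 2, 1, 3, 0, 2, 4, 4, 1, 3, 4, 2, 0, 4, 1, 3, 0, 2, 1, 2, 0, 2, 1, 2, 0, 2, 2, 1, 3, 0, 1, 3, 0, 2, 1, 2, 0, 2, 2, 1, 2, 0, 2, 2, 1, 2, 0, 3, 1, 3, 0, 4, 0, 3, 4, 2, 1, 4, 1, 1, 2, 1, 2, 0, 3, 1, 3, 0, 1, 4, 1, 1, 2, 2, 2, 0, 3, 0, 3, 3, 0, 3, 3, 3, 1, 2, 0, 4, 1, 3, 4, 2, 0, 4, 2, 1, 2, 0, 1, 2, 0, 2, 4, 1, 3, 4, 2, 0, 4, 1, 3, 0, 2, 2, 2, 1, 2, 2, 1, 2, 1, 3, 3, 3, 0, 0, 4, 0, 1, 2, 0, 2, 1, 3, 0, 3, 0, 0, 4, 0, 3, 4, 2, 1, 4, 1, 2, 0, 2, 1, 3,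 0, 3, 3, 1, 3, 0, 3, 3, 1, 3, 0, 3, 1, 2, 0, 1, 2, 0, 3, 3, 1, 3, 0, 3, 1, 3, 0, 3, 1, 2, 0, 4, 1, 3, 4, 2, 0, 4, 4, 1, 3, 4, 1, 3, 0, 4, 1, 2, 0, 4, 2, 0, 4], .pre 47 true, .pre 19 true, .pre 47 false, .fr 6 [4, 1, 3, 4, 2, 0, 4, 1, 3, 0, 2, 1, 2, 0, 2, 1, 2, 0, 2, 2, 1, 3, 0, 1, 3, 0, 2, 1, 2, 0, 2, 2, 1, 2, 0, 2, 2, 1, 2, 0, 3, 1, 3, 0, 4, 0, 3, 4, 2, 1, 4, 1, 1, 2, 1, 2, 0, 3, 1, 3, 0, 1, 4, 1, 1, 2, 2, 2, 0, 3, 0, 3, 3, 0, 3, 3, 3, 1, 2, 0, 4, 1, 3, 4, 2, 0, 4] false, .pre 25 false, .fr 6 [4] false, .pre 18 false, .fr 6 [2, 1, 3, 0, 2] false, .pre 40 true, .e2 10 [3, 1, 2, 0, 4, 1, 3, 4, 2, 0, 4, 2, 1, 3, 0, 2, 4, 4, 1, 3, 4, 2, 0, 4, 1, 3, 0, 2, 1, 2, 0, 2, 1,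 2, 0, 2, 2, 1, 3, 0, 1, 3, 0, 2, 1, 2, 0, 2, 2, 1, 2, 0, 2, 2, 1, 2, 0, 3, 1, 3, 0, 4, 0, 3, 4, 2, 1, 4, 1, 1, 2, 1, 2, 0, 3, 1, 3, 0, 1, 4, 1, 1, 2, 2, 2, 0, 3, 0, 3, 3, 0, 3, 3, 3, 1, 2, 0, 4, 1, 3, 4, 2, 0, 4, 2, 1, 2, 0, 1, 2, 0, 2, 4, 1, 3, 4, 2, 0, 4, 1, 3, 0, 2, 2, 2, 1, 2, 2, 1, 2, 1, 3, 3, 3, 0, 0, 4, 0, 1, 2, 0, 2, 1, 3, 0, 3, 0, 0, 4, 0, 3, 4, 2, 1, 4, 1, 2, 0, 2, 1, 3, 0, 3, 3, 1, 3, 0, 3, 3, 1, 3, 0, 3, 1, 2, 0, 1, 2, 0, 3, 3, 1, 3, 0, 3, 1, 3, 0, 3, 1, 2, 0, 4, 1, 3, 4, 2, 0, 4, 4, 1, 3, 4, 1, 3, 0, 4, 1, 2, 0, 4, 2, 0, 4, 4, 1, 3, 4, 2, 0, 4, 1, 3, 0, 2] [3, 1, 2, 0, 2, 1, 2, 0, 2, 2, 4, 3, 4, 2, 1, 4, 3, 1, 2, 0, 1, 2, 0, 2, 1, 2, 0, 2, 3, 1, 2, 0,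 2, 1, 2, 0, 2, 2, 4, 3, 4, 2, 1, 4, 3, 1, 2, 0, 2, 2, 2, 0, 3, 3, 0, 4, 3, 0, 3, 3, 4], .pre 31 true, .pre 35 true, .pre 29 true, .pre 31 true, .pre 35 true]),
  ([5, 4, 1, 1, 5, 0, 0, 4, 4, 3, 0, 3, 4, 5, 4, 2, 1, 2, 4], [5, 4, 3, 4, 1, 5, 0, 4, 2, 4, 0, 2, 2, 0, 2, 2, 0, 2, 0, 2, 2, 0, 3], [.e3 8 [4, 3, 0, 3, 4] [5] [4, 2, 1, 2, 4] [1, 2, 1, 3, 0, 1, 3, 0, 2, 1, 2, 0, 3, 1, 3, 0, 1, 3, 0, 4, 3, 4, 0] [5] [1, 4, 2, 4, 1, 2, 0, 1, 2, 0, 2, 1, 3, 0, 3, 1, 2, 0, 1, 2, 0, 3, 0], .pre 48 false, .fr 1 [2] true, .pre 0 true, .pre 1 false, .pre 1 false, .fr 1 [2] true, .pre 0 true, .fr 1 [1, 2, 0] true, .pre 1 true, .pre 0 false, .pre 1 false, .pre 1 false, .e3 1 [1, 2, 0,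 1, 2, 0, 2, 1, 3, 0, 3, 1, 2, 0, 1, 2, 0, 3, 4, 3, 0, 3, 4] [5] [4, 2, 1, 2, 4, 2, 1, 3, 0, 1, 3, 0, 2, 1, 2, 0, 3, 1, 3, 0, 1, 3, 0] [4, 3, 4] [5] [4, 2, 4], .pre 33 false, .e3 10 [4, 3, 4, 0] [5] [1, 4, 2, 4] [4, 3, 4, 0] [5] [1, 4, 2, 4], .e3 10 [4, 3, 4, 0] [5] [1, 4, 2, 4] [4, 3, 4, 0] [5] [1, 4, 2, 4], .e3 19 [4, 3, 4] [5] [4, 2, 4] [4, 3, 4, 0] [6, 6] [1, 4, 2, 4], .e3 29 [4, 3, 4, 0] [5] [1, 4, 2, 4] [4, 3, 4, 0] [5] [1, 4, 2, 4], .fr 15 [1, 4, 2, 4] false, .fr 17 [1, 4, 2, 4] false, .e3 10 [4, 3, 4, 0] [5, 6, 6, 5] [1, 4, 2, 4] [] [] [], .e2 10 [1, 2, 0, 1, 2, 0, 2, 1, 3, 0, 3, 1, 2, 0, 1, 2, 0, 3, 0] [1, 2, 0, 2, 1, 2, 0, 2, 2, 2, 1, 2, 0, 2, 2, 1, 2, 0,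 3, 1, 3, 0, 4, 0, 3, 4, 2, 1, 4, 1, 1, 2, 1, 2, 0, 3, 1, 3, 0, 1, 4, 1, 1, 2, 2, 2, 0, 3, 0, 3, 3, 0, 3, 3, 2, 2, 1, 2, 0, 2, 2, 1, 2, 0, 3, 1, 3, 0, 4, 0, 3, 4, 2, 1, 4, 1, 1, 2, 1, 2, 0, 3, 1, 3, 0, 1, 4, 1, 1, 2, 2, 2, 0, 3, 0, 3, 3, 0, 3, 3, 3, 1, 2, 0, 2, 1, 2, 0, 2, 2, 0, 2, 2, 0, 2, 2, 0, 2, 0, 2, 2, 0, 3], .pre 29 true, .pre 46 false, .fr 10 [2, 2, 1, 2, 2, 1, 2, 1, 3, 3, 3, 0, 0, 4, 0, 1, 2, 0, 2, 1, 3, 0, 3, 0, 0, 4, 0, 3, 4, 2, 1, 4, 1, 2, 0, 2, 1, 3, 0, 3, 3, 1, 3, 0, 3, 3] false, .pre 46 false, .fr 10 [2, 2, 1, 2, 2, 1, 2, 1, 3, 3, 3, 0, 0, 4, 0, 1, 2, 0, 2, 1, 3, 0, 3, 0, 0, 4, 0, 3, 4, 2, 1, 4, 1, 2, 0, 2, 1, 3, 0, 3, 3, 1, 3, 0, 3, 3] false, .pre 31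 true]),
  ([5, 4, 3, 4, 1, 5, 0, 4, 2, 4, 4, 3, 4, 1, 5, 0, 4, 2, 4], [5, 4, 1, 1, 5, 0, 0, 4, 1, 2], [.e3 10 [4, 3, 4, 1] [5] [0, 4, 2, 4] [0, 2, 2, 0, 2, 2, 0, 2, 0, 2, 2, 0, 3, 4, 3, 1, 3, 4] [5] [4, 2, 0, 2, 4, 2, 1, 3, 3, 1, 3, 1, 3, 3, 1, 3, 3, 1], .e3 23 [4, 3, 1, 3, 4] [5] [4, 2, 0, 2, 4] [4, 3, 0, 3, 4] [6] [4, 2, 1, 2, 4], .pre 51 false, .fr 8 [4, 3, 0, 3, 4, 5, 4, 2, 1, 2, 4] false, .e2 8 [2, 1, 3, 3, 1, 3, 1, 3, 3, 1, 3, 3, 1] [2, 1, 3, 0, 2, 1, 2, 0, 2, 1, 3, 0, 3, 3, 1, 2, 0, 3, 3, 1, 2, 0, 3, 3, 1, 3, 0, 1, 3, 0, 3, 1, 2], .pre 8 true, .pre 10 true, .pre 8 false, .fr 8 [2, 1, 3, 0, 2] false, .pre 8 false, .fr 8 [2, 1, 3, 0, 2] false, .pre 9 true]),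
  ([5, 4, 1, 1, 5, 0, 0, 4, 4, 3, 1, 3, 4, 5, 4, 2, 0, 2, 4], [5, 4, 1, 1, 5, 0, 0, 4, 0, 2, 1, 2], [.e3 8 [4, 3, 1, 3, 4] [5] [4, 2, 0, 2, 4] [0, 3, 3, 0, 3, 4, 3, 3, 4, 3, 3, 4, 3, 4, 3, 4, 2, 4, 1, 1] [5] [0, 0, 4, 3, 4, 2, 4, 2, 4, 2, 2, 4, 2, 2, 4, 2, 1, 2, 2, 1], .pre 37 false, .e3 10 [4, 3, 4, 2, 4, 0] [5] [1, 4, 3, 4, 2, 4] [4, 3, 4, 2, 4, 0] [5] [1, 4, 3, 4, 2, 4], .fr 38 [4, 3, 4, 2, 4, 1, 1, 5, 0, 0, 4, 3, 4, 2, 4] true, .e3 10 [4, 3, 4, 2, 4, 0] [5] [1, 4, 3, 4, 2, 4] [4, 3, 4, 2, 4, 0] [5] [1, 4, 3, 4, 2, 4], .e3 23 [4, 3, 4, 2, 4, 1, 1] [5] [0, 0, 4, 3, 4, 2, 4] [4, 3, 4, 2, 4, 0] [5, 5] [1, 4, 3, 4, 2, 4], .e3 37 [4, 3, 4, 2, 4, 1, 1] [5] [0, 0, 4, 3,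 4, 2, 4] [4, 3, 4, 2, 4, 0] [5, 5] [1, 4, 3, 4, 2, 4], .fr 17 [1, 4, 3, 4, 2, 4] false, .fr 19 [1, 4, 3, 4, 2, 4] false, .e3 10 [4, 3, 4, 2, 4, 0] [5, 5, 5, 5, 5] [1, 4, 3, 4, 2, 4] [] [] [], .e3 10 [4, 3, 4, 2, 4, 1, 1] [6] [0, 0, 4, 3, 4, 2, 4] [4, 3, 4, 2, 4] [5] [4, 3, 4, 2, 4], .e3 10 [4, 3, 4, 2, 4] [5] [4, 3, 4, 2, 4] [2, 2, 1, 2, 0, 2, 2, 1, 2, 0, 3, 1, 3, 0, 4, 0, 3, 4, 2, 1, 4, 1, 1, 2, 1, 2, 0, 3, 1, 3, 0, 1, 4, 1, 1, 2, 2, 2, 0, 3, 0, 3, 3, 0, 3, 3, 1, 3, 0, 2, 4, 0, 3, 4, 2, 4, 4, 3, 4, 1] [5] [0, 4, 2, 4, 4, 3, 4, 2, 1, 4, 3, 1, 2, 0, 2, 2, 1, 2, 2, 1, 2, 1, 3, 3, 3, 0, 0, 4, 0, 1, 2, 0, 2, 1, 3, 0, 3, 0, 0, 4, 0, 3, 4, 2, 1, 4, 1, 2, 0, 2, 1, 3, 0, 3,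 3, 1, 3, 0, 3, 3], .pre 46 false, .fr 10 [2, 2, 1, 2, 2, 1, 2, 1, 3, 3, 3, 0, 0, 4, 0, 1, 2, 0, 2, 1, 3, 0, 3, 0, 0, 4, 0, 3, 4, 2, 1, 4, 1, 2, 0, 2, 1, 3, 0, 3, 3, 1, 3, 0, 3, 3] false, .pre 35 false, .fr 10 [4, 3, 4, 2, 1, 4, 3, 1, 2, 0] false, .pre 52 true, .e2 8 [1, 2, 4, 3, 4, 2, 1, 4, 3, 1, 2, 0, 2, 2, 1, 2, 2, 1, 2, 1, 3, 3, 3, 0, 0, 4, 0, 1, 2, 0, 2, 1, 3, 0, 3, 0, 0, 4, 0, 3, 4, 2, 1, 4, 1, 2, 0, 2, 1, 3, 0, 3, 3, 1, 3, 0, 3, 3, 2, 4, 2, 2, 4, 2, 2, 4, 2, 1, 2, 2, 1] [3, 1, 3, 0, 1, 3, 0, 3, 3, 1, 3, 0, 1, 3, 0, 3, 1, 2, 0, 2, 1, 3, 0, 3, 1, 2, 0, 2, 1, 3, 0, 3, 3, 1, 2, 0, 3, 2, 1, 2, 0, 3, 1, 3, 0, 0, 2, 1, 2], .pre 9 true, .pre 9 true, .pre 10 true, .pre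 10 true, .pre 8 false, .fr 8 [2, 1, 3, 0, 2] false, .pre 10 false, .fr 8 [1, 2, 0, 2, 1, 3, 0, 3] false]),
  ([5, 4, 3, 4, 3, 4, 5, 4, 2, 4, 2, 4], [5, 4, 3, 4, 3, 4, 5, 4, 2, 4, 2, 4], []),
  ([5, 4, 3, 4, 3, 4, 5, 4, 2, 4, 2, 4, 1, 3, 0, 1, 3, 0, 3, 1, 3, 0, 3, 1, 2, 0], [5, 4, 3, 4, 3, 4, 5, 4, 2, 4, 2, 4], [.pre 54 false, .e3 1 [4, 3, 4, 3, 4] [5] [4, 2, 4, 2, 4, 1, 3, 0, 1, 3, 0, 3, 1, 3, 0, 3, 1, 2, 0] [1, 3, 0, 1, 3, 0, 3, 1, 3, 0, 3, 1, 2, 0, 4, 3, 4, 3, 4] [5] [4, 2, 4, 2, 4], .pre 1 false, .fr 1 [1, 2, 0] false, .pre 1 false, .fr 1 [1, 2, 0] false, .pre 0 false, .fr 1 [2] false, .pre 1 false, .fr 1 [1, 2, 0] false, .pre 0 false, .fr 1 [2] false, .pre 1 true,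 .pre 54 true, .fr 12 [] true]),
  ([5, 4, 3, 4, 3, 4, 5, 4, 2, 4, 2, 4, 2, 2, 1, 2, 0, 1, 2, 0, 3, 3, 1, 3, 0], [5, 4, 3, 4, 3, 4, 5, 4, 2, 4, 2, 4], [.pre 54 false, .e3 1 [4, 3, 4, 3, 4] [5] [4, 2, 4, 2, 4, 2, 2, 1, 2, 0, 1, 2, 0, 3, 3, 1, 3, 0] [2, 2, 1, 2, 0, 1, 2, 0, 3, 3, 1, 3, 0, 4, 3, 4, 3, 4] [5] [4, 2, 4, 2, 4], .pre 0 true, .pre 0 true, .pre 1 true, .pre 1 true, .pre 0 false, .fr 1 [2] false, .pre 0 false, .fr 1 [2] false, .pre 1 false, .fr 1 [1, 2, 0] false, .pre 54 true, .fr 12 [] true]),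
  ([5, 4, 3, 4, 3, 4, 5, 4, 2, 4, 2, 4, 2, 1, 3, 0, 2, 2, 2, 1, 2, 0, 3], [5, 4, 3, 4, 3, 4, 5, 4, 2, 4, 2, 4], [.pre 54 false, .e3 1 [4, 3, 4, 3, 4] [5] [4, 2, 4, 2, 4, 2, 1, 3, 0, 2, 2, 2, 1, 2, 0, 3] [2, 1, 3, 0, 2, 2, 2, 1, 2, 0, 3, 4, 3, 4, 3, 4] [5] [4, 2, 4, 2, 4], .pre 0 true, .pre 1 false, .fr 1 [1, 2, 0] false, .pre 0 true, .pre 0 true, .pre 0 true, .pre 1 true, .pre 0 false, .fr 1 [2] false, .pre 54 true, .fr 12 [] true]),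
  ([5, 4, 3, 4, 3, 4, 5, 4, 2, 4, 2, 4, 4, 3, 4, 3, 4, 1, 1, 5, 0, 0, 4, 2, 4, 2, 4], [5], [.e3 12 [4, 3, 4, 3, 4, 1, 1] [5] [0, 0, 4, 2, 4, 2, 4] [4, 3, 4, 3, 4, 1, 1] [5] [0, 0, 4, 2, 4, 2, 4], .e3 12 [4, 3, 4, 3, 4, 1, 1] [5] [0, 0, 4, 2, 4, 2, 4] [4, 3, 4, 3, 4] [6] [4, 2, 4, 2, 4], .pre 54 false, .fr 1 [4, 3, 4, 3, 4, 5, 4, 2, 4, 2, 4] false]),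
  ([5, 4, 3, 4, 1, 5, 0, 4, 2, 4, 4, 3, 4, 3, 4, 0, 5, 1, 4, 2, 4, 2, 4], [5, 4, 3, 4, 3, 4, 5, 4, 2, 4, 2, 4, 0, 3, 4, 3, 0, 4, 2, 2, 4, 0], [.e3 10 [4, 3, 4, 3, 4, 0] [5] [1, 4, 2, 4, 2, 4] [4, 3, 4, 3, 4, 0] [5] [1, 4, 2, 4, 2, 4], .pre 28 false, .e3 1 [4, 3, 4, 1] [5] [0, 4, 2, 4] [4, 3, 4, 1] [5] [0, 4, 2, 4], .fr 23 [4, 3, 4, 1, 5, 0, 4, 2, 4] true, .e3 1 [4, 3, 4, 1] [5] [0, 4, 2, 4] [4, 3, 4, 1, 1, 3, 0] [5] [1, 2, 0, 0, 4, 2, 4], .e3 16 [4, 3, 4, 3, 4, 0] [5] [1, 4, 2, 4, 2, 4] [4, 3, 4, 1, 1, 3, 0, 4] [5] [4, 1, 2, 0, 0, 4, 2, 4], .e3 33 [4, 3, 4, 1] [5] [0, 4, 2, 4] [4, 3, 4, 1, 1, 3, 0] [5] [1, 2, 0, 0, 4, 2, 4], .fr 9 [1, 2, 0, 0, 4, 2, 4] false, .fr 12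 [1, 2, 0, 0, 4, 2, 4] false, .fr 8 [4] true, .rel 9 false, .e3 16 [4, 3, 4, 1] [6] [0, 4, 2, 4] [4, 3, 4, 0] [5] [1, 4, 2, 4], .e3 1 [4, 3, 4, 1, 1, 3, 0, 4, 1, 2, 0, 0, 4, 2, 4, 4, 3, 4, 0] [5] [1, 4, 2, 4] [1, 3, 0, 1, 3, 0, 3, 3, 1, 3, 0, 3, 4, 3, 4, 3, 4] [5] [4, 2, 4, 2, 4, 2, 1, 2, 0, 2, 2, 1, 2, 0, 1, 2, 0, 4, 3, 4, 1, 1, 3, 0, 4, 1, 2, 0, 0, 4, 2, 4], .pre 1 false, .fr 1 [1, 2, 0] false, .pre 1 false, .fr 1 [1, 2, 0] false, .pre 0 false, .fr 1 [2] false, .pre 0 false, .fr 1 [2] false, .pre 1 false, .fr 1 [1, 2, 0] false, .pre 0 false, .fr 1 [2] false, .pre 54 true, .e2 12 [2, 1, 2, 0, 2, 2, 1, 2, 0, 1, 2, 0, 4, 3, 4, 1, 1, 3, 0, 4, 1, 2, 0, 0, 4, 2, 4] [1,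 3, 0, 1, 3, 0, 3, 1, 3, 0, 3, 1, 2, 0, 2, 2, 1, 2, 0, 1, 2, 0, 3, 3, 1, 3, 0, 2, 1, 3, 0, 2, 2, 2, 1, 2, 0, 3, 2, 2, 1, 2, 0, 1, 2, 0, 3, 3, 1, 3, 0, 0, 3, 4, 3, 0, 4, 2, 2, 4, 0], .pre 55 true, .pre 56 true, .pre 57 true, .pre 56 true])]

/-- the coset equalities before part 4 -/
def prev4 : List (List Nat × List Nat) := prev3 ++ cert3.map (fun f => (f.1, f.2.1))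

theorem chk_cert4 : checkAll px bp prev4 cert4 = true := by decide +kernel

end Cfsg.Agent.Lib.Helper2.HNS
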