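import Cfsg.Agent.Lib.Helper2.HNDce4
import Cfsg.Agent.Lib.Helper2.HNS.Tab
import Cfsg.Agent.Lib.Helper2.HNS.Cert5
set_option autoImplicit false
set_option maxRecDepth 1000000
set_option Elab.async false
open Cfsg.Agent.Lib.Helper2.HNDce
namespace Cfsg.Agent.Lib.Helper2.HNS

/-! # The certificate of the double coset enumeration, part 6 -/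

/-- the coset equalities of part 6, with their chains -/
def cert6 : List (List Nat × List Nat × List Step) := [
  ([5, 4, 3, 4, 3, 4, 5, 4, 2, 4, 2, 4, 0, 2, 4, 3, 3, 3, 4, 5, 4, 2, 2, 2, 4, 3, 1], [5, 4, 3, 4, 3, 4, 5, 4, 2, 4, 2, 4, 0, 4, 3, 3, 0, 2, 1, 2], [.e3 12 [0, 2, 4, 3, 3, 3, 4] [5] [4, 2, 2, 2, 4, 3, 1] [0, 3, 0, 4, 2, 2, 0, 2, 1, 4, 1, 3, 1, 3, 4, 3, 4, 1] [5] [0, 4, 2, 4, 2, 0, 2, 0, 4, 0, 3, 1, 3, 3, 4, 1, 2, 1], .pre 61 false, .e3 8 [4, 1, 3, 1, 3, 4, 3, 4] [5] [4, 2, 4, 2, 0, 2, 0, 4] [4, 1, 3, 1, 3, 4, 3, 4] [5] [4, 2, 4, 2, 0, 2, 0, 4], .fr 44 [4, 1, 3, 1, 3, 4, 3, 4, 5, 4, 2, 4, 2, 0, 2, 0, 4] true, .e3 8 [4, 1, 3, 1, 3, 4, 3, 4] [5] [4, 2, 4, 2,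 0, 2, 0, 4] [4, 1, 3, 1, 3, 4, 3, 4] [5] [4, 2, 4, 2, 0, 2, 0, 4], .e3 25 [4, 1, 3, 1, 3, 4, 3, 4, 1] [5] [0, 4, 2, 4, 2, 0, 2, 0, 4] [4, 1, 3, 1, 3, 4, 3, 4] [6, 6] [4, 2, 4, 2, 0, 2, 0, 4], .e3 43 [4, 1, 3, 1, 3, 4, 3, 4] [5] [4, 2, 4, 2, 0, 2, 0, 4] [4, 1, 3, 1, 3, 4, 3, 4] [5] [4, 2, 4, 2, 0, 2, 0, 4], .fr 17 [4, 2, 4, 2, 0, 2, 0, 4] false, .fr 19 [4, 2, 4, 2, 0, 2, 0, 4] false, .e3 8 [4, 1, 3, 1, 3, 4, 3, 4] [5, 6, 6, 5] [4, 2, 4, 2, 0, 2, 0, 4] [] [] [], .e3 8 [4, 1, 3, 1, 3, 4, 3, 4] [6] [4, 2, 4, 2, 0, 2, 0, 4] [4, 0, 3, 1, 3, 4, 3, 4] [5] [4, 2, 4, 2, 0, 2, 1, 4], .e3 8 [4, 0, 3, 1, 3, 4, 3, 4] [5] [4, 2, 4, 2, 0, 2, 1, 4] [1, 2, 0, 2, 1, 3, 0, 3, 3, 1, 2, 0,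 3, 2, 1, 2, 0, 3, 1, 3, 0, 2, 1, 3, 0, 2, 2, 1, 3, 0, 2, 4, 1, 3, 1, 3, 4, 3, 4] [5] [4, 2, 4, 2, 0, 2, 0, 4, 3, 1, 2, 0, 3, 3, 1, 2, 0, 3, 1, 2, 0, 2, 1, 3, 0, 3, 2, 1, 3, 0, 2, 2, 1, 2, 0, 3, 1, 3, 0], .pre 10 true, .pre 8 false, .fr 8 [2, 1, 3, 0, 2] false, .pre 10 false, .fr 8 [1, 2, 0, 2, 1, 3, 0, 3] false, .pre 8 true, .pre 8 true, .pre 61 true, .e2 12 [0, 3, 0, 4, 2, 2, 0, 2, 1, 3, 1, 2, 0, 3, 3, 1, 2, 0, 3, 1, 2, 0, 2, 1, 3, 0, 3, 2, 1, 3, 0, 2, 2, 1, 2, 0, 3, 1, 3, 0, 0, 3, 1, 3, 3, 4, 1, 2, 1] [1, 3, 0, 1, 3, 0, 3, 1, 3, 0, 3, 1, 2, 0, 0, 3, 0, 4, 2, 2, 0, 2, 1, 2, 1, 2, 0, 1, 2, 0, 2, 1, 4, 1, 1, 3, 1, 3, 0, 1, 3, 0, 3, 1, 2, 0, 2, 1, 3, 0, 3, 2, 2, 2, 0, 2,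 0, 2, 2, 0, 2, 0, 2, 0, 2, 4, 1, 3, 0, 1, 3, 0, 3, 1, 3, 0, 3, 1, 2, 0, 2, 2, 1, 2, 0, 1, 2, 0, 3, 3, 1, 3, 0, 1, 3, 0, 1, 3, 0, 3, 1, 3, 0, 3, 1, 2, 0, 0, 4, 3, 3, 0, 2, 1, 2], .pre 55 true, .pre 69 false, .fr 12 [4, 3, 1, 3, 1, 3, 1, 3, 3, 1, 3, 1, 3, 3, 3, 2, 1, 2, 0, 3, 1, 3, 0, 2, 1, 2, 0, 1, 2, 0, 2, 0, 0, 4, 0, 3, 1, 3, 0, 1, 3, 0, 3, 0, 3, 1, 3, 3, 4, 1, 2, 1] false, .pre 55 true, .pre 56 true, .pre 55 true]),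
  ([5, 4, 1, 1, 5, 0, 0, 4, 3, 4, 1, 1, 5, 0, 0, 4, 2], [5, 4, 1, 1, 5, 0, 0, 4, 3, 4, 1, 1, 5, 0, 0, 4, 2], []),
  ([5, 4, 1, 1, 5, 0, 0, 4, 3, 4, 1, 1, 5, 0, 0, 4, 2, 1, 2, 0, 2, 1, 3, 0, 3, 2, 1, 2, 0, 1, 2, 0, 2], [5, 4, 1, 1, 5, 0, 0, 4, 3, 4, 1, 1, 5, 0, 0, 4, 2], [.pre 73 false, .e3 8 [3, 4, 1, 1] [5] [0, 0, 4, 2, 1, 2, 0, 2, 1, 3, 0, 3, 2, 1, 2, 0, 1, 2, 0, 2] [1, 2, 0, 2, 1, 3, 0, 3, 2, 1, 2, 0, 1, 2, 0, 2, 3, 4, 1, 1] [5] [0, 0, 4, 2], .pre 10 true, .pre 9 false, .fr 8 [3, 1, 3, 0, 1, 3, 0, 3] false, .pre 73 true, .fr 17 [] true]),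
  ([5, 4, 1, 1, 5, 0, 0, 4, 3, 4, 1, 1, 5, 0, 0, 4, 2, 2, 1, 3, 0, 2, 2, 1, 2, 0, 3, 1, 3, 0, 3, 1, 3, 0, 1, 3, 0, 3, 3, 1, 2, 0, 3], [5, 4, 1, 1, 5, 0, 0, 4, 3, 4, 1, 1, 5, 0, 0, 4, 2], [.pre 73 false, .e3 8 [3, 4, 1, 1] [5] [0, 0, 4, 2, 2, 1, 3, 0, 2, 2, 1, 2, 0, 3, 1, 3, 0, 3, 1, 3, 0, 1, 3, 0, 3, 3, 1, 2, 0, 3] [2, 1, 3, 0, 2, 2, 1, 2, 0, 3, 1, 3, 0, 3, 1, 3, 0, 1, 3, 0, 3, 3, 1, 2, 0, 3, 3, 4, 1, 1] [5] [0, 0, 4, 2], .pre 8 true, .pre 10 false, .fr 8 [1, 2, 0, 2, 1, 3, 0, 3] false, .pre 9 true, .pre 8 false, .fr 8 [2, 1, 3, 0, 2] false, .pre 73 true, .fr 17 [] true]),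
  ([5, 4, 1, 1, 5, 0, 0, 4, 3, 4, 1, 1, 5, 0, 0, 4, 2, 3, 1, 2, 0, 3, 3, 1, 3, 0, 1, 3, 0, 3, 2, 1, 3, 0, 2, 2, 1, 3, 0, 2], [5, 4, 1, 1, 5, 0, 0, 4, 3, 4, 1, 1, 5, 0, 0, 4, 2], [.pre 73 false, .e3 8 [3, 4, 1, 1] [5] [0, 0, 4, 2, 3, 1, 2, 0, 3, 3, 1, 3, 0, 1, 3, 0, 3, 2, 1, 3, 0, 2, 2, 1, 3, 0, 2] [3, 1, 2, 0, 3, 3, 1, 3, 0, 1, 3, 0, 3, 2, 1, 3, 0, 2, 2, 1, 3, 0, 2, 3, 4, 1, 1] [5] [0, 0, 4, 2], .pre 8 false, .fr 8 [2, 1, 3, 0, 2] false, .pre 9 true, .pre 8 true, .pre 8 true, .pre 73 true, .fr 17 [] true]),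
  ([5, 4, 1, 1, 5, 0, 0, 4, 3, 4, 1, 1, 5, 0, 0, 4, 2, 3, 4, 5, 4, 2], [5, 4, 1, 1, 5, 0, 0, 4], [.e3 17 [3, 4] [5] [4, 2] [3, 4] [5] [4, 2], .e3 17 [3, 4] [5] [4, 2] [3, 4, 1, 1] [6] [0, 0, 4, 2], .pre 73 false, .fr 8 [3, 4, 1, 1, 5, 0, 0, 4, 2] false]),
  ([5, 4, 1, 1, 5, 0, 0, 4, 3, 4, 1, 1, 5, 0, 0, 4, 2, 1, 1, 5, 0, 0], [5, 4, 1, 1, 5, 0, 0, 4, 0, 0, 3, 4, 2], [.e3 17 [1, 1] [5] [0, 0] [1, 4, 1, 1, 0, 0, 4, 1] [5] [0, 4, 1, 1, 0, 0, 4, 0], .pre 73 false, .fr 8 [1, 4, 1, 1] true, .pre 15 true, .e3 8 [0, 0, 4, 0, 3, 4, 1, 1] [5] [0, 0, 4, 2, 1, 4, 1, 1, 0, 0] [0, 0, 4, 1, 3, 4] [5] [4, 2, 0, 4], .pre 16 false, .e3 8 [4, 1] [5] [0, 4] [4, 1] [5] [0, 4], .e3 8 [4, 1]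 [5] [0, 4] [4, 1, 3] [5] [2, 0, 4], .e3 15 [4, 1, 3, 4] [5] [4, 2, 0, 4] [4, 1, 3, 4] [5] [4, 2, 0, 4], .e3 24 [4, 1] [5] [0, 4] [4, 1, 3] [5] [2, 0, 4], .fr 12 [2, 0, 4] false, .fr 15 [2, 0, 4] false, .fr 11 [4] true, .rel 12 false, .e2 8 [4, 1, 3, 4, 2, 0, 4, 1, 1, 0, 0, 4, 0] [1, 4, 1, 1, 0, 0, 3, 4, 2], .pre 15 true]),
  ([5, 4, 1, 1, 5, 0, 0, 4, 3, 4, 1, 1, 5, 0, 0, 4, 2, 3, 4, 2, 1, 1], [5, 4, 1, 1, 5, 0, 0, 4, 3, 4, 1, 1, 5, 0, 0, 4, 2], [.fr 17 [1, 1, 5, 0, 0] true, .pre 78 true, .e3 13 [1, 1] [6] [0, 0] [] [5] [], .e3 8 [0, 0, 3, 4, 2] [5] [] [3, 4, 1, 1] [5] [0, 0, 4, 2, 0, 0, 3, 4, 2], .pre 73 true, .fr 17 [0, 0, 3, 4, 2] false]),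
  ([5, 4, 3, 4, 1, 5, 0, 4, 2, 4, 3, 4, 3, 1, 3, 4, 5, 4, 2, 0, 2, 4, 2], [5, 4, 1, 1, 5, 0, 0, 4, 3, 4, 1, 1, 5, 0, 0, 4, 2, 2, 2, 2, 0, 3, 3, 0, 2, 2, 0, 2, 2, 0, 2, 0], [.e3 10 [3, 4, 3, 1, 3, 4] [5] [4, 2, 0, 2, 4, 2] [2, 2, 1, 2, 0, 2, 2, 1, 2, 0, 3, 1, 3, 0, 4, 0, 3, 4, 2, 1, 4, 1, 1, 1, 3, 4, 1] [5] [0, 4, 2, 0, 0, 0, 4, 0, 3, 4, 2, 1, 4, 1, 2, 0, 2, 1, 3, 0, 3, 3, 1, 3, 0, 3, 3], .pre 38 false, .e3 8 [4, 1, 3, 4] [5] [4, 2, 0, 4] [4, 1, 3, 4] [5] [4, 2, 0, 4], .fr 26 [4, 1, 3, 4, 5, 4, 2, 0, 4] true, .e3 8 [4, 1, 3, 4] [5] [4, 2, 0, 4] [4, 1, 3, 4, 3, 3, 1, 2, 0, 2, 1, 3, 0, 3, 3] [5] [2, 2, 1, 2, 0, 3, 1, 3, 0, 2, 2, 4, 2, 0, 4], .e3 39 [1, 3, 4, 1] [5] [0, 4,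 2, 0] [4, 1, 3, 4, 3, 3, 1, 2, 0, 2, 1, 3, 0, 3, 3, 4] [5] [4, 2, 2, 1, 2, 0, 3, 1, 3, 0, 2, 2, 4, 2, 0, 4], .e3 72 [4, 1, 3, 4] [5] [4, 2, 0, 4] [4, 1, 3, 4, 3, 3, 1, 2, 0, 2, 1, 3, 0, 3, 3] [5] [2, 2, 1, 2, 0, 3, 1, 3, 0, 2, 2, 4, 2, 0, 4], .fr 24 [2, 2, 1, 2, 0, 3, 1, 3, 0, 2, 2, 4, 2, 0, 4] false, .fr 27 [2, 2, 1, 2, 0, 3, 1, 3, 0, 2, 2, 4, 2, 0, 4] false, .fr 23 [4] true, .rel 24 false, .e3 39 [4, 1, 3, 4] [6] [4, 2, 0, 4] [4, 0, 3, 4] [5] [4, 2, 1, 4], .e3 8 [4, 1, 3, 4, 3, 3, 1, 2, 0, 2, 1, 3, 0, 3, 3, 4, 2, 2, 1, 2, 0, 3, 1, 3, 0, 2, 2, 4, 2, 0, 4, 4, 0, 3, 4] [5] [4, 2, 1, 4] [3, 1, 2, 0, 3, 3, 1, 3, 0, 1, 3, 0, 3, 3, 1, 3, 0, 1, 3, 0, 3, 3, 4, 1, 1] [5] [0,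 0, 4, 2, 2, 1, 2, 0, 1, 2, 0, 2, 2, 1, 2, 0, 1, 2, 0, 2, 2, 1, 3, 0, 2, 4, 1, 3, 4, 3, 3, 1, 2, 0, 2, 1, 3, 0, 3, 3, 4, 2, 2, 1, 2, 0, 3, 1, 3, 0, 2, 2, 4, 2, 0, 4], .pre 8 false, .fr 8 [2, 1, 3, 0, 2] false, .pre 9 true, .pre 9 true, .pre 73 true, .e2 17 [2, 1, 2, 0, 1, 2, 0, 2, 2, 1, 2, 0, 1, 2, 0, 2, 2, 1, 3, 0, 2, 4, 1, 3, 4, 3, 3, 1, 2, 0, 2, 1, 3, 0, 3, 3, 4, 2, 2, 1, 2, 0, 3, 1, 3, 0, 2, 2, 4, 2, 0, 4, 0, 0, 4, 0, 3, 4, 2, 1, 4, 1, 2, 0, 2, 1, 3, 0, 3, 3, 1, 3, 0, 3, 3] [1, 2, 0, 2, 1, 3, 0, 3, 2, 1, 2, 0, 1, 2, 0, 2, 3, 1, 2, 0, 3, 3, 1, 3, 0, 1, 3, 0, 3, 2, 1, 3, 0, 2, 2, 1, 3, 0, 2, 1, 2, 0, 2, 1, 3, 0, 3, 2, 1, 2, 0, 1, 2, 0, 2, 2, 1, 3, 0, 2, 2, 1, 2, 0, 3,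 1, 3, 0, 3, 1, 3, 0, 1, 3, 0, 3, 3, 1, 2, 0, 3, 3, 1, 2, 0, 3, 3, 1, 3, 0, 1, 3, 0, 3, 2, 1, 3, 0, 2, 2, 1, 3, 0, 2, 1, 2, 0, 2, 1, 3, 0, 3, 2, 1, 2, 0, 1, 2, 0, 2, 2, 2, 2, 0, 3, 3, 0, 2, 2, 0, 2, 2, 0, 2, 0], .pre 74 true, .pre 76 true, .pre 74 true, .pre 75 true, .pre 76 true, .pre 74 true]),
  ([5, 4, 1, 1, 5, 0, 0, 4, 3, 4, 1, 1, 5, 0, 0, 4, 2, 4, 3, 4, 1, 5, 0, 4, 2, 4], [5, 4, 3, 4, 1, 5, 0, 4, 2, 4, 4, 2, 2, 4, 3, 3, 1, 3, 3, 4, 2, 2, 4, 2], [.e3 17 [4, 3, 4, 1] [5] [0, 4, 2, 4] [2, 2, 2, 0, 3, 3, 0, 2, 2, 0, 2, 2, 0, 2, 0, 3, 4, 3, 0, 3, 4] [5] [4, 2, 1, 2, 4, 2, 1, 3, 1, 3, 3, 1, 3, 3, 1, 2, 2, 1, 3, 3, 3], .e3 32 [3, 4, 3, 0, 3, 4] [5] [4, 2, 1, 2, 4, 2] [3,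 4, 3, 1, 3, 4] [6] [4, 2, 0, 2, 4, 2], .pre 80 false, .fr 10 [3, 4, 3, 1, 3, 4, 5, 4, 2, 0, 2, 4, 2] false, .e2 10 [1, 3, 1, 3, 3, 1, 3, 3, 1, 2, 2, 1, 3, 3, 3] [1, 2, 0, 3, 3, 1, 2, 0, 2, 2, 2, 1, 2, 2, 1, 2, 1, 3, 3, 3, 0, 0, 4, 0, 1, 2, 0, 2, 1, 3, 0, 3, 0, 0, 4, 0, 3, 4, 2, 1, 4, 1, 2, 0, 2, 1, 3, 0, 3, 3, 1, 3, 0, 3, 3, 1, 3, 0, 3, 1, 2, 0, 1, 2, 0, 3, 2, 2, 1, 2, 2, 1, 2, 1, 3, 3, 3, 0, 0, 4, 0, 1, 2, 0, 2, 1, 3, 0, 3, 0, 0, 4, 0, 3, 4, 2, 1, 4, 1, 2, 0, 2, 1, 3, 0, 3, 3, 1, 3, 0, 3, 3, 4, 2, 2, 4, 3, 3, 1, 3, 3, 4, 2, 2, 4, 2], .pre 32 false, .fr 10 [3, 1, 3, 0, 2, 2, 1, 3, 0] false, .pre 46 true, .pre 30 false, .fr 10 [2, 1, 3, 0, 1, 3, 0, 2, 1, 2, 0] false, .pre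 46 true]),
  ([5, 4, 1, 1, 5, 0, 0, 4, 3, 4, 1, 1, 5, 0, 0, 4, 2, 4, 3, 4, 1, 1, 5, 0, 0, 4, 2, 4], [5, 4, 1, 1, 5, 0, 0, 4, 2, 4, 3, 4, 2, 1], [.e3 17 [4, 3, 4, 1, 1] [5] [0, 0, 4, 2, 4] [2, 2, 2, 0, 3, 3, 0, 2, 2, 0, 2, 2, 0, 2, 0, 1, 3, 0, 3, 1, 2, 0, 1, 2, 0, 3, 1, 2, 0, 2, 1, 2, 0, 2, 4, 3, 4, 2, 1, 4, 3, 1, 2, 0, 2, 2, 1, 2, 0, 2, 2, 1, 2, 0, 3, 1, 3, 0, 4, 0, 3, 4, 2, 1, 4, 1, 1, 4, 1, 3, 4] [5] [4, 2, 0, 4, 0, 0, 4, 0, 3, 4, 2, 1, 4, 1, 2, 0, 2, 1, 3, 0, 3, 3, 1, 3, 0, 3, 3, 1, 3, 0, 2, 4, 0, 3, 4, 2, 4, 3, 1, 3, 0, 3, 1, 3, 0, 2, 1, 3, 0, 1, 3, 0, 2, 1, 2, 0, 1, 3, 1, 3, 3, 1, 3, 3, 1, 2, 2, 1, 3, 3, 3], .pre 80 false, .pre 30 false, .fr 10 [1, 2, 0, 2, 1, 2,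 0, 2] true, .pre 29 true, .fr 10 [4, 3, 4, 2, 1, 4, 3, 1, 2, 0] true, .pre 35 true, .e3 10 [1, 3, 0, 2, 4, 0, 3, 4, 2, 4, 3, 1, 3, 0, 3, 1, 3, 0, 2, 1, 3, 0, 1, 3, 0, 2, 1, 2, 0, 3, 4, 3, 1, 3, 4] [5] [4, 2, 0, 2, 4, 2, 1, 3, 0, 3, 1, 2, 0, 1, 2, 0, 3, 1, 2, 0, 2, 1, 2, 0, 2, 4, 3, 4, 2, 1, 4, 3, 1, 2, 0, 2, 2, 1, 2, 0, 2, 2, 1, 2, 0, 3, 1, 3, 0, 4, 0, 3, 4, 2, 1, 4, 1, 1] [2, 2, 1, 2, 0, 2, 2, 1, 2, 0, 3, 1, 3, 0, 4, 0, 3, 4, 2, 1, 4, 1, 1, 4, 1, 3, 4, 1] [5] [0, 4, 2, 0, 4], .pre 38 false, .e3 8 [4, 1, 3, 4] [5] [4, 2, 0, 4] [4, 1, 3, 4] [5] [4, 2, 0, 4], .e3 8 [4, 1, 3, 4] [5] [4, 2, 0, 4] [4, 1, 3, 4] [5] [4, 2, 0, 4], .e3 17 [4, 1, 3, 4, 1] [5] [0, 4, 2, 0, 4] [4,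 1, 3, 4] [6, 6] [4, 2, 0, 4], .e3 27 [4, 1, 3, 4] [5] [4, 2, 0, 4] [4, 1, 3, 4] [5] [4, 2, 0, 4], .fr 13 [4, 2, 0, 4] false, .fr 15 [4, 2, 0, 4] false, .e3 8 [4, 1, 3, 4] [5, 6, 6, 5] [4, 2, 0, 4] [] [] [], .e2 8 [0, 0, 4, 0, 3, 4, 2, 1, 4, 1, 2, 0, 2, 1, 3, 0, 3, 3, 1, 3, 0, 3, 3, 1, 3, 0, 2, 4, 0, 3, 4, 2, 4, 3, 1, 3, 0, 3, 1, 3, 0, 2, 1, 3, 0, 1, 3, 0, 2, 1, 2, 0, 1, 3, 1, 3, 3, 1, 3, 3, 1, 2, 2, 1, 3, 3, 3] [2, 1, 2, 0, 3, 1, 3, 0, 2, 1, 3, 0, 2, 2, 1, 2, 0, 1, 2, 0, 2, 2, 1, 2, 0, 1, 2, 0, 2, 2, 1, 3, 0, 2, 2, 4, 3, 4, 2, 1], .pre 10 false, .fr 8 [1, 2, 0, 2, 1, 3, 0, 3] false, .pre 8 true, .pre 9 false, .fr 8 [3, 1, 3, 0, 1, 3, 0, 3] false, .pre 9 false, .fr 8 [3,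 1, 3, 0, 1, 3, 0, 3] false, .pre 8 true]),
  ([5, 4, 1, 1, 5, 0, 0, 4, 3, 4, 1, 1, 5, 0, 0, 4, 2, 0, 3, 4, 2, 4, 3, 0, 0, 4, 0, 3, 1, 3, 0, 1, 3, 0, 3, 3, 1, 3, 0, 1, 3, 0, 3], [5, 4, 1, 1, 5, 0, 0, 4, 3, 4, 1, 1, 5, 0, 0, 4, 2], [.fr 17 [4, 3, 4, 1, 1, 5, 0, 0, 4, 2, 4] true, .pre 82 true, .e3 14 [4, 3, 4, 1, 1] [6] [0, 0, 4, 2, 4] [4, 3, 4] [5] [4, 2, 4], .e3 8 [2, 4, 3, 4, 2, 1, 4, 3, 4] [5] [4, 2, 4] [0, 0, 4, 0, 3, 1, 3, 0, 1, 3, 0, 3, 3, 1, 3, 0, 1, 3, 0, 3, 3, 4, 1, 1] [5] [0, 0, 4, 2, 2, 1, 2, 0, 1, 2, 0, 2, 2, 1, 2, 0, 1, 2, 0, 2, 1, 4, 1, 1, 2, 4, 3, 4, 2, 1], .pre 15 false, .fr 8 [1, 4, 1, 1] false, .pre 9 true, .pre 9 true, .pre 73 true, .fr 17 [2, 1, 2, 0,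 1, 2, 0, 2, 2, 1, 2, 0, 1, 2, 0, 2, 1, 4, 1, 1, 2, 4, 3, 4, 2, 1] false])]

/-- the coset equalities before part 6 -/
def prev6 : List (List Nat × List Nat) := prev5 ++ cert5.map (fun f => (f.1, f.2.1))

theorem chk_cert6 : checkAll px bp prev6 cert6 = true := by decide +kernel

end Cfsg.Agent.Lib.Helper2.HNS
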