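import Cfsg.Agent.Lib.Helper2.HNDce4
import Cfsg.Agent.Lib.Helper2.HNS.Tab
import Cfsg.Agent.Lib.Helper2.HNS.Cert7
set_option autoImplicit false
set_option maxRecDepth 1000000
set_option Elab.async false
open Cfsg.Agent.Lib.Helper2.HNDce
namespace Cfsg.Agent.Lib.Helper2.HNS

/-! # The certificate of the double coset enumeration, part 8 -/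

/-- the coset equalities of part 8, with their chains -/
def cert8 : List (List Nat × List Nat × List Step) := [
  ([5, 4, 3, 4, 3, 4, 5, 4, 2, 4, 2, 4, 0, 2, 4, 1, 5, 0, 4, 3, 1], [5, 4, 1, 1, 5, 0, 0, 4, 3, 4, 1, 1, 5, 0, 0, 4, 2, 0, 2, 0, 4, 3, 3, 0, 3, 0, 3, 0, 2, 1, 3], [.e3 12 [0, 2, 4, 1] [5] [0, 4, 3, 1] [0, 3, 0, 4, 2, 2, 0, 2, 1, 0, 3, 4, 3, 3, 4, 1] [5] [0, 4, 2, 2, 4, 2, 1, 0, 3, 1, 3, 3, 4, 1, 2, 1], .pre 61 false, .e3 8 [4, 1, 3, 1, 3, 4, 3, 4] [5] [4, 2, 4, 2, 0, 2, 0, 4] [4, 1, 3, 1, 3, 4, 3, 4] [5] [4, 2, 4, 2, 0, 2, 0, 4], .fr 40 [4, 1, 3, 1, 3, 4, 3, 4, 5, 4, 2, 4, 2, 0, 2, 0, 4] true, .e3 8 [4, 1, 3, 1, 3, 4, 3, 4] [5] [4, 2, 4, 2, 0, 2, 0,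 4] [4, 1, 3, 1, 3, 4, 3, 4, 3, 3] [5] [2, 2, 4, 2, 4, 2, 0, 2, 0, 4], .e3 29 [0, 3, 4, 3, 3, 4, 1] [5] [0, 4, 2, 2, 4, 2, 1] [4, 1, 3, 1, 3, 4, 3, 4, 3, 3, 4] [5] [4, 2, 2, 4, 2, 4, 2, 0, 2, 0, 4], .e3 52 [4, 1, 3, 1, 3, 4, 3, 4] [5] [4, 2, 4, 2, 0, 2, 0, 4] [4, 1, 3, 1, 3, 4, 3, 4, 3, 3] [5] [2, 2, 4, 2, 4, 2, 0, 2, 0, 4], .fr 19 [2, 2, 4, 2, 4, 2, 0, 2, 0, 4] false, .fr 22 [2, 2, 4, 2, 4, 2, 0, 2, 0, 4] false, .fr 18 [4] true, .rel 19 false, .e3 29 [4, 1, 3, 1, 3, 4, 3, 4] [6] [4, 2, 4, 2, 0, 2, 0, 4] [4, 0, 3, 1, 3, 4, 3, 4] [5] [4, 2, 4, 2, 0, 2, 1, 4], .e3 8 [4, 1, 3, 1, 3, 4, 3, 4, 3, 3, 4, 2, 2, 4, 2, 4, 2, 0, 2, 0, 4, 4, 0, 3, 1, 3, 4, 3, 4] [5] [4, 2,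 4, 2, 0, 2, 1, 4] [1, 2, 0, 2, 1, 3, 0, 3, 2, 1, 2, 0, 1, 2, 0, 2, 2, 1, 2, 0, 3, 1, 3, 0, 3, 1, 2, 0, 3, 3, 1, 2, 0, 3, 0, 3, 4, 3, 4, 1] [5] [0, 4, 2, 4, 2, 1, 2, 1, 3, 0, 2, 2, 1, 3, 0, 2, 1, 2, 0, 2, 1, 3, 0, 3, 3, 1, 3, 0, 1, 3, 0, 3, 2, 1, 2, 0, 3, 1, 3, 0, 4, 1, 3, 1, 3, 4, 3, 4, 3, 3, 4, 2, 2, 4, 2, 4, 2, 0, 2, 0, 4], .pre 10 true, .pre 9 false, .fr 8 [3, 1, 3, 0, 1, 3, 0, 3] false, .pre 10 false, .fr 8 [1, 2, 0, 2, 1, 3, 0, 3] false, .pre 8 false, .fr 8 [2, 1, 3, 0, 2] false, .pre 8 false, .fr 8 [2, 1, 3, 0, 2] false, .pre 87 true, .e2 17 [3, 3, 0, 2, 2, 4, 2, 1, 3, 0, 2, 2, 1, 3, 0, 2, 1, 2, 0, 2, 1, 3, 0, 3, 3, 1, 3, 0, 1, 3, 0, 3, 2, 1, 2, 0, 3, 1,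 3, 0, 4, 1, 3, 1, 3, 4, 3, 4, 3, 3, 4, 2, 2, 4, 2, 4, 2, 0, 2, 0, 4, 0, 3, 1, 3, 3, 4, 1, 2, 1] [1, 2, 0, 2, 1, 3, 0, 3, 2, 1, 2, 0, 1, 2, 0, 2, 3, 4, 2, 1, 1, 0, 3, 4, 2, 4, 3, 0, 0, 4, 0, 3, 1, 3, 0, 1, 3, 0, 3, 3, 1, 3, 0, 1, 3, 0, 3, 0, 3, 4, 2, 4, 3, 0, 0, 4, 0, 3, 1, 3, 0, 1, 3, 0, 3, 3, 1, 3, 0, 1, 3, 0, 3, 0, 3, 4, 2, 4, 3, 0, 0, 4, 0, 3, 1, 3, 0, 1, 3, 0, 3, 3, 1, 3, 0, 1, 3, 0, 3, 0, 2, 0, 4, 3, 3, 0, 3, 0, 3, 0, 2, 1, 3], .pre 74 true, .pre 79 true, .pre 83 true, .pre 83 true, .pre 83 true]),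
  ([5, 4, 1, 1, 5, 0, 0, 4, 3, 4, 1, 1, 5, 0, 0, 4, 2, 2, 4, 3, 4, 5, 4, 2, 4, 3], [5, 4, 3, 4, 3, 4, 5, 4, 2, 4, 2, 4, 4, 3, 0, 3, 1, 2], [.e3 17 [2, 4, 3, 4] [5] [4, 2, 4, 3] [0, 2, 0, 4, 3, 3, 0, 3, 0, 3, 0, 2, 1, 3, 1, 2, 4, 1] [5] [0, 4, 3, 0, 2, 0, 3, 1, 2, 1, 2, 1, 2, 2, 4, 1, 3, 1], .e3 31 [1, 2, 4, 1] [5] [0, 4, 3, 0] [0, 2, 4, 1] [6] [0, 4, 3, 1], .pre 96 false, .fr 12 [0, 2, 4, 1, 5, 0, 4, 3, 1] false, .e2 12 [2, 0, 3, 1, 2, 1, 2, 1, 2, 2, 4, 1, 3, 1] [0, 3, 0, 4, 2, 2, 0, 2, 1, 2, 1, 2, 0, 1, 2, 0, 2, 1, 4, 1, 1, 3, 1, 3, 0, 1, 3, 0, 3, 1, 2, 0, 2, 1, 3, 0, 3, 2, 2, 2, 0, 2, 0, 2, 2, 0, 2, 0, 2, 0, 2, 4, 0, 3, 0, 4, 2, 2, 0, 2, 1, 2, 1, 2, 0, 1, 2,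 0, 2, 1, 4, 1, 1, 3, 1, 3, 0, 1, 3, 0, 3, 1, 2, 0, 2, 1, 3, 0, 3, 2, 2, 2, 0, 2, 0, 2, 2, 0, 2, 0, 2, 0, 2, 4, 1, 3, 0, 1, 3, 0, 3, 1, 3, 0, 3, 1, 2, 0, 2, 1, 3, 0, 2, 2, 2, 1, 2, 0, 3, 4, 3, 0, 3, 1, 2], .pre 69 false, .fr 12 [4, 3, 1, 3, 1, 3, 1, 3, 3, 1, 3, 1, 3, 3, 3, 2, 1, 2, 0, 3, 1, 3, 0, 2, 1, 2, 0, 1, 2, 0, 2, 0, 0, 4, 0, 3, 1, 3, 0, 1, 3, 0, 3, 0, 3, 1, 3, 3, 4, 1, 2, 1] false, .pre 69 false, .fr 12 [4, 3, 1, 3, 1, 3, 1, 3, 3, 1, 3, 1, 3, 3, 3, 2, 1, 2, 0, 3, 1, 3, 0, 2, 1, 2, 0, 1, 2, 0, 2, 0, 0, 4, 0, 3, 1, 3, 0, 1, 3, 0, 3, 0, 3, 1, 3, 3, 4, 1, 2, 1] false, .pre 55 true, .pre 57 true]),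
  ([5, 4, 3, 4, 3, 4, 5, 4, 2, 4, 2, 4, 4, 2, 0, 3, 4, 3, 3, 4, 5, 4, 2, 2, 4, 2, 1, 3, 4], [5, 4, 1, 1, 5, 0, 0, 4, 3, 4, 1, 1, 5, 0, 0, 4, 2, 2, 2, 0, 2, 0, 2, 2, 0, 2, 4, 0, 2, 4, 2, 4, 3], [.e3 12 [4, 2, 0, 3, 4, 3, 3, 4] [5] [4, 2, 2, 4, 2, 1, 3, 4] [0, 3, 0, 4, 2, 2, 0, 2, 1, 2, 2, 4, 2, 0, 3, 3, 4] [5] [4, 2, 2, 1, 3, 4, 3, 3, 0, 3, 1, 3, 3, 4, 1, 2, 1], .pre 61 false, .e3 8 [4, 1, 3, 1, 3, 4, 3, 4] [5] [4, 2, 4, 2, 0, 2, 0, 4] [4, 1, 3, 1, 3, 4, 3, 4] [5] [4, 2, 4, 2, 0, 2, 0, 4], .fr 42 [4, 1, 3, 1, 3, 4, 3, 4, 5, 4, 2, 4, 2, 0, 2, 0, 4] true, .e3 8 [4, 1, 3, 1, 3, 4, 3, 4] [5] [4, 2, 4, 2, 0, 2, 0, 4] [4, 1, 3, 1, 3, 4, 3, 4, 1, 3, 0, 3] [5] [2, 1, 2,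 0, 4, 2, 4, 2, 0, 2, 0, 4], .e3 33 [2, 2, 4, 2, 0, 3, 3, 4] [5] [4, 2, 2, 1, 3, 4, 3, 3] [4, 1, 3, 1, 3, 4, 3, 4, 1, 3, 0, 3, 4] [5] [4, 2, 1, 2, 0, 4, 2, 4, 2, 0, 2, 0, 4], .e3 60 [4, 1, 3, 1, 3, 4, 3, 4] [5] [4, 2, 4, 2, 0, 2, 0, 4] [4, 1, 3, 1, 3, 4, 3, 4, 1, 3, 0, 3] [5] [2, 1, 2, 0, 4, 2, 4, 2, 0, 2, 0, 4], .fr 21 [2, 1, 2, 0, 4, 2, 4, 2, 0, 2, 0, 4] false, .fr 24 [2, 1, 2, 0, 4, 2, 4, 2, 0, 2, 0, 4] false, .fr 20 [4] true, .rel 21 false, .e3 33 [4, 1, 3, 1, 3, 4, 3, 4] [6] [4, 2, 4, 2, 0, 2, 0, 4] [4, 0, 3, 1, 3, 4, 3, 4] [5] [4, 2, 4, 2, 0, 2, 1, 4], .e3 8 [4, 1, 3, 1, 3, 4, 3, 4, 1, 3, 0, 3, 4, 2, 1, 2, 0, 4, 2, 4, 2, 0, 2, 0, 4, 4, 0, 3, 1, 3, 4, 3, 4]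 [5] [4, 2, 4, 2, 0, 2, 1, 4] [2, 1, 3, 0, 2, 2, 1, 2, 0, 1, 2, 0, 2, 2, 1, 3, 0, 2, 1, 2, 0, 2, 1, 3, 0, 3, 2, 1, 3, 0, 2, 0, 3, 4, 3, 4, 1] [5] [0, 4, 2, 4, 2, 1, 3, 1, 2, 0, 3, 2, 1, 2, 0, 3, 1, 3, 0, 3, 1, 2, 0, 3, 3, 1, 3, 0, 1, 3, 0, 3, 3, 1, 2, 0, 3, 4, 1, 3, 1, 3, 4, 3, 4, 1, 3, 0, 3, 4, 2, 1, 2, 0, 4, 2, 4, 2, 0, 2, 0, 4], .pre 8 true, .pre 9 false, .fr 8 [3, 1, 3, 0, 1, 3, 0, 3] false, .pre 8 true, .pre 10 true, .pre 8 true, .pre 87 true, .e2 17 [3, 3, 0, 2, 2, 4, 3, 1, 2, 0, 3, 2, 1, 2, 0, 3, 1, 3, 0, 3, 1, 2, 0, 3, 3, 1, 3, 0, 1, 3, 0, 3, 3, 1, 2, 0, 3, 4, 1, 3, 1, 3, 4, 3, 4, 1, 3, 0, 3, 4, 2, 1, 2, 0, 4, 2, 4, 2, 0, 2, 0, 4, 0, 3, 1, 3, 3, 4, 1, 2,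 1] [1, 2, 0, 2, 1, 3, 0, 3, 2, 1, 2, 0, 1, 2, 0, 2, 3, 1, 2, 0, 3, 3, 1, 3, 0, 1, 3, 0, 3, 2, 1, 3, 0, 2, 2, 1, 3, 0, 2, 1, 2, 0, 2, 1, 3, 0, 3, 2, 1, 2, 0, 1, 2, 0, 2, 2, 2, 0, 2, 0, 2, 2, 0, 2, 4, 0, 2, 4, 2, 4, 3], .pre 74 true, .pre 76 true, .pre 74 true]),
  ([5, 4, 1, 1, 5, 0, 0, 4, 3, 4, 1, 1, 5, 0, 0, 4, 2, 3, 3, 4, 2, 4, 2, 4, 2, 4, 0, 5, 1, 4, 3, 4, 3, 4, 3, 4, 2, 2], [5, 4, 3, 4, 3, 4, 5, 4, 2, 4, 2, 4, 2, 0, 3, 0, 4, 2, 2, 4, 0, 2, 4, 2], [.e3 17 [3, 3, 4, 2, 4, 2, 4, 2, 4, 0] [5] [1, 4, 3, 4, 3, 4, 3, 4, 2, 2] [2, 2, 0, 2, 0, 2, 2, 0, 2, 4, 0, 2, 4, 2, 4, 3, 4, 2, 1, 3, 4, 3, 3, 4] [5] [4, 2, 2, 4, 2, 0, 3, 4, 2, 4, 3, 4, 3, 1, 4, 3, 1, 3, 3, 1, 3,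 1, 3, 3], .e3 33 [4, 2, 1, 3, 4, 3, 3, 4] [5] [4, 2, 2, 4, 2, 0, 3, 4] [4, 2, 0, 3, 4, 3, 3, 4] [6] [4, 2, 2, 4, 2, 1, 3, 4], .pre 98 false, .fr 12 [4, 2, 0, 3, 4, 3, 3, 4, 5, 4, 2, 2, 4, 2, 1, 3, 4] false, .e2 12 [2, 4, 3, 4, 3, 1, 4, 3, 1, 3, 3, 1, 3, 1, 3, 3] [2, 2, 1, 2, 0, 1, 2, 0, 3, 3, 1, 3, 0, 1, 3, 0, 1, 3, 0, 3, 1, 3, 0, 3, 1, 2, 0, 2, 2, 1, 2, 0, 1, 2, 0, 3, 3, 1, 3, 0, 2, 1, 3, 0, 2, 2, 2, 1, 2, 0, 3, 2, 0, 3, 0, 4, 2, 2, 4, 0, 2, 4, 2], .pre 56 true, .pre 55 true, .pre 56 true, .pre 57 true]),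
  ([5, 4, 3, 4, 3, 4, 5, 4, 2, 4, 2, 4, 1, 2, 4, 3, 3, 3, 4, 5, 4, 2, 2, 2, 4, 3, 0], [5, 4, 1, 1, 5, 0, 0, 4, 3, 4, 1, 1, 5, 0, 0, 4, 2, 2, 2, 0, 2, 0, 3, 0, 3, 0, 2, 0, 2, 2, 0, 3, 1], [.e3 12 [1, 2, 4, 3, 3, 3, 4] [5] [4, 2, 2, 2, 4, 3, 0] [0, 3, 0, 4, 2, 2, 0, 2, 1, 4, 0, 3, 1, 3, 4, 3, 4, 1] [5] [0, 4, 2, 4, 2, 0, 2, 1, 4, 0, 3, 1, 3, 3, 4, 1, 2, 1], .pre 61 false, .e3 8 [4, 1, 3, 1, 3, 4, 3, 4] [5] [4, 2, 4, 2, 0, 2, 0, 4] [4, 1, 3, 1, 3, 4, 3, 4] [5] [4, 2, 4, 2, 0, 2, 0, 4], .fr 44 [4, 0, 3, 1, 3, 4, 3, 4, 1, 5, 0, 4, 2, 4, 2, 0, 2, 1, 4] true, .e3 8 [4, 1, 3, 1, 3, 4, 3, 4] [5] [4, 2, 4, 2, 0, 2, 0, 4] [4, 1, 3, 1, 3, 4, 3, 4] [5] [4, 2, 4, 2, 0, 2, 0,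 4], .e3 25 [4, 0, 3, 1, 3, 4, 3, 4, 1] [5] [0, 4, 2, 4, 2, 0, 2, 1, 4] [4, 1, 3, 1, 3, 4, 3, 4] [5, 5] [4, 2, 4, 2, 0, 2, 0, 4], .e3 43 [4, 0, 3, 1, 3, 4, 3, 4, 1] [5] [0, 4, 2, 4, 2, 0, 2, 1, 4] [4, 1, 3, 1, 3, 4, 3, 4] [5, 5] [4, 2, 4, 2, 0, 2, 0, 4], .fr 17 [4, 2, 4, 2, 0, 2, 0, 4] false, .fr 19 [4, 2, 4, 2, 0, 2, 0, 4] false, .e3 8 [4, 1, 3, 1, 3, 4, 3, 4] [5, 5, 5, 5, 5] [4, 2, 4, 2, 0, 2, 0, 4] [] [] [], .e3 8 [4, 0, 3, 1, 3, 4, 3, 4, 1] [6] [0, 4, 2, 4, 2, 0, 2, 1, 4] [4, 1, 3, 1, 3, 4, 3, 4, 1] [5] [0, 4, 2, 4, 2, 0, 2, 0, 4], .e3 8 [4, 1, 3, 1, 3, 4, 3, 4, 1] [5] [0, 4, 2, 4, 2, 0, 2, 0, 4] [0, 0, 4, 0, 3, 1, 3, 0, 1, 3, 0, 3, 2, 1, 3, 0, 2, 2, 1, 2,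 0, 3, 1, 3, 0, 2, 1, 2, 0, 3, 1, 3, 0, 2, 1, 3, 0, 2, 0, 3, 4, 3, 4, 1] [5] [0, 4, 2, 4, 2, 1, 3, 1, 2, 0, 3, 1, 2, 0, 2, 1, 3, 0, 3, 1, 2, 0, 2, 1, 3, 0, 3, 3, 1, 2, 0, 3, 2, 1, 2, 0, 1, 2, 0, 2, 1, 4, 1, 1], .pre 15 false, .fr 8 [1, 4, 1, 1] false, .pre 9 true, .pre 8 true, .pre 10 false, .fr 8 [1, 2, 0, 2, 1, 3, 0, 3] false, .pre 10 false, .fr 8 [1, 2, 0, 2, 1, 3, 0, 3] false, .pre 8 true, .pre 87 true, .e2 17 [3, 3, 0, 2, 2, 4, 3, 1, 2, 0, 3, 1, 2, 0, 2, 1, 3, 0, 3, 1, 2, 0, 2, 1, 3, 0, 3, 3, 1, 2, 0, 3, 2, 1, 2, 0, 1, 2, 0, 2, 1, 4, 1, 1, 0, 3, 1, 3, 3, 4, 1, 2, 1] [2, 1, 3, 0, 2, 2, 1, 2, 0, 3, 1, 3, 0, 3, 1, 3, 0, 1, 3, 0, 3, 3, 1, 2, 0, 3, 1, 2, 0, 2,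 1, 3, 0, 3, 2, 1, 2, 0, 1, 2, 0, 2, 0, 3, 4, 2, 4, 3, 0, 0, 4, 0, 3, 1, 3, 0, 1, 3, 0, 3, 3, 1, 3, 0, 1, 3, 0, 3, 2, 2, 0, 2, 0, 3, 0, 3, 0, 2, 0, 2, 2, 0, 3, 1], .pre 75 true, .pre 74 true, .pre 83 true]),
  ([5, 4, 1, 1, 5, 0, 0, 4, 3, 4, 1, 1, 5, 0, 0, 4, 2, 3, 4, 1, 3, 4, 1, 5, 0, 4, 2, 0, 4, 2], [5, 4, 3, 4, 3, 4, 5, 4, 2, 4, 2, 4, 4, 0, 2, 2, 4, 2, 2, 4, 2, 2, 4, 3], [.e3 17 [3, 4, 1, 3, 4, 1] [5] [0, 4, 2, 0, 4, 2] [2, 2, 0, 2, 0, 3, 0, 3, 0, 2, 0, 2, 2, 0, 3, 1, 0, 2, 4, 3, 3, 3, 4] [5] [4, 2, 2, 2, 4, 3, 1, 0, 2, 1, 3, 3, 1, 3, 1, 2, 1, 2, 1, 3, 1, 3, 3], .e3 33 [0, 2, 4, 3, 3, 3, 4] [5] [4, 2, 2, 2, 4, 3, 1] [1, 2, 4, 3, 3, 3, 4] [6] [4, 2, 2, 2, 4,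 3, 0], .pre 100 false, .fr 12 [1, 2, 4, 3, 3, 3, 4, 5, 4, 2, 2, 2, 4, 3, 0] false, .e2 12 [0, 2, 1, 3, 3, 1, 3, 1, 2, 1, 2, 1, 3, 1, 3, 3] [4, 3, 1, 3, 1, 3, 1, 3, 3, 1, 3, 1, 3, 3, 3, 2, 1, 2, 0, 3, 1, 3, 0, 2, 1, 2, 0, 1, 2, 0, 2, 0, 0, 4, 0, 3, 1, 3, 0, 1, 3, 0, 3, 0, 3, 1, 3, 3, 4, 1, 2, 1, 4, 3, 1, 3, 1, 3, 1, 3, 3, 1, 3, 1, 3, 3, 3, 2, 1, 2, 0, 3, 1, 3, 0, 2, 1, 2, 0, 1, 2, 0, 2, 0, 0, 4, 0, 3, 1, 3, 0, 1, 3, 0, 3, 0, 3, 1, 3, 3, 4, 1, 2, 1, 1, 3, 0, 1, 3, 0, 3, 1, 3, 0, 3, 1, 2, 0, 4, 0, 2, 2, 4, 2, 2, 4, 2, 2, 4, 3], .pre 69 true, .pre 69 true, .pre 55 true]),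
  ([5, 4, 1, 1, 5, 0, 0, 4, 3, 4, 1, 1, 5, 0, 0, 4, 2, 3, 4, 3, 4, 1, 1, 5, 0, 0, 4, 2, 4, 2], [5, 4, 1, 1, 5, 0, 0, 4, 3, 4, 1, 1, 5, 0, 0, 4, 2, 4, 3, 0, 4, 2, 2, 1], [.e3 17 [3, 4, 3, 4, 1, 1] [5] [0, 0, 4, 2, 4, 2] [3, 4, 3, 4, 1, 1] [5] [0, 0, 4, 2, 4, 2], .pre 73 false, .e3 8 [3, 4, 1, 1] [5] [0, 0, 4, 2] [3, 4, 1, 1] [5] [0, 0, 4, 2], .fr 30 [3, 4, 1, 1, 5, 0, 0, 4, 2] true, .e3 8 [3, 4, 1, 1] [5] [0, 0, 4, 2] [3, 4, 1, 1, 3] [5] [2, 0, 0, 4, 2], .e3 19 [3, 4, 3, 4, 1, 1] [5] [0, 0, 4, 2, 4, 2] [3, 4, 1, 1, 3, 4] [5] [4, 2, 0, 0, 4, 2], .e3 32 [3, 4, 1, 1] [5] [0, 0, 4, 2] [3, 4, 1, 1, 3] [5] [2, 0, 0, 4, 2], .fr 14 [2, 0, 0, 4, 2] false, .fr 17 [2, 0,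 0, 4, 2] false, .fr 13 [4] true, .rel 14 false, .e3 19 [3, 4, 1, 1] [6] [0, 0, 4, 2] [3, 4] [5] [4, 2], .e3 8 [3, 4, 1, 1, 3, 4, 2, 0, 0, 4, 2, 3, 4] [5] [4, 2] [2, 1, 2, 0, 1, 2, 0, 2, 2, 1, 2, 0, 3, 1, 3, 0, 0, 3, 4, 3, 4, 1] [5] [0, 4, 2, 4, 2, 1, 1, 2, 0, 2, 1, 3, 0, 3, 3, 1, 3, 0, 1, 3, 0, 3, 3, 4, 1, 1, 3, 4, 2, 0, 0, 4, 2], .pre 9 false, .fr 8 [3, 1, 3, 0, 1, 3, 0, 3] false, .pre 10 false, .fr 8 [1, 2, 0, 2, 1, 3, 0, 3] false, .pre 87 true, .e2 17 [3, 3, 0, 2, 2, 4, 1, 2, 0, 2, 1, 3, 0, 3, 3, 1, 3, 0, 1, 3, 0, 3, 3, 4, 1, 1, 3, 4, 2, 0, 0, 4, 2] [1, 2, 0, 2, 1, 3, 0, 3, 2, 1, 2, 0, 1, 2, 0, 2, 2, 1, 2, 0, 1, 2, 0, 2, 2, 1, 2, 0, 1, 2, 0, 2, 1, 4, 1, 1,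 2, 4, 3, 4, 2, 1, 2, 1, 2, 0, 1, 2, 0, 2, 2, 1, 2, 0, 1, 2, 0, 2, 1, 4, 1, 1, 2, 4, 3, 4, 2, 1, 4, 3, 0, 4, 2, 2, 1], .pre 74 true, .pre 83 false, .fr 17 [0, 3, 4, 2, 4, 3, 0, 0, 4, 0, 3, 1, 3, 0, 1, 3, 0, 3, 3, 1, 3, 0, 1, 3, 0, 3] false, .pre 83 false, .fr 17 [0, 3, 4, 2, 4, 3, 0, 0, 4, 0, 3, 1, 3, 0, 1, 3, 0, 3, 3, 1, 3, 0, 1, 3, 0, 3] false]),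
  ([5, 4, 1, 1, 5, 0, 0, 4, 3, 4, 1, 1, 5, 0, 0, 4, 2, 4, 0, 3, 4, 1, 5, 0, 4, 2, 1, 4], [5, 4, 1, 1, 5, 0, 0, 4, 3, 4, 1, 1, 5, 0, 0, 4, 2, 0, 4, 3, 0, 2, 0, 4], [.e3 17 [4, 0, 3, 4, 1] [5] [0, 4, 2, 1, 4] [4, 0, 3, 4, 1] [5] [0, 4, 2, 1, 4], .pre 73 false, .e3 8 [3, 4, 1, 1] [5] [0, 0, 4, 2] [3, 4, 1, 1] [5] [0, 0, 4, 2], .fr 28 [3, 4, 1, 1, 5, 0, 0, 4, 2] true, .e3 8 [3, 4, 1, 1] [5] [0, 0, 4, 2] [3, 4, 1, 1, 1, 2, 0] [5] [1, 3, 0, 0, 0, 4, 2], .e3 23 [4, 0, 3, 4, 1] [5] [0, 4, 2, 1, 4] [3, 4, 1, 1, 1, 2, 0, 4] [5] [4, 1, 3, 0, 0, 0, 4, 2], .e3 40 [3, 4, 1, 1] [5] [0, 0, 4, 2] [3, 4, 1, 1, 1, 2, 0] [5] [1, 3, 0, 0, 0, 4, 2], .fr 16 [1, 3, 0, 0, 0, 4, 2] false,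 .fr 19 [1, 3, 0, 0, 0, 4, 2] false, .fr 15 [4] true, .rel 16 false, .e3 23 [3, 4, 1, 1] [6] [0, 0, 4, 2] [3, 4] [5] [4, 2], .e3 8 [3, 4, 1, 1, 1, 2, 0, 4, 1, 3, 0, 0, 0, 4, 2, 3, 4] [5] [4, 2] [4, 1, 3, 4, 1] [5] [0, 4, 2, 0, 4, 3, 4, 1, 1, 1, 2, 0, 4, 1, 3, 0, 0, 0, 4, 2], .pre 85 true, .e2 17 [1, 3, 4, 1, 1, 1, 2, 0, 4, 1, 3, 0, 0, 0, 4, 2] [3, 4, 2, 1, 1, 0, 4, 3, 0, 2, 0, 4], .pre 79 true]),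
  ([5, 4, 1, 1, 5, 0, 0, 4, 3, 4, 1, 1, 5, 0, 0, 4, 2, 4, 0, 3, 4, 5, 4, 2, 1, 4], [5, 4, 1, 1, 5, 0, 0, 4, 3, 4, 1, 1, 5, 0, 0, 4, 2, 0, 4, 3, 0, 2, 4, 0], [.e3 17 [4, 0, 3, 4] [5] [4, 2, 1, 4] [0, 4, 3, 0, 2, 0, 4, 4, 1, 3, 4, 1] [5] [0, 4, 2, 0, 4, 4, 1, 3, 1, 2, 4, 1], .e3 24 [4, 1, 3, 4, 1] [5] [0, 4, 2, 0, 4] [4, 0, 3, 4, 1] [6] [0, 4, 2, 1, 4], .pre 103 false, .fr 17 [4, 0, 3, 4, 1, 5, 0, 4, 2, 1, 4] false, .e2 17 [4, 1, 3, 1, 2, 4, 1] [0, 4, 3, 0, 2, 4, 0]]),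
  ([5, 4, 1, 1, 5, 0, 0, 4, 3, 4, 1, 1, 5, 0, 0, 4, 2, 3, 4, 1, 1, 5, 0, 0, 4, 2], [5, 4, 1, 1, 5, 0, 0, 4, 3, 4, 1, 1, 5, 0, 0, 4, 2, 4], [.e3 17 [3, 4, 1, 1] [5] [0, 0, 4, 2] [3, 4, 1, 1] [5] [0, 0, 4, 2], .pre 73 false, .e3 8 [3, 4, 1, 1] [5] [0, 0, 4, 2] [3, 4, 1, 1] [5] [0, 0, 4, 2], .fr 26 [3, 4, 0, 5, 1, 4, 2] true, .e3 8 [3, 4, 1, 1] [5] [0, 0, 4, 2] [3, 4, 1, 1] [5] [0, 0, 4, 2], .e3 17 [3, 4, 1, 1] [5] [0, 0, 4, 2] [3, 4, 1, 1] [5] [0, 0, 4, 2], .e3 26 [3, 4, 0] [5] [1, 4, 2] [3, 4, 1, 1] [6, 6] [0, 0, 4, 2], .fr 13 [0, 0, 4, 2] false, .fr 14 [0, 0, 4, 2] false, .e3 8 [3, 4, 1, 1] [5, 5, 6, 6] [0, 0, 4, 2] [] [] [], .e3 8 [3, 4, 0] [6] [1, 4, 2] [3,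 4, 1] [5] [0, 4, 2], .e3 8 [3, 4, 1] [5] [0, 4, 2] [0, 0, 4, 0, 4, 1, 3, 4, 1] [5] [0, 4, 2, 0, 4, 1, 4, 1, 1], .pre 15 false, .fr 8 [1, 4, 1, 1] false, .pre 85 true, .e2 17 [1, 1, 4, 1, 1] [4]]),
  ([5, 4, 1, 1, 5, 0, 0, 4, 3, 4, 1, 1, 5, 0, 0, 4, 2, 4, 0, 5, 1, 4], [5, 4, 1, 5, 0, 4, 0, 2], [.e3 17 [4, 0] [5] [1, 4] [1, 3, 1, 2, 0, 3, 3, 1, 3, 0, 1, 3, 0, 3, 3, 1, 3, 0, 1, 3, 0, 3, 4] [5] [4, 2, 1, 2, 0, 1, 2, 0, 2, 2, 1, 2, 0, 1, 2, 0, 2, 2, 1, 3, 0, 2, 0], .pre 85 false, .pre 8 false, .fr 8 [3, 1, 3, 0, 1, 3, 0, 3] true, .pre 9 true, .fr 8 [3, 1, 3, 0, 1, 3, 0, 3] true, .pre 9 true, .e3 8 [2, 1, 2, 0, 1, 2, 0, 2, 2, 1, 2, 0, 1, 2, 0, 2, 2, 1, 3, 0, 2, 4, 1,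 3, 4, 1] [5] [0, 4, 2, 0, 4, 3, 1, 2, 0, 3, 3, 1, 3, 0, 1, 3, 0, 3, 3, 1, 3, 0, 1, 3, 0, 3] [4, 3, 4] [5] [4, 2, 4], .pre 27 false, .e3 6 [4] [5] [4] [4] [5] [4], .e3 6 [4] [5] [4] [4, 3] [5] [2, 4], .e3 11 [4, 3, 4] [5] [4, 2, 4] [4, 3, 4] [5] [4, 2, 4], .e3 18 [4] [5] [4] [4, 3] [5] [2, 4], .fr 9 [2, 4] false, .fr 12 [2, 4] false, .fr 8 [4] true, .rel 9 false, .e2 6 [4, 3, 4, 2, 4, 2, 1, 2, 0, 1, 2, 0, 2, 2, 1, 2, 0, 1, 2, 0, 2, 2, 1, 3, 0, 2, 0] [2, 1, 3, 0, 2, 3, 1, 3, 0, 1, 3, 0, 3, 4, 4, 1, 3, 4, 2, 0, 4, 1, 3, 0, 2, 1, 2, 0, 2, 1, 2, 0, 2, 2, 1, 3, 0, 1, 3, 0, 2, 1, 2, 0, 2, 2, 1, 2, 0, 2, 2, 1, 2, 0, 3, 1, 3, 0, 4, 0, 3, 4, 2, 1, 4, 1, 1, 2, 1, 2, 0, 3,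 1, 3, 0, 1, 4, 1, 1, 2, 2, 2, 0, 3, 0, 3, 3, 0, 3, 3, 3, 1, 2, 0, 4, 1, 3, 4, 2, 0, 4, 2, 1, 3, 0, 2, 2, 1, 3, 0, 2, 0, 2], .pre 18 true, .pre 19 true, .pre 25 true, .pre 47 true, .pre 18 true, .pre 18 true]),
  ([5, 4, 1, 5, 0, 4, 0, 2, 4, 1, 5, 0, 4, 3, 1], [5, 4, 1, 1, 5, 0, 0, 4, 3, 4, 1, 1, 5, 0, 0, 4, 2, 3, 1], [.e3 6 [0, 2, 4, 1] [5] [0, 4, 3, 1] [0, 2, 4, 1] [5] [0, 4, 3, 1], .e3 8 [4, 1] [5] [0, 4] [4, 0] [6] [1, 4], .pre 106 false, .fr 17 [4, 0, 5, 1, 4] false])]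

/-- the coset equalities before part 8 -/
def prev8 : List (List Nat × List Nat) := prev7 ++ cert7.map (fun f => (f.1, f.2.1))

theorem chk_cert8 : checkAll px bp prev8 cert8 = true := by decide +kernel

end Cfsg.Agent.Lib.Helper2.HNS
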