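import Cfsg.Agent.Lib.Helper2.HNDce4
import Cfsg.Agent.Lib.Helper2.HNS.Tab
import Cfsg.Agent.Lib.Helper2.HNS.Cert8
set_option autoImplicit false
set_option maxRecDepth 1000000
set_option Elab.async false
open Cfsg.Agent.Lib.Helper2.HNDce
namespace Cfsg.Agent.Lib.Helper2.HNS

/-! # The certificate of the double coset enumeration, part 9 -/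

/-- the coset equalities of part 9, with their chains -/
def cert9 : List (List Nat × List Nat × List Step) := [
  ([5, 4, 3, 4, 1, 5, 0, 4, 2, 4, 0, 3, 4, 1, 3, 4, 1, 5, 0, 4, 2, 0, 4, 2, 1], [5, 4, 1, 1, 5, 0, 0, 4, 3, 4, 1, 1, 5, 0, 0, 4, 2, 2, 0, 4, 3, 4, 3, 0, 2, 2], [.e3 10 [0, 3, 4, 1, 3, 4, 1] [5] [0, 4, 2, 0, 4, 2, 1] [3, 1, 2, 0, 4, 1, 3, 4, 2, 0, 4, 4, 1, 3, 4, 3, 4] [5] [4, 2, 4, 2, 0, 4, 4, 1, 3, 4, 2, 0, 4, 1, 3, 0, 2], .pre 40 false, .e3 6 [4, 1, 3, 4] [5] [4, 2, 0, 4] [4, 1, 3, 4] [5] [4, 2, 0, 4], .fr 28 [4, 1, 3, 4, 5, 4, 2, 0, 4] true, .e3 6 [4, 1, 3, 4] [5] [4, 2, 0, 4] [4, 1, 3, 4, 3] [5] [2, 4, 2, 0, 4], .e3 17 [4, 1, 3, 4, 3, 4]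 [5] [4, 2, 4, 2, 0, 4] [4, 1, 3, 4, 3, 4] [5] [4, 2, 4, 2, 0, 4], .e3 30 [4, 1, 3, 4] [5] [4, 2, 0, 4] [4, 1, 3, 4, 3] [5] [2, 4, 2, 0, 4], .fr 12 [2, 4, 2, 0, 4] false, .fr 15 [2, 4, 2, 0, 4] false, .fr 11 [4] true, .rel 12 false, .e3 17 [4, 1, 3, 4] [6] [4, 2, 0, 4] [4, 0, 3, 4] [5] [4, 2, 1, 4], .e3 6 [4, 1, 3, 4, 3, 4, 2, 4, 2, 0, 4, 4, 0, 3, 4] [5] [4, 2, 1, 4] [3, 1, 3, 0, 1, 3, 0, 3, 4, 1, 3, 4, 2, 0, 4, 1, 3, 0, 2, 1, 2, 0, 2, 1, 2, 0, 2, 2, 1, 3, 0, 1, 3, 0, 2, 1, 2, 0, 2, 2, 1, 2, 0, 2, 2, 1, 2, 0, 3, 1, 3, 0, 4, 0, 3, 4, 2, 1, 4, 1, 1, 2, 1, 2, 0, 3, 1, 3, 0, 1, 4, 1, 1, 2, 2, 2, 0, 3, 0, 3, 3, 0, 3, 3, 3, 1, 2, 0, 4, 1, 3, 4, 2, 0, 4, 2, 1,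 3, 0, 2, 0, 2, 4, 1] [5] [0, 4, 3, 1, 3, 1, 2, 0, 3, 4, 1, 3, 4, 2, 0, 4, 1, 3, 0, 2, 2, 2, 1, 2, 2, 1, 2, 1, 3, 3, 3, 0, 0, 4, 0, 1, 2, 0, 2, 1, 3, 0, 3, 0, 0, 4, 0, 3, 4, 2, 1, 4, 1, 2, 0, 2, 1, 3, 0, 3, 3, 1, 3, 0, 3, 3, 1, 3, 0, 3, 1, 2, 0, 1, 2, 0, 3, 3, 1, 3, 0, 3, 1, 3, 0, 3, 1, 2, 0, 4, 1, 3, 4, 2, 0, 4, 2, 1, 2, 0, 1, 2, 0, 2, 4, 1, 3, 4, 3, 4, 2, 4, 2, 0, 4], .pre 19 true, .pre 47 true, .pre 18 true, .pre 107 true, .e2 17 [3, 1, 3, 1, 2, 0, 3, 4, 1, 3, 4, 2, 0, 4, 1, 3, 0, 2, 2, 2, 1, 2, 2, 1, 2, 1, 3, 3, 3, 0, 0, 4, 0, 1, 2, 0, 2, 1, 3, 0, 3, 0, 0, 4, 0, 3, 4, 2, 1, 4, 1, 2, 0, 2, 1, 3, 0, 3, 3, 1, 3, 0, 3, 3, 1, 3, 0, 3, 1, 2, 0, 1, 2, 0,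 3, 3, 1, 3, 0, 3, 1, 3, 0, 3, 1, 2, 0, 4, 1, 3, 4, 2, 0, 4, 2, 1, 2, 0, 1, 2, 0, 2, 4, 1, 3, 4, 3, 4, 2, 4, 2, 0, 4, 4, 1, 3, 4, 2, 0, 4, 1, 3, 0, 2] [1, 2, 0, 2, 1, 3, 0, 3, 2, 1, 2, 0, 1, 2, 0, 2, 2, 1, 3, 0, 2, 2, 1, 2, 0, 3, 1, 3, 0, 3, 1, 3, 0, 1, 3, 0, 3, 3, 1, 2, 0, 3, 1, 2, 0, 2, 1, 3, 0, 3, 2, 1, 2, 0, 1, 2, 0, 2, 3, 1, 2, 0, 3, 3, 1, 3, 0, 1, 3, 0, 3, 2, 1, 3, 0, 2, 2, 1, 3, 0, 2, 2, 0, 4, 3, 4, 3, 0, 2, 2], .pre 74 true, .pre 75 true, .pre 74 true, .pre 76 true]),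
  ([5, 4, 1, 1, 5, 0, 0, 4, 3, 4, 1, 1, 5, 0, 0, 4, 2, 4, 2, 4, 0, 5, 1, 4, 3, 4], [5, 4, 3, 4, 1, 5, 0, 4, 2, 4, 0, 4, 3, 3, 1, 2, 4], [.e3 17 [4, 2, 4, 0] [5] [1, 4, 3, 4] [2, 0, 4, 3, 4, 3, 0, 2, 2, 1, 3, 4, 1, 3, 4, 1] [5] [0, 4, 2, 0, 4, 2, 0, 3, 3, 1, 2, 4, 2, 4, 1, 3], .e3 26 [1, 3, 4, 1, 3, 4, 1] [5] [0, 4, 2, 0, 4, 2, 0] [0, 3, 4, 1, 3, 4, 1] [6] [0, 4, 2, 0, 4, 2, 1], .pre 108 false, .fr 10 [0, 3, 4, 1, 3, 4, 1, 5, 0, 4, 2, 0, 4, 2, 1] false, .e2 10 [3, 3, 1, 2, 4, 2, 4, 1, 3] [1, 2, 0, 2, 1, 2, 0, 2, 2, 2, 1, 2, 2, 1, 2, 1, 3, 3, 3, 0, 0, 4, 0, 1, 2, 0, 2, 1, 3, 0, 3, 0, 0, 4, 0, 3, 4, 2, 1, 4, 1, 2, 0, 2, 1, 3, 0, 3, 3, 1, 3, 0, 3, 3, 0, 4,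 3, 3, 1, 2, 4], .pre 29 true, .pre 46 true]),
  ([5, 4, 3, 4, 1, 5, 0, 4, 2, 4, 1, 3, 4, 1, 5, 0, 4, 2, 0], [5, 4, 1, 1, 5, 0, 0, 4, 3, 4, 1, 1, 5, 0, 0, 4, 2, 3, 1, 2], [.e3 10 [1, 3, 4, 1] [5] [0, 4, 2, 0] [3, 1, 2, 0, 4, 1, 3, 4, 2, 0, 4, 4, 0, 3, 4, 1] [5] [0, 4, 2, 1, 4, 4, 1, 3, 4, 2, 0, 4, 1, 3, 0, 2], .pre 40 false, .e3 6 [4, 1, 3, 4] [5] [4, 2, 0, 4] [4, 1, 3, 4] [5] [4, 2, 0, 4], .fr 26 [4, 0, 3, 4, 1, 5, 0, 4, 2, 1, 4] true, .e3 6 [4, 1, 3, 4] [5] [4, 2, 0, 4] [4, 1, 3, 4] [5] [4, 2, 0, 4], .e3 15 [4, 0, 3, 4, 1] [5] [0, 4, 2, 1, 4] [4, 1, 3, 4] [5, 5] [4, 2, 0, 4], .e3 25 [4, 0, 3, 4, 1] [5] [0, 4, 2, 1, 4] [4, 1, 3, 4] [5, 5] [4, 2, 0, 4],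 .fr 11 [4, 2, 0, 4] false, .fr 13 [4, 2, 0, 4] false, .e3 6 [4, 1, 3, 4] [5, 5, 5, 5, 5] [4, 2, 0, 4] [] [] [], .e3 6 [4, 0, 3, 4, 1] [6] [0, 4, 2, 1, 4] [4, 1, 3, 4, 1] [5] [0, 4, 2, 0, 4], .e3 6 [4, 1, 3, 4, 1] [5] [0, 4, 2, 0, 4] [4, 0, 0, 1, 2, 0, 2, 1, 3, 0, 3, 3, 1, 2, 0, 3, 3, 1, 3, 0, 1, 3, 0, 3, 0, 2, 4, 1] [5] [0, 4, 3, 1, 2, 1, 2, 0, 1, 2, 0, 2, 2, 1, 3, 0, 2, 2, 1, 2, 0, 3, 1, 3, 0, 1, 1, 4], .pre 25 false, .fr 6 [4] false, .pre 23 false, .fr 6 [1, 1] false, .pre 20 true, .pre 18 false, .fr 6 [2, 1, 3, 0, 2] false, .pre 19 true, .pre 107 true, .e2 17 [3, 1, 2, 1, 2, 0, 1, 2, 0, 2, 2, 1, 3, 0, 2, 2, 1, 2, 0, 3, 1, 3, 0, 1, 1, 4, 4, 1, 3, 4,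 2, 0, 4, 1, 3, 0, 2] [1, 2, 0, 2, 1, 3, 0, 3, 2, 1, 2, 0, 1, 2, 0, 2, 3, 1, 2, 0, 3, 3, 1, 3, 0, 1, 3, 0, 3, 2, 1, 3, 0, 2, 2, 1, 3, 0, 2, 2, 1, 3, 0, 2, 2, 1, 2, 0, 3, 1, 3, 0, 3, 1, 3, 0, 1, 3, 0, 3, 3, 1, 2, 0, 3, 3, 4, 2, 1, 1, 2, 1, 2, 0, 1, 2, 0, 2, 2, 1, 2, 0, 1, 2, 0, 2, 1, 4, 1, 1, 2, 4, 3, 4, 2, 1, 3, 1, 2], .pre 74 true, .pre 76 true, .pre 75 true, .pre 79 true, .pre 83 false, .fr 17 [0, 3, 4, 2, 4, 3, 0, 0, 4, 0, 3, 1, 3, 0, 1, 3, 0, 3, 3, 1, 3, 0, 1, 3, 0, 3] false]),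
  ([5, 4, 1, 1, 5, 0, 0, 4, 3, 4, 1, 1, 5, 0, 0, 4, 2, 4, 1, 5, 0, 4], [5, 4, 3, 4, 1, 5, 0, 4, 2, 4, 3, 0, 2], [.e3 17 [4, 1] [5] [0, 4] [3, 1, 2, 0, 3, 4, 1] [5] [0, 4, 2, 1, 3, 0, 2], .e3 20 [0, 3, 4, 1] [5] [0, 4, 2, 1] [1, 3, 4, 1] [6] [0, 4, 2, 0], .pre 110 false, .fr 10 [1, 3, 4, 1, 5, 0, 4, 2, 0] false]),
  ([5, 4, 1, 1, 5, 0, 0, 4, 3, 4, 1, 1, 5, 0, 0, 4, 2, 0, 3, 4, 5, 4, 2, 1], [5, 4, 1, 1, 5, 0, 0, 4, 3, 4, 1, 1, 5, 0, 0, 4, 2, 0, 0], [.e3 17 [0, 3, 4] [5] [4, 2, 1] [2, 2, 2, 0, 3, 3, 0, 2, 2, 0, 2, 2, 0, 2, 0, 1, 3, 3, 4, 1] [5] [0, 4, 2, 2, 0, 1, 3, 1, 3, 3, 1, 3, 3, 1, 2, 2, 1, 3, 3, 3], .pre 80 false, .e3 10 [3, 4, 3, 1, 3, 4] [5] [4,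 2, 0, 2, 4, 2] [3, 4, 3, 1, 3, 4] [5] [4, 2, 0, 2, 4, 2], .fr 34 [3, 4, 3, 1, 3, 4, 5, 4, 2, 0, 2, 4, 2] true, .e3 10 [3, 4, 3, 1, 3, 4] [5] [4, 2, 0, 2, 4, 2] [3, 4, 3, 1, 3, 4, 3, 3, 3] [5] [2, 2, 2, 4, 2, 0, 2, 4, 2], .e3 29 [1, 3, 3, 4, 1] [5] [0, 4, 2, 2, 0] [3, 4, 3, 1, 3, 4, 3, 3, 3, 4] [5] [4, 2, 2, 2, 4, 2, 0, 2, 4, 2], .e3 50 [3, 4, 3, 1, 3, 4] [5] [4, 2, 0, 2, 4, 2] [3, 4, 3, 1, 3, 4, 3, 3, 3] [5] [2, 2, 2, 4, 2, 0, 2, 4, 2], .fr 20 [2, 2, 2, 4, 2, 0, 2, 4, 2] false, .fr 23 [2, 2, 2, 4, 2, 0, 2, 4, 2] false, .fr 19 [4] true, .rel 20 false, .e3 29 [3, 4, 3, 1, 3, 4] [6] [4, 2, 0, 2, 4, 2] [3, 4, 3, 0, 3, 4] [5] [4, 2, 1, 2, 4, 2], .e3 10 [3,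 4, 3, 1, 3, 4, 3, 3, 3, 4, 2, 2, 2, 4, 2, 0, 2, 4, 2, 3, 4, 3, 0, 3, 4] [5] [4, 2, 1, 2, 4, 2] [2, 2, 1, 2, 0, 2, 2, 1, 2, 0, 3, 1, 3, 0, 4, 0, 3, 4, 2, 1, 4, 1, 1, 2, 1, 2, 0, 3, 1, 3, 0, 1, 4, 1, 1, 2, 2, 2, 0, 3, 0, 3, 3, 0, 3, 3, 1, 3, 0, 2, 4, 0, 3, 4, 2, 4, 1, 3, 0, 3, 1, 2, 0, 1, 2, 0, 3, 3, 4, 3, 1, 3, 4] [5] [4, 2, 0, 2, 4, 2, 2, 1, 3, 0, 1, 3, 0, 2, 1, 2, 0, 4, 3, 4, 2, 1, 4, 3, 1, 2, 0, 2, 2, 1, 2, 2, 1, 2, 1, 3, 3, 3, 0, 0, 4, 0, 1, 2, 0, 2, 1, 3, 0, 3, 0, 0, 4, 0, 3, 4, 2, 1, 4, 1, 2, 0, 2, 1, 3, 0, 3, 3, 1, 3, 0, 3, 3, 3, 4, 3, 1, 3, 4, 3, 3, 3, 4, 2, 2, 2, 4, 2, 0, 2, 4, 2], .pre 46 false, .fr 10 [2, 2, 1, 2, 2, 1, 2, 1, 3, 3, 3, 0, 0,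 4, 0, 1, 2, 0, 2, 1, 3, 0, 3, 0, 0, 4, 0, 3, 4, 2, 1, 4, 1, 2, 0, 2, 1, 3, 0, 3, 3, 1, 3, 0, 3, 3] false, .pre 35 false, .fr 10 [4, 3, 4, 2, 1, 4, 3, 1, 2, 0] false, .pre 30 false, .fr 10 [2, 1, 3, 0, 1, 3, 0, 2, 1, 2, 0] false, .pre 80 true, .e2 17 [2, 2, 2, 0, 3, 3, 0, 2, 2, 0, 2, 2, 0, 2, 0, 2, 1, 3, 0, 1, 3, 0, 2, 1, 2, 0, 4, 3, 4, 2, 1, 4, 3, 1, 2, 0, 2, 2, 1, 2, 2, 1, 2, 1, 3, 3, 3, 0, 0, 4, 0, 1, 2, 0, 2, 1, 3, 0, 3, 0, 0, 4, 0, 3, 4, 2, 1, 4, 1, 2, 0, 2, 1, 3, 0, 3, 3, 1, 3, 0, 3, 3, 3, 4, 3, 1, 3, 4, 3, 3, 3, 4, 2, 2, 2, 4, 2, 0, 2, 4, 2, 1, 3, 1, 3, 3, 1, 3, 3, 1, 2, 2, 1, 3, 3, 3] [2, 1, 3, 0, 2, 2, 1, 2, 0, 3, 1, 3, 0, 3, 1, 3, 0, 1, 3, 0,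 3, 3, 1, 2, 0, 3, 1, 2, 0, 2, 1, 3, 0, 3, 2, 1, 2, 0, 1, 2, 0, 2, 0, 3, 4, 2, 4, 3, 0, 0, 4, 0, 3, 1, 3, 0, 1, 3, 0, 3, 3, 1, 3, 0, 1, 3, 0, 3, 0, 3, 4, 2, 4, 3, 0, 0, 4, 0, 3, 1, 3, 0, 1, 3, 0, 3, 3, 1, 3, 0, 1, 3, 0, 3, 0, 0], .pre 75 true, .pre 74 true, .pre 83 true, .pre 83 true]),
  ([5, 4, 1, 1, 5, 0, 0, 4, 3, 4, 1, 1, 5, 0, 0, 4, 2, 3, 4, 2, 2, 4, 2, 4, 0, 5, 1, 4, 3, 4, 3, 3, 4, 2], [5, 4, 1, 1, 5, 0, 0, 4, 3, 4, 1, 1, 5, 0, 0, 4, 2, 0, 4, 3, 0, 3, 3, 0, 4, 2, 2, 2, 0, 4], [.e3 17 [3, 4, 2, 2, 4, 2, 4, 0] [5] [1, 4, 3, 4, 3, 3, 4, 2] [4, 3, 0, 2, 2, 2, 0, 3, 0, 2, 2, 0, 3, 3, 3, 3, 4, 2, 4, 0] [5] [1, 4, 3, 4, 2, 2, 2, 2, 1, 3, 3, 1, 2, 1, 3,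 3, 3, 1, 2, 4], .pre 88 false, .e3 10 [4, 3, 4, 3, 3, 3, 4, 1] [5] [0, 4, 2, 2, 2, 4, 2, 4] [4, 3, 4, 3, 3, 3, 4, 1] [5] [0, 4, 2, 2, 2, 4, 2, 4], .fr 42 [4, 3, 4, 3, 3, 3, 4, 1, 5, 0, 4, 2, 2, 2, 4, 2, 4] true, .e3 10 [4, 3, 4, 3, 3, 3, 4, 1] [5] [0, 4, 2, 2, 2, 4, 2, 4] [4, 3, 4, 3, 3, 3, 4, 1, 1, 3, 0] [5] [1, 2, 0, 0, 4, 2, 2, 2, 4, 2, 4], .e3 33 [3, 3, 3, 4, 2, 4, 0] [5] [1, 4, 3, 4, 2, 2, 2] [4, 3, 4, 3, 3, 3, 4, 1, 1, 3, 0, 4] [5] [4, 1, 2, 0, 0, 4, 2, 2, 2, 4, 2, 4], .e3 58 [4, 3, 4, 3, 3, 3, 4, 1] [5] [0, 4, 2, 2, 2, 4, 2, 4] [4, 3, 4, 3, 3, 3, 4, 1, 1, 3, 0] [5] [1, 2, 0, 0, 4, 2, 2, 2, 4, 2, 4], .fr 22 [1, 2, 0, 0, 4, 2, 2, 2, 4, 2, 4] false,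 .fr 25 [1, 2, 0, 0, 4, 2, 2, 2, 4, 2, 4] false, .fr 21 [4] true, .rel 22 false, .e3 33 [4, 3, 4, 3, 3, 3, 4, 1] [6] [0, 4, 2, 2, 2, 4, 2, 4] [2, 2, 4, 3, 4, 3, 4, 1] [5] [0, 4, 2, 4, 2, 4, 3, 3], .e3 10 [4, 3, 4, 3, 3, 3, 4, 1, 1, 3, 0, 4, 1, 2, 0, 0, 4, 2, 2, 2, 4, 2, 4, 2, 2, 4, 3, 4, 3, 4, 1] [5] [0, 4, 2, 4, 2, 4, 3, 3] [1, 3, 0, 3, 1, 2, 0, 1, 2, 0, 3, 3, 1, 3, 0, 2, 2, 1, 3, 0, 3, 3, 1, 3, 0, 3, 1, 3, 0, 2, 0, 3, 4, 1, 3, 4, 1] [5] [0, 4, 2, 0, 4, 2, 1, 3, 1, 2, 0, 2, 1, 2, 0, 2, 2, 1, 2, 0, 3, 3, 1, 2, 0, 2, 2, 1, 3, 0, 1, 3, 0, 2, 1, 2, 0, 4, 3, 4, 3, 3, 3, 4, 1, 1, 3, 0, 4, 1, 2, 0, 0, 4, 2, 2, 2, 4, 2, 4], .pre 30 false, .fr 10 [2, 1, 3, 0,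 1, 3, 0, 2, 1, 2, 0] false, .pre 32 true, .pre 31 false, .fr 10 [3, 1, 2, 0, 2, 1, 2, 0, 2, 2] false, .pre 108 true, .e2 17 [2, 0, 4, 3, 4, 3, 0, 2, 2, 3, 1, 2, 0, 2, 1, 2, 0, 2, 2, 1, 2, 0, 3, 3, 1, 2, 0, 2, 2, 1, 3, 0, 1, 3, 0, 2, 1, 2, 0, 4, 3, 4, 3, 3, 3, 4, 1, 1, 3, 0, 4, 1, 2, 0, 0, 4, 2, 2, 2, 4, 2, 4, 2, 1, 3, 3, 1, 2, 1, 3, 3, 3, 1, 2, 4] [1, 2, 0, 2, 1, 3, 0, 3, 2, 1, 2, 0, 1, 2, 0, 2, 3, 4, 2, 1, 1, 2, 1, 2, 0, 1, 2, 0, 2, 2, 1, 2, 0, 1, 2, 0, 2, 1, 4, 1, 1, 2, 4, 3, 4, 2, 1, 2, 1, 2, 0, 1, 2, 0, 2, 2, 1, 2, 0, 1, 2, 0, 2, 1, 4, 1, 1, 2, 4, 3, 4, 2, 1, 1, 2, 0, 2, 1, 3, 0, 3, 2, 1, 2, 0, 1, 2, 0, 2, 0, 4, 3, 0, 3, 3, 0, 4, 2, 2, 2, 0, 4], .pre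 74 true, .pre 79 true, .pre 83 false, .fr 17 [0, 3, 4, 2, 4, 3, 0, 0, 4, 0, 3, 1, 3, 0, 1, 3, 0, 3, 3, 1, 3, 0, 1, 3, 0, 3] false, .pre 83 false, .fr 17 [0, 3, 4, 2, 4, 3, 0, 0, 4, 0, 3, 1, 3, 0, 1, 3, 0, 3, 3, 1, 3, 0, 1, 3, 0, 3] false, .pre 74 true]),
  ([5, 4, 1, 1, 5, 0, 0, 4, 3, 4, 1, 1, 5, 0, 0, 4, 2, 4, 2, 4, 3, 4, 3, 3, 3, 4, 5, 4, 2, 2, 2, 4, 2, 4, 3, 4], [5, 4, 1, 1, 5, 0, 0, 4, 3, 4, 1, 1, 5, 0, 0, 4, 2, 0, 4, 2, 2, 2, 0, 4, 2, 2, 0, 2, 4, 0], [.e3 17 [4, 2, 4, 3, 4, 3, 3, 3, 4] [5] [4, 2, 2, 2, 4, 2, 4, 3, 4] [0, 4, 3, 0, 3, 3, 0, 4, 2, 2, 2, 0, 4, 3, 4, 2, 2, 4, 2, 4, 1] [5] [0, 4, 3, 4, 3, 3, 4, 2, 4, 1, 3, 3, 3, 4, 1, 2, 2, 1, 2, 4, 1],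 .e3 30 [3, 4, 2, 2, 4, 2, 4, 1] [5] [0, 4, 3, 4, 3, 3, 4, 2] [3, 4, 2, 2, 4, 2, 4, 0] [6] [1, 4, 3, 4, 3, 3, 4, 2], .pre 113 false, .fr 17 [3, 4, 2, 2, 4, 2, 4, 0, 5, 1, 4, 3, 4, 3, 3, 4, 2] false, .e2 17 [4, 1, 3, 3, 3, 4, 1, 2, 2, 1, 2, 4, 1] [0, 4, 2, 2, 2, 0, 4, 2, 2, 0, 2, 4, 0]]),
  ([5, 4, 1, 1, 5, 0, 0, 4, 3, 4, 1, 1, 5, 0, 0, 4, 2, 4, 2, 4, 1, 1, 5, 0, 0, 4, 3, 4], [5, 4, 1, 1, 5, 0, 0, 4, 3, 4, 1, 1, 5, 0, 0, 4, 2, 2, 2, 2, 0, 4, 3, 3, 0, 2, 2, 0, 2, 2, 0, 2], [.e3 17 [4, 2, 4, 1, 1] [5] [0, 0, 4, 3, 4] [0, 4, 3, 0, 2, 4, 0, 4, 2, 4, 0] [5] [1, 4, 3, 4, 1, 4, 3, 1, 2, 4, 1], .pre 90 false, .e3 10 [4, 1] [5] [0, 4] [4, 1] [5] [0, 4], .fr 24 [4,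 1, 5, 0, 4] true, .e3 10 [4, 1] [5] [0, 4] [4, 1, 1, 2, 0] [5] [1, 3, 0, 0, 4], .e3 21 [4, 2, 4, 0] [5] [1, 4, 3, 4] [4, 1, 1, 2, 0, 4] [5] [4, 1, 3, 0, 0, 4], .e3 34 [4, 1] [5] [0, 4] [4, 1, 1, 2, 0] [5] [1, 3, 0, 0, 4], .fr 16 [1, 3, 0, 0, 4] false, .fr 19 [1, 3, 0, 0, 4] false, .fr 15 [4] true, .rel 16 false, .e3 21 [4, 1] [6] [0, 4] [4, 0] [5] [1, 4], .e3 10 [4, 1, 1, 2, 0, 4, 1, 3, 0, 0, 4, 4, 0] [5] [1, 4] [3, 1, 3, 0, 2, 2, 1, 3, 0, 1, 3, 0, 3, 1, 2, 0, 1, 2, 0, 3, 0, 3, 4, 1, 3, 4, 1] [5] [0, 4, 2, 0, 4, 2, 1, 2, 1, 3, 0, 1, 3, 0, 2, 1, 2, 0, 1, 2, 0, 3, 3, 1, 2, 0, 2, 4, 1, 1, 2, 0, 4, 1, 3, 0, 0, 4], .pre 32 true, .pre 30 false, .fr 10 [2, 1,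 3, 0, 1, 3, 0, 2, 1, 2, 0] false, .pre 108 true, .e2 17 [2, 0, 4, 3, 4, 3, 0, 2, 2, 2, 1, 3, 0, 1, 3, 0, 2, 1, 2, 0, 1, 2, 0, 3, 3, 1, 2, 0, 2, 4, 1, 1, 2, 0, 4, 1, 3, 0, 0, 4, 1, 4, 3, 1, 2, 4, 1] [2, 1, 3, 0, 2, 2, 1, 2, 0, 3, 1, 3, 0, 3, 1, 3, 0, 1, 3, 0, 3, 3, 1, 2, 0, 3, 3, 4, 2, 1, 1, 0, 3, 4, 2, 4, 3, 0, 0, 4, 0, 3, 1, 3, 0, 1, 3, 0, 3, 3, 1, 3, 0, 1, 3, 0, 3, 2, 1, 3, 0, 2, 2, 1, 2, 0, 3, 1, 3, 0, 3, 1, 3, 0, 1, 3, 0, 3, 3, 1, 2, 0, 3, 2, 2, 2, 0, 4, 3, 3, 0, 2, 2, 0, 2, 2, 0, 2], .pre 75 true, .pre 79 true, .pre 83 true, .pre 75 true]),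
  ([5, 4, 1, 1, 5, 0, 0, 4, 3, 4, 1, 1, 5, 0, 0, 4, 2, 4, 1, 1, 5, 0, 0, 4], [5, 4, 1, 1, 5, 0, 0, 4, 3, 4, 1, 1, 5, 0, 0, 4, 2, 0, 0], [.e3 17 [4, 1, 1] [5] [0, 0, 4] [0, 4, 3, 0, 2, 4, 0, 4, 1] [5] [0, 4, 1, 4, 3, 1, 2, 4, 1], .pre 90 false, .e3 10 [4, 1] [5] [0, 4] [4, 1] [5] [0, 4], .fr 20 [4, 1, 1, 5, 0, 0, 4] true, .e3 10 [4, 1] [5] [0, 4] [4, 1] [5] [0, 4], .e3 15 [4, 1] [5] [0, 4] [4, 1] [5] [0, 4], .e3 20 [4, 1, 1] [5] [0, 0, 4] [4, 1] [6, 6] [0, 4], .fr 13 [0, 4] false, .fr 14 [0, 4] false, .e3 10 [4, 1] [5, 5, 6, 6] [0, 4] [] [] [], .e3 10 [4, 1, 1] [6] [0, 0, 4] [4] [5] [4], .e3 10 [4] [5] [4] [2, 2, 1, 2, 2, 1, 2, 1, 3, 3, 3, 0, 0, 4, 0,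 1, 2, 0, 2, 1, 3, 0, 3, 0, 0, 4, 0, 3, 4, 2, 1, 4, 1, 2, 0, 2, 1, 3, 0, 3, 3, 1, 3, 0, 3, 3, 1, 3, 4, 1] [5] [0, 4, 2, 0, 2, 2, 1, 2, 0, 2, 2, 1, 2, 0, 3, 1, 3, 0, 4, 0, 3, 4, 2, 1, 4, 1, 1, 2, 1, 2, 0, 3, 1, 3, 0, 1, 4, 1, 1, 2, 2, 2, 0, 3, 0, 3, 3, 0, 3, 3], .pre 46 true, .pre 110 true, .e2 17 [3, 1, 2, 2, 2, 1, 2, 0, 2, 2, 1, 2, 0, 3, 1, 3, 0, 4, 0, 3, 4, 2, 1, 4, 1, 1, 2, 1, 2, 0, 3, 1, 3, 0, 1, 4, 1, 1, 2, 2, 2, 0, 3, 0, 3, 3, 0, 3, 3, 1, 4, 3, 1, 2, 4, 1] [3, 1, 2, 0, 3, 3, 1, 3, 0, 1, 3, 0, 3, 2, 1, 3, 0, 2, 2, 1, 3, 0, 2, 2, 1, 2, 0, 1, 2, 0, 2, 2, 1, 2, 0, 1, 2, 0, 2, 1, 4, 1, 1, 2, 4, 3, 4, 2, 1, 2, 1, 2, 0, 1, 2, 0, 2, 2, 1, 2, 0, 1, 2, 0,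 2, 1, 4, 1, 1, 2, 4, 3, 4, 2, 1, 0, 0], .pre 76 true, .pre 83 false, .fr 17 [0, 3, 4, 2, 4, 3, 0, 0, 4, 0, 3, 1, 3, 0, 1, 3, 0, 3, 3, 1, 3, 0, 1, 3, 0, 3] false, .pre 83 false, .fr 17 [0, 3, 4, 2, 4, 3, 0, 0, 4, 0, 3, 1, 3, 0, 1, 3, 0, 3, 3, 1, 3, 0, 1, 3, 0, 3] false]),
  ([5, 4, 1, 1, 5, 0, 0, 4, 3, 4, 1, 1, 5, 0, 0, 4, 2, 4, 1, 3, 4, 1, 3, 3, 3, 4, 5, 4, 2, 2, 2, 0, 4, 2, 0, 4], [5, 4, 1, 1, 5, 0, 0, 4, 3, 4, 1, 1, 5, 0, 0, 4, 2, 0, 2, 0, 3, 4, 3, 3, 1, 2, 4, 3, 3, 4], [.e3 17 [4, 1, 3, 4, 1, 3, 3, 3, 4] [5] [4, 2, 2, 2, 0, 4, 2, 0, 4] [2, 0, 4, 3, 4, 3, 0, 2, 2, 3, 4, 2, 4, 3, 0, 3, 3, 4, 1] [5] [0, 4, 2, 2, 1, 2, 4, 3, 4, 2, 3, 3, 1, 2, 4, 2, 4,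 1, 3], .pre 108 false, .e3 10 [0, 3, 4, 1, 3, 4, 1] [5] [0, 4, 2, 0, 4, 2, 1] [0, 3, 4, 1, 3, 4, 1] [5] [0, 4, 2, 0, 4, 2, 1], .fr 46 [0, 3, 4, 1, 3, 4, 1, 5, 0, 4, 2, 0, 4, 2, 1] true, .e3 10 [0, 3, 4, 1, 3, 4, 1] [5] [0, 4, 2, 0, 4, 2, 1] [0, 3, 4, 1, 3, 4, 1, 1, 2, 0, 3, 3] [5] [2, 2, 1, 3, 0, 0, 4, 2, 0, 4, 2, 1], .e3 35 [3, 4, 2, 4, 3, 0, 3, 3, 4, 1] [5] [0, 4, 2, 2, 1, 2, 4, 3, 4, 2] [0, 3, 4, 1, 3, 4, 1, 1, 2, 0, 3, 3, 4] [5] [4, 2, 2, 1, 3, 0, 0, 4, 2, 0, 4, 2, 1], .e3 62 [0, 3, 4, 1, 3, 4, 1] [5] [0, 4, 2, 0, 4, 2, 1] [0, 3, 4, 1, 3, 4, 1, 1, 2, 0, 3, 3] [5] [2, 2, 1, 3, 0, 0, 4, 2, 0, 4, 2, 1], .fr 23 [2, 2, 1, 3, 0, 0, 4, 2, 0, 4, 2, 1] false,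 .fr 26 [2, 2, 1, 3, 0, 0, 4, 2, 0, 4, 2, 1] false, .fr 22 [4] true, .rel 23 false, .e3 35 [0, 3, 4, 1, 3, 4, 1] [6] [0, 4, 2, 0, 4, 2, 1] [1, 3, 4, 1, 3, 4, 1] [5] [0, 4, 2, 0, 4, 2, 0], .e3 10 [0, 3, 4, 1, 3, 4, 1, 1, 2, 0, 3, 3, 4, 2, 2, 1, 3, 0, 0, 4, 2, 0, 4, 2, 1, 1, 3, 4, 1, 3, 4, 1] [5] [0, 4, 2, 0, 4, 2, 0] [2, 2, 1, 2, 0, 2, 2, 1, 2, 0, 3, 1, 3, 0, 4, 0, 3, 4, 2, 1, 4, 1, 1, 2, 1, 2, 0, 3, 1, 3, 0, 1, 4, 1, 1, 2, 2, 2, 0, 3, 0, 3, 3, 0, 3, 3, 1, 3, 0, 2, 4, 0, 3, 4, 2, 4, 3, 3, 1, 3, 0, 3, 1, 3, 0, 2, 0, 3, 4, 1, 3, 4, 1] [5] [0, 4, 2, 0, 4, 2, 1, 3, 1, 2, 0, 2, 1, 2, 0, 2, 2, 4, 3, 4, 2, 1, 4, 3, 1, 2, 0, 2, 2, 1, 2, 2, 1, 2, 1, 3, 3, 3, 0,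 0, 4, 0, 1, 2, 0, 2, 1, 3, 0, 3, 0, 0, 4, 0, 3, 4, 2, 1, 4, 1, 2, 0, 2, 1, 3, 0, 3, 3, 1, 3, 0, 3, 3, 0, 3, 4, 1, 3, 4, 1, 1, 2, 0, 3, 3, 4, 2, 2, 1, 3, 0, 0, 4, 2, 0, 4, 2, 1], .pre 46 false, .fr 10 [2, 2, 1, 2, 2, 1, 2, 1, 3, 3, 3, 0, 0, 4, 0, 1, 2, 0, 2, 1, 3, 0, 3, 0, 0, 4, 0, 3, 4, 2, 1, 4, 1, 2, 0, 2, 1, 3, 0, 3, 3, 1, 3, 0, 3, 3] false, .pre 35 false, .fr 10 [4, 3, 4, 2, 1, 4, 3, 1, 2, 0] false, .pre 31 false, .fr 10 [3, 1, 2, 0, 2, 1, 2, 0, 2, 2] false, .pre 108 true, .e2 17 [2, 0, 4, 3, 4, 3, 0, 2, 2, 3, 1, 2, 0, 2, 1, 2, 0, 2, 2, 4, 3, 4, 2, 1, 4, 3, 1, 2, 0, 2, 2, 1, 2, 2, 1, 2, 1, 3, 3, 3, 0, 0, 4, 0, 1, 2, 0, 2, 1, 3, 0, 3, 0, 0, 4, 0, 3,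 4, 2, 1, 4, 1, 2, 0, 2, 1, 3, 0, 3, 3, 1, 3, 0, 3, 3, 0, 3, 4, 1, 3, 4, 1, 1, 2, 0, 3, 3, 4, 2, 2, 1, 3, 0, 0, 4, 2, 0, 4, 2, 1, 3, 3, 1, 2, 4, 2, 4, 1, 3] [3, 1, 2, 0, 3, 3, 1, 3, 0, 1, 3, 0, 3, 2, 1, 3, 0, 2, 2, 1, 3, 0, 2, 3, 4, 2, 1, 1, 2, 1, 2, 0, 1, 2, 0, 2, 2, 1, 2, 0, 1, 2, 0, 2, 1, 4, 1, 1, 2, 4, 3, 4, 2, 1, 2, 1, 2, 0, 1, 2, 0, 2, 2, 1, 2, 0, 1, 2, 0, 2, 1, 4, 1, 1, 2, 4, 3, 4, 2, 1, 0, 2, 0, 3, 4, 3, 3, 1, 2, 4, 3, 3, 4], .pre 76 true, .pre 79 true, .pre 83 false, .fr 17 [0, 3, 4, 2, 4, 3, 0, 0, 4, 0, 3, 1, 3, 0, 1, 3, 0, 3, 3, 1, 3, 0, 1, 3, 0, 3] false, .pre 83 false, .fr 17 [0, 3, 4, 2, 4, 3, 0, 0, 4, 0, 3, 1, 3, 0, 1, 3, 0, 3, 3, 1, 3,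 0, 1, 3, 0, 3] false]),
  ([5, 4, 1, 1, 5, 0, 0, 4, 3, 4, 1, 1, 5, 0, 0, 4, 2, 4, 2, 4, 3, 3, 4, 0, 3, 4, 5, 4, 2, 1, 4, 2, 2, 4, 3, 4], [5, 4, 1, 1, 5, 0, 0, 4, 3, 4, 1, 1, 5, 0, 0, 4, 2, 4, 2, 0, 2, 2, 4, 2, 0, 2, 4, 3, 3, 1], [.e3 17 [4, 2, 4, 3, 3, 4, 0, 3, 4] [5] [4, 2, 1, 4, 2, 2, 4, 3, 4] [0, 2, 0, 3, 4, 3, 3, 1, 2, 4, 3, 3, 4, 4, 0, 3, 4, 1, 3, 3, 3, 4] [5] [4, 2, 2, 2, 0, 4, 2, 1, 4, 4, 2, 2, 4, 3, 0, 2, 2, 4, 2, 1, 3, 1], .e3 30 [4, 0, 3, 4, 1, 3, 3, 3, 4] [5] [4, 2, 2, 2, 0, 4, 2, 1, 4] [4, 1, 3, 4, 1, 3, 3, 3, 4] [6] [4, 2, 2, 2, 0, 4, 2, 0, 4], .pre 117 false, .fr 17 [4, 1, 3, 4, 1, 3, 3, 3, 4, 5, 4, 2, 2, 2, 0, 4, 2, 0, 4] false, .e2 17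 [4, 2, 2, 4, 3, 0, 2, 2, 4, 2, 1, 3, 1] [4, 2, 0, 2, 2, 4, 2, 0, 2, 4, 3, 3, 1]]),
  ([5, 4, 1, 1, 5, 0, 0, 4, 3, 4, 1, 1, 5, 0, 0, 4, 2, 2, 1, 3, 3, 4, 5, 4, 2, 2, 0, 3], [5, 4, 1, 1, 5, 0, 0, 4, 3, 4, 1, 1, 5, 0, 0, 4, 2, 2, 2, 4, 3, 3, 1, 3, 3, 4, 2, 2, 2], [.e3 17 [2, 1, 3, 3, 4] [5] [4, 2, 2, 0, 3] [0, 4, 2, 4, 2, 4, 2, 0, 3, 4, 3, 4, 3, 1, 0, 3, 3, 4, 2, 4] [5] [4, 3, 4, 2, 2, 1, 0, 2, 4, 2, 4, 2, 1, 3, 4, 3, 4, 3, 4, 1], .pre 92 false, .e3 12 [3, 4, 3, 4, 2, 2, 4, 0] [5] [1, 4, 3, 3, 4, 2, 4, 2] [3, 4, 3, 4, 2, 2, 4, 0] [5] [1, 4, 3, 3, 4, 2, 4, 2], .fr 42 [3, 4, 3, 4, 2, 2, 4, 0, 5, 1, 4, 3, 3, 4, 2, 4, 2] true, .e3 12 [3, 4, 3, 4, 2, 2, 4, 0]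 [5] [1, 4, 3, 3, 4, 2, 4, 2] [3, 4, 3, 4, 2, 2, 4, 0, 1, 3, 0, 3] [5] [2, 1, 2, 0, 1, 4, 3, 3, 4, 2, 4, 2], .e3 37 [0, 3, 3, 4, 2, 4] [5] [4, 3, 4, 2, 2, 1] [3, 4, 3, 4, 2, 2, 4, 0, 1, 3, 0, 3, 4] [5] [4, 2, 1, 2, 0, 1, 4, 3, 3, 4, 2, 4, 2], .e3 64 [3, 4, 3, 4, 2, 2, 4, 0] [5] [1, 4, 3, 3, 4, 2, 4, 2] [3, 4, 3, 4, 2, 2, 4, 0, 1, 3, 0, 3] [5] [2, 1, 2, 0, 1, 4, 3, 3, 4, 2, 4, 2], .fr 25 [2, 1, 2, 0, 1, 4, 3, 3, 4, 2, 4, 2] false, .fr 28 [2, 1, 2, 0, 1, 4, 3, 3, 4, 2, 4, 2] false, .fr 24 [4] true, .rel 25 false, .e3 37 [3, 4, 3, 4, 2, 2, 4, 0] [6] [1, 4, 3, 3, 4, 2, 4, 2] [3, 4, 3, 4, 2, 2, 4, 1] [5] [0, 4, 3, 3, 4, 2, 4, 2], .e3 12 [3, 4, 3, 4, 2, 2, 4,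 0, 1, 3, 0, 3, 4, 2, 1, 2, 0, 1, 4, 3, 3, 4, 2, 4, 2, 3, 4, 3, 4, 2, 2, 4, 1] [5] [0, 4, 3, 3, 4, 2, 4, 2] [1, 2, 0, 2, 2, 1, 3, 0, 1, 3, 0, 3, 3, 1, 2, 4, 3, 3, 3, 4] [5] [4, 2, 2, 2, 4, 3, 0, 2, 2, 1, 2, 0, 1, 2, 0, 3, 3, 1, 3, 0, 3, 4, 3, 4, 2, 2, 4, 0, 1, 3, 0, 3, 4, 2, 1, 2, 0, 1, 4, 3, 3, 4, 2, 4, 2], .pre 56 false, .fr 12 [2, 2, 1, 2, 0, 1, 2, 0, 3, 3, 1, 3, 0] false, .pre 100 true, .e2 17 [2, 2, 0, 2, 0, 3, 0, 3, 0, 2, 0, 2, 2, 0, 3, 1, 2, 2, 1, 2, 0, 1, 2, 0, 3, 3, 1, 3, 0, 3, 4, 3, 4, 2, 2, 4, 0, 1, 3, 0, 3, 4, 2, 1, 2, 0, 1, 4, 3, 3, 4, 2, 4, 2, 0, 2, 4, 2, 4, 2, 1, 3, 4, 3, 4, 3, 4, 1] [3, 4, 2, 1, 1, 2, 1, 2, 0, 1, 2, 0, 2, 2, 1, 2, 0, 1,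 2, 0, 2, 1, 4, 1, 1, 2, 4, 3, 4, 2, 1, 3, 1, 2, 0, 3, 3, 1, 3, 0, 1, 3, 0, 3, 2, 1, 3, 0, 2, 2, 1, 3, 0, 2, 2, 2, 4, 3, 3, 1, 3, 3, 4, 2, 2, 2], .pre 79 true, .pre 83 false, .fr 17 [0, 3, 4, 2, 4, 3, 0, 0, 4, 0, 3, 1, 3, 0, 1, 3, 0, 3, 3, 1, 3, 0, 1, 3, 0, 3] false, .pre 76 true])]

/-- the coset equalities before part 9 -/
def prev9 : List (List Nat × List Nat) := prev8 ++ cert8.map (fun f => (f.1, f.2.1))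

theorem chk_cert9 : checkAll px bp prev9 cert9 = true := by decide +kernel

end Cfsg.Agent.Lib.Helper2.HNS
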