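import Cfsg.Agent.Lib.Helper2.HNDce4
import Cfsg.Agent.Lib.Helper2.HNS.Tab
import Cfsg.Agent.Lib.Helper2.HNS.Cert9
set_option autoImplicit false
set_option maxRecDepth 1000000
set_option Elab.async false
open Cfsg.Agent.Lib.Helper2.HNDce
namespace Cfsg.Agent.Lib.Helper2.HNS

/-! # The certificate of the double coset enumeration, part 10 -/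

/-- the coset equalities of part 10, with their chains -/
def cert10 : List (List Nat × List Nat × List Step) := [
  ([5, 4, 3, 4, 1, 5, 0, 4, 2, 4, 4, 2, 4, 5, 4, 3, 4], [5, 4, 3, 4, 1, 5, 0, 4, 2, 4, 4, 2, 4, 5, 4, 3, 4], []),
  ([5, 4, 3, 4, 1, 5, 0, 4, 2, 4, 4, 2, 4, 5, 4, 3, 4, 1, 2, 0, 3, 3, 1, 2, 0, 2, 1, 3, 0, 3, 1, 2, 0, 1, 2, 0, 3], [5, 4, 3, 4, 1, 5, 0, 4, 2, 4, 4, 2, 4, 5, 4, 3, 4], [.pre 120 false, .e3 10 [4, 2, 4] [5] [4, 3, 4, 1, 2, 0, 3, 3, 1, 2, 0, 2, 1, 3, 0, 3, 1, 2, 0, 1, 2, 0, 3] [1, 2, 0, 3, 3, 1, 2, 0, 2, 1, 3, 0, 3, 1, 2, 0, 1, 2, 0, 3, 4, 2, 4] [5] [4, 3, 4], .pre 32 false, .fr 10 [3, 1, 3, 0, 2, 2, 1, 3, 0] false, .pre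 30 false, .fr 10 [2, 1, 3, 0, 1, 3, 0, 2, 1, 2, 0] false, .pre 120 true, .fr 17 [] true]),
  ([5, 4, 3, 4, 1, 5, 0, 4, 2, 4, 4, 2, 4, 5, 4, 3, 4, 2, 1, 3, 0, 1, 3, 0, 2, 1, 2, 0, 2, 2, 1, 2, 0, 2, 2, 1, 2, 0, 3, 1, 3, 0, 4, 0, 3, 4, 2, 1, 4, 1, 1, 2, 1, 2, 0, 3, 1, 3, 0, 1, 4, 1, 1, 2, 2, 2, 0, 3, 0, 3, 3, 0, 3, 3, 4, 3, 4, 2, 1, 4, 3, 1, 2, 0, 3, 3, 1, 3, 0, 3, 1, 3, 0, 2, 1, 3, 0, 2, 4, 0, 3, 4, 2, 4, 3, 1, 3, 0, 3, 1, 3, 0], [5, 4, 3, 4, 1, 5, 0, 4, 2, 4, 4, 2, 4, 5, 4, 3, 4], [.pre 120 false, .e3 10 [4, 2, 4] [5] [4, 3, 4, 2, 1, 3, 0, 1, 3, 0, 2, 1, 2, 0, 2, 2, 1, 2, 0, 2, 2, 1, 2, 0, 3, 1, 3, 0, 4, 0, 3, 4, 2, 1, 4, 1, 1, 2, 1, 2, 0, 3, 1,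 3, 0, 1, 4, 1, 1, 2, 2, 2, 0, 3, 0, 3, 3, 0, 3, 3, 4, 3, 4, 2, 1, 4, 3, 1, 2, 0, 3, 3, 1, 3, 0, 3, 1, 3, 0, 2, 1, 3, 0, 2, 4, 0, 3, 4, 2, 4, 3, 1, 3, 0, 3, 1, 3, 0] [2, 1, 3, 0, 1, 3, 0, 2, 1, 2, 0, 2, 2, 1, 2, 0, 2, 2, 1, 2, 0, 3, 1, 3, 0, 4, 0, 3, 4, 2, 1, 4, 1, 1, 2, 1, 2, 0, 3, 1, 3, 0, 1, 4, 1, 1, 2, 2, 2, 0, 3, 0, 3, 3, 0, 3, 3, 4, 3, 4, 2, 1, 4, 3, 1, 2, 0, 3, 3, 1, 3, 0, 3, 1, 3, 0, 2, 1, 3, 0, 2, 4, 0, 3, 4, 2, 4, 3, 1, 3, 0, 3, 1, 3, 0, 4, 2, 4] [5] [4, 3, 4], .pre 30 true, .pre 46 false, .fr 10 [2, 2, 1, 2, 2, 1, 2, 1, 3, 3, 3, 0, 0, 4, 0, 1, 2, 0, 2, 1, 3, 0, 3, 0, 0, 4, 0, 3, 4, 2, 1, 4, 1, 2, 0, 2, 1, 3, 0, 3, 3, 1, 3, 0, 3, 3] false,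 .pre 35 true, .pre 31 false, .fr 10 [3, 1, 2, 0, 2, 1, 2, 0, 2, 2] false, .pre 35 false, .fr 10 [4, 3, 4, 2, 1, 4, 3, 1, 2, 0] false, .pre 29 false, .fr 10 [1, 2, 0, 2, 1, 2, 0, 2] false, .pre 120 true, .fr 17 [] true]),
  ([5, 4, 3, 4, 1, 5, 0, 4, 2, 4, 4, 2, 4, 5, 4, 3, 4, 4, 2, 4, 1, 1, 5, 0, 0, 4, 3, 4], [5, 4, 3, 4, 1, 5, 0, 4, 2, 4], [.e3 17 [4, 2, 4, 1, 1] [5] [0, 0, 4, 3, 4] [4, 2, 4, 1, 1] [5] [0, 0, 4, 3, 4], .e3 17 [4, 2, 4, 1, 1] [5] [0, 0, 4, 3, 4] [4, 2, 4] [6] [4, 3, 4], .pre 120 false, .fr 10 [4, 2, 4, 5, 4, 3, 4] false]),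
  ([5, 4, 3, 4, 1, 5, 0, 4, 2, 4, 4, 2, 4, 5, 4, 3, 4, 4, 5, 4], [5, 4, 3, 4, 1, 5, 0, 4, 2, 4, 0, 0, 4, 2, 4, 3, 4], [.e3 17 [4] [5] [4] [2, 2, 1, 2, 2, 1, 2, 1, 3, 3, 3, 0, 0, 4, 0, 1, 2, 0, 2, 1, 3, 0, 3, 0, 0, 4, 0, 3, 4, 2, 1, 4, 1, 2, 0, 2, 1, 3, 0, 3, 3, 1, 3, 0, 3, 3, 3, 1, 3, 0, 2, 2, 1, 3, 0, 4, 3, 4, 2, 1, 4, 3, 1, 2, 0, 0, 0, 4, 1, 3, 4] [5] [4, 2, 0, 4, 1, 1, 1, 3, 0, 2, 4, 0, 3, 4, 2, 4, 1, 2, 0, 3, 3, 1, 2, 0, 2, 2, 2, 1, 2, 0, 2, 2, 1, 2, 0, 3, 1, 3, 0, 4, 0, 3, 4, 2, 1, 4, 1, 1, 2, 1, 2, 0, 3, 1, 3, 0, 1, 4, 1, 1, 2, 2, 2, 0, 3, 0, 3, 3, 0, 3, 3], .pre 120 false, .fr 10 [2, 2, 1, 2, 2, 1, 2, 1, 3, 3, 3, 0, 0, 4, 0, 1, 2, 0, 2,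 1, 3, 0, 3, 0, 0, 4, 0, 3, 4, 2, 1, 4, 1, 2, 0, 2, 1, 3, 0, 3, 3, 1, 3, 0, 3, 3] true, .pre 46 true, .fr 10 [3, 1, 3, 0, 2, 2, 1, 3, 0] true, .pre 32 true, .fr 10 [4, 3, 4, 2, 1, 4, 3, 1, 2, 0] true, .pre 35 true, .e3 10 [1, 3, 0, 2, 4, 0, 3, 4, 2, 4, 1, 2, 0, 3, 3, 1, 2, 0, 2, 2, 2, 1, 2, 0, 2, 2, 1, 2, 0, 3, 1, 3, 0, 4, 0, 3, 4, 2, 1, 4, 1, 1, 2, 1, 2, 0, 3, 1, 3, 0, 1, 4, 1, 1, 2, 2, 2, 0, 3, 0, 3, 3, 0, 3, 3, 4, 2, 4] [5] [4, 3, 4, 2, 2, 1, 2, 2, 1, 2, 1, 3, 3, 3, 0, 0, 4, 0, 1, 2, 0, 2, 1, 3, 0, 3, 0, 0, 4, 0, 3, 4, 2, 1, 4, 1, 2, 0, 2, 1, 3, 0, 3, 3, 1, 3, 0, 3, 3, 3, 1, 3, 0, 2, 2, 1, 3, 0, 4, 3, 4, 2, 1, 4, 3, 1, 2, 0, 0, 0] [0, 0, 4,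 1, 3, 4, 3, 3, 4] [5] [4, 2, 2, 4, 2, 0, 4], .pre 43 false, .e3 10 [4, 1, 3, 4] [5] [4, 2, 0, 4] [4, 1, 3, 4] [5] [4, 2, 0, 4], .e3 10 [4, 1, 3, 4] [5] [4, 2, 0, 4] [4, 1, 3, 4, 3, 3] [5] [2, 2, 4, 2, 0, 4], .e3 23 [4, 1, 3, 4, 3, 3, 4] [5] [4, 2, 2, 4, 2, 0, 4] [4, 1, 3, 4, 3, 3, 4] [5] [4, 2, 2, 4, 2, 0, 4], .e3 38 [4, 1, 3, 4] [5] [4, 2, 0, 4] [4, 1, 3, 4, 3, 3] [5] [2, 2, 4, 2, 0, 4], .fr 17 [2, 2, 4, 2, 0, 4] false, .fr 20 [2, 2, 4, 2, 0, 4] false, .fr 16 [4] true, .rel 17 false, .e2 10 [4, 1, 3, 4, 3, 3, 4, 2, 2, 4, 2, 0, 4, 1, 1, 1, 3, 0, 2, 4, 0, 3, 4, 2, 4, 1, 2, 0, 3, 3, 1, 2, 0, 2, 2, 2, 1, 2, 0, 2, 2, 1, 2, 0, 3, 1, 3, 0, 4, 0, 3,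 4, 2, 1, 4, 1, 1, 2, 1, 2, 0, 3, 1, 3, 0, 1, 4, 1, 1, 2, 2, 2, 0, 3, 0, 3, 3, 0, 3, 3] [2, 1, 3, 0, 1, 3, 0, 2, 1, 2, 0, 4, 3, 4, 2, 1, 4, 3, 1, 2, 0, 2, 2, 1, 2, 0, 2, 2, 1, 2, 0, 3, 1, 3, 0, 4, 0, 3, 4, 2, 1, 4, 1, 1, 2, 1, 2, 0, 3, 1, 3, 0, 1, 4, 1, 1, 2, 2, 2, 0, 3, 0, 3, 3, 0, 3, 3, 0, 0, 4, 2, 4, 3, 4], .pre 30 true, .pre 35 true, .pre 46 false, .fr 10 [2, 2, 1, 2, 2, 1, 2, 1, 3, 3, 3, 0, 0, 4, 0, 1, 2, 0, 2, 1, 3, 0, 3, 0, 0, 4, 0, 3, 4, 2, 1, 4, 1, 2, 0, 2, 1, 3, 0, 3, 3, 1, 3, 0, 3, 3] false]),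
  ([5, 4, 3, 4, 1, 5, 0, 4, 2, 4, 4, 2, 4, 5, 4, 3, 4, 4, 2, 4, 3, 4, 1, 1], [5, 4, 3, 4, 1, 5, 0, 4, 2, 4, 4, 2, 4, 5, 4, 3, 4], [.fr 17 [4, 5, 4] true, .pre 124 true, .e3 17 [4] [6] [4] [4, 1, 1] [5] [0, 0, 4], .e3 10 [0, 0, 4, 2, 4, 3, 4, 4, 1, 1] [5] [0, 0, 4] [4, 2, 4] [5] [4, 3, 4, 0, 0, 4, 2, 4, 3, 4], .pre 120 true, .fr 17 [0, 0, 4, 2, 4, 3, 4] false]),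
  ([5, 4, 3, 4, 1, 5, 0, 4, 2, 4, 4, 2, 4, 5, 4, 3, 4, 2, 4, 2, 4, 3, 4, 1, 5, 0, 4, 2, 4, 3, 4, 3], [5, 4, 3, 4, 1, 5, 0, 4, 2, 4, 2, 4, 2, 2, 0, 3, 3, 0, 3, 0, 3, 0, 2], [.e3 17 [2, 4, 2, 4, 3, 4, 1] [5] [0, 4, 2, 4, 3, 4, 3] [1, 3, 0, 3, 1, 2, 0, 1, 2, 0, 3, 2, 2, 1, 2, 2, 1, 2, 1, 3, 3, 3, 0, 0, 4, 0, 1, 2, 0, 2, 1, 3, 0, 3, 0, 0, 4, 0, 3, 4, 2, 1, 4, 1, 2, 0, 2, 1, 3, 0, 3, 3, 1, 3, 0, 3, 3, 4, 3, 4, 2, 1, 4, 3, 1, 2, 0, 2, 2, 2, 0, 3, 3, 0, 4, 3, 0, 3, 3, 4, 2, 4, 3, 3, 3, 4] [5] [4, 2, 2, 2, 4, 3, 4, 2, 2, 1, 2, 4, 1, 2, 2, 1, 3, 3, 3, 1, 3, 0, 2, 4, 0, 3, 4, 2, 4, 2, 2, 1, 2, 0, 2, 2, 1, 2, 0, 3, 1, 3, 0, 4, 0, 3, 4, 2, 1, 4, 1, 1, 2,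 1, 2, 0, 3, 1, 3, 0, 1, 4, 1, 1, 2, 2, 2, 0, 3, 0, 3, 3, 0, 3, 3, 2, 1, 3, 0, 1, 3, 0, 2, 1, 2, 0], .pre 120 false, .pre 30 false, .fr 10 [2, 2, 1, 2, 2, 1, 2, 1, 3, 3, 3, 0, 0, 4, 0, 1, 2, 0, 2, 1, 3, 0, 3, 0, 0, 4, 0, 3, 4, 2, 1, 4, 1, 2, 0, 2, 1, 3, 0, 3, 3, 1, 3, 0, 3, 3] true, .pre 46 true, .fr 10 [4, 3, 4, 2, 1, 4, 3, 1, 2, 0] true, .pre 35 true, .e3 10 [1, 3, 0, 2, 4, 0, 3, 4, 2, 4, 2, 2, 1, 2, 0, 2, 2, 1, 2, 0, 3, 1, 3, 0, 4, 0, 3, 4, 2, 1, 4, 1, 1, 2, 1, 2, 0, 3, 1, 3, 0, 1, 4, 1, 1, 2, 2, 2, 0, 3, 0, 3, 3, 0, 3, 3, 2, 1, 3, 0, 1, 3, 0, 2, 1, 2, 0, 4, 2, 4] [5] [4, 3, 4, 1, 3, 0, 3, 1, 2, 0, 1, 2, 0, 3, 2, 2, 1, 2, 2, 1, 2, 1, 3, 3, 3,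 0, 0, 4, 0, 1, 2, 0, 2, 1, 3, 0, 3, 0, 0, 4, 0, 3, 4, 2, 1, 4, 1, 2, 0, 2, 1, 3, 0, 3, 3, 1, 3, 0, 3, 3, 4, 3, 4, 2, 1, 4, 3, 1, 2, 0, 2, 2, 2, 0, 3, 3, 0, 4, 3, 0, 3, 3, 4] [2, 2, 2, 0, 3, 3, 0, 4, 3, 0, 3, 3, 4, 2, 4, 3, 3, 3, 4, 3, 4] [5] [4, 2, 4, 2, 2, 2, 4, 3], .pre 50 false, .e3 10 [2, 4, 3, 3, 3, 4] [5] [4, 2, 2, 2, 4, 3] [2, 4, 3, 3, 3, 4] [5] [4, 2, 2, 2, 4, 3], .e3 10 [2, 4, 3, 3, 3, 4] [5] [4, 2, 2, 2, 4, 3] [2, 4, 3, 3, 3, 4, 3] [5] [2, 4, 2, 2, 2, 4, 3], .e3 25 [2, 4, 3, 3, 3, 4, 3, 4] [5] [4, 2, 4, 2, 2, 2, 4, 3] [2, 4, 3, 3, 3, 4, 3, 4] [5] [4, 2, 4, 2, 2, 2, 4, 3], .e3 42 [2, 4, 3, 3, 3, 4] [5] [4, 2, 2, 2, 4, 3] [2, 4, 3, 3,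 3, 4, 3] [5] [2, 4, 2, 2, 2, 4, 3], .fr 18 [2, 4, 2, 2, 2, 4, 3] false, .fr 21 [2, 4, 2, 2, 2, 4, 3] false, .fr 17 [4] true, .rel 18 false, .e2 10 [2, 4, 3, 3, 3, 4, 3, 4, 2, 4, 2, 2, 2, 4, 3, 4, 2, 2, 1, 2, 4, 1, 2, 2, 1, 3, 3, 3, 1, 3, 0, 2, 4, 0, 3, 4, 2, 4, 2, 2, 1, 2, 0, 2, 2, 1, 2, 0, 3, 1, 3, 0, 4, 0, 3, 4, 2, 1, 4, 1, 1, 2, 1, 2, 0, 3, 1, 3, 0, 1, 4, 1, 1, 2, 2, 2, 0, 3, 0, 3, 3, 0, 3, 3, 2, 1, 3, 0, 1, 3, 0, 2, 1, 2, 0] [2, 1, 3, 0, 1, 3, 0, 2, 1, 2, 0, 2, 2, 1, 2, 2, 1, 2, 1, 3, 3, 3, 0, 0, 4, 0, 1, 2, 0, 2, 1, 3, 0, 3, 0, 0, 4, 0, 3, 4, 2, 1, 4, 1, 2, 0, 2, 1, 3, 0, 3, 3, 1, 3, 0, 3, 3, 4, 3, 4, 2, 1, 4, 3, 1, 2, 0, 2, 2, 1, 2, 2, 1,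 2, 1, 3, 3, 3, 0, 0, 4, 0, 1, 2, 0, 2, 1, 3, 0, 3, 0, 0, 4, 0, 3, 4, 2, 1, 4, 1, 2, 0, 2, 1, 3, 0, 3, 3, 1, 3, 0, 3, 3, 2, 1, 3, 0, 1, 3, 0, 2, 1, 2, 0, 2, 4, 2, 2, 0, 3, 3, 0, 3, 0, 3, 0, 2], .pre 30 true, .pre 46 true, .pre 35 true, .pre 46 true, .pre 30 true]),
  ([5, 4, 3, 4, 1, 5, 0, 4, 2, 4, 4, 2, 4, 5, 4, 3, 4, 3, 1, 2, 1, 2, 1, 2, 2, 1, 3, 3, 4, 3, 2, 2, 1, 2, 2, 1, 2, 1, 3, 3, 3, 0, 0, 4, 0, 1, 2, 0, 2, 1, 3, 0, 3, 0, 0, 4, 0, 3, 4, 2, 1, 4, 1, 2, 0, 2, 1, 3, 0, 3, 3, 1, 3, 0, 3, 3, 1, 2, 0, 3, 3, 1, 2, 0, 2, 3, 1, 3, 0, 3, 1, 3, 0], [5, 4, 3, 4, 1, 5, 0, 4, 2, 4, 4, 2, 4, 5, 4, 3, 4], [.fr 17 [2, 4, 2, 4, 3, 4, 1, 5, 0, 4, 2, 4, 3, 4,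 3] true, .pre 126 true, .e3 23 [2, 4, 2, 4, 3, 4, 1] [6] [0, 4, 2, 4, 3, 4, 3] [4, 2, 4, 0, 2, 4, 1] [5] [0, 4, 3, 1, 4, 3, 4], .e3 10 [2, 4, 2, 2, 0, 3, 3, 0, 3, 0, 3, 0, 2, 4, 2, 4, 0, 2, 4, 1] [5] [0, 4, 3, 1, 4, 3, 4] [2, 2, 1, 2, 2, 1, 2, 1, 3, 3, 3, 0, 0, 4, 0, 1, 2, 0, 2, 1, 3, 0, 3, 0, 0, 4, 0, 3, 4, 2, 1, 4, 1, 2, 0, 2, 1, 3, 0, 3, 3, 1, 3, 0, 3, 3, 1, 2, 0, 3, 3, 1, 2, 0, 2, 3, 1, 3, 0, 3, 1, 3, 0, 4, 2, 4] [5] [4, 3, 4, 1, 2, 0, 2, 1, 2, 0, 2, 3, 1, 3, 0, 2, 2, 1, 3, 0, 2, 2, 1, 2, 0, 2, 2, 1, 2, 0, 3, 1, 3, 0, 4, 0, 3, 4, 2, 1, 4, 1, 1, 2, 1, 2, 0, 3, 1, 3, 0, 1, 4, 1, 1, 2, 2, 2, 0, 3, 0, 3, 3, 0, 3, 3, 2, 4, 2, 2, 0, 3, 3, 0, 3,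 0, 3, 0, 2], .pre 46 true, .pre 32 false, .fr 10 [3, 1, 3, 0, 2, 2, 1, 3, 0] false, .pre 29 false, .fr 10 [1, 2, 0, 2, 1, 2, 0, 2] false, .pre 120 true, .fr 17 [1, 2, 0, 2, 1, 2, 0, 2, 3, 1, 3, 0, 2, 2, 1, 3, 0, 2, 2, 1, 2, 0, 2, 2, 1, 2, 0, 3, 1, 3, 0, 4, 0, 3, 4, 2, 1, 4, 1, 1, 2, 1, 2, 0, 3, 1, 3, 0, 1, 4, 1, 1, 2, 2, 2, 0, 3, 0, 3, 3, 0, 3, 3, 2, 4, 2, 2, 0, 3, 3, 0, 3, 0, 3, 0, 2] false]),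
  ([5, 4, 3, 4, 3, 4, 5, 4, 2, 4, 2, 4, 3, 4, 3, 3, 3, 4, 2, 4, 1, 5, 0, 4, 3, 4, 2, 2, 2, 4, 2], [5, 4, 3, 4, 1, 5, 0, 4, 2, 4, 4, 2, 4, 5, 4, 3, 4, 2, 2, 4, 3, 3, 0, 3, 3, 4, 0, 2], [.e3 12 [3, 4, 3, 3, 3, 4, 2, 4, 1] [5] [0, 4, 3, 4, 2, 2, 2, 4, 2] [0, 3, 4, 3, 0, 4, 2, 2, 4, 0, 3, 3, 0, 2, 2, 4, 2, 4, 1] [5] [0, 4, 3, 4, 3, 3, 1, 2, 2, 1, 4, 3, 3, 4, 1, 2, 4, 2, 1], .pre 59 false, .e3 10 [4, 3, 4, 3, 4, 0] [5] [1, 4, 2, 4, 2, 4] [4, 3, 4, 3, 4, 0] [5] [1, 4, 2, 4, 2, 4], .fr 42 [4, 3, 4, 3, 4, 0, 5, 1, 4, 2, 4, 2, 4] true, .e3 10 [4, 3, 4, 3, 4, 0] [5] [1, 4, 2, 4, 2, 4] [4, 3, 4, 3, 4, 0, 1, 2, 0, 3, 3] [5] [2, 2, 1, 3, 0, 1, 4, 2, 4, 2,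 4], .e3 33 [3, 3, 0, 2, 2, 4, 2, 4, 1] [5] [0, 4, 3, 4, 3, 3, 1, 2, 2] [4, 3, 4, 3, 4, 0, 1, 2, 0, 3, 3, 4] [5] [4, 2, 2, 1, 3, 0, 1, 4, 2, 4, 2, 4], .e3 58 [4, 3, 4, 3, 4, 0] [5] [1, 4, 2, 4, 2, 4] [4, 3, 4, 3, 4, 0, 1, 2, 0, 3, 3] [5] [2, 2, 1, 3, 0, 1, 4, 2, 4, 2, 4], .fr 22 [2, 2, 1, 3, 0, 1, 4, 2, 4, 2, 4] false, .fr 25 [2, 2, 1, 3, 0, 1, 4, 2, 4, 2, 4] false, .fr 21 [4] true, .rel 22 false, .e3 33 [4, 3, 4, 3, 4, 0] [6] [1, 4, 2, 4, 2, 4] [4, 3, 4, 3, 4, 1] [5] [0, 4, 2, 4, 2, 4], .e3 10 [4, 3, 4, 3, 4, 0, 1, 2, 0, 3, 3, 4, 2, 2, 1, 3, 0, 1, 4, 2, 4, 2, 4, 4, 3, 4, 3, 4, 1] [5] [0, 4, 2, 4, 2, 4] [2, 2, 1, 2, 0, 2, 2, 1, 2, 0, 3, 1, 3, 0,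 4, 0, 3, 4, 2, 1, 4, 1, 1, 2, 1, 2, 0, 3, 1, 3, 0, 1, 4, 1, 1, 2, 2, 2, 0, 3, 0, 3, 3, 0, 3, 3, 1, 2, 0, 3, 3, 1, 2, 0, 2, 2, 1, 3, 0, 1, 3, 0, 2, 1, 2, 0, 4, 2, 4] [5] [4, 3, 4, 1, 3, 0, 3, 1, 2, 0, 1, 2, 0, 3, 3, 1, 3, 0, 2, 2, 1, 3, 0, 2, 2, 1, 2, 2, 1, 2, 1, 3, 3, 3, 0, 0, 4, 0, 1, 2, 0, 2, 1, 3, 0, 3, 0, 0, 4, 0, 3, 4, 2, 1, 4, 1, 2, 0, 2, 1, 3, 0, 3, 3, 1, 3, 0, 3, 3, 4, 3, 4, 3, 4, 0, 1, 2, 0, 3, 3, 4, 2, 2, 1, 3, 0, 1, 4, 2, 4, 2, 4], .pre 46 false, .fr 10 [2, 2, 1, 2, 2, 1, 2, 1, 3, 3, 3, 0, 0, 4, 0, 1, 2, 0, 2, 1, 3, 0, 3, 0, 0, 4, 0, 3, 4, 2, 1, 4, 1, 2, 0, 2, 1, 3, 0, 3, 3, 1, 3, 0, 3, 3] false, .pre 32 false, .fr 10 [3, 1, 3, 0, 2,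 2, 1, 3, 0] false, .pre 30 true, .pre 120 true, .e2 17 [1, 3, 0, 3, 1, 2, 0, 1, 2, 0, 3, 3, 1, 3, 0, 2, 2, 1, 3, 0, 2, 2, 1, 2, 2, 1, 2, 1, 3, 3, 3, 0, 0, 4, 0, 1, 2, 0, 2, 1, 3, 0, 3, 0, 0, 4, 0, 3, 4, 2, 1, 4, 1, 2, 0, 2, 1, 3, 0, 3, 3, 1, 3, 0, 3, 3, 4, 3, 4, 3, 4, 0, 1, 2, 0, 3, 3, 4, 2, 2, 1, 3, 0, 1, 4, 2, 4, 2, 4, 1, 4, 3, 3, 4, 1, 2, 4, 2, 1] [1, 2, 0, 2, 1, 2, 0, 2, 3, 1, 3, 0, 2, 2, 1, 3, 0, 2, 2, 1, 2, 0, 2, 2, 1, 2, 0, 3, 1, 3, 0, 4, 0, 3, 4, 2, 1, 4, 1, 1, 2, 1, 2, 0, 3, 1, 3, 0, 1, 4, 1, 1, 2, 2, 2, 0, 3, 0, 3, 3, 0, 3, 3, 2, 4, 2, 2, 0, 3, 3, 0, 3, 0, 3, 0, 2, 1, 2, 0, 3, 3, 1, 2, 0, 2, 1, 3, 0, 3, 1, 2, 0, 1, 2, 0, 3, 3, 1, 2,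 1, 2, 1, 2, 2, 1, 3, 3, 4, 3, 2, 2, 1, 2, 2, 1, 2, 1, 3, 3, 3, 0, 0, 4, 0, 1, 2, 0, 2, 1, 3, 0, 3, 0, 0, 4, 0, 3, 4, 2, 1, 4, 1, 2, 0, 2, 1, 3, 0, 3, 3, 1, 3, 0, 3, 3, 1, 2, 0, 3, 3, 1, 2, 0, 2, 3, 1, 3, 0, 3, 1, 3, 0, 3, 1, 2, 1, 2, 1, 2, 2, 1, 3, 3, 4, 3, 2, 2, 1, 2, 2, 1, 2, 1, 3, 3, 3, 0, 0, 4, 0, 1, 2, 0, 2, 1, 3, 0, 3, 0, 0, 4, 0, 3, 4, 2, 1, 4, 1, 2, 0, 2, 1, 3, 0, 3, 3, 1, 3, 0, 3, 3, 1, 2, 0, 3, 3, 1, 2, 0, 2, 3, 1, 3, 0, 3, 1, 3, 0, 2, 1, 3, 0, 1, 3, 0, 2, 1, 2, 0, 2, 2, 1, 2, 0, 2, 2, 1, 2, 0, 3, 1, 3, 0, 4, 0, 3, 4, 2, 1, 4, 1, 1, 2, 1, 2, 0, 3, 1, 3, 0, 1, 4, 1, 1, 2, 2, 2, 0, 3, 0, 3, 3, 0, 3, 3, 4, 3, 4, 2, 1, 4, 3, 1, 2, 0, 3,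 3, 1, 3, 0, 3, 1, 3, 0, 2, 1, 3, 0, 2, 4, 0, 3, 4, 2, 4, 3, 1, 3, 0, 3, 1, 3, 0, 4, 2, 4, 3, 4, 1, 1, 2, 2, 4, 3, 3, 0, 3, 3, 4, 0, 2], .pre 127 false, .fr 17 [3, 1, 2, 1, 2, 1, 2, 2, 1, 3, 3, 4, 3, 2, 2, 1, 2, 2, 1, 2, 1, 3, 3, 3, 0, 0, 4, 0, 1, 2, 0, 2, 1, 3, 0, 3, 0, 0, 4, 0, 3, 4, 2, 1, 4, 1, 2, 0, 2, 1, 3, 0, 3, 3, 1, 3, 0, 3, 3, 1, 2, 0, 3, 3, 1, 2, 0, 2, 3, 1, 3, 0, 3, 1, 3, 0] false, .pre 121 true, .pre 127 true, .pre 127 true, .pre 122 true, .pre 125 true]),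
  ([5, 4, 3, 4, 1, 5, 0, 4, 2, 4, 4, 2, 4, 5, 4, 3, 4, 4, 2, 4, 1, 2, 2, 4, 1, 5, 0, 4, 3, 3, 0, 4, 3, 4], [5, 4, 3, 4, 3, 4, 5, 4, 2, 4, 2, 4, 3, 0, 4, 2, 2, 0, 2, 2, 4, 3, 3], [.e3 17 [4, 2, 4, 1, 2, 2, 4, 1] [5] [0, 4, 3, 3, 0, 4, 3, 4] [2, 2, 4, 3, 3, 0, 3, 3, 4, 0, 2, 3, 4, 3, 3, 3, 4, 2, 4, 0] [5] [1, 4, 3, 4, 2, 2, 2, 4, 2, 3, 1, 4, 2, 2, 1, 2, 2, 4, 3, 3], .e3 28 [3, 4, 3, 3, 3, 4, 2, 4, 0] [5] [1, 4, 3, 4, 2, 2, 2, 4, 2] [3, 4, 3, 3, 3, 4, 2, 4, 1] [6] [0, 4, 3, 4, 2, 2, 2, 4, 2], .pre 128 false, .fr 12 [3, 4, 3, 3, 3, 4, 2, 4, 1, 5, 0, 4, 3, 4, 2, 2, 2, 4, 2] false, .e2 12 [3, 1, 4, 2, 2, 1, 2, 2, 4, 3, 3] [3, 0, 4, 2, 2, 0, 2, 2, 4,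 3, 3]]),
  ([5, 4, 1, 1, 5, 0, 0, 4, 3, 4, 1, 1, 5, 0, 0, 4, 2, 2, 4, 3, 1, 3, 4, 3, 4, 5, 4, 2, 4, 2, 0, 2, 4, 3], [5, 4, 3, 4, 1, 5, 0, 4, 2, 4, 4, 2, 4, 5, 4, 3, 4, 2, 0, 3, 0, 3, 3, 4, 3, 0, 2, 4, 2, 0], [.e3 17 [2, 4, 3, 1, 3, 4, 3, 4] [5] [4, 2, 4, 2, 0, 2, 4, 3] [2, 2, 2, 0, 3, 3, 0, 2, 2, 0, 2, 2, 0, 2, 0, 4, 2, 1, 2, 4, 2, 4] [5] [4, 3, 4, 3, 0, 3, 4, 1, 3, 1, 3, 3, 1, 3, 3, 1, 2, 2, 1, 3, 3, 3], .pre 80 false, .e3 10 [3, 4, 3, 1, 3, 4] [5] [4, 2, 0, 2, 4, 2] [3, 4, 3, 1, 3, 4] [5] [4, 2, 0, 2, 4, 2], .fr 38 [3, 4, 3, 1, 3, 4, 5, 4, 2, 0, 2, 4, 2] true, .e3 10 [3, 4, 3, 1, 3, 4] [5] [4, 2, 0, 2, 4, 2] [3, 4, 3, 1, 3, 4, 3] [5] [2, 4,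 2, 0, 2, 4, 2], .e3 25 [4, 2, 1, 2, 4, 2, 4] [5] [4, 3, 4, 3, 0, 3, 4] [3, 4, 3, 1, 3, 4, 3, 4] [5] [4, 2, 4, 2, 0, 2, 4, 2], .e3 42 [3, 4, 3, 1, 3, 4] [5] [4, 2, 0, 2, 4, 2] [3, 4, 3, 1, 3, 4, 3] [5] [2, 4, 2, 0, 2, 4, 2], .fr 18 [2, 4, 2, 0, 2, 4, 2] false, .fr 21 [2, 4, 2, 0, 2, 4, 2] false, .fr 17 [4] true, .rel 18 false, .e3 25 [3, 4, 3, 1, 3, 4] [6] [4, 2, 0, 2, 4, 2] [3, 4, 3, 0, 3, 4] [5] [4, 2, 1, 2, 4, 2], .e3 10 [3, 4, 3, 1, 3, 4, 3, 4, 2, 4, 2, 0, 2, 4, 2, 3, 4, 3, 0, 3, 4] [5] [4, 2, 1, 2, 4, 2] [1, 3, 0, 2, 4, 0, 3, 4, 2, 4, 2, 2, 1, 2, 0, 2, 2, 1, 2, 0, 3, 1, 3, 0, 4, 0, 3, 4, 2, 1, 4, 1, 1, 2, 1, 2, 0, 3, 1, 3, 0, 1, 4, 1, 1, 2,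 2, 2, 0, 3, 0, 3, 3, 0, 3, 3, 2, 1, 3, 0, 1, 3, 0, 2, 1, 2, 0, 3, 1, 3, 0, 3, 1, 3, 0, 4, 2, 4] [5] [4, 3, 4, 1, 2, 0, 2, 1, 2, 0, 2, 1, 3, 0, 3, 1, 2, 0, 1, 2, 0, 3, 2, 2, 1, 2, 2, 1, 2, 1, 3, 3, 3, 0, 0, 4, 0, 1, 2, 0, 2, 1, 3, 0, 3, 0, 0, 4, 0, 3, 4, 2, 1, 4, 1, 2, 0, 2, 1, 3, 0, 3, 3, 1, 3, 0, 3, 3, 4, 3, 4, 2, 1, 4, 3, 1, 2, 0, 3, 4, 3, 1, 3, 4, 3, 4, 2, 4, 2, 0, 2, 4, 2], .pre 35 false, .fr 10 [4, 3, 4, 2, 1, 4, 3, 1, 2, 0] false, .pre 46 false, .fr 10 [2, 2, 1, 2, 2, 1, 2, 1, 3, 3, 3, 0, 0, 4, 0, 1, 2, 0, 2, 1, 3, 0, 3, 0, 0, 4, 0, 3, 4, 2, 1, 4, 1, 2, 0, 2, 1, 3, 0, 3, 3, 1, 3, 0, 3, 3] false, .pre 30 true, .pre 29 false, .fr 10 [1, 2,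 0, 2, 1, 2, 0, 2] false, .pre 120 true, .e2 17 [1, 2, 0, 2, 1, 2, 0, 2, 1, 3, 0, 3, 1, 2, 0, 1, 2, 0, 3, 2, 2, 1, 2, 2, 1, 2, 1, 3, 3, 3, 0, 0, 4, 0, 1, 2, 0, 2, 1, 3, 0, 3, 0, 0, 4, 0, 3, 4, 2, 1, 4, 1, 2, 0, 2, 1, 3, 0, 3, 3, 1, 3, 0, 3, 3, 4, 3, 4, 2, 1, 4, 3, 1, 2, 0, 3, 4, 3, 1, 3, 4, 3, 4, 2, 4, 2, 0, 2, 4, 2, 1, 3, 1, 3, 3, 1, 3, 3, 1, 2, 2, 1, 3, 3, 3] [1, 2, 0, 2, 1, 2, 0, 2, 3, 1, 3, 0, 2, 2, 1, 3, 0, 2, 2, 1, 2, 0, 2, 2, 1, 2, 0, 3, 1, 3, 0, 4, 0, 3, 4, 2, 1, 4, 1, 1, 2, 1, 2, 0, 3, 1, 3, 0, 1, 4, 1, 1, 2, 2, 2, 0, 3, 0, 3, 3, 0, 3, 3, 2, 4, 2, 2, 0, 3, 3, 0, 3, 0, 3, 0, 2, 4, 2, 4, 3, 4, 1, 1, 1, 2, 0, 2, 1, 2, 0, 2, 3, 1, 3, 0, 2,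 2, 1, 3, 0, 2, 2, 1, 2, 0, 2, 2, 1, 2, 0, 3, 1, 3, 0, 4, 0, 3, 4, 2, 1, 4, 1, 1, 2, 1, 2, 0, 3, 1, 3, 0, 1, 4, 1, 1, 2, 2, 2, 0, 3, 0, 3, 3, 0, 3, 3, 2, 4, 2, 2, 0, 3, 3, 0, 3, 0, 3, 0, 2, 1, 2, 0, 3, 3, 1, 2, 0, 2, 1, 3, 0, 3, 1, 2, 0, 1, 2, 0, 3, 3, 1, 2, 1, 2, 1, 2, 2, 1, 3, 3, 4, 3, 2, 2, 1, 2, 2, 1, 2, 1, 3, 3, 3, 0, 0, 4, 0, 1, 2, 0, 2, 1, 3, 0, 3, 0, 0, 4, 0, 3, 4, 2, 1, 4, 1, 2, 0, 2, 1, 3, 0, 3, 3, 1, 3, 0, 3, 3, 1, 2, 0, 3, 3, 1, 2, 0, 2, 3, 1, 3, 0, 3, 1, 3, 0, 2, 0, 3, 0, 3, 3, 4, 3, 0, 2, 4, 2, 0], .pre 127 false, .fr 17 [3, 1, 2, 1, 2, 1, 2, 2, 1, 3, 3, 4, 3, 2, 2, 1, 2, 2, 1, 2, 1, 3, 3, 3, 0, 0, 4, 0, 1, 2, 0, 2, 1, 3, 0, 3, 0,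 0, 4, 0, 3, 4, 2, 1, 4, 1, 2, 0, 2, 1, 3, 0, 3, 3, 1, 3, 0, 3, 3, 1, 2, 0, 3, 3, 1, 2, 0, 2, 3, 1, 3, 0, 3, 1, 3, 0] false, .pre 125 true, .pre 127 false, .fr 17 [3, 1, 2, 1, 2, 1, 2, 2, 1, 3, 3, 4, 3, 2, 2, 1, 2, 2, 1, 2, 1, 3, 3, 3, 0, 0, 4, 0, 1, 2, 0, 2, 1, 3, 0, 3, 0, 0, 4, 0, 3, 4, 2, 1, 4, 1, 2, 0, 2, 1, 3, 0, 3, 3, 1, 3, 0, 3, 3, 1, 2, 0, 3, 3, 1, 2, 0, 2, 3, 1, 3, 0, 3, 1, 3, 0] false, .pre 121 true, .pre 127 true]),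
  ([5, 4, 3, 4, 1, 5, 0, 4, 2, 4, 4, 2, 4, 5, 4, 3, 4, 0, 3, 4, 3, 4, 1, 3, 3, 4, 1, 5, 0, 4, 2, 2, 0, 4, 2, 4, 2, 1], [5, 4, 1, 1, 5, 0, 0, 4, 3, 4, 1, 1, 5, 0, 0, 4, 2, 0, 3, 4, 3, 0, 2, 4, 2, 2, 0, 2, 0, 3], [.e3 17 [0, 3, 4, 3, 4, 1, 3, 3, 4, 1] [5] [0, 4, 2, 2, 0, 4, 2, 4, 2, 1] [2, 0, 3, 0, 3, 3, 4, 3, 0, 2, 4, 2, 0, 2, 4, 3, 0, 3, 4, 3, 4] [5] [4, 2, 4, 2, 1, 2, 4, 3, 1, 3, 4, 3, 1, 2, 4, 2, 2, 1, 2, 1, 3], .e3 30 [2, 4, 3, 0, 3, 4, 3, 4] [5] [4, 2, 4, 2, 1, 2, 4, 3] [2, 4, 3, 1, 3, 4, 3, 4] [6] [4, 2, 4, 2, 0, 2, 4, 3], .pre 130 false, .fr 17 [2, 4, 3, 1, 3, 4, 3, 4, 5, 4, 2, 4, 2, 0, 2, 4, 3] false, .e2 17 [1, 3, 4, 3, 1, 2, 4, 2, 2,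 1, 2, 1, 3] [0, 3, 4, 3, 0, 2, 4, 2, 2, 0, 2, 0, 3]])]

/-- the coset equalities before part 10 -/
def prev10 : List (List Nat × List Nat) := prev9 ++ cert9.map (fun f => (f.1, f.2.1))

theorem chk_cert10 : checkAll px bp prev10 cert10 = true := by decide +kernel

end Cfsg.Agent.Lib.Helper2.HNS
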