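import Cfsg.Agent.Lib.Helper2.HNDce4
import Cfsg.Agent.Lib.Helper2.HNS.Tab
import Cfsg.Agent.Lib.Helper2.HNS.Cert10
set_option autoImplicit false
set_option maxRecDepth 1000000
set_option Elab.async false
open Cfsg.Agent.Lib.Helper2.HNDce
namespace Cfsg.Agent.Lib.Helper2.HNS

/-! # The certificate of the double coset enumeration, part 11 -/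

/-- the coset equalities of part 11, with their chains -/
def cert11 : List (List Nat × List Nat × List Step) := [
  ([5, 4, 1, 1, 5, 0, 0, 4, 3, 4, 1, 1, 5, 0, 0, 4, 2, 3, 4, 2, 4, 3, 1, 3, 3, 4, 5, 4, 2, 2, 0, 2, 4, 3, 4, 2], [5, 4, 3, 4, 1, 5, 0, 4, 2, 4, 4, 2, 4, 5, 4, 3, 4, 0, 2, 0, 2, 0, 2, 2, 4, 2, 2, 0, 3, 3], [.e3 17 [3, 4, 2, 4, 3, 1, 3, 3, 4] [5] [4, 2, 2, 0, 2, 4, 3, 4, 2] [4, 3, 0, 2, 2, 2, 0, 3, 0, 2, 2, 0, 3, 4, 2, 2, 4, 1, 1] [5] [0, 0, 4, 3, 3, 4, 2, 1, 3, 3, 1, 2, 1, 3, 3, 3, 1, 2, 4], .pre 88 false, .e3 10 [4, 3, 4, 3, 3, 3, 4, 1] [5] [0, 4, 2, 2, 2, 4, 2, 4] [4, 3, 4, 3, 3, 3, 4, 1] [5] [0, 4, 2, 2, 2, 4, 2, 4], .fr 40 [4,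 3, 4, 3, 3, 3, 4, 1, 5, 0, 4, 2, 2, 2, 4, 2, 4] true, .e3 10 [4, 3, 4, 3, 3, 3, 4, 1] [5] [0, 4, 2, 2, 2, 4, 2, 4] [4, 3, 4, 3, 3, 3, 4, 1, 1, 3, 0, 3] [5] [2, 1, 2, 0, 0, 4, 2, 2, 2, 4, 2, 4], .e3 35 [4, 2, 2, 4, 1, 1] [5] [0, 0, 4, 3, 3, 4] [4, 3, 4, 3, 3, 3, 4, 1, 1, 3, 0, 3, 4] [5] [4, 2, 1, 2, 0, 0, 4, 2, 2, 2, 4, 2, 4], .e3 62 [4, 3, 4, 3, 3, 3, 4, 1] [5] [0, 4, 2, 2, 2, 4, 2, 4] [4, 3, 4, 3, 3, 3, 4, 1, 1, 3, 0, 3] [5] [2, 1, 2, 0, 0, 4, 2, 2, 2, 4, 2, 4], .fr 23 [2, 1, 2, 0, 0, 4, 2, 2, 2, 4, 2, 4] false, .fr 26 [2, 1, 2, 0, 0, 4, 2, 2, 2, 4, 2, 4] false, .fr 22 [4] true, .rel 23 false, .e3 35 [4, 3, 4, 3, 3, 3, 4, 1] [6] [0, 4, 2, 2,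 2, 4, 2, 4] [2, 2, 4, 3, 4, 3, 4, 1] [5] [0, 4, 2, 4, 2, 4, 3, 3], .e3 10 [4, 3, 4, 3, 3, 3, 4, 1, 1, 3, 0, 3, 4, 2, 1, 2, 0, 0, 4, 2, 2, 2, 4, 2, 4, 2, 2, 4, 3, 4, 3, 4, 1] [5] [0, 4, 2, 4, 2, 4, 3, 3] [1, 3, 0, 3, 1, 2, 0, 1, 2, 0, 3, 3, 1, 3, 0, 3, 1, 3, 0, 4, 2, 4] [5] [4, 3, 4, 1, 2, 0, 2, 1, 2, 0, 2, 2, 1, 3, 0, 1, 3, 0, 2, 1, 2, 0, 4, 3, 4, 3, 3, 3, 4, 1, 1, 3, 0, 3, 4, 2, 1, 2, 0, 0, 4, 2, 2, 2, 4, 2, 4], .pre 30 false, .fr 10 [2, 1, 3, 0, 1, 3, 0, 2, 1, 2, 0] false, .pre 29 false, .fr 10 [1, 2, 0, 2, 1, 2, 0, 2] false, .pre 120 true, .e2 17 [1, 2, 0, 2, 1, 2, 0, 2, 2, 1, 3, 0, 1, 3, 0, 2, 1, 2, 0, 4, 3, 4, 3, 3, 3, 4, 1, 1, 3, 0, 3,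 4, 2, 1, 2, 0, 0, 4, 2, 2, 2, 4, 2, 4, 2, 1, 3, 3, 1, 2, 1, 3, 3, 3, 1, 2, 4] [1, 2, 0, 3, 3, 1, 2, 0, 2, 1, 3, 0, 3, 1, 2, 0, 1, 2, 0, 3, 4, 2, 4, 3, 4, 1, 1, 3, 1, 2, 1, 2, 1, 2, 2, 1, 3, 3, 4, 3, 2, 2, 1, 2, 2, 1, 2, 1, 3, 3, 3, 0, 0, 4, 0, 1, 2, 0, 2, 1, 3, 0, 3, 0, 0, 4, 0, 3, 4, 2, 1, 4, 1, 2, 0, 2, 1, 3, 0, 3, 3, 1, 3, 0, 3, 3, 1, 2, 0, 3, 3, 1, 2, 0, 2, 3, 1, 3, 0, 3, 1, 3, 0, 2, 1, 3, 0, 1, 3, 0, 2, 1, 2, 0, 2, 2, 1, 2, 0, 2, 2, 1, 2, 0, 3, 1, 3, 0, 4, 0, 3, 4, 2, 1, 4, 1, 1, 2, 1, 2, 0, 3, 1, 3, 0, 1, 4, 1, 1, 2, 2, 2, 0, 3, 0, 3, 3, 0, 3, 3, 4, 3, 4, 2, 1, 4, 3, 1, 2, 0, 3, 3, 1, 3, 0, 3, 1, 3, 0, 2, 1, 3, 0, 2, 4, 0, 3, 4, 2, 4,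 3, 1, 3, 0, 3, 1, 3, 0, 3, 1, 2, 1, 2, 1, 2, 2, 1, 3, 3, 4, 3, 2, 2, 1, 2, 2, 1, 2, 1, 3, 3, 3, 0, 0, 4, 0, 1, 2, 0, 2, 1, 3, 0, 3, 0, 0, 4, 0, 3, 4, 2, 1, 4, 1, 2, 0, 2, 1, 3, 0, 3, 3, 1, 3, 0, 3, 3, 1, 2, 0, 3, 3, 1, 2, 0, 2, 3, 1, 3, 0, 3, 1, 3, 0, 0, 2, 0, 2, 0, 2, 2, 4, 2, 2, 0, 3, 3], .pre 121 true, .pre 125 true, .pre 127 true, .pre 122 true, .pre 127 true]),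
  ([5, 4, 3, 4, 1, 5, 0, 4, 2, 4, 4, 2, 4, 5, 4, 3, 4, 2, 0, 3, 4, 1, 3, 3, 3, 4, 1, 5, 0, 4, 2, 2, 2, 0, 4, 2, 1, 3], [5, 4, 1, 1, 5, 0, 0, 4, 3, 4, 1, 1, 5, 0, 0, 4, 2, 2, 2, 0, 3, 3, 4, 3, 3, 0, 3, 0, 3, 0], [.e3 17 [2, 0, 3, 4, 1, 3, 3, 3, 4, 1] [5] [0, 4, 2, 2, 2, 0, 4, 2, 1, 3] [0, 2, 0, 2, 0, 2, 2, 4, 2, 2, 0, 3, 3, 3, 4, 2, 4, 3, 0, 3, 3, 4] [5] [4, 2, 2, 1, 2, 4, 3, 4, 2, 2, 2, 1, 3, 3, 4, 3, 3, 1, 3, 1, 3, 1], .e3 30 [3, 4, 2, 4, 3, 0, 3, 3, 4] [5] [4, 2, 2, 1, 2, 4, 3, 4, 2] [3, 4, 2, 4, 3, 1, 3, 3, 4] [6] [4, 2, 2, 0, 2, 4, 3, 4, 2], .pre 132 false, .fr 17 [3, 4, 2, 4, 3, 1, 3, 3, 4, 5, 4, 2, 2, 0, 2, 4, 3, 4, 2] false, .e2 17 [2,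 2, 1, 3, 3, 4, 3, 3, 1, 3, 1, 3, 1] [2, 2, 0, 3, 3, 4, 3, 3, 0, 3, 0, 3, 0]]),
  ([5, 4, 1, 1, 5, 0, 0, 4, 3, 4, 1, 1, 5, 0, 0, 4, 2, 3, 3, 4, 2, 2, 4, 2, 4, 5, 4, 3, 4, 3, 3, 4, 2, 2], [5, 4, 3, 4, 1, 5, 0, 4, 2, 4, 4, 2, 4, 5, 4, 3, 4, 0, 3, 4, 3, 0, 4, 3, 0, 3, 3], [.e3 17 [3, 3, 4, 2, 2, 4, 2, 4] [5] [4, 3, 4, 3, 3, 4, 2, 2] [2, 0, 4, 3, 4, 3, 0, 2, 2, 2, 2, 4, 2, 4, 2, 4] [5] [4, 3, 4, 3, 4, 3, 3, 3, 3, 1, 2, 4, 2, 4, 1, 3], .pre 108 false, .e3 10 [0, 3, 4, 1, 3, 4, 1] [5] [0, 4, 2, 0, 4, 2, 1] [0, 3, 4, 1, 3, 4, 1] [5] [0, 4, 2, 0, 4, 2, 1], .fr 40 [0, 3, 4, 1, 3, 4, 1, 5, 0, 4, 2, 0, 4, 2, 1] true, .e3 10 [0, 3, 4, 1, 3, 4, 1] [5] [0,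 4, 2, 0, 4, 2, 1] [0, 3, 4, 1, 3, 4, 1, 1, 3, 0, 3, 3] [5] [2, 2, 1, 2, 0, 0, 4, 2, 0, 4, 2, 1], .e3 35 [2, 2, 4, 2, 4, 2, 4] [5] [4, 3, 4, 3, 4, 3, 3] [0, 3, 4, 1, 3, 4, 1, 1, 3, 0, 3, 3, 4] [5] [4, 2, 2, 1, 2, 0, 0, 4, 2, 0, 4, 2, 1], .e3 62 [0, 3, 4, 1, 3, 4, 1] [5] [0, 4, 2, 0, 4, 2, 1] [0, 3, 4, 1, 3, 4, 1, 1, 3, 0, 3, 3] [5] [2, 2, 1, 2, 0, 0, 4, 2, 0, 4, 2, 1], .fr 23 [2, 2, 1, 2, 0, 0, 4, 2, 0, 4, 2, 1] false, .fr 26 [2, 2, 1, 2, 0, 0, 4, 2, 0, 4, 2, 1] false, .fr 22 [4] true, .rel 23 false, .e3 35 [0, 3, 4, 1, 3, 4, 1] [6] [0, 4, 2, 0, 4, 2, 1] [1, 3, 4, 1, 3, 4, 1] [5] [0, 4, 2, 0, 4, 2, 0], .e3 10 [0, 3, 4, 1, 3, 4, 1, 1, 3, 0, 3,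 3, 4, 2, 2, 1, 2, 0, 0, 4, 2, 0, 4, 2, 1, 1, 3, 4, 1, 3, 4, 1] [5] [0, 4, 2, 0, 4, 2, 0] [1, 3, 0, 2, 4, 0, 3, 4, 2, 4, 1, 3, 0, 3, 1, 2, 0, 1, 2, 0, 3, 2, 2, 1, 2, 2, 1, 2, 1, 3, 3, 3, 0, 0, 4, 0, 1, 2, 0, 2, 1, 3, 0, 3, 0, 0, 4, 0, 3, 4, 2, 1, 4, 1, 2, 0, 2, 1, 3, 0, 3, 3, 1, 3, 0, 3, 3, 3, 1, 3, 0, 3, 1, 3, 0, 4, 2, 4] [5] [4, 3, 4, 1, 2, 0, 2, 1, 2, 0, 2, 2, 2, 1, 2, 0, 2, 2, 1, 2, 0, 3, 1, 3, 0, 4, 0, 3, 4, 2, 1, 4, 1, 1, 2, 1, 2, 0, 3, 1, 3, 0, 1, 4, 1, 1, 2, 2, 2, 0, 3, 0, 3, 3, 0, 3, 3, 2, 1, 3, 0, 1, 3, 0, 2, 1, 2, 0, 4, 3, 4, 2, 1, 4, 3, 1, 2, 0, 0, 3, 4, 1, 3, 4, 1, 1, 3, 0, 3, 3, 4, 2, 2, 1, 2, 0, 0, 4, 2, 0, 4, 2, 1], .pre 35 false,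 .fr 10 [4, 3, 4, 2, 1, 4, 3, 1, 2, 0] false, .pre 30 false, .fr 10 [2, 1, 3, 0, 1, 3, 0, 2, 1, 2, 0] false, .pre 46 true, .pre 29 false, .fr 10 [1, 2, 0, 2, 1, 2, 0, 2] false, .pre 120 true, .e2 17 [1, 2, 0, 2, 1, 2, 0, 2, 2, 2, 1, 2, 0, 2, 2, 1, 2, 0, 3, 1, 3, 0, 4, 0, 3, 4, 2, 1, 4, 1, 1, 2, 1, 2, 0, 3, 1, 3, 0, 1, 4, 1, 1, 2, 2, 2, 0, 3, 0, 3, 3, 0, 3, 3, 2, 1, 3, 0, 1, 3, 0, 2, 1, 2, 0, 4, 3, 4, 2, 1, 4, 3, 1, 2, 0, 0, 3, 4, 1, 3, 4, 1, 1, 3, 0, 3, 3, 4, 2, 2, 1, 2, 0, 0, 4, 2, 0, 4, 2, 1, 3, 3, 1, 2, 4, 2, 4, 1, 3] [2, 1, 3, 0, 1, 3, 0, 2, 1, 2, 0, 2, 2, 1, 2, 0, 2, 2, 1, 2, 0, 3, 1, 3, 0, 4, 0, 3, 4, 2, 1, 4, 1, 1, 2, 1, 2, 0, 3, 1, 3,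 0, 1, 4, 1, 1, 2, 2, 2, 0, 3, 0, 3, 3, 0, 3, 3, 4, 3, 4, 2, 1, 4, 3, 1, 2, 0, 3, 3, 1, 3, 0, 3, 1, 3, 0, 2, 1, 3, 0, 2, 4, 0, 3, 4, 2, 4, 3, 1, 3, 0, 3, 1, 3, 0, 3, 1, 2, 1, 2, 1, 2, 2, 1, 3, 3, 4, 3, 2, 2, 1, 2, 2, 1, 2, 1, 3, 3, 3, 0, 0, 4, 0, 1, 2, 0, 2, 1, 3, 0, 3, 0, 0, 4, 0, 3, 4, 2, 1, 4, 1, 2, 0, 2, 1, 3, 0, 3, 3, 1, 3, 0, 3, 3, 1, 2, 0, 3, 3, 1, 2, 0, 2, 3, 1, 3, 0, 3, 1, 3, 0, 3, 1, 2, 1, 2, 1, 2, 2, 1, 3, 3, 4, 3, 2, 2, 1, 2, 2, 1, 2, 1, 3, 3, 3, 0, 0, 4, 0, 1, 2, 0, 2, 1, 3, 0, 3, 0, 0, 4, 0, 3, 4, 2, 1, 4, 1, 2, 0, 2, 1, 3, 0, 3, 3, 1, 3, 0, 3, 3, 1, 2, 0, 3, 3, 1, 2, 0, 2, 3, 1, 3, 0, 3, 1, 3, 0, 2, 1, 3, 0, 1, 3, 0, 2, 1, 2, 0,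 2, 2, 1, 2, 0, 2, 2, 1, 2, 0, 3, 1, 3, 0, 4, 0, 3, 4, 2, 1, 4, 1, 1, 2, 1, 2, 0, 3, 1, 3, 0, 1, 4, 1, 1, 2, 2, 2, 0, 3, 0, 3, 3, 0, 3, 3, 4, 3, 4, 2, 1, 4, 3, 1, 2, 0, 3, 3, 1, 3, 0, 3, 1, 3, 0, 2, 1, 3, 0, 2, 4, 0, 3, 4, 2, 4, 3, 1, 3, 0, 3, 1, 3, 0, 1, 2, 0, 2, 1, 2, 0, 2, 3, 1, 3, 0, 2, 2, 1, 3, 0, 2, 2, 1, 2, 0, 2, 2, 1, 2, 0, 3, 1, 3, 0, 4, 0, 3, 4, 2, 1, 4, 1, 1, 2, 1, 2, 0, 3, 1, 3, 0, 1, 4, 1, 1, 2, 2, 2, 0, 3, 0, 3, 3, 0, 3, 3, 2, 4, 2, 2, 0, 3, 3, 0, 3, 0, 3, 0, 2, 1, 2, 0, 2, 1, 2, 0, 2, 3, 1, 3, 0, 2, 2, 1, 3, 0, 2, 2, 1, 2, 0, 2, 2, 1, 2, 0, 3, 1, 3, 0, 4, 0, 3, 4, 2, 1, 4, 1, 1, 2, 1, 2, 0, 3, 1, 3, 0, 1, 4, 1, 1, 2, 2, 2, 0, 3,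 0, 3, 3, 0, 3, 3, 2, 4, 2, 2, 0, 3, 3, 0, 3, 0, 3, 0, 2, 0, 3, 4, 3, 0, 4, 3, 0, 3, 3], .pre 122 true, .pre 127 true, .pre 127 true, .pre 122 true, .pre 127 false, .fr 17 [3, 1, 2, 1, 2, 1, 2, 2, 1, 3, 3, 4, 3, 2, 2, 1, 2, 2, 1, 2, 1, 3, 3, 3, 0, 0, 4, 0, 1, 2, 0, 2, 1, 3, 0, 3, 0, 0, 4, 0, 3, 4, 2, 1, 4, 1, 2, 0, 2, 1, 3, 0, 3, 3, 1, 3, 0, 3, 3, 1, 2, 0, 3, 3, 1, 2, 0, 2, 3, 1, 3, 0, 3, 1, 3, 0] false, .pre 127 false, .fr 17 [3, 1, 2, 1, 2, 1, 2, 2, 1, 3, 3, 4, 3, 2, 2, 1, 2, 2, 1, 2, 1, 3, 3, 3, 0, 0, 4, 0, 1, 2, 0, 2, 1, 3, 0, 3, 0, 0, 4, 0, 3, 4, 2, 1, 4, 1, 2, 0, 2, 1, 3, 0, 3, 3, 1, 3, 0, 3, 3, 1, 2, 0, 3, 3, 1, 2, 0, 2, 3, 1, 3, 0, 3,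 1, 3, 0] false]),
  ([5, 4, 3, 4, 1, 5, 0, 4, 2, 4, 4, 2, 4, 5, 4, 3, 4, 1, 2, 1, 3, 1, 3, 3, 3, 4, 5, 4, 2, 2, 2, 0, 2, 0, 3, 0], [5, 4, 1, 1, 5, 0, 0, 4, 3, 4, 1, 1, 5, 0, 0, 4, 2, 2, 2, 0, 2, 0, 4, 2, 4, 2, 0], [.e3 17 [1, 2, 1, 3, 1, 3, 3, 3, 4] [5] [4, 2, 2, 2, 0, 2, 0, 3, 0] [0, 3, 4, 3, 0, 4, 3, 0, 3, 3, 0, 2, 4, 3, 3, 3, 4, 3, 4] [5] [4, 2, 4, 2, 2, 2, 4, 3, 1, 2, 2, 1, 2, 4, 1, 2, 4, 2, 1], .e3 27 [0, 2, 4, 3, 3, 3, 4, 3, 4] [5] [4, 2, 4, 2, 2, 2, 4, 3, 1] [3, 3, 4, 2, 2, 4, 2, 4] [6] [4, 3, 4, 3, 3, 4, 2, 2], .pre 134 false, .fr 17 [3, 3, 4, 2, 2, 4, 2, 4, 5, 4, 3, 4, 3, 3, 4, 2, 2] false, .e2 17 [2, 2, 1, 2, 4, 1, 2, 4, 2, 1] [2,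 2, 0, 2, 0, 4, 2, 4, 2, 0]]),
  ([5, 4, 3, 4, 1, 5, 0, 4, 2, 4, 4, 2, 4, 5, 4, 3, 4, 4, 2, 4, 3, 3, 3, 4, 5, 4, 2, 2, 2, 4, 3, 4], [5, 4, 3, 4, 1, 5, 0, 4, 2, 4, 4, 2, 4, 5, 4, 3, 4, 4, 3, 3, 0, 3, 4, 3, 3, 4, 3, 0, 4], [.e3 17 [4, 2, 4, 3, 3, 3, 4] [5] [4, 2, 2, 2, 4, 3, 4] [4, 2, 4, 3, 3, 3, 4] [5] [4, 2, 2, 2, 4, 3, 4], .pre 120 false, .e3 10 [4, 2, 4] [5] [4, 3, 4] [4, 2, 4] [5] [4, 3, 4], .fr 32 [4, 2, 4, 5, 4, 3, 4] true, .e3 10 [4, 2, 4] [5] [4, 3, 4] [4, 2, 4, 3, 3, 3] [5] [2, 2, 2, 4, 3, 4], .e3 23 [4, 2, 4, 3, 3, 3, 4] [5] [4, 2, 2, 2, 4, 3, 4] [4, 2, 4, 3, 3, 3, 4] [5] [4, 2, 2, 2, 4, 3, 4], .e3 38 [4, 2, 4] [5] [4, 3, 4] [4, 2, 4,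 3, 3, 3] [5] [2, 2, 2, 4, 3, 4], .fr 17 [2, 2, 2, 4, 3, 4] false, .fr 20 [2, 2, 2, 4, 3, 4] false, .fr 16 [4] true, .rel 17 false, .e3 23 [4, 2, 4] [6] [4, 3, 4] [4, 2, 4, 1, 1] [5] [0, 0, 4, 3, 4], .e3 10 [4, 2, 4, 3, 3, 3, 4, 2, 2, 2, 4, 3, 4, 4, 2, 4, 1, 1] [5] [0, 0, 4, 3, 4] [1, 3, 0, 2, 4, 0, 3, 4, 2, 4, 1, 2, 0, 3, 3, 1, 2, 0, 2, 2, 1, 3, 0, 1, 3, 0, 2, 1, 2, 0, 4, 2, 4] [5] [4, 3, 4, 1, 3, 0, 3, 1, 2, 0, 1, 2, 0, 3, 3, 1, 3, 0, 2, 2, 1, 3, 0, 4, 3, 4, 2, 1, 4, 3, 1, 2, 0, 4, 2, 4, 3, 3, 3, 4, 2, 2, 2, 4, 3, 4], .pre 35 false, .fr 10 [4, 3, 4, 2, 1, 4, 3, 1, 2, 0] false, .pre 32 false, .fr 10 [3, 1, 3, 0, 2, 2, 1, 3, 0] false, .pre 30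 true, .pre 120 true, .e2 17 [1, 3, 0, 3, 1, 2, 0, 1, 2, 0, 3, 3, 1, 3, 0, 2, 2, 1, 3, 0, 4, 3, 4, 2, 1, 4, 3, 1, 2, 0, 4, 2, 4, 3, 3, 3, 4, 2, 2, 2, 4, 3, 4] [3, 1, 2, 1, 2, 1, 2, 2, 1, 3, 3, 4, 3, 2, 2, 1, 2, 2, 1, 2, 1, 3, 3, 3, 0, 0, 4, 0, 1, 2, 0, 2, 1, 3, 0, 3, 0, 0, 4, 0, 3, 4, 2, 1, 4, 1, 2, 0, 2, 1, 3, 0, 3, 3, 1, 3, 0, 3, 3, 1, 2, 0, 3, 3, 1, 2, 0, 2, 3, 1, 3, 0, 3, 1, 3, 0, 3, 1, 2, 1, 2, 1, 2, 2, 1, 3, 3, 4, 3, 2, 2, 1, 2, 2, 1, 2, 1, 3, 3, 3, 0, 0, 4, 0, 1, 2, 0, 2, 1, 3, 0, 3, 0, 0, 4, 0, 3, 4, 2, 1, 4, 1, 2, 0, 2, 1, 3, 0, 3, 3, 1, 3, 0, 3, 3, 1, 2, 0, 3, 3, 1, 2, 0, 2, 3, 1, 3, 0, 3, 1, 3, 0, 3, 1, 2, 1, 2, 1, 2, 2, 1, 3, 3, 4,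 3, 2, 2, 1, 2, 2, 1, 2, 1, 3, 3, 3, 0, 0, 4, 0, 1, 2, 0, 2, 1, 3, 0, 3, 0, 0, 4, 0, 3, 4, 2, 1, 4, 1, 2, 0, 2, 1, 3, 0, 3, 3, 1, 3, 0, 3, 3, 1, 2, 0, 3, 3, 1, 2, 0, 2, 3, 1, 3, 0, 3, 1, 3, 0, 2, 1, 3, 0, 1, 3, 0, 2, 1, 2, 0, 2, 2, 1, 2, 0, 2, 2, 1, 2, 0, 3, 1, 3, 0, 4, 0, 3, 4, 2, 1, 4, 1, 1, 2, 1, 2, 0, 3, 1, 3, 0, 1, 4, 1, 1, 2, 2, 2, 0, 3, 0, 3, 3, 0, 3, 3, 4, 3, 4, 2, 1, 4, 3, 1, 2, 0, 3, 3, 1, 3, 0, 3, 1, 3, 0, 2, 1, 3, 0, 2, 4, 0, 3, 4, 2, 4, 3, 1, 3, 0, 3, 1, 3, 0, 3, 1, 2, 1, 2, 1, 2, 2, 1, 3, 3, 4, 3, 2, 2, 1, 2, 2, 1, 2, 1, 3, 3, 3, 0, 0, 4, 0, 1, 2, 0, 2, 1, 3, 0, 3, 0, 0, 4, 0, 3, 4, 2, 1, 4, 1, 2, 0, 2, 1, 3, 0, 3, 3, 1, 3, 0, 3,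 3, 1, 2, 0, 3, 3, 1, 2, 0, 2, 3, 1, 3, 0, 3, 1, 3, 0, 4, 3, 3, 0, 3, 4, 3, 3, 4, 3, 0, 4], .pre 127 true, .pre 127 true, .pre 127 true, .pre 122 true, .pre 127 true]),
  ([5, 4, 3, 4, 1, 5, 0, 4, 2, 4, 4, 2, 4, 5, 4, 3, 4, 2, 4, 2, 4, 3, 3, 4, 1, 5, 0, 4, 2, 2, 4, 3, 4, 3], [5, 4, 3, 4, 1, 5, 0, 4, 2, 4, 4, 2, 4, 5, 4, 3, 4, 2, 0, 2, 2, 0, 2, 2, 2, 0, 3, 3, 1, 3], [.e3 17 [2, 4, 2, 4, 3, 3, 4, 1] [5] [0, 4, 2, 2, 4, 3, 4, 3] [2, 4, 2, 4, 3, 3, 4, 1] [5] [0, 4, 2, 2, 4, 3, 4, 3], .pre 120 false, .e3 10 [4, 2, 4] [5] [4, 3, 4] [4, 2, 4] [5] [4, 3, 4], .fr 34 [4, 2, 4, 5, 4, 3, 4] true, .e3 10 [4, 2, 4] [5] [4, 3, 4] [4, 2, 4, 1, 2, 0, 3, 3] [5]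 [2, 2, 1, 3, 0, 4, 3, 4], .e3 27 [2, 4, 2, 4, 3, 3, 4, 1] [5] [0, 4, 2, 2, 4, 3, 4, 3] [4, 2, 4, 1, 2, 0, 3, 3, 4] [5] [4, 2, 2, 1, 3, 0, 4, 3, 4], .e3 46 [4, 2, 4] [5] [4, 3, 4] [4, 2, 4, 1, 2, 0, 3, 3] [5] [2, 2, 1, 3, 0, 4, 3, 4], .fr 19 [2, 2, 1, 3, 0, 4, 3, 4] false, .fr 22 [2, 2, 1, 3, 0, 4, 3, 4] false, .fr 18 [4] true, .rel 19 false, .e3 27 [4, 2, 4] [6] [4, 3, 4] [4, 2, 4, 1, 1] [5] [0, 0, 4, 3, 4], .e3 10 [4, 2, 4, 1, 2, 0, 3, 3, 4, 2, 2, 1, 3, 0, 4, 3, 4, 4, 2, 4, 1, 1] [5] [0, 0, 4, 3, 4] [1, 3, 0, 2, 4, 0, 3, 4, 2, 4, 2, 2, 1, 2, 0, 2, 2, 1, 2, 0, 3, 1, 3, 0, 4, 0, 3, 4, 2, 1, 4, 1, 1, 2, 1, 2, 0, 3, 1, 3, 0, 1, 4, 1, 1, 2, 2, 2,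 0, 3, 0, 3, 3, 0, 3, 3, 1, 3, 0, 3, 1, 2, 0, 1, 2, 0, 3, 4, 2, 4] [5] [4, 3, 4, 2, 1, 3, 0, 1, 3, 0, 2, 1, 2, 0, 2, 2, 1, 2, 2, 1, 2, 1, 3, 3, 3, 0, 0, 4, 0, 1, 2, 0, 2, 1, 3, 0, 3, 0, 0, 4, 0, 3, 4, 2, 1, 4, 1, 2, 0, 2, 1, 3, 0, 3, 3, 1, 3, 0, 3, 3, 4, 3, 4, 2, 1, 4, 3, 1, 2, 0, 4, 2, 4, 1, 2, 0, 3, 3, 4, 2, 2, 1, 3, 0, 4, 3, 4], .pre 35 false, .fr 10 [4, 3, 4, 2, 1, 4, 3, 1, 2, 0] false, .pre 46 false, .fr 10 [2, 2, 1, 2, 2, 1, 2, 1, 3, 3, 3, 0, 0, 4, 0, 1, 2, 0, 2, 1, 3, 0, 3, 0, 0, 4, 0, 3, 4, 2, 1, 4, 1, 2, 0, 2, 1, 3, 0, 3, 3, 1, 3, 0, 3, 3] false, .pre 30 false, .fr 10 [2, 1, 3, 0, 1, 3, 0, 2, 1, 2, 0] false, .pre 120 true, .e2 17 [2,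 1, 3, 0, 1, 3, 0, 2, 1, 2, 0, 2, 2, 1, 2, 2, 1, 2, 1, 3, 3, 3, 0, 0, 4, 0, 1, 2, 0, 2, 1, 3, 0, 3, 0, 0, 4, 0, 3, 4, 2, 1, 4, 1, 2, 0, 2, 1, 3, 0, 3, 3, 1, 3, 0, 3, 3, 4, 3, 4, 2, 1, 4, 3, 1, 2, 0, 4, 2, 4, 1, 2, 0, 3, 3, 4, 2, 2, 1, 3, 0, 4, 3, 4] [2, 1, 3, 0, 1, 3, 0, 2, 1, 2, 0, 2, 2, 1, 2, 0, 2, 2, 1, 2, 0, 3, 1, 3, 0, 4, 0, 3, 4, 2, 1, 4, 1, 1, 2, 1, 2, 0, 3, 1, 3, 0, 1, 4, 1, 1, 2, 2, 2, 0, 3, 0, 3, 3, 0, 3, 3, 4, 3, 4, 2, 1, 4, 3, 1, 2, 0, 3, 3, 1, 3, 0, 3, 1, 3, 0, 2, 1, 3, 0, 2, 4, 0, 3, 4, 2, 4, 3, 1, 3, 0, 3, 1, 3, 0, 1, 2, 0, 2, 1, 2, 0, 2, 3, 1, 3, 0, 2, 2, 1, 3, 0, 2, 2, 1, 2, 0, 2, 2, 1, 2, 0, 3, 1, 3, 0, 4, 0, 3, 4, 2, 1, 4,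 1, 1, 2, 1, 2, 0, 3, 1, 3, 0, 1, 4, 1, 1, 2, 2, 2, 0, 3, 0, 3, 3, 0, 3, 3, 2, 4, 2, 2, 0, 3, 3, 0, 3, 0, 3, 0, 2, 1, 2, 0, 3, 3, 1, 2, 0, 2, 1, 3, 0, 3, 1, 2, 0, 1, 2, 0, 3, 1, 2, 0, 2, 1, 2, 0, 2, 3, 1, 3, 0, 2, 2, 1, 3, 0, 2, 2, 1, 2, 0, 2, 2, 1, 2, 0, 3, 1, 3, 0, 4, 0, 3, 4, 2, 1, 4, 1, 1, 2, 1, 2, 0, 3, 1, 3, 0, 1, 4, 1, 1, 2, 2, 2, 0, 3, 0, 3, 3, 0, 3, 3, 2, 4, 2, 2, 0, 3, 3, 0, 3, 0, 3, 0, 2, 2, 0, 2, 2, 0, 2, 2, 2, 0, 3, 3, 1, 3], .pre 122 true, .pre 127 false, .fr 17 [3, 1, 2, 1, 2, 1, 2, 2, 1, 3, 3, 4, 3, 2, 2, 1, 2, 2, 1, 2, 1, 3, 3, 3, 0, 0, 4, 0, 1, 2, 0, 2, 1, 3, 0, 3, 0, 0, 4, 0, 3, 4, 2, 1, 4, 1, 2, 0, 2, 1, 3, 0, 3, 3, 1, 3,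 0, 3, 3, 1, 2, 0, 3, 3, 1, 2, 0, 2, 3, 1, 3, 0, 3, 1, 3, 0] false, .pre 121 true, .pre 127 false, .fr 17 [3, 1, 2, 1, 2, 1, 2, 2, 1, 3, 3, 4, 3, 2, 2, 1, 2, 2, 1, 2, 1, 3, 3, 3, 0, 0, 4, 0, 1, 2, 0, 2, 1, 3, 0, 3, 0, 0, 4, 0, 3, 4, 2, 1, 4, 1, 2, 0, 2, 1, 3, 0, 3, 3, 1, 3, 0, 3, 3, 1, 2, 0, 3, 3, 1, 2, 0, 2, 3, 1, 3, 0, 3, 1, 3, 0] false]),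
  ([5, 4, 1, 1, 5, 0, 0, 4, 3, 4, 1, 1, 5, 0, 0, 4, 2, 0, 3, 4, 1, 5, 0, 4, 2, 1], [5, 4, 1, 1, 5, 0, 0, 4, 3, 4, 1, 1, 5, 0, 0, 4, 2, 0, 3, 4, 1, 5, 0, 4, 2, 1], []),
  ([5, 4, 1, 1, 5, 0, 0, 4, 3, 4, 1, 1, 5, 0, 0, 4, 2, 0, 3, 4, 1, 5, 0, 4, 2, 1, 2, 1, 3, 0, 2, 2, 1, 2, 0, 3, 1, 3, 0, 3, 1, 3, 0, 1, 3, 0, 3, 3, 1, 2, 0, 3, 3, 1, 3, 0, 1, 3, 0, 3, 2, 1, 2, 0, 3, 1, 3, 0], [5, 4, 1, 1, 5, 0, 0, 4, 3, 4, 1, 1, 5, 0, 0, 4, 2, 0, 3, 4, 1, 5, 0, 4, 2, 1], [.pre 138 false, .e3 17 [0, 3, 4, 1] [5] [0, 4, 2, 1, 2, 1, 3, 0, 2, 2, 1, 2, 0, 3, 1, 3, 0, 3, 1, 3, 0, 1, 3, 0, 3, 3, 1, 2, 0, 3, 3, 1, 3, 0, 1, 3, 0, 3, 2, 1, 2, 0, 3, 1, 3, 0] [2, 1, 3, 0,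 2, 2, 1, 2, 0, 3, 1, 3, 0, 3, 1, 3, 0, 1, 3, 0, 3, 3, 1, 2, 0, 3, 3, 1, 3, 0, 1, 3, 0, 3, 2, 1, 2, 0, 3, 1, 3, 0, 0, 3, 4, 1] [5] [0, 4, 2, 1], .pre 75 true, .pre 74 false, .fr 17 [1, 2, 0, 2, 1, 3, 0, 3, 2, 1, 2, 0, 1, 2, 0, 2] false, .pre 138 true, .fr 26 [] true]),
  ([5, 4, 1, 1, 5, 0, 0, 4, 3, 4, 1, 1, 5, 0, 0, 4, 2, 0, 3, 4, 1, 5, 0, 4, 2, 1, 1, 2, 0, 2, 1, 3, 0, 3, 2, 1, 2, 0, 1, 2, 0, 2, 2, 1, 2, 0, 1, 2, 0, 2, 2, 1, 2, 0, 1, 2, 0, 2, 1, 4, 1, 1, 2, 4, 3, 4, 2, 1, 2, 1, 2, 0, 1, 2, 0, 2, 2, 1, 2, 0, 1, 2, 0, 2, 1, 4, 1, 1, 2, 4, 3, 4, 2, 1, 3, 1, 3, 0, 1, 3, 0, 3, 2, 1, 2, 0, 3, 1, 3, 0], [5, 4, 1, 1, 5, 0, 0, 4, 3, 4, 1, 1, 5, 0, 0,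 4, 2, 0, 3, 4, 1, 5, 0, 4, 2, 1], [.pre 138 false, .e3 17 [0, 3, 4, 1] [5] [0, 4, 2, 1, 1, 2, 0, 2, 1, 3, 0, 3, 2, 1, 2, 0, 1, 2, 0, 2, 2, 1, 2, 0, 1, 2, 0, 2, 2, 1, 2, 0, 1, 2, 0, 2, 1, 4, 1, 1, 2, 4, 3, 4, 2, 1, 2, 1, 2, 0, 1, 2, 0, 2, 2, 1, 2, 0, 1, 2, 0, 2, 1, 4, 1, 1, 2, 4, 3, 4, 2, 1, 3, 1, 3, 0, 1, 3, 0, 3, 2, 1, 2, 0, 3, 1, 3, 0] [1, 2, 0, 2, 1, 3, 0, 3, 2, 1, 2, 0, 1, 2, 0, 2, 2, 1, 2, 0, 1, 2, 0, 2, 2, 1, 2, 0, 1, 2, 0, 2, 1, 4, 1, 1, 2, 4, 3, 4, 2, 1, 2, 1, 2, 0, 1, 2, 0, 2, 2, 1, 2, 0, 1, 2, 0, 2, 1, 4, 1, 1, 2, 4, 3, 4, 2, 1, 3, 1, 3, 0, 1, 3, 0, 3, 2, 1, 2, 0, 3, 1, 3, 0, 0, 3, 4, 1] [5] [0, 4, 2, 1], .pre 74 true, .pre 83 false,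 .fr 17 [0, 3, 4, 2, 4, 3, 0, 0, 4, 0, 3, 1, 3, 0, 1, 3, 0, 3, 3, 1, 3, 0, 1, 3, 0, 3] false, .pre 83 false, .fr 17 [0, 3, 4, 2, 4, 3, 0, 0, 4, 0, 3, 1, 3, 0, 1, 3, 0, 3, 3, 1, 3, 0, 1, 3, 0, 3] false, .pre 74 false, .fr 17 [1, 2, 0, 2, 1, 3, 0, 3, 2, 1, 2, 0, 1, 2, 0, 2] false, .pre 138 true, .fr 26 [] true]),
  ([5, 4, 1, 1, 5, 0, 0, 4, 3, 4, 1, 1, 5, 0, 0, 4, 2, 0, 3, 4, 1, 5, 0, 4, 2, 1, 3, 1, 2, 0, 3, 3, 1, 3, 0, 1, 3, 0, 3, 2, 1, 3, 0, 2, 2, 1, 3, 0, 2, 3, 4, 2, 1, 1, 2, 1, 2, 0, 1, 2, 0, 2, 2, 1, 2, 0, 1, 2, 0, 2, 1, 4, 1, 1, 2, 4, 3, 4, 2, 1, 3, 1, 3, 0, 1, 3, 0, 3, 2, 1, 2, 0, 3, 1, 3, 0], [5, 4, 1, 1, 5, 0, 0, 4, 3, 4, 1, 1, 5, 0, 0,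 4, 2, 0, 3, 4, 1, 5, 0, 4, 2, 1], [.pre 138 false, .e3 17 [0, 3, 4, 1] [5] [0, 4, 2, 1, 3, 1, 2, 0, 3, 3, 1, 3, 0, 1, 3, 0, 3, 2, 1, 3, 0, 2, 2, 1, 3, 0, 2, 3, 4, 2, 1, 1, 2, 1, 2, 0, 1, 2, 0, 2, 2, 1, 2, 0, 1, 2, 0, 2, 1, 4, 1, 1, 2, 4, 3, 4, 2, 1, 3, 1, 3, 0, 1, 3, 0, 3, 2, 1, 2, 0, 3, 1, 3, 0] [3, 1, 2, 0, 3, 3, 1, 3, 0, 1, 3, 0, 3, 2, 1, 3, 0, 2, 2, 1, 3, 0, 2, 3, 4, 2, 1, 1, 2, 1, 2, 0, 1, 2, 0, 2, 2, 1, 2, 0, 1, 2, 0, 2, 1, 4, 1, 1, 2, 4, 3, 4, 2, 1, 3, 1, 3, 0, 1, 3, 0, 3, 2, 1, 2, 0, 3, 1, 3, 0, 0, 3, 4, 1] [5] [0, 4, 2, 1], .pre 76 true, .pre 79 true, .pre 83 false, .fr 17 [0, 3, 4, 2, 4, 3, 0, 0, 4, 0, 3, 1, 3, 0, 1, 3, 0, 3, 3, 1,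 3, 0, 1, 3, 0, 3] false, .pre 74 false, .fr 17 [1, 2, 0, 2, 1, 3, 0, 3, 2, 1, 2, 0, 1, 2, 0, 2] false, .pre 138 true, .fr 26 [] true]),
  ([5, 4, 1, 1, 5, 0, 0, 4, 3, 4, 1, 1, 5, 0, 0, 4, 2, 0, 3, 4, 1, 5, 0, 4, 2, 1, 1, 3, 4, 1, 5, 0, 4, 2, 0], [5, 4, 1, 1, 5, 0, 0, 4, 3, 4, 1, 1, 5, 0, 0, 4, 2], [.e3 26 [1, 3, 4, 1] [5] [0, 4, 2, 0] [1, 3, 4, 1] [5] [0, 4, 2, 0], .e3 26 [1, 3, 4, 1] [5] [0, 4, 2, 0] [0, 3, 4, 1] [6] [0, 4, 2, 1], .pre 138 false, .fr 17 [0, 3, 4, 1, 5, 0, 4, 2, 1] false]),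
  ([5, 4, 1, 1, 5, 0, 0, 4, 3, 4, 1, 1, 5, 0, 0, 4, 2, 0, 3, 4, 1, 5, 0, 4, 2, 1, 1, 2, 4, 3, 3, 4, 5, 4, 2, 2, 4, 3, 0], [5, 4, 1, 1, 5, 0, 0, 4, 3, 4, 1, 1, 5, 0, 0, 4, 2, 2, 4, 2, 0, 3, 0, 3, 0, 4, 2, 0, 2, 1, 3, 3], [.e3 26 [1, 2, 4, 3, 3, 4] [5] [4, 2, 2, 4, 3, 0] [4, 3, 0, 4, 2, 2, 1, 3, 4, 3, 4, 1, 1] [5] [0, 0, 4, 2, 4, 2, 0, 3, 3, 4, 1, 2, 4], .pre 138 false, .e3 17 [0, 3, 4, 1] [5] [0, 4, 2, 1, 4, 3, 0, 4, 2, 2, 1] [4, 3, 0, 4, 2, 2, 1, 1, 3, 4, 1] [5] [0, 4, 2, 0], .pre 102 false, .e3 17 [3, 4, 3, 4, 1, 1] [5] [0, 0, 4, 2, 4, 2] [3, 4, 3, 4, 1, 1] [5] [0, 0, 4, 2, 4, 2], .e3 17 [3, 4, 3, 4, 1, 1] [5] [0, 0, 4, 2, 4, 2] [3, 4, 3, 4,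 1, 1, 3, 1, 2, 0, 2, 1, 3, 0, 3, 3] [5] [2, 2, 1, 2, 0, 3, 1, 3, 0, 2, 0, 0, 4, 2, 4, 2], .e3 50 [1, 3, 4, 1] [5] [0, 4, 2, 0] [3, 4, 3, 4, 1, 1, 3, 1, 2, 0, 2, 1, 3, 0, 3, 3, 4] [5] [4, 2, 2, 1, 2, 0, 3, 1, 3, 0, 2, 0, 0, 4, 2, 4, 2], .e3 85 [3, 4, 3, 4, 1, 1] [5] [0, 0, 4, 2, 4, 2] [3, 4, 3, 4, 1, 1, 3, 1, 2, 0, 2, 1, 3, 0, 3, 3] [5] [2, 2, 1, 2, 0, 3, 1, 3, 0, 2, 0, 0, 4, 2, 4, 2], .fr 34 [2, 2, 1, 2, 0, 3, 1, 3, 0, 2, 0, 0, 4, 2, 4, 2] false, .fr 37 [2, 2, 1, 2, 0, 3, 1, 3, 0, 2, 0, 0, 4, 2, 4, 2] false, .fr 33 [4] true, .rel 34 false, .e2 17 [3, 4, 3, 4, 1, 1, 3, 1, 2, 0, 2, 1, 3, 0, 3, 3, 4, 2, 2, 1, 2, 0, 3, 1, 3, 0, 2, 0, 0, 4, 2, 4,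 2, 0, 3, 3, 4, 1, 2, 4] [3, 1, 2, 0, 3, 3, 1, 3, 0, 1, 3, 0, 3, 2, 1, 3, 0, 2, 2, 1, 3, 0, 2, 0, 3, 4, 2, 4, 3, 0, 0, 4, 0, 3, 1, 3, 0, 1, 3, 0, 3, 3, 1, 3, 0, 1, 3, 0, 3, 1, 2, 0, 2, 1, 3, 0, 3, 2, 1, 2, 0, 1, 2, 0, 2, 2, 4, 2, 0, 3, 0, 3, 0, 4, 2, 0, 2, 1, 3, 3], .pre 76 true, .pre 83 true, .pre 74 true])]

/-- the coset equalities before part 11 -/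
def prev11 : List (List Nat × List Nat) := prev10 ++ cert10.map (fun f => (f.1, f.2.1))

theorem chk_cert11 : checkAll px bp prev11 cert11 = true := by decide +kernel

end Cfsg.Agent.Lib.Helper2.HNS
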