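import Cfsg.Agent.Lib.Helper2.HNDce4
import Cfsg.Agent.Lib.Helper2.HNS.Tab
import Cfsg.Agent.Lib.Helper2.HNS.Cert11
set_option autoImplicit false
set_option maxRecDepth 1000000
set_option Elab.async false
open Cfsg.Agent.Lib.Helper2.HNDce
namespace Cfsg.Agent.Lib.Helper2.HNS

/-! # The certificate of the double coset enumeration, part 12 -/

/-- the coset equalities of part 12, with their chains -/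
def cert12 : List (List Nat × List Nat × List Step) := [
  ([5, 4, 1, 1, 5, 0, 0, 4, 3, 4, 1, 1, 5, 0, 0, 4, 2, 0, 3, 4, 1, 5, 0, 4, 2, 1, 2, 2, 0, 3, 1, 3, 4, 1, 2, 1, 2, 1, 3, 4, 3, 0, 0, 3, 4, 2], [5, 4, 1, 1, 5, 0, 0, 4, 3, 4, 1, 1, 5, 0, 0, 4, 2, 0, 3, 4, 1, 5, 0, 4, 2, 1], [.fr 26 [1, 2, 4, 3, 3, 4, 5, 4, 2, 2, 4, 3, 0] true, .pre 143 true, .e3 32 [1, 2, 4, 3, 3, 4] [6] [4, 2, 2, 4, 3, 0] [0, 2, 4, 3, 3, 4] [5] [4, 2, 2, 4, 3, 1], .e3 17 [2, 4, 2, 0, 3, 0, 3, 0, 4, 2, 0, 2, 1, 3, 3, 0, 2, 4, 3, 3, 4] [5] [4, 2, 2, 4, 3, 1] [0, 0, 3, 4, 2, 0, 3, 4, 1] [5] [0, 4, 2, 1, 3, 4, 2, 1, 1, 2, 4, 2, 0, 3, 0, 3, 0, 4, 2, 0, 2, 1, 3, 3], .pre 79 false, .fr 17 [3, 4, 2, 1, 1] false, .pre 138 true,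 .fr 26 [3, 4, 2, 1, 1, 2, 4, 2, 0, 3, 0, 3, 0, 4, 2, 0, 2, 1, 3, 3] false]),
  ([5, 4, 1, 1, 5, 0, 0, 4, 3, 4, 1, 1, 5, 0, 0, 4, 2, 0, 3, 4, 1, 5, 0, 4, 2, 1, 4, 2, 1, 2, 1, 2, 2, 4, 5, 4, 3, 3, 0, 3, 0, 3, 4], [5, 4, 1, 1, 5, 0, 0, 4, 3, 4, 1, 1, 5, 0, 0, 4, 2, 0, 3, 4, 1, 5, 0, 4, 2, 1], [.e3 26 [4, 2, 1, 2, 1, 2, 2, 4] [5] [4, 3, 3, 0, 3, 0, 3, 4] [4, 2, 1, 2, 1, 2, 2, 4] [5] [4, 3, 3, 0, 3, 0, 3, 4], .pre 138 false, .e3 17 [0, 3, 4, 1] [5] [0, 4, 2, 1] [0, 3, 4, 1] [5] [0, 4, 2, 1], .fr 43 [0, 3, 4, 1, 5, 0, 4, 2, 1] true, .e3 17 [0, 3, 4, 1] [5] [0, 4, 2, 1] [0, 3, 4, 1, 3, 1, 3, 0, 3, 3] [5] [2, 2, 1, 2, 0, 2, 0, 4, 2, 1], .e3 38 [4, 2, 1, 2, 1, 2, 2, 4] [5] [4, 3, 3, 0, 3, 0, 3, 4]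 [0, 3, 4, 1, 3, 1, 3, 0, 3, 3, 4] [5] [4, 2, 2, 1, 2, 0, 2, 0, 4, 2, 1], .e3 61 [0, 3, 4, 1] [5] [0, 4, 2, 1] [0, 3, 4, 1, 3, 1, 3, 0, 3, 3] [5] [2, 2, 1, 2, 0, 2, 0, 4, 2, 1], .fr 28 [2, 2, 1, 2, 0, 2, 0, 4, 2, 1] false, .fr 31 [2, 2, 1, 2, 0, 2, 0, 4, 2, 1] false, .fr 27 [4] true, .rel 28 false, .e3 38 [0, 3, 4, 1] [6] [0, 4, 2, 1] [1, 3, 4, 1] [5] [0, 4, 2, 0], .e3 17 [0, 3, 4, 1, 3, 1, 3, 0, 3, 3, 4, 2, 2, 1, 2, 0, 2, 0, 4, 2, 1, 1, 3, 4, 1] [5] [0, 4, 2, 0] [2, 1, 2, 0, 1, 2, 0, 2, 2, 1, 2, 0, 1, 2, 0, 2, 1, 4, 1, 1, 2, 4, 3, 4, 2, 1, 3, 1, 3, 0, 1, 3, 0, 3, 2, 1, 2, 0, 3, 1, 3, 0, 0, 3, 4, 1] [5] [0, 4, 2, 1, 1, 2, 0, 2, 1, 3, 0, 3, 2, 1, 2, 0, 1, 2, 0, 2, 0, 3, 4, 2, 4, 3, 0, 0, 4,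 0, 3, 1, 3, 0, 1, 3, 0, 3, 3, 1, 3, 0, 1, 3, 0, 3, 0, 3, 4, 1, 3, 1, 3, 0, 3, 3, 4, 2, 2, 1, 2, 0, 2, 0, 4, 2, 1], .pre 83 false, .fr 17 [0, 3, 4, 2, 4, 3, 0, 0, 4, 0, 3, 1, 3, 0, 1, 3, 0, 3, 3, 1, 3, 0, 1, 3, 0, 3] false, .pre 74 false, .fr 17 [1, 2, 0, 2, 1, 3, 0, 3, 2, 1, 2, 0, 1, 2, 0, 2] false, .pre 138 true, .e2 26 [1, 2, 0, 2, 1, 3, 0, 3, 2, 1, 2, 0, 1, 2, 0, 2, 0, 3, 4, 2, 4, 3, 0, 0, 4, 0, 3, 1, 3, 0, 1, 3, 0, 3, 3, 1, 3, 0, 1, 3, 0, 3, 0, 3, 4, 1, 3, 1, 3, 0, 3, 3, 4, 2, 2, 1, 2, 0, 2, 0, 4, 2, 1] [2, 2, 0, 3, 1, 3, 4, 1, 2, 1, 2, 1, 3, 4, 3, 0, 0, 3, 4, 2, 2, 2, 0, 3, 1, 3, 4, 1, 2, 1, 2, 1, 3, 4, 3, 0, 0, 3, 4, 2, 1, 2, 0, 2, 1, 3, 0, 3, 2, 1, 2, 0, 1, 2, 0, 2, 2, 1, 3, 0, 2, 2,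 1, 2, 0, 1, 2, 0, 2, 1, 2, 0, 2, 1, 3, 0, 3, 3, 1, 2, 0, 3, 2, 2, 0, 3, 1, 3, 4, 1, 2, 1, 2, 1, 3, 4, 3, 0, 0, 3, 4, 2, 2, 2, 0, 3, 1, 3, 4, 1, 2, 1, 2, 1, 3, 4, 3, 0, 0, 3, 4, 2, 1, 2, 0, 2, 1, 3, 0, 3, 2, 1, 2, 0, 1, 2, 0, 2, 0, 3, 4, 2, 4, 3, 0, 0, 4, 0, 3, 1, 3, 0, 1, 3, 0, 3, 3, 1, 3, 0, 1, 3, 0, 3, 0, 3, 4, 2, 4, 3, 0, 0, 4, 0, 3, 1, 3, 0, 1, 3, 0, 3, 3, 1, 3, 0, 1, 3, 0, 3, 3, 1, 3, 0, 1, 3, 0, 3, 2, 1, 2, 0, 3, 1, 3, 0, 2, 2, 0, 3, 1, 3, 4, 1, 2, 1, 2, 1, 3, 4, 3, 0, 0, 3, 4, 2, 2, 2, 0, 3, 1, 3, 4, 1, 2, 1, 2, 1, 3, 4, 3, 0, 0, 3, 4, 2], .pre 144 true, .pre 144 true, .pre 139 false, .fr 26 [2, 1, 3, 0, 2, 2, 1, 2, 0, 3, 1, 3, 0, 3, 1, 3, 0, 1, 3, 0, 3, 3, 1, 2, 0, 3, 3, 1, 3, 0, 1,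 3, 0, 3, 2, 1, 2, 0, 3, 1, 3, 0] false, .pre 144 true, .pre 144 true, .pre 140 false, .fr 26 [1, 2, 0, 2, 1, 3, 0, 3, 2, 1, 2, 0, 1, 2, 0, 2, 2, 1, 2, 0, 1, 2, 0, 2, 2, 1, 2, 0, 1, 2, 0, 2, 1, 4, 1, 1, 2, 4, 3, 4, 2, 1, 2, 1, 2, 0, 1, 2, 0, 2, 2, 1, 2, 0, 1, 2, 0, 2, 1, 4, 1, 1, 2, 4, 3, 4, 2, 1, 3, 1, 3, 0, 1, 3, 0, 3, 2, 1, 2, 0, 3, 1, 3, 0] false, .pre 144 true, .pre 144 true]),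
  ([0], [], [.strip 1]),
  ([2], [], [.strip 1]),
  ([4], [], [.strip 1]),
  ([5], [5], [])]

/-- the coset equalities before part 12 -/
def prev12 : List (List Nat × List Nat) := prev11 ++ cert11.map (fun f => (f.1, f.2.1))

theorem chk_cert12 : checkAll px bp prev12 cert12 = true := by decide +kernel

end Cfsg.Agent.Lib.Helper2.HNS
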