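import Cfsg.Agent.Lib.Helper2.HNDce3b
import Cfsg.Agent.Lib.Helper2.HNS.Ch0
set_option autoImplicit false
set_option maxRecDepth 1000000
set_option Elab.async false
open Cfsg.Agent.Lib.Helper2.HNDce
namespace Cfsg.Agent.Lib.Helper2.HNS

/-! # The entries of the row 0 and the covering of the 1408 points -/

/-- the entries of the row 0: the word `h`, the row `j`, the word `g₀`, the number of the coset equality -/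
def ent0 : List (List Nat × Nat × List Nat × Nat) := [
  ([], 1, [], 149)]

/-- the covering of the points by the row 0: for the point `q`, the entry and the word in the generators of the subgroup -/
def cov0 : List (Nat × List Nat) := [
  (0, []),
  (0, [0]),
  (0, [1]),
  (0, [4]),
  (0, [0, 0]),
  (0, [0, 4]),
  (0, [1, 4]),
  (0, [4, 2]),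
  (0, [4, 3]),
  (0, [0, 0, 4]),
  (0, [0, 4, 2]),
  (0, [0, 4, 3]),
  (0, [1, 4, 2]),
  (0, [1, 4, 3]),
  (0, [4, 2, 0]),
  (0, [4, 2, 1]),
  (0, [4, 2, 2]),
  (0, [4, 2, 4]),
  (0, [4, 3, 0]),
  (0, [4, 3, 1]),
  (0, [4, 3, 3]),
  (0, [4, 3, 4]),
  (0, [0, 0, 4, 2]),
  (0, [0, 0, 4, 3]),
  (0, [0, 4, 2, 0]),
  (0, [0, 4, 2, 1]),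
  (0, [0, 4, 2, 2]),
  (0, [0, 4, 2, 4]),
  (0, [0, 4, 3, 0]),
  (0, [0, 4, 3, 1]),
  (0, [0, 4, 3, 3]),
  (0, [0, 4, 3, 4]),
  (0, [1, 4, 2, 2]),
  (0, [1, 4, 2, 4]),
  (0, [1, 4, 3, 3]),
  (0, [1, 4, 3, 4]),
  (0, [4, 2, 0, 2]),
  (0, [4, 2, 0, 4]),
  (0, [4, 2, 1, 2]),
  (0, [4, 2, 1, 4]),
  (0, [4, 2, 2, 0]),
  (0, [4, 2, 2, 1]),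
  (0, [4, 2, 2, 2]),
  (0, [4, 2, 2, 4]),
  (0, [4, 2, 4, 2]),
  (0, [4, 2, 4, 3]),
  (0, [4, 3, 0, 4]),
  (0, [4, 3, 1, 4]),
  (0, [4, 3, 3, 0]),
  (0, [4, 3, 3, 1]),
  (0, [4, 3, 3, 4]),
  (0, [4, 3, 4, 2]),
  (0, [4, 3, 4, 3]),
  (0, [0, 0, 4, 2, 2]),
  (0, [0, 0, 4, 2, 4]),
  (0, [0, 0, 4, 3, 3]),
  (0, [0, 0, 4, 3, 4]),
  (0, [0, 4, 2, 0, 2]),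
  (0, [0, 4, 2, 0, 4]),
  (0, [0, 4, 2, 1, 2]),
  (0, [0, 4, 2, 1, 4]),
  (0, [0, 4, 2, 2, 0]),
  (0, [0, 4, 2, 2, 1]),
  (0, [0, 4, 2, 2, 2]),
  (0, [0, 4, 2, 2, 4]),
  (0, [0, 4, 2, 4, 2]),
  (0, [0, 4, 2, 4, 3]),
  (0, [0, 4, 3, 0, 4]),
  (0, [0, 4, 3, 1, 4]),
  (0, [0, 4, 3, 3, 0]),
  (0, [0, 4, 3, 3, 1]),
  (0, [0, 4, 3, 3, 4]),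
  (0, [0, 4, 3, 4, 2]),
  (0, [0, 4, 3, 4, 3]),
  (0, [1, 4, 2, 2, 2]),
  (0, [1, 4, 2, 2, 4]),
  (0, [1, 4, 2, 4, 2]),
  (0, [1, 4, 2, 4, 3]),
  (0, [1, 4, 3, 3, 4]),
  (0, [1, 4, 3, 4, 2]),
  (0, [1, 4, 3, 4, 3]),
  (0, [4, 2, 0, 2, 4]),
  (0, [4, 2, 0, 4, 2]),
  (0, [4, 2, 1, 2, 4]),
  (0, [4, 2, 1, 4, 2]),
  (0, [4, 2, 2, 0, 2]),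
  (0, [4, 2, 2, 0, 3]),
  (0, [4, 2, 2, 0, 4]),
  (0, [4, 2, 2, 1, 2]),
  (0, [4, 2, 2, 1, 3]),
  (0, [4, 2, 2, 1, 4]),
  (0, [4, 2, 2, 2, 0]),
  (0, [4, 2, 2, 2, 1]),
  (0, [4, 2, 2, 2, 4]),
  (0, [4, 2, 2, 4, 2]),
  (0, [4, 2, 2, 4, 3]),
  (0, [4, 2, 4, 2, 0]),
  (0, [4, 2, 4, 2, 1]),
  (0, [4, 2, 4, 2, 2]),
  (0, [4, 2, 4, 2, 4]),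
  (0, [4, 2, 4, 3, 3]),
  (0, [4, 2, 4, 3, 4]),
  (0, [4, 3, 0, 4, 3]),
  (0, [4, 3, 1, 4, 3]),
  (0, [4, 3, 3, 0, 3]),
  (0, [4, 3, 3, 0, 4]),
  (0, [4, 3, 3, 1, 3]),
  (0, [4, 3, 3, 1, 4]),
  (0, [4, 3, 3, 4, 2]),
  (0, [4, 3, 4, 2, 2]),
  (0, [4, 3, 4, 2, 4]),
  (0, [4, 3, 4, 3, 0]),
  (0, [4, 3, 4, 3, 1]),
  (0, [4, 3, 4, 3, 3]),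
  (0, [4, 3, 4, 3, 4]),
  (0, [0, 0, 4, 2, 2, 2]),
  (0, [0, 0, 4, 2, 2, 4]),
  (0, [0, 0, 4, 2, 4, 2]),
  (0, [0, 0, 4, 2, 4, 3]),
  (0, [0, 0, 4, 3, 3, 4]),
  (0, [0, 0, 4, 3, 4, 2]),
  (0, [0, 0, 4, 3, 4, 3]),
  (0, [0, 4, 2, 0, 2, 4]),
  (0, [0, 4, 2, 0, 4, 2]),
  (0, [0, 4, 2, 1, 2, 4]),
  (0, [0, 4, 2, 1, 4, 2]),
  (0, [0, 4, 2, 2, 0, 2]),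
  (0, [0, 4, 2, 2, 0, 3]),
  (0, [0, 4, 2, 2, 0, 4]),
  (0, [0, 4, 2, 2, 1, 2]),
  (0, [0, 4, 2, 2, 1, 3]),
  (0, [0, 4, 2, 2, 1, 4]),
  (0, [0, 4, 2, 2, 2, 0]),
  (0, [0, 4, 2, 2, 2, 1]),
  (0, [0, 4, 2, 2, 2, 4]),
  (0, [0, 4, 2, 2, 4, 2]),
  (0, [0, 4, 2, 2, 4, 3]),
  (0, [0, 4, 2, 4, 2, 0]),
  (0, [0, 4, 2, 4, 2, 1]),
  (0, [0, 4, 2, 4, 2, 2]),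
  (0, [0, 4, 2, 4, 2, 4]),
  (0, [0, 4, 2, 4, 3, 3]),
  (0, [0, 4, 2, 4, 3, 4]),
  (0, [0, 4, 3, 0, 4, 3]),
  (0, [0, 4, 3, 1, 4, 3]),
  (0, [0, 4, 3, 3, 0, 3]),
  (0, [0, 4, 3, 3, 0, 4]),
  (0, [0, 4, 3, 3, 1, 3]),
  (0, [0, 4, 3, 3, 1, 4]),
  (0, [0, 4, 3, 3, 4, 2]),
  (0, [0, 4, 3, 4, 2, 2]),
  (0, [0, 4, 3, 4, 2, 4]),
  (0, [0, 4, 3, 4, 3, 0]),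
  (0, [0, 4, 3, 4, 3, 1]),
  (0, [0, 4, 3, 4, 3, 3]),
  (0, [0, 4, 3, 4, 3, 4]),
  (0, [1, 4, 2, 2, 2, 4]),
  (0, [1, 4, 2, 2, 4, 2]),
  (0, [1, 4, 2, 2, 4, 3]),
  (0, [1, 4, 2, 4, 2, 2]),
  (0, [1, 4, 2, 4, 2, 4]),
  (0, [1, 4, 2, 4, 3, 3]),
  (0, [1, 4, 2, 4, 3, 4]),
  (0, [1, 4, 3, 3, 4, 2]),
  (0, [1, 4, 3, 4, 2, 2]),
  (0, [1, 4, 3, 4, 2, 4]),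
  (0, [1, 4, 3, 4, 3, 3]),
  (0, [1, 4, 3, 4, 3, 4]),
  (0, [4, 2, 0, 2, 4, 2]),
  (0, [4, 2, 0, 2, 4, 3]),
  (0, [4, 2, 0, 4, 2, 0]),
  (0, [4, 2, 0, 4, 2, 1]),
  (0, [4, 2, 0, 4, 2, 2]),
  (0, [4, 2, 0, 4, 2, 4]),
  (0, [4, 2, 1, 2, 4, 2]),
  (0, [4, 2, 1, 2, 4, 3]),
  (0, [4, 2, 1, 4, 2, 2]),
  (0, [4, 2, 1, 4, 2, 4]),
  (0, [4, 2, 2, 0, 2, 0]),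
  (0, [4, 2, 2, 0, 2, 1]),
  (0, [4, 2, 2, 0, 2, 2]),
  (0, [4, 2, 2, 0, 2, 4]),
  (0, [4, 2, 2, 0, 3, 4]),
  (0, [4, 2, 2, 0, 4, 2]),
  (0, [4, 2, 2, 0, 4, 3]),
  (0, [4, 2, 2, 1, 2, 2]),
  (0, [4, 2, 2, 1, 2, 4]),
  (0, [4, 2, 2, 1, 3, 4]),
  (0, [4, 2, 2, 1, 4, 2]),
  (0, [4, 2, 2, 1, 4, 3]),
  (0, [4, 2, 2, 2, 0, 2]),
  (0, [4, 2, 2, 2, 0, 3]),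
  (0, [4, 2, 2, 2, 0, 4]),
  (0, [4, 2, 2, 2, 1, 2]),
  (0, [4, 2, 2, 2, 1, 3]),
  (0, [4, 2, 2, 2, 1, 4]),
  (0, [4, 2, 2, 2, 4, 2]),
  (0, [4, 2, 2, 2, 4, 3]),
  (0, [4, 2, 2, 4, 2, 0]),
  (0, [4, 2, 2, 4, 2, 1]),
  (0, [4, 2, 2, 4, 2, 4]),
  (0, [4, 2, 2, 4, 3, 0]),
  (0, [4, 2, 2, 4, 3, 1]),
  (0, [4, 2, 2, 4, 3, 3]),
  (0, [4, 2, 2, 4, 3, 4]),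
  (0, [4, 2, 4, 2, 0, 2]),
  (0, [4, 2, 4, 2, 0, 3]),
  (0, [4, 2, 4, 2, 0, 4]),
  (0, [4, 2, 4, 2, 1, 2]),
  (0, [4, 2, 4, 2, 1, 3]),
  (0, [4, 2, 4, 2, 1, 4]),
  (0, [4, 2, 4, 2, 2, 0]),
  (0, [4, 2, 4, 2, 2, 1]),
  (0, [4, 2, 4, 2, 2, 2]),
  (0, [4, 2, 4, 2, 2, 4]),
  (0, [4, 2, 4, 2, 4, 2]),
  (0, [4, 2, 4, 2, 4, 3]),
  (0, [4, 2, 4, 3, 3, 0]),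
  (0, [4, 2, 4, 3, 3, 1]),
  (0, [4, 2, 4, 3, 3, 4]),
  (0, [4, 2, 4, 3, 4, 3]),
  (0, [4, 3, 0, 4, 3, 0]),
  (0, [4, 3, 0, 4, 3, 1]),
  (0, [4, 3, 0, 4, 3, 3]),
  (0, [4, 3, 1, 4, 3, 3]),
  (0, [4, 3, 1, 4, 3, 4]),
  (0, [4, 3, 3, 0, 3, 0]),
  (0, [4, 3, 3, 0, 3, 1]),
  (0, [4, 3, 3, 0, 3, 4]),
  (0, [4, 3, 3, 0, 4, 3]),
  (0, [4, 3, 3, 1, 3, 4]),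
  (0, [4, 3, 3, 1, 4, 3]),
  (0, [4, 3, 3, 4, 2, 0]),
  (0, [4, 3, 3, 4, 2, 1]),
  (0, [4, 3, 3, 4, 2, 4]),
  (0, [4, 3, 4, 2, 2, 0]),
  (0, [4, 3, 4, 2, 2, 1]),
  (0, [4, 3, 4, 2, 2, 2]),
  (0, [4, 3, 4, 2, 2, 4]),
  (0, [4, 3, 4, 3, 0, 3]),
  (0, [4, 3, 4, 3, 0, 4]),
  (0, [4, 3, 4, 3, 1, 3]),
  (0, [4, 3, 4, 3, 1, 4]),
  (0, [4, 3, 4, 3, 3, 0]),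
  (0, [4, 3, 4, 3, 3, 1]),
  (0, [4, 3, 4, 3, 3, 4]),
  (0, [4, 3, 4, 3, 4, 2]),
  (0, [4, 3, 4, 3, 4, 3]),
  (0, [0, 0, 4, 2, 2, 2, 4]),
  (0, [0, 0, 4, 2, 2, 4, 2]),
  (0, [0, 0, 4, 2, 2, 4, 3]),
  (0, [0, 0, 4, 2, 4, 2, 2]),
  (0, [0, 0, 4, 2, 4, 2, 4]),
  (0, [0, 0, 4, 2, 4, 3, 3]),
  (0, [0, 0, 4, 2, 4, 3, 4]),
  (0, [0, 0, 4, 3, 3, 4, 2]),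
  (0, [0, 0, 4, 3, 4, 2, 2]),
  (0, [0, 0, 4, 3, 4, 2, 4]),
  (0, [0, 0, 4, 3, 4, 3, 3]),
  (0, [0, 0, 4, 3, 4, 3, 4]),
  (0, [0, 4, 2, 0, 2, 4, 2]),
  (0, [0, 4, 2, 0, 2, 4, 3]),
  (0, [0, 4, 2, 0, 4, 2, 0]),
  (0, [0, 4, 2, 0, 4, 2, 1]),
  (0, [0, 4, 2, 0, 4, 2, 2]),
  (0, [0, 4, 2, 0, 4, 2, 4]),
  (0, [0, 4, 2, 1, 2, 4, 2]),
  (0, [0, 4, 2, 1, 2, 4, 3]),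
  (0, [0, 4, 2, 1, 4, 2, 2]),
  (0, [0, 4, 2, 1, 4, 2, 4]),
  (0, [0, 4, 2, 2, 0, 2, 0]),
  (0, [0, 4, 2, 2, 0, 2, 1]),
  (0, [0, 4, 2, 2, 0, 2, 2]),
  (0, [0, 4, 2, 2, 0, 2, 4]),
  (0, [0, 4, 2, 2, 0, 3, 4]),
  (0, [0, 4, 2, 2, 0, 4, 2]),
  (0, [0, 4, 2, 2, 0, 4, 3]),
  (0, [0, 4, 2, 2, 1, 2, 2]),
  (0, [0, 4, 2, 2, 1, 2, 4]),
  (0, [0, 4, 2, 2, 1, 3, 4]),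
  (0, [0, 4, 2, 2, 1, 4, 2]),
  (0, [0, 4, 2, 2, 1, 4, 3]),
  (0, [0, 4, 2, 2, 2, 0, 2]),
  (0, [0, 4, 2, 2, 2, 0, 3]),
  (0, [0, 4, 2, 2, 2, 0, 4]),
  (0, [0, 4, 2, 2, 2, 1, 2]),
  (0, [0, 4, 2, 2, 2, 1, 3]),
  (0, [0, 4, 2, 2, 2, 1, 4]),
  (0, [0, 4, 2, 2, 2, 4, 2]),
  (0, [0, 4, 2, 2, 2, 4, 3]),
  (0, [0, 4, 2, 2, 4, 2, 0]),
  (0, [0, 4, 2, 2, 4, 2, 1]),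
  (0, [0, 4, 2, 2, 4, 2, 4]),
  (0, [0, 4, 2, 2, 4, 3, 0]),
  (0, [0, 4, 2, 2, 4, 3, 1]),
  (0, [0, 4, 2, 2, 4, 3, 3]),
  (0, [0, 4, 2, 2, 4, 3, 4]),
  (0, [0, 4, 2, 4, 2, 0, 2]),
  (0, [0, 4, 2, 4, 2, 0, 3]),
  (0, [0, 4, 2, 4, 2, 0, 4]),
  (0, [0, 4, 2, 4, 2, 1, 2]),
  (0, [0, 4, 2, 4, 2, 1, 3]),
  (0, [0, 4, 2, 4, 2, 1, 4]),
  (0, [0, 4, 2, 4, 2, 2, 0]),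
  (0, [0, 4, 2, 4, 2, 2, 1]),
  (0, [0, 4, 2, 4, 2, 2, 2]),
  (0, [0, 4, 2, 4, 2, 2, 4]),
  (0, [0, 4, 2, 4, 2, 4, 2]),
  (0, [0, 4, 2, 4, 2, 4, 3]),
  (0, [0, 4, 2, 4, 3, 3, 0]),
  (0, [0, 4, 2, 4, 3, 3, 1]),
  (0, [0, 4, 2, 4, 3, 3, 4]),
  (0, [0, 4, 2, 4, 3, 4, 3]),
  (0, [0, 4, 3, 0, 4, 3, 0]),
  (0, [0, 4, 3, 0, 4, 3, 1]),
  (0, [0, 4, 3, 0, 4, 3, 3]),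
  (0, [0, 4, 3, 1, 4, 3, 3]),
  (0, [0, 4, 3, 1, 4, 3, 4]),
  (0, [0, 4, 3, 3, 0, 3, 0]),
  (0, [0, 4, 3, 3, 0, 3, 1]),
  (0, [0, 4, 3, 3, 0, 3, 4]),
  (0, [0, 4, 3, 3, 0, 4, 3]),
  (0, [0, 4, 3, 3, 1, 3, 4]),
  (0, [0, 4, 3, 3, 1, 4, 3]),
  (0, [0, 4, 3, 3, 4, 2, 0]),
  (0, [0, 4, 3, 3, 4, 2, 1]),
  (0, [0, 4, 3, 3, 4, 2, 4]),
  (0, [0, 4, 3, 4, 2, 2, 0]),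
  (0, [0, 4, 3, 4, 2, 2, 1]),
  (0, [0, 4, 3, 4, 2, 2, 2]),
  (0, [0, 4, 3, 4, 2, 2, 4]),
  (0, [0, 4, 3, 4, 3, 0, 3]),
  (0, [0, 4, 3, 4, 3, 0, 4]),
  (0, [0, 4, 3, 4, 3, 1, 3]),
  (0, [0, 4, 3, 4, 3, 1, 4]),
  (0, [0, 4, 3, 4, 3, 3, 0]),
  (0, [0, 4, 3, 4, 3, 3, 1]),
  (0, [0, 4, 3, 4, 3, 3, 4]),
  (0, [0, 4, 3, 4, 3, 4, 2]),
  (0, [0, 4, 3, 4, 3, 4, 3]),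
  (0, [1, 4, 2, 2, 2, 4, 2]),
  (0, [1, 4, 2, 2, 2, 4, 3]),
  (0, [1, 4, 2, 2, 4, 2, 4]),
  (0, [1, 4, 2, 2, 4, 3, 3]),
  (0, [1, 4, 2, 2, 4, 3, 4]),
  (0, [1, 4, 2, 4, 2, 2, 2]),
  (0, [1, 4, 2, 4, 2, 2, 4]),
  (0, [1, 4, 2, 4, 2, 4, 2]),
  (0, [1, 4, 2, 4, 2, 4, 3]),
  (0, [1, 4, 2, 4, 3, 3, 4]),
  (0, [1, 4, 3, 3, 4, 2, 4]),
  (0, [1, 4, 3, 4, 2, 2, 2]),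
  (0, [1, 4, 3, 4, 2, 2, 4]),
  (0, [1, 4, 3, 4, 3, 3, 4]),
  (0, [1, 4, 3, 4, 3, 4, 2]),
  (0, [1, 4, 3, 4, 3, 4, 3]),
  (0, [4, 2, 0, 2, 4, 2, 2]),
  (0, [4, 2, 0, 2, 4, 2, 4]),
  (0, [4, 2, 0, 2, 4, 3, 3]),
  (0, [4, 2, 0, 2, 4, 3, 4]),
  (0, [4, 2, 0, 4, 2, 0, 4]),
  (0, [4, 2, 0, 4, 2, 1, 4]),
  (0, [4, 2, 0, 4, 2, 2, 0]),
  (0, [4, 2, 0, 4, 2, 2, 1]),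
  (0, [4, 2, 0, 4, 2, 2, 4]),
  (0, [4, 2, 0, 4, 2, 4, 2]),
  (0, [4, 2, 1, 2, 4, 2, 4]),
  (0, [4, 2, 1, 2, 4, 3, 4]),
  (0, [4, 2, 1, 4, 2, 2, 4]),
  (0, [4, 2, 1, 4, 2, 4, 2]),
  (0, [4, 2, 2, 0, 2, 0, 2]),
  (0, [4, 2, 2, 0, 2, 0, 3]),
  (0, [4, 2, 2, 0, 2, 0, 4]),
  (0, [4, 2, 2, 0, 2, 1, 2]),
  (0, [4, 2, 2, 0, 2, 1, 3]),
  (0, [4, 2, 2, 0, 2, 1, 4]),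
  (0, [4, 2, 2, 0, 2, 2, 0]),
  (0, [4, 2, 2, 0, 2, 2, 1]),
  (0, [4, 2, 2, 0, 2, 2, 4]),
  (0, [4, 2, 2, 0, 2, 4, 2]),
  (0, [4, 2, 2, 0, 2, 4, 3]),
  (0, [4, 2, 2, 0, 3, 4, 2]),
  (0, [4, 2, 2, 0, 3, 4, 3]),
  (0, [4, 2, 2, 0, 4, 2, 0]),
  (0, [4, 2, 2, 0, 4, 2, 1]),
  (0, [4, 2, 2, 0, 4, 2, 4]),
  (0, [4, 2, 2, 0, 4, 3, 4]),
  (0, [4, 2, 2, 1, 2, 2, 4]),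
  (0, [4, 2, 2, 1, 2, 4, 2]),
  (0, [4, 2, 2, 1, 2, 4, 3]),
  (0, [4, 2, 2, 1, 3, 4, 2]),
  (0, [4, 2, 2, 1, 3, 4, 3]),
  (0, [4, 2, 2, 1, 4, 2, 4]),
  (0, [4, 2, 2, 1, 4, 3, 4]),
  (0, [4, 2, 2, 2, 0, 2, 0]),
  (0, [4, 2, 2, 2, 0, 2, 1]),
  (0, [4, 2, 2, 2, 0, 2, 4]),
  (0, [4, 2, 2, 2, 0, 3, 0]),
  (0, [4, 2, 2, 2, 0, 3, 1]),
  (0, [4, 2, 2, 2, 0, 3, 4]),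
  (0, [4, 2, 2, 2, 0, 4, 2]),
  (0, [4, 2, 2, 2, 0, 4, 3]),
  (0, [4, 2, 2, 2, 1, 2, 4]),
  (0, [4, 2, 2, 2, 1, 3, 4]),
  (0, [4, 2, 2, 2, 1, 4, 2]),
  (0, [4, 2, 2, 2, 1, 4, 3]),
  (0, [4, 2, 2, 2, 4, 2, 0]),
  (0, [4, 2, 2, 2, 4, 2, 1]),
  (0, [4, 2, 2, 2, 4, 2, 4]),
  (0, [4, 2, 2, 2, 4, 3, 0]),
  (0, [4, 2, 2, 2, 4, 3, 1]),
  (0, [4, 2, 2, 2, 4, 3, 4]),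
  (0, [4, 2, 2, 4, 2, 0, 2]),
  (0, [4, 2, 2, 4, 2, 0, 3]),
  (0, [4, 2, 2, 4, 2, 0, 4]),
  (0, [4, 2, 2, 4, 2, 1, 2]),
  (0, [4, 2, 2, 4, 2, 1, 3]),
  (0, [4, 2, 2, 4, 2, 1, 4]),
  (0, [4, 2, 2, 4, 2, 4, 2]),
  (0, [4, 2, 2, 4, 2, 4, 3]),
  (0, [4, 2, 2, 4, 3, 1, 4]),
  (0, [4, 2, 2, 4, 3, 3, 4]),
  (0, [4, 2, 2, 4, 3, 4, 2]),
  (0, [4, 2, 2, 4, 3, 4, 3]),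
  (0, [4, 2, 4, 2, 0, 2, 0]),
  (0, [4, 2, 4, 2, 0, 2, 1]),
  (0, [4, 2, 4, 2, 0, 2, 2]),
  (0, [4, 2, 4, 2, 0, 2, 4]),
  (0, [4, 2, 4, 2, 0, 3, 4]),
  (0, [4, 2, 4, 2, 0, 4, 2]),
  (0, [4, 2, 4, 2, 1, 2, 2]),
  (0, [4, 2, 4, 2, 1, 2, 4]),
  (0, [4, 2, 4, 2, 1, 3, 4]),
  (0, [4, 2, 4, 2, 1, 4, 2]),
  (0, [4, 2, 4, 2, 2, 0, 3]),
  (0, [4, 2, 4, 2, 2, 0, 4]),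
  (0, [4, 2, 4, 2, 2, 1, 3]),
  (0, [4, 2, 4, 2, 2, 1, 4]),
  (0, [4, 2, 4, 2, 2, 2, 0]),
  (0, [4, 2, 4, 2, 2, 2, 1]),
  (0, [4, 2, 4, 2, 2, 2, 4]),
  (0, [4, 2, 4, 2, 2, 4, 2]),
  (0, [4, 2, 4, 2, 2, 4, 3]),
  (0, [4, 2, 4, 2, 4, 2, 0]),
  (0, [4, 2, 4, 2, 4, 2, 1]),
  (0, [4, 2, 4, 2, 4, 2, 2]),
  (0, [4, 2, 4, 2, 4, 2, 4]),
  (0, [4, 2, 4, 2, 4, 3, 1]),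
  (0, [4, 2, 4, 2, 4, 3, 3]),
  (0, [4, 2, 4, 3, 3, 0, 4]),
  (0, [4, 2, 4, 3, 3, 1, 4]),
  (0, [4, 2, 4, 3, 3, 4, 3]),
  (0, [4, 2, 4, 3, 4, 3, 0]),
  (0, [4, 2, 4, 3, 4, 3, 1]),
  (0, [4, 2, 4, 3, 4, 3, 3]),
  (0, [4, 3, 0, 4, 3, 3, 0]),
  (0, [4, 3, 0, 4, 3, 3, 1]),
  (0, [4, 3, 0, 4, 3, 3, 4]),
  (0, [4, 3, 1, 4, 3, 3, 4]),
  (0, [4, 3, 1, 4, 3, 4, 3]),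
  (0, [4, 3, 3, 0, 3, 0, 2]),
  (0, [4, 3, 3, 0, 3, 0, 3]),
  (0, [4, 3, 3, 0, 3, 0, 4]),
  (0, [4, 3, 3, 0, 3, 1, 2]),
  (0, [4, 3, 3, 0, 3, 1, 3]),
  (0, [4, 3, 3, 0, 3, 1, 4]),
  (0, [4, 3, 3, 0, 3, 4, 3]),
  (0, [4, 3, 3, 0, 4, 3, 0]),
  (0, [4, 3, 3, 0, 4, 3, 1]),
  (0, [4, 3, 3, 0, 4, 3, 4]),
  (0, [4, 3, 3, 1, 3, 4, 3]),
  (0, [4, 3, 3, 1, 4, 3, 4]),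
  (0, [4, 3, 3, 4, 2, 1, 4]),
  (0, [4, 3, 3, 4, 2, 4, 2]),
  (0, [4, 3, 4, 2, 2, 1, 4]),
  (0, [4, 3, 4, 2, 2, 2, 4]),
  (0, [4, 3, 4, 2, 2, 4, 2]),
  (0, [4, 3, 4, 3, 0, 3, 0]),
  (0, [4, 3, 4, 3, 0, 3, 1]),
  (0, [4, 3, 4, 3, 0, 3, 4]),
  (0, [4, 3, 4, 3, 0, 4, 3]),
  (0, [4, 3, 4, 3, 1, 3, 4]),
  (0, [4, 3, 4, 3, 1, 4, 3]),
  (0, [4, 3, 4, 3, 3, 0, 2]),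
  (0, [4, 3, 4, 3, 3, 0, 4]),
  (0, [4, 3, 4, 3, 3, 1, 2]),
  (0, [4, 3, 4, 3, 3, 1, 4]),
  (0, [4, 3, 4, 3, 3, 4, 2]),
  (0, [4, 3, 4, 3, 3, 4, 3]),
  (0, [4, 3, 4, 3, 4, 2, 1]),
  (0, [4, 3, 4, 3, 4, 2, 2]),
  (0, [4, 3, 4, 3, 4, 3, 0]),
  (0, [4, 3, 4, 3, 4, 3, 1]),
  (0, [4, 3, 4, 3, 4, 3, 3]),
  (0, [4, 3, 4, 3, 4, 3, 4]),
  (0, [0, 0, 4, 2, 2, 4, 2, 4]),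
  (0, [0, 0, 4, 2, 2, 4, 3, 3]),
  (0, [0, 0, 4, 2, 4, 2, 2, 2]),
  (0, [0, 0, 4, 2, 4, 2, 2, 4]),
  (0, [0, 0, 4, 2, 4, 2, 4, 2]),
  (0, [0, 0, 4, 2, 4, 3, 3, 4]),
  (0, [0, 0, 4, 3, 4, 2, 2, 2]),
  (0, [0, 0, 4, 3, 4, 2, 2, 4]),
  (0, [0, 0, 4, 3, 4, 3, 3, 4]),
  (0, [0, 0, 4, 3, 4, 3, 4, 3]),
  (0, [0, 4, 2, 0, 2, 4, 2, 4]),
  (0, [0, 4, 2, 0, 2, 4, 3, 4]),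
  (0, [0, 4, 2, 0, 4, 2, 0, 4]),
  (0, [0, 4, 2, 0, 4, 2, 1, 4]),
  (0, [0, 4, 2, 0, 4, 2, 2, 0]),
  (0, [0, 4, 2, 0, 4, 2, 2, 1]),
  (0, [0, 4, 2, 0, 4, 2, 2, 4]),
  (0, [0, 4, 2, 0, 4, 2, 4, 2]),
  (0, [0, 4, 2, 1, 2, 4, 2, 4]),
  (0, [0, 4, 2, 1, 2, 4, 3, 4]),
  (0, [0, 4, 2, 1, 4, 2, 2, 4]),
  (0, [0, 4, 2, 1, 4, 2, 4, 2]),
  (0, [0, 4, 2, 2, 0, 2, 0, 2]),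
  (0, [0, 4, 2, 2, 0, 2, 0, 3]),
  (0, [0, 4, 2, 2, 0, 2, 0, 4]),
  (0, [0, 4, 2, 2, 0, 2, 1, 2]),
  (0, [0, 4, 2, 2, 0, 2, 1, 3]),
  (0, [0, 4, 2, 2, 0, 2, 1, 4]),
  (0, [0, 4, 2, 2, 0, 2, 2, 0]),
  (0, [0, 4, 2, 2, 0, 2, 2, 1]),
  (0, [0, 4, 2, 2, 0, 2, 2, 4]),
  (0, [0, 4, 2, 2, 0, 2, 4, 2]),
  (0, [0, 4, 2, 2, 0, 2, 4, 3]),
  (0, [0, 4, 2, 2, 0, 4, 2, 0]),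
  (0, [0, 4, 2, 2, 0, 4, 2, 1]),
  (0, [0, 4, 2, 2, 0, 4, 2, 4]),
  (0, [0, 4, 2, 2, 0, 4, 3, 4]),
  (0, [0, 4, 2, 2, 1, 2, 2, 4]),
  (0, [0, 4, 2, 2, 1, 2, 4, 2]),
  (0, [0, 4, 2, 2, 1, 2, 4, 3]),
  (0, [0, 4, 2, 2, 1, 4, 2, 4]),
  (0, [0, 4, 2, 2, 1, 4, 3, 4]),
  (0, [0, 4, 2, 2, 2, 0, 2, 0]),
  (0, [0, 4, 2, 2, 2, 0, 2, 1]),
  (0, [0, 4, 2, 2, 2, 0, 2, 4]),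
  (0, [0, 4, 2, 2, 2, 0, 3, 0]),
  (0, [0, 4, 2, 2, 2, 0, 3, 1]),
  (0, [0, 4, 2, 2, 2, 0, 3, 4]),
  (0, [0, 4, 2, 2, 2, 0, 4, 2]),
  (0, [0, 4, 2, 2, 2, 0, 4, 3]),
  (0, [0, 4, 2, 2, 2, 1, 2, 4]),
  (0, [0, 4, 2, 2, 2, 1, 3, 4]),
  (0, [0, 4, 2, 2, 2, 1, 4, 2]),
  (0, [0, 4, 2, 2, 2, 1, 4, 3]),
  (0, [0, 4, 2, 2, 2, 4, 2, 4]),
  (0, [0, 4, 2, 2, 2, 4, 3, 4]),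
  (0, [0, 4, 2, 2, 4, 2, 0, 2]),
  (0, [0, 4, 2, 2, 4, 2, 0, 3]),
  (0, [0, 4, 2, 2, 4, 2, 0, 4]),
  (0, [0, 4, 2, 2, 4, 2, 1, 2]),
  (0, [0, 4, 2, 2, 4, 2, 1, 3]),
  (0, [0, 4, 2, 2, 4, 2, 1, 4]),
  (0, [0, 4, 2, 2, 4, 2, 4, 2]),
  (0, [0, 4, 2, 2, 4, 2, 4, 3]),
  (0, [0, 4, 2, 2, 4, 3, 3, 4]),
  (0, [0, 4, 2, 2, 4, 3, 4, 2]),
  (0, [0, 4, 2, 2, 4, 3, 4, 3]),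
  (0, [0, 4, 2, 4, 2, 0, 2, 0]),
  (0, [0, 4, 2, 4, 2, 0, 2, 1]),
  (0, [0, 4, 2, 4, 2, 0, 2, 2]),
  (0, [0, 4, 2, 4, 2, 0, 2, 4]),
  (0, [0, 4, 2, 4, 2, 0, 3, 4]),
  (0, [0, 4, 2, 4, 2, 0, 4, 2]),
  (0, [0, 4, 2, 4, 2, 1, 2, 2]),
  (0, [0, 4, 2, 4, 2, 1, 2, 4]),
  (0, [0, 4, 2, 4, 2, 1, 3, 4]),
  (0, [0, 4, 2, 4, 2, 1, 4, 2]),
  (0, [0, 4, 2, 4, 2, 2, 0, 3]),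
  (0, [0, 4, 2, 4, 2, 2, 0, 4]),
  (0, [0, 4, 2, 4, 2, 2, 1, 3]),
  (0, [0, 4, 2, 4, 2, 2, 1, 4]),
  (0, [0, 4, 2, 4, 2, 2, 2, 0]),
  (0, [0, 4, 2, 4, 2, 2, 2, 1]),
  (0, [0, 4, 2, 4, 2, 2, 2, 4]),
  (0, [0, 4, 2, 4, 2, 2, 4, 2]),
  (0, [0, 4, 2, 4, 2, 2, 4, 3]),
  (0, [0, 4, 2, 4, 2, 4, 2, 0]),
  (0, [0, 4, 2, 4, 2, 4, 2, 1]),
  (0, [0, 4, 2, 4, 2, 4, 2, 2]),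
  (0, [0, 4, 2, 4, 2, 4, 2, 4]),
  (0, [0, 4, 2, 4, 2, 4, 3, 3]),
  (0, [0, 4, 2, 4, 3, 3, 0, 4]),
  (0, [0, 4, 2, 4, 3, 3, 1, 4]),
  (0, [0, 4, 2, 4, 3, 3, 4, 3]),
  (0, [0, 4, 2, 4, 3, 4, 3, 0]),
  (0, [0, 4, 2, 4, 3, 4, 3, 1]),
  (0, [0, 4, 2, 4, 3, 4, 3, 3]),
  (0, [0, 4, 3, 0, 4, 3, 3, 0]),
  (0, [0, 4, 3, 0, 4, 3, 3, 1]),
  (0, [0, 4, 3, 0, 4, 3, 3, 4]),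
  (0, [0, 4, 3, 1, 4, 3, 3, 4]),
  (0, [0, 4, 3, 1, 4, 3, 4, 3]),
  (0, [0, 4, 3, 3, 0, 3, 0, 2]),
  (0, [0, 4, 3, 3, 0, 3, 0, 3]),
  (0, [0, 4, 3, 3, 0, 3, 0, 4]),
  (0, [0, 4, 3, 3, 0, 3, 1, 2]),
  (0, [0, 4, 3, 3, 0, 3, 1, 3]),
  (0, [0, 4, 3, 3, 0, 3, 1, 4]),
  (0, [0, 4, 3, 3, 0, 3, 4, 3]),
  (0, [0, 4, 3, 3, 0, 4, 3, 0]),
  (0, [0, 4, 3, 3, 0, 4, 3, 1]),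
  (0, [0, 4, 3, 3, 0, 4, 3, 4]),
  (0, [0, 4, 3, 3, 1, 3, 4, 3]),
  (0, [0, 4, 3, 3, 1, 4, 3, 4]),
  (0, [0, 4, 3, 3, 4, 2, 4, 2]),
  (0, [0, 4, 3, 4, 2, 2, 1, 4]),
  (0, [0, 4, 3, 4, 2, 2, 2, 4]),
  (0, [0, 4, 3, 4, 2, 2, 4, 2]),
  (0, [0, 4, 3, 4, 3, 0, 3, 0]),
  (0, [0, 4, 3, 4, 3, 0, 3, 1]),
  (0, [0, 4, 3, 4, 3, 0, 3, 4]),
  (0, [0, 4, 3, 4, 3, 0, 4, 3]),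
  (0, [0, 4, 3, 4, 3, 1, 3, 4]),
  (0, [0, 4, 3, 4, 3, 1, 4, 3]),
  (0, [0, 4, 3, 4, 3, 3, 0, 2]),
  (0, [0, 4, 3, 4, 3, 3, 0, 4]),
  (0, [0, 4, 3, 4, 3, 3, 1, 2]),
  (0, [0, 4, 3, 4, 3, 3, 1, 4]),
  (0, [0, 4, 3, 4, 3, 3, 4, 2]),
  (0, [0, 4, 3, 4, 3, 3, 4, 3]),
  (0, [0, 4, 3, 4, 3, 4, 2, 2]),
  (0, [0, 4, 3, 4, 3, 4, 3, 0]),
  (0, [0, 4, 3, 4, 3, 4, 3, 1]),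
  (0, [0, 4, 3, 4, 3, 4, 3, 3]),
  (0, [0, 4, 3, 4, 3, 4, 3, 4]),
  (0, [1, 4, 2, 2, 4, 2, 4, 2]),
  (0, [1, 4, 2, 2, 4, 2, 4, 3]),
  (0, [1, 4, 2, 2, 4, 3, 3, 4]),
  (0, [1, 4, 2, 2, 4, 3, 4, 3]),
  (0, [1, 4, 2, 4, 2, 2, 2, 4]),
  (0, [1, 4, 2, 4, 2, 2, 4, 2]),
  (0, [1, 4, 2, 4, 2, 2, 4, 3]),
  (0, [1, 4, 2, 4, 2, 4, 2, 2]),
  (0, [1, 4, 2, 4, 2, 4, 2, 4]),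
  (0, [1, 4, 2, 4, 3, 3, 4, 3]),
  (0, [1, 4, 3, 3, 4, 2, 4, 2]),
  (0, [1, 4, 3, 4, 2, 2, 2, 4]),
  (0, [1, 4, 3, 4, 2, 2, 4, 2]),
  (0, [1, 4, 3, 4, 3, 3, 4, 2]),
  (0, [1, 4, 3, 4, 3, 3, 4, 3]),
  (0, [1, 4, 3, 4, 3, 4, 3, 3]),
  (0, [1, 4, 3, 4, 3, 4, 3, 4]),
  (0, [4, 2, 0, 4, 2, 2, 0, 2]),
  (0, [4, 2, 0, 4, 2, 2, 0, 3]),
  (0, [4, 2, 0, 4, 2, 2, 0, 4]),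
  (0, [4, 2, 0, 4, 2, 2, 1, 2]),
  (0, [4, 2, 0, 4, 2, 2, 1, 3]),
  (0, [4, 2, 0, 4, 2, 2, 1, 4]),
  (0, [4, 2, 0, 4, 2, 2, 4, 2]),
  (0, [4, 2, 0, 4, 2, 2, 4, 3]),
  (0, [4, 2, 0, 4, 2, 4, 2, 0]),
  (0, [4, 2, 0, 4, 2, 4, 2, 1]),
  (0, [4, 2, 0, 4, 2, 4, 2, 4]),
  (0, [4, 2, 1, 4, 2, 2, 4, 2]),
  (0, [4, 2, 1, 4, 2, 2, 4, 3]),
  (0, [4, 2, 1, 4, 2, 4, 2, 4]),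
  (0, [4, 2, 2, 0, 2, 0, 2, 0]),
  (0, [4, 2, 2, 0, 2, 0, 2, 1]),
  (0, [4, 2, 2, 0, 2, 0, 2, 4]),
  (0, [4, 2, 2, 0, 2, 0, 3, 0]),
  (0, [4, 2, 2, 0, 2, 0, 3, 1]),
  (0, [4, 2, 2, 0, 2, 0, 3, 4]),
  (0, [4, 2, 2, 0, 2, 0, 4, 2]),
  (0, [4, 2, 2, 0, 2, 0, 4, 3]),
  (0, [4, 2, 2, 0, 2, 1, 2, 4]),
  (0, [4, 2, 2, 0, 2, 1, 3, 4]),
  (0, [4, 2, 2, 0, 2, 1, 4, 2]),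
  (0, [4, 2, 2, 0, 2, 1, 4, 3]),
  (0, [4, 2, 2, 0, 2, 2, 0, 4]),
  (0, [4, 2, 2, 0, 2, 2, 1, 4]),
  (0, [4, 2, 2, 0, 2, 4, 2, 0]),
  (0, [4, 2, 2, 0, 2, 4, 2, 1]),
  (0, [4, 2, 2, 0, 2, 4, 2, 2]),
  (0, [4, 2, 2, 0, 2, 4, 3, 3]),
  (0, [4, 2, 2, 0, 2, 4, 3, 4]),
  (0, [4, 2, 2, 0, 3, 4, 2, 2]),
  (0, [4, 2, 2, 0, 3, 4, 3, 3]),
  (0, [4, 2, 2, 0, 4, 2, 0, 2]),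
  (0, [4, 2, 2, 0, 4, 2, 0, 3]),
  (0, [4, 2, 2, 0, 4, 2, 0, 4]),
  (0, [4, 2, 2, 0, 4, 2, 1, 2]),
  (0, [4, 2, 2, 0, 4, 2, 1, 3]),
  (0, [4, 2, 2, 0, 4, 2, 1, 4]),
  (0, [4, 2, 2, 0, 4, 2, 4, 2]),
  (0, [4, 2, 2, 0, 4, 2, 4, 3]),
  (0, [4, 2, 2, 1, 2, 4, 2, 2]),
  (0, [4, 2, 2, 1, 2, 4, 3, 3]),
  (0, [4, 2, 2, 1, 2, 4, 3, 4]),
  (0, [4, 2, 2, 1, 3, 4, 2, 2]),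
  (0, [4, 2, 2, 1, 3, 4, 2, 4]),
  (0, [4, 2, 2, 1, 3, 4, 3, 3]),
  (0, [4, 2, 2, 1, 3, 4, 3, 4]),
  (0, [4, 2, 2, 1, 4, 2, 4, 2]),
  (0, [4, 2, 2, 1, 4, 2, 4, 3]),
  (0, [4, 2, 2, 1, 4, 3, 4, 2]),
  (0, [4, 2, 2, 2, 0, 2, 0, 2]),
  (0, [4, 2, 2, 2, 0, 2, 0, 3]),
  (0, [4, 2, 2, 2, 0, 2, 0, 4]),
  (0, [4, 2, 2, 2, 0, 2, 1, 2]),
  (0, [4, 2, 2, 2, 0, 2, 1, 3]),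
  (0, [4, 2, 2, 2, 0, 2, 1, 4]),
  (0, [4, 2, 2, 2, 0, 2, 4, 2]),
  (0, [4, 2, 2, 2, 0, 3, 0, 2]),
  (0, [4, 2, 2, 2, 0, 3, 0, 3]),
  (0, [4, 2, 2, 2, 0, 3, 0, 4]),
  (0, [4, 2, 2, 2, 0, 3, 1, 2]),
  (0, [4, 2, 2, 2, 0, 3, 1, 3]),
  (0, [4, 2, 2, 2, 0, 3, 1, 4]),
  (0, [4, 2, 2, 2, 0, 3, 4, 3]),
  (0, [4, 2, 2, 2, 0, 4, 2, 0]),
  (0, [4, 2, 2, 2, 0, 4, 2, 1]),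
  (0, [4, 2, 2, 2, 0, 4, 2, 4]),
  (0, [4, 2, 2, 2, 0, 4, 3, 0]),
  (0, [4, 2, 2, 2, 0, 4, 3, 1]),
  (0, [4, 2, 2, 2, 0, 4, 3, 4]),
  (0, [4, 2, 2, 2, 1, 2, 4, 2]),
  (0, [4, 2, 2, 2, 1, 3, 4, 3]),
  (0, [4, 2, 2, 2, 1, 4, 2, 4]),
  (0, [4, 2, 2, 2, 1, 4, 3, 4]),
  (0, [4, 2, 2, 2, 4, 2, 0, 3]),
  (0, [4, 2, 2, 2, 4, 2, 1, 3]),
  (0, [4, 2, 2, 2, 4, 2, 4, 3]),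
  (0, [4, 2, 2, 2, 4, 3, 0, 2]),
  (0, [4, 2, 2, 2, 4, 3, 1, 2]),
  (0, [4, 2, 2, 2, 4, 3, 4, 2]),
  (0, [4, 2, 2, 4, 2, 0, 2, 0]),
  (0, [4, 2, 2, 4, 2, 0, 2, 1]),
  (0, [4, 2, 2, 4, 2, 0, 2, 4]),
  (0, [4, 2, 2, 4, 2, 0, 3, 0]),
  (0, [4, 2, 2, 4, 2, 0, 3, 1]),
  (0, [4, 2, 2, 4, 2, 0, 3, 4]),
  (0, [4, 2, 2, 4, 2, 0, 4, 2]),
  (0, [4, 2, 2, 4, 2, 0, 4, 3]),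
  (0, [4, 2, 2, 4, 2, 1, 2, 4]),
  (0, [4, 2, 2, 4, 2, 1, 3, 4]),
  (0, [4, 2, 2, 4, 2, 1, 4, 2]),
  (0, [4, 2, 2, 4, 2, 1, 4, 3]),
  (0, [4, 2, 2, 4, 2, 4, 2, 4]),
  (0, [4, 2, 2, 4, 2, 4, 3, 4]),
  (0, [4, 2, 2, 4, 3, 4, 2, 2]),
  (0, [4, 2, 2, 4, 3, 4, 3, 3]),
  (0, [4, 2, 4, 2, 0, 2, 0, 3]),
  (0, [4, 2, 4, 2, 0, 2, 0, 4]),
  (0, [4, 2, 4, 2, 0, 2, 1, 3]),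
  (0, [4, 2, 4, 2, 0, 2, 1, 4]),
  (0, [4, 2, 4, 2, 0, 2, 2, 0]),
  (0, [4, 2, 4, 2, 0, 2, 2, 1]),
  (0, [4, 2, 4, 2, 0, 2, 2, 4]),
  (0, [4, 2, 4, 2, 0, 2, 4, 3]),
  (0, [4, 2, 4, 2, 0, 4, 2, 0]),
  (0, [4, 2, 4, 2, 0, 4, 2, 1]),
  (0, [4, 2, 4, 2, 0, 4, 2, 2]),
  (0, [4, 2, 4, 2, 1, 2, 2, 4]),
  (0, [4, 2, 4, 2, 1, 2, 4, 3]),
  (0, [4, 2, 4, 2, 1, 4, 2, 2]),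
  (0, [4, 2, 4, 2, 2, 0, 3, 0]),
  (0, [4, 2, 4, 2, 2, 0, 3, 1]),
  (0, [4, 2, 4, 2, 2, 0, 3, 3]),
  (0, [4, 2, 4, 2, 2, 0, 4, 3]),
  (0, [4, 2, 4, 2, 2, 1, 3, 3]),
  (0, [4, 2, 4, 2, 2, 1, 4, 3]),
  (0, [4, 2, 4, 2, 2, 2, 0, 2]),
  (0, [4, 2, 4, 2, 2, 2, 0, 4]),
  (0, [4, 2, 4, 2, 2, 2, 1, 2]),
  (0, [4, 2, 4, 2, 2, 2, 1, 4]),
  (0, [4, 2, 4, 2, 2, 2, 4, 3]),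
  (0, [4, 2, 4, 2, 2, 4, 2, 0]),
  (0, [4, 2, 4, 2, 2, 4, 2, 1]),
  (0, [4, 2, 4, 2, 2, 4, 2, 2]),
  (0, [4, 2, 4, 2, 2, 4, 2, 4]),
  (0, [4, 2, 4, 2, 2, 4, 3, 3]),
  (0, [4, 2, 4, 2, 4, 2, 0, 3]),
  (0, [4, 2, 4, 2, 4, 2, 1, 3]),
  (0, [4, 2, 4, 2, 4, 2, 2, 0]),
  (0, [4, 2, 4, 2, 4, 2, 2, 1]),
  (0, [4, 2, 4, 2, 4, 2, 2, 2]),
  (0, [4, 2, 4, 2, 4, 2, 2, 4]),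
  (0, [4, 2, 4, 2, 4, 2, 4, 2]),
  (0, [4, 2, 4, 2, 4, 2, 4, 3]),
  (0, [4, 2, 4, 3, 3, 0, 4, 3]),
  (0, [4, 2, 4, 3, 3, 1, 4, 3]),
  (0, [4, 2, 4, 3, 3, 4, 3, 0]),
  (0, [4, 2, 4, 3, 3, 4, 3, 1]),
  (0, [4, 2, 4, 3, 3, 4, 3, 4]),
  (0, [4, 2, 4, 3, 4, 3, 3, 0]),
  (0, [4, 2, 4, 3, 4, 3, 3, 1]),
  (0, [4, 2, 4, 3, 4, 3, 3, 4]),
  (0, [4, 3, 0, 4, 3, 3, 0, 2]),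
  (0, [4, 3, 0, 4, 3, 3, 0, 3]),
  (0, [4, 3, 0, 4, 3, 3, 0, 4]),
  (0, [4, 3, 0, 4, 3, 3, 1, 2]),
  (0, [4, 3, 0, 4, 3, 3, 1, 3]),
  (0, [4, 3, 0, 4, 3, 3, 1, 4]),
  (0, [4, 3, 0, 4, 3, 3, 4, 2]),
  (0, [4, 3, 0, 4, 3, 3, 4, 3]),
  (0, [4, 3, 1, 4, 3, 3, 4, 2]),
  (0, [4, 3, 1, 4, 3, 3, 4, 3]),
  (0, [4, 3, 1, 4, 3, 4, 3, 4]),
  (0, [4, 3, 3, 0, 3, 0, 2, 0]),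
  (0, [4, 3, 3, 0, 3, 0, 2, 1]),
  (0, [4, 3, 3, 0, 3, 0, 3, 0]),
  (0, [4, 3, 3, 0, 3, 0, 3, 1]),
  (0, [4, 3, 3, 0, 3, 0, 3, 4]),
  (0, [4, 3, 3, 0, 3, 0, 4, 3]),
  (0, [4, 3, 3, 0, 3, 1, 2, 4]),
  (0, [4, 3, 3, 0, 3, 1, 3, 4]),
  (0, [4, 3, 3, 0, 3, 1, 4, 3]),
  (0, [4, 3, 3, 0, 3, 4, 3, 0]),
  (0, [4, 3, 3, 0, 3, 4, 3, 1]),
  (0, [4, 3, 3, 0, 3, 4, 3, 3]),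
  (0, [4, 3, 3, 0, 4, 3, 0, 3]),
  (0, [4, 3, 3, 0, 4, 3, 0, 4]),
  (0, [4, 3, 3, 0, 4, 3, 1, 2]),
  (0, [4, 3, 3, 0, 4, 3, 1, 3]),
  (0, [4, 3, 3, 0, 4, 3, 1, 4]),
  (0, [4, 3, 3, 0, 4, 3, 4, 3]),
  (0, [4, 3, 3, 1, 4, 3, 4, 3]),
  (0, [4, 3, 3, 4, 2, 4, 2, 2]),
  (0, [4, 3, 4, 2, 2, 1, 4, 2]),
  (0, [4, 3, 4, 2, 2, 2, 4, 2]),
  (0, [4, 3, 4, 2, 2, 4, 2, 2]),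
  (0, [4, 3, 4, 3, 0, 3, 0, 4]),
  (0, [4, 3, 4, 3, 0, 3, 1, 2]),
  (0, [4, 3, 4, 3, 0, 3, 1, 4]),
  (0, [4, 3, 4, 3, 0, 4, 3, 0]),
  (0, [4, 3, 4, 3, 0, 4, 3, 1]),
  (0, [4, 3, 4, 3, 1, 4, 3, 3]),
  (0, [4, 3, 4, 3, 3, 0, 2, 2]),
  (0, [4, 3, 4, 3, 3, 1, 2, 2]),
  (0, [4, 3, 4, 3, 3, 4, 2, 2]),
  (0, [4, 3, 4, 3, 3, 4, 3, 0]),
  (0, [4, 3, 4, 3, 3, 4, 3, 1]),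
  (0, [4, 3, 4, 3, 3, 4, 3, 3]),
  (0, [4, 3, 4, 3, 4, 2, 2, 2]),
  (0, [4, 3, 4, 3, 4, 3, 0, 2]),
  (0, [4, 3, 4, 3, 4, 3, 1, 2]),
  (0, [4, 3, 4, 3, 4, 3, 4, 2]),
  (0, [0, 0, 4, 2, 2, 4, 2, 4, 2]),
  (0, [0, 0, 4, 2, 2, 4, 2, 4, 3]),
  (0, [0, 0, 4, 2, 4, 2, 2, 2, 4]),
  (0, [0, 0, 4, 2, 4, 2, 2, 4, 2]),
  (0, [0, 0, 4, 2, 4, 2, 2, 4, 3]),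
  (0, [0, 0, 4, 2, 4, 2, 4, 2, 2]),
  (0, [0, 0, 4, 2, 4, 2, 4, 2, 4]),
  (0, [0, 0, 4, 2, 4, 3, 3, 4, 3]),
  (0, [0, 0, 4, 3, 4, 2, 2, 2, 4]),
  (0, [0, 0, 4, 3, 4, 2, 2, 4, 2]),
  (0, [0, 0, 4, 3, 4, 3, 3, 4, 2]),
  (0, [0, 0, 4, 3, 4, 3, 3, 4, 3]),
  (0, [0, 0, 4, 3, 4, 3, 4, 3, 3]),
  (0, [0, 0, 4, 3, 4, 3, 4, 3, 4]),
  (0, [0, 4, 2, 0, 4, 2, 2, 0, 2]),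
  (0, [0, 4, 2, 0, 4, 2, 2, 0, 3]),
  (0, [0, 4, 2, 0, 4, 2, 2, 0, 4]),
  (0, [0, 4, 2, 0, 4, 2, 2, 1, 2]),
  (0, [0, 4, 2, 0, 4, 2, 2, 1, 3]),
  (0, [0, 4, 2, 0, 4, 2, 2, 1, 4]),
  (0, [0, 4, 2, 0, 4, 2, 2, 4, 2]),
  (0, [0, 4, 2, 0, 4, 2, 4, 2, 0]),
  (0, [0, 4, 2, 0, 4, 2, 4, 2, 1]),
  (0, [0, 4, 2, 0, 4, 2, 4, 2, 4]),
  (0, [0, 4, 2, 1, 4, 2, 2, 4, 2]),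
  (0, [0, 4, 2, 1, 4, 2, 4, 2, 4]),
  (0, [0, 4, 2, 2, 0, 2, 0, 2, 0]),
  (0, [0, 4, 2, 2, 0, 2, 0, 2, 1]),
  (0, [0, 4, 2, 2, 0, 2, 0, 2, 4]),
  (0, [0, 4, 2, 2, 0, 2, 0, 3, 0]),
  (0, [0, 4, 2, 2, 0, 2, 0, 3, 1]),
  (0, [0, 4, 2, 2, 0, 2, 0, 3, 4]),
  (0, [0, 4, 2, 2, 0, 2, 0, 4, 2]),
  (0, [0, 4, 2, 2, 0, 2, 0, 4, 3]),
  (0, [0, 4, 2, 2, 0, 2, 1, 2, 4]),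
  (0, [0, 4, 2, 2, 0, 2, 1, 3, 4]),
  (0, [0, 4, 2, 2, 0, 2, 1, 4, 2]),
  (0, [0, 4, 2, 2, 0, 2, 1, 4, 3]),
  (0, [0, 4, 2, 2, 0, 2, 2, 0, 4]),
  (0, [0, 4, 2, 2, 0, 2, 2, 1, 4]),
  (0, [0, 4, 2, 2, 0, 2, 4, 2, 0]),
  (0, [0, 4, 2, 2, 0, 2, 4, 2, 1]),
  (0, [0, 4, 2, 2, 0, 2, 4, 2, 2]),
  (0, [0, 4, 2, 2, 0, 2, 4, 3, 3]),
  (0, [0, 4, 2, 2, 0, 2, 4, 3, 4]),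
  (0, [0, 4, 2, 2, 0, 4, 2, 0, 2]),
  (0, [0, 4, 2, 2, 0, 4, 2, 0, 3]),
  (0, [0, 4, 2, 2, 0, 4, 2, 0, 4]),
  (0, [0, 4, 2, 2, 0, 4, 2, 1, 2]),
  (0, [0, 4, 2, 2, 0, 4, 2, 1, 3]),
  (0, [0, 4, 2, 2, 0, 4, 2, 1, 4]),
  (0, [0, 4, 2, 2, 0, 4, 2, 4, 2]),
  (0, [0, 4, 2, 2, 0, 4, 2, 4, 3]),
  (0, [0, 4, 2, 2, 1, 2, 4, 2, 2]),
  (0, [0, 4, 2, 2, 1, 2, 4, 3, 3]),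
  (0, [0, 4, 2, 2, 1, 2, 4, 3, 4]),
  (0, [0, 4, 2, 2, 1, 4, 2, 4, 2]),
  (0, [0, 4, 2, 2, 1, 4, 2, 4, 3]),
  (0, [0, 4, 2, 2, 2, 0, 2, 0, 2]),
  (0, [0, 4, 2, 2, 2, 0, 2, 0, 3]),
  (0, [0, 4, 2, 2, 2, 0, 2, 0, 4]),
  (0, [0, 4, 2, 2, 2, 0, 2, 1, 2]),
  (0, [0, 4, 2, 2, 2, 0, 2, 1, 3]),
  (0, [0, 4, 2, 2, 2, 0, 2, 1, 4]),
  (0, [0, 4, 2, 2, 2, 0, 2, 4, 2]),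
  (0, [0, 4, 2, 2, 2, 0, 3, 0, 2]),
  (0, [0, 4, 2, 2, 2, 0, 3, 0, 3]),
  (0, [0, 4, 2, 2, 2, 0, 3, 0, 4]),
  (0, [0, 4, 2, 2, 2, 0, 3, 1, 2]),
  (0, [0, 4, 2, 2, 2, 0, 3, 1, 3]),
  (0, [0, 4, 2, 2, 2, 0, 3, 1, 4]),
  (0, [0, 4, 2, 2, 2, 0, 3, 4, 3]),
  (0, [0, 4, 2, 2, 2, 0, 4, 2, 0]),
  (0, [0, 4, 2, 2, 2, 0, 4, 2, 1]),
  (0, [0, 4, 2, 2, 2, 0, 4, 2, 4]),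
  (0, [0, 4, 2, 2, 2, 0, 4, 3, 0]),
  (0, [0, 4, 2, 2, 2, 0, 4, 3, 1]),
  (0, [0, 4, 2, 2, 2, 0, 4, 3, 4]),
  (0, [0, 4, 2, 2, 2, 1, 2, 4, 2]),
  (0, [0, 4, 2, 2, 2, 1, 3, 4, 3]),
  (0, [0, 4, 2, 2, 2, 1, 4, 2, 4]),
  (0, [0, 4, 2, 2, 2, 1, 4, 3, 4]),
  (0, [0, 4, 2, 2, 2, 4, 2, 4, 3]),
  (0, [0, 4, 2, 2, 2, 4, 3, 4, 2]),
  (0, [0, 4, 2, 2, 4, 2, 0, 2, 0]),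
  (0, [0, 4, 2, 2, 4, 2, 0, 2, 1]),
  (0, [0, 4, 2, 2, 4, 2, 0, 2, 4]),
  (0, [0, 4, 2, 2, 4, 2, 0, 3, 0]),
  (0, [0, 4, 2, 2, 4, 2, 0, 3, 1]),
  (0, [0, 4, 2, 2, 4, 2, 0, 3, 4]),
  (0, [0, 4, 2, 2, 4, 2, 0, 4, 2]),
  (0, [0, 4, 2, 2, 4, 2, 0, 4, 3]),
  (0, [0, 4, 2, 2, 4, 2, 1, 2, 4]),
  (0, [0, 4, 2, 2, 4, 2, 1, 3, 4]),
  (0, [0, 4, 2, 2, 4, 2, 1, 4, 2]),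
  (0, [0, 4, 2, 2, 4, 2, 1, 4, 3]),
  (0, [0, 4, 2, 2, 4, 2, 4, 2, 4]),
  (0, [0, 4, 2, 2, 4, 2, 4, 3, 4]),
  (0, [0, 4, 2, 2, 4, 3, 4, 2, 2]),
  (0, [0, 4, 2, 2, 4, 3, 4, 3, 3]),
  (0, [0, 4, 2, 4, 2, 0, 2, 0, 3]),
  (0, [0, 4, 2, 4, 2, 0, 2, 0, 4]),
  (0, [0, 4, 2, 4, 2, 0, 2, 1, 3]),
  (0, [0, 4, 2, 4, 2, 0, 2, 1, 4]),
  (0, [0, 4, 2, 4, 2, 0, 2, 2, 0]),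
  (0, [0, 4, 2, 4, 2, 0, 2, 2, 1]),
  (0, [0, 4, 2, 4, 2, 0, 2, 2, 4]),
  (0, [0, 4, 2, 4, 2, 0, 2, 4, 3]),
  (0, [0, 4, 2, 4, 2, 0, 4, 2, 0]),
  (0, [0, 4, 2, 4, 2, 0, 4, 2, 1]),
  (0, [0, 4, 2, 4, 2, 0, 4, 2, 2]),
  (0, [0, 4, 2, 4, 2, 1, 2, 2, 4]),
  (0, [0, 4, 2, 4, 2, 1, 2, 4, 3]),
  (0, [0, 4, 2, 4, 2, 1, 4, 2, 2]),
  (0, [0, 4, 2, 4, 2, 2, 0, 3, 0]),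
  (0, [0, 4, 2, 4, 2, 2, 0, 3, 1]),
  (0, [0, 4, 2, 4, 2, 2, 0, 3, 3]),
  (0, [0, 4, 2, 4, 2, 2, 0, 4, 3]),
  (0, [0, 4, 2, 4, 2, 2, 1, 3, 3]),
  (0, [0, 4, 2, 4, 2, 2, 1, 4, 3]),
  (0, [0, 4, 2, 4, 2, 2, 2, 0, 2]),
  (0, [0, 4, 2, 4, 2, 2, 2, 0, 4]),
  (0, [0, 4, 2, 4, 2, 2, 2, 1, 2]),
  (0, [0, 4, 2, 4, 2, 2, 2, 1, 4]),
  (0, [0, 4, 2, 4, 2, 2, 2, 4, 3]),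
  (0, [0, 4, 2, 4, 2, 2, 4, 2, 0]),
  (0, [0, 4, 2, 4, 2, 2, 4, 2, 1]),
  (0, [0, 4, 2, 4, 2, 2, 4, 2, 2]),
  (0, [0, 4, 2, 4, 2, 2, 4, 2, 4]),
  (0, [0, 4, 2, 4, 2, 2, 4, 3, 3]),
  (0, [0, 4, 2, 4, 2, 4, 2, 2, 0]),
  (0, [0, 4, 2, 4, 2, 4, 2, 2, 1]),
  (0, [0, 4, 2, 4, 2, 4, 2, 2, 2]),
  (0, [0, 4, 2, 4, 2, 4, 2, 2, 4]),
  (0, [0, 4, 2, 4, 2, 4, 2, 4, 2]),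
  (0, [0, 4, 2, 4, 2, 4, 2, 4, 3]),
  (0, [0, 4, 2, 4, 3, 3, 0, 4, 3]),
  (0, [0, 4, 2, 4, 3, 3, 1, 4, 3]),
  (0, [0, 4, 2, 4, 3, 3, 4, 3, 0]),
  (0, [0, 4, 2, 4, 3, 3, 4, 3, 1]),
  (0, [0, 4, 2, 4, 3, 3, 4, 3, 4]),
  (0, [0, 4, 2, 4, 3, 4, 3, 3, 0]),
  (0, [0, 4, 2, 4, 3, 4, 3, 3, 1]),
  (0, [0, 4, 2, 4, 3, 4, 3, 3, 4]),
  (0, [0, 4, 3, 0, 4, 3, 3, 0, 2]),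
  (0, [0, 4, 3, 0, 4, 3, 3, 0, 3]),
  (0, [0, 4, 3, 0, 4, 3, 3, 0, 4]),
  (0, [0, 4, 3, 0, 4, 3, 3, 1, 2]),
  (0, [0, 4, 3, 0, 4, 3, 3, 1, 3]),
  (0, [0, 4, 3, 0, 4, 3, 3, 1, 4]),
  (0, [0, 4, 3, 0, 4, 3, 3, 4, 3]),
  (0, [0, 4, 3, 1, 4, 3, 3, 4, 3]),
  (0, [0, 4, 3, 1, 4, 3, 4, 3, 4]),
  (0, [0, 4, 3, 3, 0, 3, 0, 2, 0]),
  (0, [0, 4, 3, 3, 0, 3, 0, 2, 1]),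
  (0, [0, 4, 3, 3, 0, 3, 0, 3, 0]),
  (0, [0, 4, 3, 3, 0, 3, 0, 3, 1]),
  (0, [0, 4, 3, 3, 0, 3, 0, 3, 4]),
  (0, [0, 4, 3, 3, 0, 3, 0, 4, 3]),
  (0, [0, 4, 3, 3, 0, 3, 1, 2, 4]),
  (0, [0, 4, 3, 3, 0, 3, 1, 3, 4]),
  (0, [0, 4, 3, 3, 0, 3, 1, 4, 3]),
  (0, [0, 4, 3, 3, 0, 3, 4, 3, 0]),
  (0, [0, 4, 3, 3, 0, 3, 4, 3, 1]),
  (0, [0, 4, 3, 3, 0, 3, 4, 3, 3]),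
  (0, [0, 4, 3, 3, 0, 4, 3, 0, 3]),
  (0, [0, 4, 3, 3, 0, 4, 3, 0, 4]),
  (0, [0, 4, 3, 3, 0, 4, 3, 1, 2]),
  (0, [0, 4, 3, 3, 0, 4, 3, 1, 3]),
  (0, [0, 4, 3, 3, 0, 4, 3, 1, 4]),
  (0, [0, 4, 3, 3, 0, 4, 3, 4, 3]),
  (0, [0, 4, 3, 3, 1, 4, 3, 4, 3]),
  (0, [0, 4, 3, 3, 4, 2, 4, 2, 2]),
  (0, [0, 4, 3, 4, 2, 2, 1, 4, 2]),
  (0, [0, 4, 3, 4, 2, 2, 2, 4, 2]),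
  (0, [0, 4, 3, 4, 2, 2, 4, 2, 2]),
  (0, [0, 4, 3, 4, 3, 0, 3, 0, 4]),
  (0, [0, 4, 3, 4, 3, 0, 3, 1, 2]),
  (0, [0, 4, 3, 4, 3, 0, 3, 1, 4]),
  (0, [0, 4, 3, 4, 3, 0, 4, 3, 0]),
  (0, [0, 4, 3, 4, 3, 0, 4, 3, 1]),
  (0, [0, 4, 3, 4, 3, 1, 4, 3, 3]),
  (0, [0, 4, 3, 4, 3, 3, 0, 2, 2]),
  (0, [0, 4, 3, 4, 3, 3, 1, 2, 2]),
  (0, [0, 4, 3, 4, 3, 3, 4, 2, 2]),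
  (0, [0, 4, 3, 4, 3, 3, 4, 3, 0]),
  (0, [0, 4, 3, 4, 3, 3, 4, 3, 1]),
  (0, [0, 4, 3, 4, 3, 3, 4, 3, 3]),
  (0, [0, 4, 3, 4, 3, 4, 2, 2, 2]),
  (0, [0, 4, 3, 4, 3, 4, 3, 4, 2]),
  (0, [1, 4, 2, 2, 4, 2, 4, 2, 4]),
  (0, [1, 4, 2, 2, 4, 2, 4, 3, 4]),
  (0, [1, 4, 2, 2, 4, 3, 4, 3, 3]),
  (0, [1, 4, 2, 4, 2, 2, 2, 4, 3]),
  (0, [1, 4, 2, 4, 2, 2, 4, 2, 2]),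
  (0, [1, 4, 2, 4, 2, 2, 4, 3, 3]),
  (0, [1, 4, 2, 4, 2, 4, 2, 4, 3]),
  (0, [1, 4, 3, 3, 4, 2, 4, 2, 2]),
  (0, [1, 4, 3, 4, 2, 2, 2, 4, 2]),
  (0, [1, 4, 3, 4, 3, 3, 4, 2, 2]),
  (0, [1, 4, 3, 4, 3, 3, 4, 3, 3]),
  (0, [1, 4, 3, 4, 3, 4, 3, 4, 2]),
  (0, [4, 2, 0, 4, 2, 2, 0, 3, 0]),
  (0, [4, 2, 0, 4, 2, 2, 0, 3, 1]),
  (0, [4, 2, 0, 4, 2, 2, 0, 3, 3]),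
  (0, [4, 2, 0, 4, 2, 2, 0, 3, 4]),
  (0, [4, 2, 0, 4, 2, 2, 0, 4, 2]),
  (0, [4, 2, 0, 4, 2, 2, 1, 3, 3]),
  (0, [4, 2, 0, 4, 2, 2, 1, 3, 4]),
  (0, [4, 2, 0, 4, 2, 2, 1, 4, 2]),
  (0, [4, 2, 0, 4, 2, 2, 4, 3, 0]),
  (0, [4, 2, 0, 4, 2, 2, 4, 3, 1]),
  (0, [4, 2, 0, 4, 2, 2, 4, 3, 4]),
  (0, [4, 2, 0, 4, 2, 4, 2, 0, 4]),
  (0, [4, 2, 0, 4, 2, 4, 2, 1, 4]),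
  (0, [4, 2, 0, 4, 2, 4, 2, 4, 2]),
  (0, [4, 2, 1, 4, 2, 2, 4, 3, 4]),
  (0, [4, 2, 1, 4, 2, 4, 2, 4, 2]),
  (0, [4, 2, 2, 0, 2, 0, 2, 0, 4]),
  (0, [4, 2, 2, 0, 2, 0, 2, 1, 4]),
  (0, [4, 2, 2, 0, 2, 0, 3, 0, 2]),
  (0, [4, 2, 2, 0, 2, 0, 3, 1, 2]),
  (0, [4, 2, 2, 0, 2, 0, 3, 4, 3]),
  (0, [4, 2, 2, 0, 2, 0, 4, 2, 0]),
  (0, [4, 2, 2, 0, 2, 0, 4, 2, 1]),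
  (0, [4, 2, 2, 0, 2, 0, 4, 2, 2]),
  (0, [4, 2, 2, 0, 2, 0, 4, 3, 3]),
  (0, [4, 2, 2, 0, 2, 1, 3, 4, 3]),
  (0, [4, 2, 2, 0, 2, 1, 4, 2, 2]),
  (0, [4, 2, 2, 0, 2, 1, 4, 3, 3]),
  (0, [4, 2, 2, 0, 2, 4, 2, 0, 2]),
  (0, [4, 2, 2, 0, 2, 4, 2, 1, 2]),
  (0, [4, 2, 2, 0, 2, 4, 2, 2, 0]),
  (0, [4, 2, 2, 0, 2, 4, 2, 2, 1]),
  (0, [4, 2, 2, 0, 2, 4, 2, 2, 2]),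
  (0, [4, 2, 2, 0, 2, 4, 3, 4, 2]),
  (0, [4, 2, 2, 0, 2, 4, 3, 4, 3]),
  (0, [4, 2, 2, 0, 3, 4, 2, 2, 2]),
  (0, [4, 2, 2, 0, 4, 2, 0, 2, 0]),
  (0, [4, 2, 2, 0, 4, 2, 0, 2, 1]),
  (0, [4, 2, 2, 0, 4, 2, 0, 2, 4]),
  (0, [4, 2, 2, 0, 4, 2, 0, 3, 0]),
  (0, [4, 2, 2, 0, 4, 2, 0, 3, 1]),
  (0, [4, 2, 2, 0, 4, 2, 1, 2, 4]),
  (0, [4, 2, 2, 0, 4, 2, 4, 2, 0]),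
  (0, [4, 2, 2, 0, 4, 2, 4, 2, 1]),
  (0, [4, 2, 2, 0, 4, 2, 4, 2, 2]),
  (0, [4, 2, 2, 1, 2, 4, 2, 2, 2]),
  (0, [4, 2, 2, 1, 2, 4, 3, 4, 2]),
  (0, [4, 2, 2, 1, 2, 4, 3, 4, 3]),
  (0, [4, 2, 2, 1, 3, 4, 2, 2, 2]),
  (0, [4, 2, 2, 1, 3, 4, 2, 4, 2]),
  (0, [4, 2, 2, 1, 3, 4, 3, 4, 3]),
  (0, [4, 2, 2, 1, 4, 2, 4, 2, 2]),
  (0, [4, 2, 2, 2, 0, 2, 0, 3, 0]),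
  (0, [4, 2, 2, 2, 0, 2, 0, 3, 1]),
  (0, [4, 2, 2, 2, 0, 2, 0, 3, 3]),
  (0, [4, 2, 2, 2, 0, 2, 0, 3, 4]),
  (0, [4, 2, 2, 2, 0, 2, 0, 4, 2]),
  (0, [4, 2, 2, 2, 0, 2, 0, 4, 3]),
  (0, [4, 2, 2, 2, 0, 2, 1, 3, 3]),
  (0, [4, 2, 2, 2, 0, 2, 1, 3, 4]),
  (0, [4, 2, 2, 2, 0, 2, 1, 4, 2]),
  (0, [4, 2, 2, 2, 0, 2, 1, 4, 3]),
  (0, [4, 2, 2, 2, 0, 2, 4, 2, 2]),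
  (0, [4, 2, 2, 2, 0, 3, 0, 2, 2]),
  (0, [4, 2, 2, 2, 0, 3, 0, 2, 4]),
  (0, [4, 2, 2, 2, 0, 3, 0, 4, 2]),
  (0, [4, 2, 2, 2, 0, 3, 1, 2, 2]),
  (0, [4, 2, 2, 2, 0, 3, 1, 2, 4]),
  (0, [4, 2, 2, 2, 0, 3, 1, 4, 2]),
  (0, [4, 2, 2, 2, 0, 3, 4, 3, 3]),
  (0, [4, 2, 2, 2, 0, 4, 2, 0, 3]),
  (0, [4, 2, 2, 2, 0, 4, 2, 0, 4]),
  (0, [4, 2, 2, 2, 0, 4, 2, 1, 3]),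
  (0, [4, 2, 2, 2, 0, 4, 2, 1, 4]),
  (0, [4, 2, 2, 2, 0, 4, 2, 4, 2]),
  (0, [4, 2, 2, 2, 0, 4, 2, 4, 3]),
  (0, [4, 2, 2, 2, 0, 4, 3, 0, 2]),
  (0, [4, 2, 2, 2, 0, 4, 3, 1, 2]),
  (0, [4, 2, 2, 2, 0, 4, 3, 4, 2]),
  (0, [4, 2, 2, 2, 0, 4, 3, 4, 3]),
  (0, [4, 2, 2, 2, 1, 2, 4, 2, 2]),
  (0, [4, 2, 2, 2, 1, 3, 4, 3, 3]),
  (0, [4, 2, 2, 2, 1, 4, 2, 4, 2]),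
  (0, [4, 2, 2, 2, 1, 4, 2, 4, 3]),
  (0, [4, 2, 2, 2, 1, 4, 3, 4, 2]),
  (0, [4, 2, 2, 2, 1, 4, 3, 4, 3]),
  (0, [4, 2, 2, 2, 4, 2, 0, 3, 3]),
  (0, [4, 2, 2, 2, 4, 2, 1, 3, 3]),
  (0, [4, 2, 2, 2, 4, 2, 4, 3, 0]),
  (0, [4, 2, 2, 2, 4, 2, 4, 3, 1]),
  (0, [4, 2, 2, 2, 4, 2, 4, 3, 4]),
  (0, [4, 2, 2, 2, 4, 3, 4, 2, 4]),
  (0, [4, 2, 2, 4, 2, 0, 2, 0, 4]),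
  (0, [4, 2, 2, 4, 2, 0, 2, 1, 4]),
  (0, [4, 2, 2, 4, 2, 0, 2, 4, 2]),
  (0, [4, 2, 2, 4, 2, 0, 3, 0, 4]),
  (0, [4, 2, 2, 4, 2, 0, 3, 1, 4]),
  (0, [4, 2, 2, 4, 2, 0, 3, 4, 3]),
  (0, [4, 2, 2, 4, 2, 0, 4, 2, 2]),
  (0, [4, 2, 2, 4, 2, 0, 4, 3, 3]),
  (0, [4, 2, 2, 4, 2, 1, 2, 4, 2]),
  (0, [4, 2, 2, 4, 2, 1, 3, 4, 3]),
  (0, [4, 2, 2, 4, 2, 1, 4, 2, 2]),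
  (0, [4, 2, 2, 4, 2, 1, 4, 3, 3]),
  (0, [4, 2, 2, 4, 2, 4, 2, 4, 2]),
  (0, [4, 2, 2, 4, 2, 4, 3, 4, 3]),
  (0, [4, 2, 2, 4, 3, 4, 2, 2, 2]),
  (0, [4, 2, 2, 4, 3, 4, 2, 2, 4]),
  (0, [4, 2, 2, 4, 3, 4, 3, 3, 0]),
  (0, [4, 2, 2, 4, 3, 4, 3, 3, 1]),
  (0, [4, 2, 4, 2, 0, 2, 0, 3, 0]),
  (0, [4, 2, 4, 2, 0, 2, 0, 3, 1]),
  (0, [4, 2, 4, 2, 0, 2, 0, 4, 3]),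
  (0, [4, 2, 4, 2, 0, 2, 1, 4, 3]),
  (0, [4, 2, 4, 2, 0, 2, 2, 0, 4]),
  (0, [4, 2, 4, 2, 0, 2, 2, 1, 4]),
  (0, [4, 2, 4, 2, 0, 2, 2, 4, 2]),
  (0, [4, 2, 4, 2, 0, 2, 4, 3, 3]),
  (0, [4, 2, 4, 2, 1, 2, 2, 4, 2]),
  (0, [4, 2, 4, 2, 1, 2, 4, 3, 3]),
  (0, [4, 2, 4, 2, 2, 0, 3, 0, 2]),
  (0, [4, 2, 4, 2, 2, 0, 3, 1, 2]),
  (0, [4, 2, 4, 2, 2, 2, 0, 2, 2]),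
  (0, [4, 2, 4, 2, 2, 2, 0, 4, 2]),
  (0, [4, 2, 4, 2, 2, 2, 1, 2, 2]),
  (0, [4, 2, 4, 2, 2, 2, 1, 4, 2]),
  (0, [4, 2, 4, 2, 2, 2, 4, 3, 1]),
  (0, [4, 2, 4, 2, 2, 4, 2, 0, 4]),
  (0, [4, 2, 4, 2, 2, 4, 2, 1, 3]),
  (0, [4, 2, 4, 2, 2, 4, 2, 1, 4]),
  (0, [4, 2, 4, 2, 2, 4, 2, 2, 2]),
  (0, [4, 2, 4, 2, 2, 4, 2, 2, 4]),
  (0, [4, 2, 4, 2, 4, 2, 0, 3, 4]),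
  (0, [4, 2, 4, 2, 4, 2, 1, 3, 4]),
  (0, [4, 2, 4, 2, 4, 2, 2, 0, 4]),
  (0, [4, 2, 4, 2, 4, 2, 2, 1, 4]),
  (0, [4, 2, 4, 2, 4, 2, 2, 2, 4]),
  (0, [4, 2, 4, 2, 4, 2, 4, 2, 2]),
  (0, [4, 2, 4, 2, 4, 2, 4, 3, 3]),
  (0, [4, 2, 4, 3, 3, 0, 4, 3, 3]),
  (0, [4, 2, 4, 3, 3, 0, 4, 3, 4]),
  (0, [4, 2, 4, 3, 3, 1, 4, 3, 3]),
  (0, [4, 2, 4, 3, 3, 1, 4, 3, 4]),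
  (0, [4, 2, 4, 3, 3, 4, 3, 0, 2]),
  (0, [4, 2, 4, 3, 3, 4, 3, 0, 4]),
  (0, [4, 2, 4, 3, 3, 4, 3, 1, 2]),
  (0, [4, 2, 4, 3, 3, 4, 3, 1, 4]),
  (0, [4, 2, 4, 3, 4, 3, 3, 4, 3]),
  (0, [4, 3, 0, 4, 3, 3, 0, 2, 0]),
  (0, [4, 3, 0, 4, 3, 3, 0, 2, 1]),
  (0, [4, 3, 0, 4, 3, 3, 0, 2, 2]),
  (0, [4, 3, 0, 4, 3, 3, 0, 2, 4]),
  (0, [4, 3, 0, 4, 3, 3, 1, 2, 2]),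
  (0, [4, 3, 0, 4, 3, 3, 1, 2, 4]),
  (0, [4, 3, 0, 4, 3, 3, 4, 2, 0]),
  (0, [4, 3, 0, 4, 3, 3, 4, 2, 1]),
  (0, [4, 3, 0, 4, 3, 3, 4, 2, 4]),
  (0, [4, 3, 1, 4, 3, 3, 4, 2, 4]),
  (0, [4, 3, 1, 4, 3, 4, 3, 4, 3]),
  (0, [4, 3, 3, 0, 3, 0, 3, 0, 4]),
  (0, [4, 3, 3, 0, 3, 0, 3, 1, 4]),
  (0, [4, 3, 3, 0, 3, 0, 4, 3, 0]),
  (0, [4, 3, 3, 0, 3, 0, 4, 3, 1]),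
  (0, [4, 3, 3, 0, 3, 0, 4, 3, 3]),
  (0, [4, 3, 3, 0, 3, 1, 2, 4, 2]),
  (0, [4, 3, 3, 0, 3, 1, 4, 3, 3]),
  (0, [4, 3, 3, 0, 4, 3, 0, 3, 0]),
  (0, [4, 3, 3, 0, 4, 3, 0, 3, 1]),
  (0, [4, 3, 3, 0, 4, 3, 0, 3, 4]),
  (0, [4, 3, 3, 0, 4, 3, 1, 3, 4]),
  (0, [4, 3, 3, 0, 4, 3, 4, 3, 3]),
  (0, [4, 3, 3, 1, 4, 3, 4, 3, 3]),
  (0, [4, 3, 3, 4, 2, 4, 2, 2, 0]),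
  (0, [4, 3, 3, 4, 2, 4, 2, 2, 1]),
  (0, [4, 3, 4, 2, 2, 1, 4, 2, 2]),
  (0, [4, 3, 4, 2, 2, 1, 4, 2, 4]),
  (0, [4, 3, 4, 2, 2, 2, 4, 2, 1]),
  (0, [4, 3, 4, 3, 3, 4, 2, 2, 0]),
  (0, [4, 3, 4, 3, 3, 4, 2, 2, 2]),
  (0, [4, 3, 4, 3, 3, 4, 3, 3, 4]),
  (0, [4, 3, 4, 3, 4, 2, 2, 2, 4]),
  (0, [4, 3, 4, 3, 4, 3, 0, 2, 4]),
  (0, [4, 3, 4, 3, 4, 3, 1, 2, 4]),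
  (0, [4, 3, 4, 3, 4, 3, 4, 2, 2]),
  (0, [0, 0, 4, 2, 2, 4, 2, 4, 2, 4]),
  (0, [0, 0, 4, 2, 2, 4, 2, 4, 3, 4]),
  (0, [0, 0, 4, 2, 4, 2, 2, 4, 2, 2]),
  (0, [0, 0, 4, 2, 4, 2, 4, 2, 4, 3]),
  (0, [0, 0, 4, 3, 4, 3, 3, 4, 3, 3]),
  (0, [0, 0, 4, 3, 4, 3, 4, 3, 4, 2]),
  (0, [0, 4, 2, 0, 4, 2, 2, 0, 3, 3]),
  (0, [0, 4, 2, 0, 4, 2, 2, 0, 4, 2]),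
  (0, [0, 4, 2, 0, 4, 2, 2, 1, 3, 3]),
  (0, [0, 4, 2, 0, 4, 2, 2, 1, 4, 2]),
  (0, [0, 4, 2, 0, 4, 2, 4, 2, 0, 4]),
  (0, [0, 4, 2, 0, 4, 2, 4, 2, 1, 4]),
  (0, [0, 4, 2, 0, 4, 2, 4, 2, 4, 2]),
  (0, [0, 4, 2, 1, 4, 2, 4, 2, 4, 2]),
  (0, [0, 4, 2, 2, 0, 2, 0, 2, 0, 4]),
  (0, [0, 4, 2, 2, 0, 2, 0, 2, 1, 4]),
  (0, [0, 4, 2, 2, 0, 2, 0, 4, 2, 0]),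
  (0, [0, 4, 2, 2, 0, 2, 0, 4, 2, 1]),
  (0, [0, 4, 2, 2, 0, 2, 0, 4, 2, 2]),
  (0, [0, 4, 2, 2, 0, 2, 0, 4, 3, 3]),
  (0, [0, 4, 2, 2, 0, 2, 1, 4, 2, 2]),
  (0, [0, 4, 2, 2, 0, 2, 1, 4, 3, 3]),
  (0, [0, 4, 2, 2, 0, 2, 4, 2, 0, 2]),
  (0, [0, 4, 2, 2, 0, 2, 4, 2, 1, 2]),
  (0, [0, 4, 2, 2, 0, 2, 4, 2, 2, 0]),
  (0, [0, 4, 2, 2, 0, 2, 4, 2, 2, 1]),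
  (0, [0, 4, 2, 2, 0, 2, 4, 2, 2, 2]),
  (0, [0, 4, 2, 2, 0, 2, 4, 3, 4, 2]),
  (0, [0, 4, 2, 2, 0, 4, 2, 0, 2, 0]),
  (0, [0, 4, 2, 2, 0, 4, 2, 0, 2, 1]),
  (0, [0, 4, 2, 2, 0, 4, 2, 0, 2, 4]),
  (0, [0, 4, 2, 2, 0, 4, 2, 0, 3, 0]),
  (0, [0, 4, 2, 2, 0, 4, 2, 0, 3, 1]),
  (0, [0, 4, 2, 2, 0, 4, 2, 1, 2, 4]),
  (0, [0, 4, 2, 2, 0, 4, 2, 4, 2, 0]),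
  (0, [0, 4, 2, 2, 0, 4, 2, 4, 2, 1]),
  (0, [0, 4, 2, 2, 0, 4, 2, 4, 2, 2]),
  (0, [0, 4, 2, 2, 1, 2, 4, 2, 2, 2]),
  (0, [0, 4, 2, 2, 1, 2, 4, 3, 4, 2]),
  (0, [0, 4, 2, 2, 1, 4, 2, 4, 2, 2]),
  (0, [0, 4, 2, 2, 2, 0, 2, 0, 3, 4]),
  (0, [0, 4, 2, 2, 2, 0, 2, 0, 4, 2]),
  (0, [0, 4, 2, 2, 2, 0, 2, 1, 3, 4]),
  (0, [0, 4, 2, 2, 2, 0, 2, 1, 4, 2]),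
  (0, [0, 4, 2, 2, 2, 0, 2, 1, 4, 3]),
  (0, [0, 4, 2, 2, 2, 0, 2, 4, 2, 2]),
  (0, [0, 4, 2, 2, 2, 0, 3, 0, 2, 4]),
  (0, [0, 4, 2, 2, 2, 0, 3, 1, 2, 4]),
  (0, [0, 4, 2, 2, 2, 0, 3, 1, 4, 2]),
  (0, [0, 4, 2, 2, 2, 0, 3, 4, 3, 3]),
  (0, [0, 4, 2, 2, 2, 0, 4, 2, 0, 3]),
  (0, [0, 4, 2, 2, 2, 0, 4, 2, 0, 4]),
  (0, [0, 4, 2, 2, 2, 0, 4, 2, 1, 3]),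
  (0, [0, 4, 2, 2, 2, 0, 4, 2, 1, 4]),
  (0, [0, 4, 2, 2, 2, 0, 4, 2, 4, 2]),
  (0, [0, 4, 2, 2, 2, 0, 4, 3, 0, 2]),
  (0, [0, 4, 2, 2, 2, 0, 4, 3, 1, 2]),
  (0, [0, 4, 2, 2, 2, 0, 4, 3, 4, 3]),
  (0, [0, 4, 2, 2, 2, 1, 2, 4, 2, 2]),
  (0, [0, 4, 2, 2, 2, 1, 3, 4, 3, 3]),
  (0, [0, 4, 2, 2, 2, 1, 4, 2, 4, 2]),
  (0, [0, 4, 2, 2, 2, 1, 4, 3, 4, 3]),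
  (0, [0, 4, 2, 2, 2, 4, 2, 4, 3, 0]),
  (0, [0, 4, 2, 2, 2, 4, 2, 4, 3, 1]),
  (0, [0, 4, 2, 2, 2, 4, 2, 4, 3, 4]),
  (0, [0, 4, 2, 2, 2, 4, 3, 4, 2, 4]),
  (0, [0, 4, 2, 2, 4, 2, 0, 4, 2, 2]),
  (0, [0, 4, 2, 2, 4, 2, 0, 4, 3, 3]),
  (0, [0, 4, 2, 2, 4, 2, 1, 4, 2, 2]),
  (0, [0, 4, 2, 2, 4, 2, 1, 4, 3, 3]),
  (0, [0, 4, 2, 2, 4, 3, 4, 2, 2, 4]),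
  (0, [0, 4, 2, 4, 2, 0, 2, 0, 3, 0]),
  (0, [0, 4, 2, 4, 2, 0, 2, 0, 3, 1]),
  (0, [0, 4, 2, 4, 2, 0, 2, 0, 4, 3]),
  (0, [0, 4, 2, 4, 2, 0, 2, 1, 4, 3]),
  (0, [0, 4, 2, 4, 2, 0, 2, 2, 0, 4]),
  (0, [0, 4, 2, 4, 2, 0, 2, 2, 1, 4]),
  (0, [0, 4, 2, 4, 2, 0, 2, 2, 4, 2]),
  (0, [0, 4, 2, 4, 2, 0, 2, 4, 3, 3]),
  (0, [0, 4, 2, 4, 2, 1, 2, 2, 4, 2]),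
  (0, [0, 4, 2, 4, 2, 1, 2, 4, 3, 3]),
  (0, [0, 4, 2, 4, 2, 2, 0, 3, 0, 2]),
  (0, [0, 4, 2, 4, 2, 2, 0, 3, 1, 2]),
  (0, [0, 4, 2, 4, 2, 2, 2, 0, 2, 2]),
  (0, [0, 4, 2, 4, 2, 2, 2, 1, 2, 2]),
  (0, [0, 4, 2, 4, 2, 2, 4, 2, 0, 4]),
  (0, [0, 4, 2, 4, 2, 2, 4, 2, 1, 4]),
  (0, [0, 4, 2, 4, 2, 2, 4, 2, 2, 2]),
  (0, [0, 4, 2, 4, 2, 2, 4, 2, 2, 4]),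
  (0, [0, 4, 2, 4, 2, 4, 2, 2, 0, 4]),
  (0, [0, 4, 2, 4, 2, 4, 2, 2, 1, 4]),
  (0, [0, 4, 2, 4, 2, 4, 2, 2, 2, 4]),
  (0, [0, 4, 2, 4, 2, 4, 2, 4, 3, 3]),
  (0, [0, 4, 2, 4, 3, 3, 0, 4, 3, 4]),
  (0, [0, 4, 2, 4, 3, 3, 1, 4, 3, 4]),
  (0, [0, 4, 2, 4, 3, 3, 4, 3, 0, 2]),
  (0, [0, 4, 2, 4, 3, 3, 4, 3, 0, 4]),
  (0, [0, 4, 2, 4, 3, 3, 4, 3, 1, 2]),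
  (0, [0, 4, 2, 4, 3, 3, 4, 3, 1, 4]),
  (0, [0, 4, 2, 4, 3, 4, 3, 3, 4, 3]),
  (0, [0, 4, 3, 0, 4, 3, 3, 0, 2, 2]),
  (0, [0, 4, 3, 0, 4, 3, 3, 1, 2, 2]),
  (0, [0, 4, 3, 1, 4, 3, 4, 3, 4, 3]),
  (0, [0, 4, 3, 3, 0, 3, 0, 3, 0, 4]),
  (0, [0, 4, 3, 3, 0, 3, 0, 3, 1, 4]),
  (0, [0, 4, 3, 3, 0, 3, 0, 4, 3, 0]),
  (0, [0, 4, 3, 3, 0, 3, 0, 4, 3, 1]),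
  (0, [0, 4, 3, 3, 0, 3, 0, 4, 3, 3]),
  (0, [0, 4, 3, 3, 0, 3, 1, 4, 3, 3]),
  (0, [0, 4, 3, 3, 0, 4, 3, 0, 3, 0]),
  (0, [0, 4, 3, 3, 0, 4, 3, 0, 3, 1]),
  (0, [0, 4, 3, 3, 0, 4, 3, 0, 3, 4]),
  (0, [0, 4, 3, 3, 0, 4, 3, 1, 3, 4]),
  (0, [0, 4, 3, 3, 0, 4, 3, 4, 3, 3]),
  (0, [0, 4, 3, 3, 1, 4, 3, 4, 3, 3]),
  (0, [0, 4, 3, 4, 2, 2, 1, 4, 2, 4]),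
  (0, [0, 4, 3, 4, 3, 3, 4, 2, 2, 2]),
  (0, [0, 4, 3, 4, 3, 3, 4, 3, 3, 4]),
  (0, [0, 4, 3, 4, 3, 4, 2, 2, 2, 4]),
  (0, [0, 4, 3, 4, 3, 4, 3, 4, 2, 2]),
  (0, [1, 4, 2, 4, 2, 2, 4, 2, 2, 2]),
  (0, [1, 4, 2, 4, 2, 2, 4, 2, 2, 4]),
  (0, [1, 4, 2, 4, 2, 4, 2, 4, 3, 3]),
  (0, [1, 4, 3, 4, 3, 3, 4, 2, 2, 2]),
  (0, [1, 4, 3, 4, 3, 3, 4, 3, 3, 4]),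
  (0, [1, 4, 3, 4, 3, 4, 3, 4, 2, 2]),
  (0, [4, 2, 0, 4, 2, 2, 0, 3, 0, 4]),
  (0, [4, 2, 0, 4, 2, 2, 0, 3, 1, 4]),
  (0, [4, 2, 0, 4, 2, 2, 0, 3, 3, 4]),
  (0, [4, 2, 0, 4, 2, 2, 4, 3, 4, 3]),
  (0, [4, 2, 1, 4, 2, 2, 4, 3, 4, 3]),
  (0, [4, 2, 2, 0, 2, 0, 3, 0, 2, 4]),
  (0, [4, 2, 2, 0, 2, 0, 3, 1, 2, 4]),
  (0, [4, 2, 2, 0, 2, 0, 3, 4, 3, 3]),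
  (0, [4, 2, 2, 0, 2, 0, 3, 4, 3, 4]),
  (0, [4, 2, 2, 0, 2, 0, 4, 2, 2, 0]),
  (0, [4, 2, 2, 0, 2, 0, 4, 2, 2, 1]),
  (0, [4, 2, 2, 0, 2, 1, 3, 4, 3, 4]),
  (0, [4, 2, 2, 2, 0, 2, 0, 3, 0, 4]),
  (0, [4, 2, 2, 2, 0, 2, 0, 3, 1, 4]),
  (0, [4, 2, 2, 2, 0, 2, 0, 3, 3, 4]),
  (0, [4, 2, 2, 2, 0, 2, 1, 3, 3, 4]),
  (0, [4, 2, 2, 2, 0, 2, 4, 2, 2, 4]),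
  (0, [4, 2, 2, 2, 0, 3, 0, 2, 2, 4]),
  (0, [4, 2, 2, 2, 0, 3, 1, 2, 2, 4]),
  (0, [4, 2, 2, 2, 0, 3, 4, 3, 3, 4]),
  (0, [4, 2, 2, 2, 0, 4, 2, 4, 2, 2]),
  (0, [4, 2, 2, 2, 0, 4, 3, 4, 3, 3]),
  (0, [4, 2, 2, 2, 1, 2, 4, 2, 2, 4]),
  (0, [4, 2, 2, 2, 1, 3, 4, 3, 3, 4]),
  (0, [4, 2, 2, 2, 1, 4, 2, 4, 2, 2]),
  (0, [4, 2, 2, 2, 1, 4, 3, 4, 3, 3]),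
  (0, [4, 2, 2, 4, 2, 0, 2, 4, 2, 0]),
  (0, [4, 2, 2, 4, 2, 0, 2, 4, 2, 1]),
  (0, [4, 2, 2, 4, 2, 0, 4, 2, 2, 4]),
  (0, [4, 2, 2, 4, 2, 1, 4, 2, 2, 4]),
  (0, [4, 2, 2, 4, 3, 4, 3, 3, 0, 2]),
  (0, [4, 2, 2, 4, 3, 4, 3, 3, 1, 2]),
  (0, [4, 2, 4, 2, 0, 2, 4, 3, 3, 0]),
  (0, [4, 2, 4, 2, 0, 2, 4, 3, 3, 1]),
  (0, [4, 2, 4, 2, 1, 2, 4, 3, 3, 4]),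
  (0, [4, 2, 4, 2, 2, 4, 2, 2, 4, 3]),
  (0, [4, 2, 4, 2, 4, 2, 4, 2, 2, 2]),
  (0, [4, 2, 4, 2, 4, 2, 4, 3, 3, 0]),
  (0, [4, 2, 4, 2, 4, 2, 4, 3, 3, 1]),
  (0, [4, 2, 4, 3, 3, 4, 3, 0, 2, 0]),
  (0, [4, 2, 4, 3, 3, 4, 3, 0, 2, 1]),
  (0, [4, 3, 0, 4, 3, 3, 0, 2, 0, 4]),
  (0, [4, 3, 0, 4, 3, 3, 0, 2, 1, 4]),
  (0, [4, 3, 0, 4, 3, 3, 0, 2, 2, 4]),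
  (0, [4, 3, 0, 4, 3, 3, 4, 2, 4, 2]),
  (0, [4, 3, 1, 4, 3, 3, 4, 2, 4, 2]),
  (0, [4, 3, 3, 4, 2, 4, 2, 2, 0, 3]),
  (0, [4, 3, 3, 4, 2, 4, 2, 2, 1, 3]),
  (0, [4, 3, 4, 3, 4, 3, 4, 2, 2, 0]),
  (0, [4, 3, 4, 3, 4, 3, 4, 2, 2, 1]),
  (0, [0, 4, 2, 4, 2, 4, 2, 4, 3, 3, 0]),
  (0, [0, 4, 2, 4, 2, 4, 2, 4, 3, 3, 1]),
  (0, [0, 4, 3, 4, 3, 4, 3, 4, 2, 2, 0]),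
  (0, [0, 4, 3, 4, 3, 4, 3, 4, 2, 2, 1])]

end Cfsg.Agent.Lib.Helper2.HNS
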