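import Cfsg.Agent.Lib.Helper2.HNS.PModel
import Cfsg.Agent.Lib.Helper2.HNS.Ch0
import Cfsg.Agent.Lib.Helper2.HNS.Ch1

set_option autoImplicit false
set_option maxRecDepth 100000

namespace Cfsg.Agent.Lib.Helper2.HNS

open Cfsg.Agent.Lib.Helper6.TC Cfsg.Agent.Lib.Helper6.TCP Cfsg.Agent.Lib.Helper2.HNDce

/-! # The oracle: words in x, y, z which fix five points are trivial; words which fix the first
point lie in the subgroup generated by y and its conjugate under x -/

/-- every word in the five columns lies in the subgroup generated by the words of `x, y, z` -/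
theorem evP_mem_mg0 : ∀ w : List ℕ, (∀ c ∈ w, c < 5) → evP w ∈ genSub W5 mg0 := by
  intro w
  induction w with
  | nil => intro _; rw [← W5_ev, W5.ev_nil]; exact Subgroup.one_mem _
  | cons c w ih =>
    intro hw
    have hc : c < 5 := hw c List.mem_cons_self
    have e : evP (c :: w) = evP [c] * evP w := by
      rw [← W5_ev, ← W5_ev, ← W5_ev, ← W5.ev_append]; rfl
    rw [e]
    refine Subgroup.mul_mem _ ?_ (ih (fun d hd => hw d (List.mem_cons_of_mem _ hd)))
    have h0 : evP [0] ∈ genSub W5 mg0 := Subgroup.subset_closure ⟨[0], by decide, rfl⟩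
    have h2 : evP [2] ∈ genSub W5 mg0 := Subgroup.subset_closure ⟨[2], by decide, rfl⟩
    have h4 : evP [4] ∈ genSub W5 mg0 := Subgroup.subset_closure ⟨[4], by decide, rfl⟩
    interval_cases c
    · exact h0
    · have : evP [1] = (evP [0])⁻¹ := evP_iw [0] (by decide)
      rw [this]; exact Subgroup.inv_mem _ h0
    · exact h2
    · have : evP [3] = (evP [2])⁻¹ := evP_iw [2] (by decide)
      rw [this]; exact Subgroup.inv_mem _ h2
    · exact h4

theorem mem_pfix_of_wapp {w : List ℕ} (hw : ∀ c ∈ w, c < 5) {bs : List ℕ}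
    (h : ∀ b ∈ bs, wapp px w b = b) : evP w ∈ pfix psi bs := by
  intro b hb hbN
  have h1 := psi_act w hw ⟨b, hbN⟩
  rw [h b hb] at h1
  have h2 : (psi (evP w))⁻¹ ⟨b, hbN⟩ = ⟨b, hbN⟩ := Fin.ext h1
  rw [Equiv.Perm.inv_eq_iff_eq] at h2
  exact h2.symm

section
variable [Finite HNP2W.G] (hcard : Nat.card HNP2W.G ≤ 177408000)
include hcard

/-- a word in `x, y, z` fixing the five base points is trivial -/
theorem oracleP (w : List ℕ) (hw : ∀ c ∈ w, c < 5) (h : ∀ b ∈ bp, wapp px w b = b) :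
    evP w = 1 := by
  have h1 := chain_lb W5 psi px psi_act' mg0 mg0_lt ch0 [] chk_ch0
  rw [sizes_ch0, allBase_ch0] at h1
  have h2 : Nat.card (genSub W5 mg0 ⊓ pfix psi [] : Subgroup HNP2W.G) ≤ 177408000 :=
    (Subgroup.card_le_card_group _).trans hcard
  have hpos : 0 < Nat.card (genSub W5 mg0 ⊓ pfix psi [16, 8, 7, 3, 0] : Subgroup HNP2W.G) :=
    Nat.card_pos
  have h3 : Nat.card (genSub W5 mg0 ⊓ pfix psi [16, 8, 7, 3, 0] : Subgroup HNP2W.G) = 1 := by
    nlinarith
  have hbot := Subgroup.card_eq_one.mp h3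
  have hmem : evP w ∈ genSub W5 mg0 ⊓ pfix psi [16, 8, 7, 3, 0] := by
    refine ⟨evP_mem_mg0 w hw, mem_pfix_of_wapp hw ?_⟩
    intro b hb
    apply h
    simp only [List.mem_cons, List.mem_nil_iff, or_false] at hb
    rcases hb with rfl | rfl | rfl | rfl | rfl <;> decide
  rw [hbot, Subgroup.mem_bot] at hmem
  exact hmem

/-- a word in `x, y, z` fixing the point `0` lies in the subgroup generated by `y` and `y ^ x` -/
theorem fixC (w : List ℕ) (hw : ∀ c ∈ w, c < 5) (h : wapp px w 0 = 0) :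
    evP w ∈ genSub W5 mg1 := by
  have h1 := chain_lb W5 psi px psi_act' mg0 mg0_lt ch0a [] chk_ch0a
  rw [sizes_ch0a, allBase_ch0a] at h1
  have h2 : Nat.card (genSub W5 mg0 ⊓ pfix psi [] : Subgroup HNP2W.G) ≤ 177408000 :=
    (Subgroup.card_le_card_group _).trans hcard
  have hA : Nat.card (genSub W5 mg0 ⊓ pfix psi [0] : Subgroup HNP2W.G) ≤ 126000 := by
    nlinarith
  have hB := card_genSub_ge W5 psi px psi_act' mg1 mg1_lt ch1 chk_ch1
  rw [sizes_ch1] at hB
  have hle : genSub W5 mg1 ≤ genSub W5 mg0 ⊓ pfix psi [0] := by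
    unfold genSub
    rw [Subgroup.closure_le]
    rintro g ⟨u, hu, rfl⟩
    have hu5 : ∀ c ∈ u, c < 5 := mg1_lt u hu
    refine ⟨evP_mem_mg0 u hu5, mem_pfix_of_wapp hu5 ?_⟩
    intro b hb
    rw [List.mem_singleton] at hb
    subst hb
    simp only [mg1, List.mem_cons, List.mem_nil_iff, or_false] at hu
    rcases hu with rfl | rfl <;> decide +kernel
  have heq : genSub W5 mg1 = genSub W5 mg0 ⊓ pfix psi [0] :=
    Subgroup.eq_of_le_of_card_ge hle (hA.trans hB)
  rw [heq]
  refine ⟨evP_mem_mg0 w hw, mem_pfix_of_wapp hw ?_⟩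
  intro b hb
  rw [List.mem_singleton] at hb
  subst hb
  exact h

end

end Cfsg.Agent.Lib.Helper2.HNS
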