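import Cfsg.Agent.Lib.Helper6.TCP.HN
import Cfsg.Agent.Lib.Helper2.HNS.Orc
import Cfsg.Agent.Lib.Helper2.HNDce6

set_option autoImplicit false
set_option maxRecDepth 100000

namespace Cfsg.Agent.Lib.Helper2.HNS

open Cfsg.Agent.Lib.Helper6.TC Cfsg.Agent.Lib.Helper6.TCP Cfsg.Agent.Lib.Helper2.HNDce

/-! # The context of the chain checker in the presented Harada–Norton group -/

/-- the presented group -/
abbrev HNG : Type := PresentedGroup HN.Rels

/-- the element of a word of columns -/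
noncomputable def ev7 (w : List ℕ) : HNG := PresentedGroup.mk HN.Rels (wordElt HN.gc w)

theorem ic_eq_invc7 : ∀ c < 7, ic c = invc HN.INV c := by decide

theorem ev7_nil : ev7 [] = 1 := by unfold ev7; rw [wordElt_nil, map_one]

theorem ev7_append (u v : List ℕ) : ev7 (u ++ v) = ev7 u * ev7 v := by
  unfold ev7; rw [wordElt_append, map_mul]

theorem ev7_cons (c : ℕ) (w : List ℕ) : ev7 (c :: w) = ev7 [c] * ev7 w := by
  rw [← ev7_append]; rfl

theorem ev7_iw : ∀ w : List ℕ, (∀ c ∈ w, c < 7) → ev7 (iw w) = (ev7 w)⁻¹ := by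
  intro w
  induction w with
  | nil => intro _; simp [iw, ev7_nil]
  | cons c w ih =>
    intro hw
    have hc : c < 7 := hw c List.mem_cons_self
    have e : iw (c :: w) = iw w ++ [ic c] := by simp [iw]
    rw [e, ev7_append, ih (fun d hd => hw d (List.mem_cons_of_mem _ hd)), ev7_cons c w, mul_inv_rev]
    congr 1
    unfold ev7
    rw [wordElt_cons, wordElt_nil, mul_one, ic_eq_invc7 c hc, HN.hinvG c hc, wordElt_cons,
      wordElt_nil, mul_one]

/-- the semantics of words in the presented group -/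
noncomputable def W7 : WSem HNG 7 where
  ev := ev7
  ev_nil := ev7_nil
  ev_append := ev7_append
  ev_iw := ev7_iw
  iw_lt := fun _ h => iw_lt7 h

theorem t_pow_five : ev7 [5] ^ 5 = 1 := by
  have h := HN.hbase [5, 5, 5, 5, 5] (by decide)
  change ev7 [5, 5, 5, 5, 5] = 1 at h
  rw [ev7_cons 5 [5, 5, 5, 5], ev7_cons 5 [5, 5, 5], ev7_cons 5 [5, 5], ev7_cons 5 [5]] at h
  rw [pow_succ, pow_succ, pow_succ, pow_succ, pow_one]
  simpa [mul_assoc] using h

theorem x1_eq : ev7 [1] = (ev7 [0])⁻¹ := ev7_iw [0] (by decide)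
theorem y3_eq : ev7 [3] = (ev7 [2])⁻¹ := ev7_iw [2] (by decide)
theorem t6_eq : ev7 [6] = (ev7 [5])⁻¹ := ev7_iw [5] (by decide)

theorem xt_eq : (ev7 [0])⁻¹ * ev7 [5] * ev7 [0] = ((ev7 [5])⁻¹) ^ 2 := by
  have h := HN.hbase [1, 5, 0, 5, 5] (by decide)
  change ev7 [1, 5, 0, 5, 5] = 1 at h
  rw [ev7_cons 1 [5, 0, 5, 5], ev7_cons 5 [0, 5, 5], ev7_cons 0 [5, 5], ev7_cons 5 [5], x1_eq] at h
  -- x⁻¹ t x t t = 1
  have h2 : (ev7 [0])⁻¹ * ev7 [5] * ev7 [0] * (ev7 [5] * ev7 [5]) = 1 := by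
    simpa [mul_assoc] using h
  rw [pow_two, ← mul_inv_rev]
  exact eq_inv_of_mul_eq_one_left h2

theorem ty_comm : ev7 [2] * ev7 [5] = ev7 [5] * ev7 [2] := by
  have h := HN.hbase [6, 3, 5, 2] (by decide)
  change ev7 [6, 3, 5, 2] = 1 at h
  rw [ev7_cons 6 [3, 5, 2], ev7_cons 3 [5, 2], ev7_cons 5 [2], t6_eq, y3_eq] at h
  -- t⁻¹ y⁻¹ t y = 1
  have h2 : (ev7 [5])⁻¹ * ((ev7 [2])⁻¹ * (ev7 [5] * ev7 [2])) = 1 := h
  have h3 : ev7 [5] * ev7 [2] = ev7 [2] * ev7 [5] := by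
    have := congrArg (fun g => ev7 [2] * (ev7 [5] * g)) h2
    simp only [mul_one] at this
    rw [← this]; group
  exact h3.symm

theorem rel_zt : ev7 [4, 5, 4, 5, 4, 5] = 1 := HN.hbase [4, 5, 4, 5, 4, 5] (by decide)

/-- `x t x⁻¹ = t²` -/
theorem x_conj_t : ev7 [0] * ev7 [5] * (ev7 [0])⁻¹ = ev7 [5] ^ 2 := by
  have hxt := xt_eq
  have ht5 := t_pow_five
  set t := ev7 [5]
  set x := ev7 [0]
  have h1 : x⁻¹ * t ^ 2 * x = t := by
    have e : x⁻¹ * t ^ 2 * x = (x⁻¹ * t * x) ^ 2 := by rw [pow_two, pow_two]; group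
    rw [e, hxt, ← pow_mul, inv_pow]
    rw [inv_eq_iff_mul_eq_one]
    show t ^ (2 * 2) * t = 1
    rw [← pow_succ]; exact ht5
  calc x * t * x⁻¹ = x * (x⁻¹ * t ^ 2 * x) * x⁻¹ := by rw [h1]
    _ = t ^ 2 := by group

/-- `y ^ x` commutes with `t` -/
theorem tyx_comm : ev7 [1, 2, 0] * ev7 [5] = ev7 [5] * ev7 [1, 2, 0] := by
  rw [ev7_cons 1 [2, 0], ev7_cons 2 [0], x1_eq]
  have hc := x_conj_t
  have hy := ty_comm
  set t := ev7 [5]
  set x := ev7 [0]
  set y := ev7 [2]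
  have hy2 : y * t ^ 2 = t ^ 2 * y := by
    rw [pow_two, ← mul_assoc, hy, mul_assoc, hy, mul_assoc]
  have e1 : x * t = t ^ 2 * x := by
    rw [← hc]; group
  calc x⁻¹ * (y * x) * t = x⁻¹ * y * (x * t) := by group
    _ = x⁻¹ * y * (t ^ 2 * x) := by rw [e1]
    _ = x⁻¹ * (y * t ^ 2) * x := by group
    _ = x⁻¹ * (t ^ 2 * y) * x := by rw [hy2]
    _ = (x⁻¹ * t ^ 2 * x) * (x⁻¹ * y * x) := by group
    _ = (x⁻¹ * (x * t * x⁻¹) * x) * (x⁻¹ * y * x) := by rw [hc]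
    _ = t * (x⁻¹ * (y * x)) := by group

section
variable (ι : HNP2W.G →* HNG) (hι : ∀ w, (∀ c ∈ w, c < 5) → ι (evP w) = ev7 w)
include hι

theorem comm_mg1 : ∀ g ∈ genSub W5 mg1, ι g * ev7 [5] = ev7 [5] * ι g := by
  intro g hg
  unfold genSub at hg
  induction hg using Subgroup.closure_induction with
  | mem g hg =>
    obtain ⟨u, hu, rfl⟩ := hg
    simp only [mg1, List.mem_cons, List.mem_nil_iff, or_false] at hu
    rcases hu with rfl | rfl
    · rw [W5_ev, hι [2] (by decide)]; exact ty_comm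
    · rw [W5_ev, hι [1, 2, 0] (by decide)]; exact tyx_comm
  | one => rw [map_one, one_mul, mul_one]
  | mul a b _ _ ha hb =>
    rw [map_mul, mul_assoc, hb, ← mul_assoc, ha, mul_assoc]
  | inv a _ ha =>
    rw [map_inv]
    have : (ι a)⁻¹ * ev7 [5] = (ι a)⁻¹ * (ev7 [5] * ι a) * (ι a)⁻¹ := by group
    rw [this, ← ha]; group

variable [Finite HNP2W.G] (hcard : Nat.card HNP2W.G ≤ 177408000)
include hcard

/-- the context of the chain checker -/
noncomputable def ctx : Ctx HNG where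
  H := ι.range
  W := W7
  px := px
  bp := bp
  evH := fun w hw => ⟨evP w, hι w hw⟩
  oracle := fun w hw h => by
    have := oracleP hcard w hw h
    show ev7 w = 1
    rw [← hι w hw, this, map_one]
  comm := fun w hw h => by
    have := fixC hcard w hw h
    show ev7 w * ev7 [5] = ev7 [5] * ev7 w
    rw [← hι w hw]
    exact comm_mg1 ι hι _ this
  t5 := t_pow_five
  t6 := t6_eq
  xt := xt_eq
  x1 := x1_eq
  rel := rel_zt

end

end Cfsg.Agent.Lib.Helper2.HNS
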