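import Cfsg.Agent.Lib.Helper6.Spor.HNW0
import Cfsg.Agent.Lib.Helper6.Spor.HNP2WUB
import Cfsg.Agent.Lib.Helper2.HNS.Ctx7

set_option autoImplicit false
set_option maxRecDepth 100000

namespace Cfsg.Agent.Lib.Helper2.HNS

open Cfsg.Spor Cfsg.Agent.Lib.Helper6.TC Cfsg.Agent.Lib.Helper6.TCD Cfsg.Agent.Lib.Helper6.TCP
open Cfsg.Agent.Lib.Helper6

/-! # The map from the group presented by the relators between x, y, z (and one more relator) into
the presented Harada–Norton group -/

/-- the generators of the subgroup -/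
abbrev S7 : Set (FreeGroup HN.Gen) := {HN.x, HN.y, HN.z}

theorem hmapW7 : ∀ b ∈ HNP2W.base, b ∈ HN.base ∨ b = HNP2WUB.w0 := by decide +kernel

theorem hrelW7 : ∀ b ∈ HNP2W.base,
    PresentedGroup.mk HN.Rels (wordElt HN.gc (b.map (fun i => i))) = 1 := by
  intro b hb
  rw [List.map_id']
  rcases hmapW7 b hb with h | rfl
  · exact HN.hbase b h
  · exact HNW0.w0_trivial

/-- the map into the presented group `HN` -/
noncomputable def iota7 : HNP2W.G →* HNG :=
  wpHom (k := 5) (rels := HN.Rels) (gc := HN.gc) (fun i => i) HNP2W.hbl hrelW7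

theorem iota7_word (w : List ℕ) (hw : ∀ c ∈ w, c < 5) : iota7 (evP w) = ev7 w := by
  show FreeGroup.lift (fun i : Fin 5 => PresentedGroup.mk HN.Rels (ceOf HN.gc ((fun i => i) i.val)))
    (wordElt (gcF 5) w) = _
  rw [lift_wordElt_map (fun i => i) w hw, List.map_id']
  rfl

theorem iota7_range : iota7.range = subH HN.Rels S7 := by
  apply le_antisymm
  · rw [MonoidHom.range_eq_map, ← PresentedGroup.closure_range_of, MonoidHom.map_closure,
      Subgroup.closure_le]
    rintro _ ⟨_, ⟨i, rfl⟩, rfl⟩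
    have e : iota7 (PresentedGroup.of i) = PresentedGroup.mk HN.Rels (ceOf HN.gc i.val) :=
      wpHom_of (fun i => i) HNP2W.hbl hrelW7 i
    rw [SetLike.mem_coe, e]
    have hx : PresentedGroup.mk HN.Rels HN.x ∈ subH HN.Rels S7 :=
      Subgroup.mem_map_of_mem _ (Subgroup.subset_closure (by simp [S7]))
    have hy : PresentedGroup.mk HN.Rels HN.y ∈ subH HN.Rels S7 :=
      Subgroup.mem_map_of_mem _ (Subgroup.subset_closure (by simp [S7]))
    have hz : PresentedGroup.mk HN.Rels HN.z ∈ subH HN.Rels S7 :=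
      Subgroup.mem_map_of_mem _ (Subgroup.subset_closure (by simp [S7]))
    fin_cases i
    · exact hx
    · show PresentedGroup.mk HN.Rels (HN.x⁻¹) ∈ _
      rw [map_inv]; exact Subgroup.inv_mem _ hx
    · exact hy
    · show PresentedGroup.mk HN.Rels (HN.y⁻¹) ∈ _
      rw [map_inv]; exact Subgroup.inv_mem _ hy
    · exact hz
  · unfold subH
    rw [MonoidHom.map_closure, Subgroup.closure_le]
    rintro _ ⟨s, hs, rfl⟩
    simp only [S7, Set.mem_insert_iff, Set.mem_singleton_iff] at hs
    rcases hs with rfl | rfl | rfl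
    · exact ⟨evP [0], by rw [iota7_word [0] (by decide)]; unfold ev7; rw [wordElt_cons, wordElt_nil, mul_one]; rfl⟩
    · exact ⟨evP [2], by rw [iota7_word [2] (by decide)]; unfold ev7; rw [wordElt_cons, wordElt_nil, mul_one]; rfl⟩
    · exact ⟨evP [4], by rw [iota7_word [4] (by decide)]; unfold ev7; rw [wordElt_cons, wordElt_nil, mul_one]; rfl⟩

theorem finite7 : Finite HNP2W.G := HNP2WUB.card_le.1

theorem card7 : Nat.card HNP2W.G ≤ 177408000 := HNP2WUB.card_le.2

end Cfsg.Agent.Lib.Helper2.HNS
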