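import Cfsg.Agent.Lib.Helper6.TCP.HNP2W
import Cfsg.Agent.Lib.Helper6.TC11
import Cfsg.Agent.Lib.Helper2.HNS.Tab
import Cfsg.Agent.Lib.Helper2.HNDce3

set_option autoImplicit false
set_option maxRecDepth 1000000

namespace Cfsg.Agent.Lib.Helper2.HNS

open Cfsg.Agent.Lib.Helper6.TC Cfsg.Agent.Lib.Helper6.TCP Cfsg.Agent.Lib.Helper2.HNDce

/-! # The permutation representation on 1408 points of the group presented by the relators of the
Harada–Norton presentation between x, y and z (and one more relator) -/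

theorem chkT0 : chkCol T0 T1 1408 = true := by decide +kernel
theorem chkT1 : chkCol T1 T0 1408 = true := by decide +kernel
theorem chkT2 : chkCol T2 T3 1408 = true := by decide +kernel
theorem chkT3 : chkCol T3 T2 1408 = true := by decide +kernel
theorem chkT4 : chkCol T4 T4 1408 = true := by decide +kernel

theorem px_c0 (p : ℕ) : px 0 p = T0 p := rfl
theorem px_c1 (p : ℕ) : px 1 p = T1 p := rfl
theorem px_c2 (p : ℕ) : px 2 p = T2 p := rfl
theorem px_c3 (p : ℕ) : px 3 p = T3 p := rfl
theorem px_c4 (p : ℕ) : px 4 p = T4 p := rfl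

theorem invc0 : invc HNP2W.INV 0 = 1 := by decide
theorem invc1 : invc HNP2W.INV 1 = 0 := by decide
theorem invc2 : invc HNP2W.INV 2 = 3 := by decide
theorem invc3 : invc HNP2W.INV 3 = 2 := by decide
theorem invc4 : invc HNP2W.INV 4 = 4 := by decide

theorem hP : PHyp px 1408 5 HNP2W.INV where
  Npos := by decide
  hinv1 := HNP2W.hinv1
  hinvinv := HNP2W.hinvinv
  hlt := by
    intro c hc p hp
    interval_cases c
    · exact (chkCol_spec chkT0 p hp).1
    · exact (chkCol_spec chkT1 p hp).1
    · exact (chkCol_spec chkT2 p hp).1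
    · exact (chkCol_spec chkT3 p hp).1
    · exact (chkCol_spec chkT4 p hp).1
  hpx := by
    intro c hc p hp
    interval_cases c
    · rw [invc0]; exact (chkCol_spec chkT0 p hp).2
    · rw [invc1]; exact (chkCol_spec chkT1 p hp).2
    · rw [invc2]; exact (chkCol_spec chkT2 p hp).2
    · rw [invc3]; exact (chkCol_spec chkT3 p hp).2
    · rw [invc4]; exact (chkCol_spec chkT4 p hp).2

theorem chkRel : HNP2W.base.all (fun b => allB (fun p => Nat.beq (wapp px b p) p) 1408) = true := by
  decide +kernel

theorem hfix : ∀ b ∈ HNP2W.base, ∀ p < 1408, wapp px b p = p := by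
  intro b hb p hp
  have h := chkRel
  rw [List.all_eq_true] at h
  exact Nat.eq_of_beq_eq_true (allB_spec (h b hb) p hp)

theorem chkGT : chkTree px GT 5 1408 = true := by decide +kernel

theorem htree : ∀ p, 0 < p → p < 1408 → ∃ c < 5, ∃ q < p, px c q = p := chkTree_spec chkGT

theorem rep_exists : ∃ φ : HNP2W.G →* Equiv.Perm (Fin 1408),
    ∀ w, (∀ c ∈ w, c < 5) → ∀ p : Fin 1408,
      ((φ (PresentedGroup.mk HNP2W.Rels (wordElt HNP2W.gc w)))⁻¹ p).val = wapp px w p.val := by
  obtain ⟨φ, hw, _, _⟩ := perm_rep (rels := HNP2W.Rels) (S := (∅ : Set (FreeGroup (Fin 5))))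
    hP HNP2W.hC (HNP2W.rel_cover hP hfix) (fun s hs => absurd hs (Set.notMem_empty s)) htree
  exact ⟨φ, hw⟩

/-- the permutation representation on 1408 points -/
noncomputable def psi : HNP2W.G →* Equiv.Perm (Fin 1408) := Classical.choose rep_exists

theorem psi_act : ∀ w, (∀ c ∈ w, c < 5) → ∀ p : Fin 1408,
    ((psi (PresentedGroup.mk HNP2W.Rels (wordElt HNP2W.gc w)))⁻¹ p).val = wapp px w p.val :=
  Classical.choose_spec rep_exists

/-- the element of a word of columns in the presented group -/
noncomputable def evP (w : List ℕ) : HNP2W.G := PresentedGroup.mk HNP2W.Rels (wordElt HNP2W.gc w)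

theorem ic_eq_invc : ∀ c < 5, ic c = invc HNP2W.INV c := by decide

theorem evP_iw : ∀ w : List ℕ, (∀ c ∈ w, c < 5) → evP (iw w) = (evP w)⁻¹ := by
  intro w
  induction w with
  | nil => intro _; simp [iw, evP, wordElt_nil]
  | cons c w ih =>
    intro hw
    have hc : c < 5 := hw c List.mem_cons_self
    have e : iw (c :: w) = iw w ++ [ic c] := by simp [iw]
    unfold evP at ih ⊢
    rw [e, wordElt_append, map_mul, ih (fun d hd => hw d (List.mem_cons_of_mem _ hd)), wordElt_cons,
      wordElt_nil, mul_one, ic_eq_invc c hc, HNP2W.hinvG c hc, wordElt_cons, map_mul, mul_inv_rev]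

/-- the semantics of words in the presented group -/
noncomputable def W5 : WSem HNP2W.G 5 where
  ev := evP
  ev_nil := by unfold evP; rw [wordElt_nil, map_one]
  ev_append := by intro u v; unfold evP; rw [wordElt_append, map_mul]
  ev_iw := evP_iw
  iw_lt := fun _ h => iw_lt5 h

theorem W5_ev (w : List ℕ) : W5.ev w = evP w := rfl

theorem psi_act' : ∀ w, (∀ c ∈ w, c < 5) → ∀ p : Fin 1408,
    ((psi (W5.ev w))⁻¹ p).val = wapp px w p.val := psi_act

end Cfsg.Agent.Lib.Helper2.HNS
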